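import Mathlib

set_option autoImplicit false
set_option linter.style.haveILetI false
set_option linter.unusedSectionVars false

namespace Cfsg.Agent.Lib.Helper5.ChevGrad

section lev

variable {R : Type*} [CommRing R] {m : Type*} [Fintype m] [DecidableEq m] (gr : m → ℕ)

/-- `N` raises the grade by at least `k` -/
def Lev (k : ℕ) (N : Matrix m m R) : Prop := ∀ i j, N i j ≠ 0 → gr j + k ≤ gr i

variable {gr}

theorem Lev.zero (k : ℕ) : Lev gr k (0 : Matrix m m R) := fun i j h => absurd rfl h

theorem Lev.one : Lev gr 0 (1 : Matrix m m R) := by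
  intro i j h
  by_cases hij : i = j
  · rw [hij]
    omega
  · rw [Matrix.one_apply_ne hij] at h
    exact absurd rfl h

theorem Lev.mono {k k' : ℕ} (h : k' ≤ k) {N : Matrix m m R} (hN : Lev gr k N) : Lev gr k' N :=
  fun i j hij => by
    have := hN i j hij
    omega

theorem Lev.add {k : ℕ} {A B : Matrix m m R} (hA : Lev gr k A) (hB : Lev gr k B) :
    Lev gr k (A + B) := by
  intro i j h
  rw [Matrix.add_apply] at h
  by_cases h1 : A i j = 0
  · rw [h1, zero_add] at h
    exact hB i j h
  · exact hA i j h1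

theorem Lev.neg {k : ℕ} {A : Matrix m m R} (hA : Lev gr k A) : Lev gr k (-A) := by
  intro i j h
  rw [Matrix.neg_apply, neg_ne_zero] at h
  exact hA i j h

theorem Lev.sub {k : ℕ} {A B : Matrix m m R} (hA : Lev gr k A) (hB : Lev gr k B) :
    Lev gr k (A - B) := by
  rw [sub_eq_add_neg]
  exact hA.add hB.neg

theorem Lev.sum {k : ℕ} {ι : Type*} (s : Finset ι) (f : ι → Matrix m m R)
    (h : ∀ i ∈ s, Lev gr k (f i)) : Lev gr k (∑ i ∈ s, f i) := by
  classical
  induction s using Finset.induction_on with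
  | empty =>
    rw [Finset.sum_empty]
    exact Lev.zero k
  | insert a s ha ih =>
    rw [Finset.sum_insert ha]
    exact (h a (Finset.mem_insert_self a s)).add
      (ih (fun i hi => h i (Finset.mem_insert_of_mem hi)))

theorem Lev.mul {a b : ℕ} {A B : Matrix m m R} (hA : Lev gr a A) (hB : Lev gr b B) :
    Lev gr (a + b) (A * B) := by
  intro i j h
  rw [Matrix.mul_apply] at h
  obtain ⟨l, -, hl⟩ := Finset.exists_ne_zero_of_sum_ne_zero h
  have h1 : A i l ≠ 0 := fun h0 => hl (by rw [h0, zero_mul])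
  have h2 : B l j ≠ 0 := fun h0 => hl (by rw [h0, mul_zero])
  have := hA i l h1
  have := hB l j h2
  omega

theorem Lev.pow {k : ℕ} {A : Matrix m m R} (hA : Lev gr k A) (n : ℕ) : Lev gr (n * k) (A ^ n) := by
  induction n with
  | zero =>
    rw [pow_zero, Nat.zero_mul]
    exact Lev.one
  | succ n ih =>
    rw [pow_succ, Nat.succ_mul]
    exact ih.mul hA

theorem Lev.pow_pos {k : ℕ} {A : Matrix m m R} (hA : Lev gr k A) (n : ℕ) :
    Lev gr k (A ^ (n + 1)) := by
  refine Lev.mono ?_ (hA.pow (n + 1))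
  nlinarith

theorem Lev.eq_zero {k : ℕ} {A : Matrix m m R} (hA : Lev gr k A) (hk : ∀ i, gr i < k) : A = 0 := by
  ext i j
  by_contra h
  have := hA i j h
  have := hk i
  omega

/-- a grade raising matrix is nilpotent -/
theorem Lev.pow_eq_zero {A : Matrix m m R} (hA : Lev gr 1 A) (K : ℕ) (hK : ∀ i, gr i < K) :
    A ^ K = 0 := by
  have := hA.pow K
  rw [Nat.mul_one] at this
  exact this.eq_zero hK

end lev

end Cfsg.Agent.Lib.Helper5.ChevGrad
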