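import Mathlib
import Cfsg.Agent.Lib.Helper5.ChevGradA

set_option autoImplicit false
set_option linter.style.haveILetI false
set_option linter.unusedSectionVars false

namespace Cfsg.Agent.Lib.Helper5.ChevGrad

theorem pow_card_eq_zero_of_isNilpotent {F : Type*} [Field F] {m : Type*} [Fintype m]
    [DecidableEq m] (A : Matrix m m F) (h : IsNilpotent A) : A ^ Fintype.card m = 0 := by
  have h1 : IsNilpotent (Matrix.toLinAlgEquiv' A) := h.map (Matrix.toLinAlgEquiv' (R := F) (n := m))
  have h2 := IsNilpotent.charpoly_eq_X_pow_finrank h1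
  have h3 := LinearMap.aeval_self_charpoly (Matrix.toLinAlgEquiv' A)
  rw [h2, map_pow, Polynomial.aeval_X, Module.finrank_fintype_fun_eq_card, ← map_pow] at h3
  exact (map_eq_zero_iff _ (Matrix.toLinAlgEquiv' (R := F) (n := m)).injective).mp h3

section uni

variable {R : Type*} [CommRing R] {m : Type*} [Fintype m] [DecidableEq m] (gr : m → ℕ)
  (K : ℕ) (hK : ∀ i, gr i < K)

include hK in
theorem inv_sub_one_lev {k : ℕ} (hk : 1 ≤ k) (g : GL m R)
    (hg : Lev gr k ((g : Matrix m m R) - 1)) :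
    Lev gr k (((g⁻¹ : GL m R) : Matrix m m R) - 1) := by
  set N : Matrix m m R := (g : Matrix m m R) - 1 with hN
  have hN1 : Lev gr 1 N := Lev.mono hk hg
  have hNK : N ^ K = 0 := hN1.pow_eq_zero K hK
  set x : Matrix m m R := -N with hx
  have hxK : x ^ (K + 1) = 0 := by
    rw [hx, neg_pow, pow_succ N, hNK, zero_mul, mul_zero]
  have h1 : (g : Matrix m m R) * ∑ i ∈ Finset.range (K + 1), x ^ i = 1 := by
    have := mul_neg_geom_sum x (K + 1)
    rw [hxK, sub_zero] at this
    rw [← this, hx, hN]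
    congr 1
    abel
  have h2 : ((g⁻¹ : GL m R) : Matrix m m R) = ∑ i ∈ Finset.range (K + 1), x ^ i :=
    Units.inv_eq_of_mul_eq_one_right h1
  rw [h2, geom_sum_succ, add_sub_cancel_right]
  have hxk : Lev gr k x := hg.neg
  have hs : Lev gr 0 (∑ i ∈ Finset.range K, x ^ i) := by
    apply Lev.sum
    intro i _
    exact Lev.mono (Nat.zero_le _) (hxk.pow i)
  exact hxk.mul hs

/-- the unitriangular subgroup of level `k` -/
def uni (k : ℕ) (hk : 1 ≤ k) : Subgroup (GL m R) where
  carrier := {g | Lev gr k ((g : Matrix m m R) - 1)}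
  one_mem' := by
    show Lev gr k (((1 : GL m R) : Matrix m m R) - 1)
    rw [Units.val_one, sub_self]
    exact Lev.zero k
  mul_mem' := by
    intro g h hg hh
    show Lev gr k (((g * h : GL m R) : Matrix m m R) - 1)
    have hg' : Lev gr k ((g : Matrix m m R) - 1) := hg
    have hh' : Lev gr k ((h : Matrix m m R) - 1) := hh
    have e : ((g * h : GL m R) : Matrix m m R) - 1 = ((g : Matrix m m R) - 1) +
        ((h : Matrix m m R) - 1) + ((g : Matrix m m R) - 1) * ((h : Matrix m m R) - 1) := by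
      rw [Units.val_mul]
      noncomm_ring
    rw [e]
    exact (hg'.add hh').add (Lev.mono (Nat.le_add_right k k) (hg'.mul hh'))
  inv_mem' := by
    intro g hg
    exact inv_sub_one_lev gr K hK hk g hg

theorem mem_uni {k : ℕ} (hk : 1 ≤ k) (g : GL m R) :
    g ∈ uni gr K hK k hk ↔ Lev gr k ((g : Matrix m m R) - 1) := Iff.rfl

theorem val_lev_zero {k : ℕ} (hk : 1 ≤ k) (g : GL m R) (hg : g ∈ uni gr K hK k hk) :
    Lev gr 0 (g : Matrix m m R) := by
  have h1 : Lev gr 0 ((g : Matrix m m R) - 1) := Lev.mono (Nat.zero_le _) hg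
  have := h1.add (Lev.one : Lev gr 0 (1 : Matrix m m R))
  rwa [sub_add_cancel] at this

theorem commutator_mem {a b : ℕ} (ha : 1 ≤ a) (hb : 1 ≤ b) (x g : GL m R)
    (hx : x ∈ uni gr K hK a ha) (hg : g ∈ uni gr K hK b hb) :
    x * g * x⁻¹ * g⁻¹ ∈ uni gr K hK (a + b) (by omega) := by
  rw [mem_uni]
  have hA : Lev gr a ((x : Matrix m m R) - 1) := hx
  have hB : Lev gr b ((g : Matrix m m R) - 1) := hg
  have e : ((x * g * x⁻¹ * g⁻¹ : GL m R) : Matrix m m R) - 1 =
      (((x : Matrix m m R) - 1) * ((g : Matrix m m R) - 1) -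
        ((g : Matrix m m R) - 1) * ((x : Matrix m m R) - 1)) *
        (((x⁻¹ : GL m R) : Matrix m m R) * ((g⁻¹ : GL m R) : Matrix m m R)) := by
    have h1 : (x : Matrix m m R) * ((x⁻¹ : GL m R) : Matrix m m R) = 1 := by
      rw [← Units.val_mul, mul_inv_cancel, Units.val_one]
    have h2 : (g : Matrix m m R) * ((g⁻¹ : GL m R) : Matrix m m R) = 1 := by
      rw [← Units.val_mul, mul_inv_cancel, Units.val_one]
    have h3 : ((x : Matrix m m R) - 1) * ((g : Matrix m m R) - 1) -
        ((g : Matrix m m R) - 1) * ((x : Matrix m m R) - 1) =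
        (x : Matrix m m R) * (g : Matrix m m R) - (g : Matrix m m R) * (x : Matrix m m R) := by
      noncomm_ring
    rw [h3, sub_mul]
    simp only [Units.val_mul]
    have h4 : (g : Matrix m m R) * (x : Matrix m m R) *
        (((x⁻¹ : GL m R) : Matrix m m R) * ((g⁻¹ : GL m R) : Matrix m m R)) = 1 := by
      rw [mul_assoc, ← mul_assoc (x : Matrix m m R), h1, one_mul, h2]
    rw [h4]
    simp only [mul_assoc]
  rw [e]
  have hxi := val_lev_zero gr K hK ha x⁻¹ ((uni gr K hK a ha).inv_mem hx)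
  have hgi := val_lev_zero gr K hK hb g⁻¹ ((uni gr K hK b hb).inv_mem hg)
  have h5 := ((hA.mul hB).sub (by
    have := hB.mul hA
    rwa [Nat.add_comm] at this)).mul (hxi.mul hgi)
  simpa using h5

theorem uni_eq_bot {k : ℕ} (hk : 1 ≤ k) (hkK : K ≤ k) :
    (uni gr K hK k hk : Subgroup (GL m R)) = ⊥ := by
  rw [eq_bot_iff]
  intro g hg
  rw [Subgroup.mem_bot]
  have h1 : Lev gr k ((g : Matrix m m R) - 1) := hg
  have h2 := h1.eq_zero (fun i => lt_of_lt_of_le (hK i) hkK)
  apply Units.ext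
  rw [Units.val_one]
  exact sub_eq_zero.mp h2

theorem uni_isNilpotent : Group.IsNilpotent (uni (R := R) gr K hK 1 le_rfl) := by
  rw [Subgroup.nilpotent_iff_finite_descending_central_series]
  refine ⟨K, fun n => (uni gr K hK (n + 1) (by omega)).subgroupOf (uni gr K hK 1 le_rfl), ⟨?_, ?_⟩, ?_⟩
  · show (uni gr K hK 1 le_rfl).subgroupOf (uni gr K hK 1 le_rfl) = ⊤
    exact Subgroup.subgroupOf_self _
  · intro x n hx g
    rw [commutatorElement_def]
    show x * g * x⁻¹ * g⁻¹ ∈ (uni gr K hK (n + 1 + 1) (by omega)).subgroupOf (uni gr K hK 1 le_rfl)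
    have hx' : x ∈ (uni gr K hK (n + 1) (by omega)).subgroupOf (uni gr K hK 1 le_rfl) := hx
    rw [Subgroup.mem_subgroupOf] at hx' ⊢
    exact commutator_mem gr K hK (a := n + 1) (b := 1) (by omega) le_rfl x.1 g.1 hx' g.2
  · show (uni gr K hK (K + 1) (by omega)).subgroupOf (uni gr K hK 1 le_rfl) = ⊥
    rw [uni_eq_bot gr K hK (k := K + 1) (by omega) (by omega)]
    exact Subgroup.bot_subgroupOf _

end uni

end Cfsg.Agent.Lib.Helper5.ChevGrad
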