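import Mathlib
import Cfsg.Prelude.Def_ChevStructure
import Cfsg.Prelude.Def_ChevG2
import Cfsg.Prelude.Def_ChevB2
import Cfsg.Prelude.Def_ChevD4
import Cfsg.Prelude.Def_ChevF4
import Cfsg.Prelude.Def_ChevE6
import Cfsg.Prelude.Def_ChevE7
import Cfsg.Prelude.Def_ChevE8
import Cfsg.Agent.Lib.Helper5.ChevGradB

set_option autoImplicit false
set_option linter.style.haveILetI false
set_option linter.unusedSectionVars false

namespace Cfsg.Agent.Lib.Helper5.ChevGrad

open Cfsg.Lie

/-- table property: positive roots are the upper half and chains go up in the index order -/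
def TabOK (D : ChevalleyDatum) : Prop :=
  ∀ r, r < D.nroots → D.IsPosRoot r →
    (D.nroots / 2 ≤ r ∧ D.negIdx.getD r 0 < D.nroots / 2 ∧
      ∀ e ∈ (D.chain.getD r #[]).toList, ∀ q ∈ e.2.toList, e.1 < q.1)

instance (D : ChevalleyDatum) : Decidable (TabOK D) := by
  unfold TabOK
  infer_instance

theorem tab_G2 : TabOK chevG2 := by decide +kernel
theorem tab_B2 : TabOK chevB2 := by decide +kernel
theorem tab_D4 : TabOK chevD4 := by decide +kernel
theorem tab_F4 : TabOK chevF4 := by decide +kernel
theorem tab_E6 : TabOK chevE6 := by decide +kernel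
theorem tab_E7 : TabOK chevE7 := by decide +kernel
theorem tab_E8 : TabOK chevE8 := by decide +kernel

theorem tabOK_of_mem (D : ChevalleyDatum)
    (hD : D ∈ [chevG2, chevB2, chevD4, chevF4, chevE6, chevE7, chevE8]) : TabOK D := by
  simp only [List.mem_cons, List.not_mem_nil, or_false] at hD
  rcases hD with rfl | rfl | rfl | rfl | rfl | rfl | rfl
  · exact tab_G2
  · exact tab_B2
  · exact tab_D4
  · exact tab_F4
  · exact tab_E6
  · exact tab_E7
  · exact tab_E8

/-- the grading: negative roots by index, then the coroots, then positive roots by index -/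
def grD (D : ChevalleyDatum) : D.Idx → ℕ
  | Sum.inl _ => D.nroots / 2
  | Sum.inr s => if s.val < D.nroots / 2 then s.val else s.val + 1

theorem grD_lt (D : ChevalleyDatum) (i : D.Idx) : grD D i < D.nroots + 1 := by
  rcases i with i | s
  · show D.nroots / 2 < D.nroots + 1
    omega
  · show (if s.val < D.nroots / 2 then s.val else s.val + 1) < D.nroots + 1
    have := s.2
    split_ifs <;> omega

theorem grD_inr_lt (D : ChevalleyDatum) (s u : Fin D.nroots) (h : s.val < u.val) :
    grD D (Sum.inr s) + 1 ≤ grD D (Sum.inr u) := by
  show (if s.val < D.nroots / 2 then s.val else s.val + 1) + 1 ≤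
    (if u.val < D.nroots / 2 then u.val else u.val + 1)
  split_ifs <;> omega

theorem chainCoeff_ne_nil (D : ChevalleyDatum) (r s u : ℕ) (h : D.chainCoeff r s u ≠ []) :
    ∃ e ∈ (D.chain.getD r #[]).toList, e.1 = s ∧ ∃ q ∈ e.2.toList, q.1 = u := by
  unfold ChevalleyDatum.chainCoeff at h
  obtain ⟨x, hx⟩ := List.exists_mem_of_ne_nil _ h
  rw [List.mem_flatMap] at hx
  obtain ⟨e, he, hxe⟩ := hx
  rw [List.mem_filter] at he
  rw [List.mem_map] at hxe
  obtain ⟨q, hq, -⟩ := hxe
  rw [List.mem_filter] at hq
  refine ⟨e, he.1, by simpa using he.2, q.1, List.fst_mem_of_mem_zipIdx hq.1, by simpa using hq.2⟩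

theorem xMat_sub_one_lev {F : Type*} [Field F] (D : ChevalleyDatum) (hT : TabOK D) (r : ℕ)
    (hr : D.IsPosRoot r) (t : F) : Lev (grD D) 1 (D.x F r t - 1) := by
  have hrn : r < D.nroots := hr.1
  obtain ⟨h1, h2, h3⟩ := hT r hrn hr
  unfold ChevalleyDatum.x
  rw [dif_pos hrn]
  intro row col hne
  rw [Matrix.sub_apply] at hne
  unfold ChevalleyDatum.xMat at hne
  simp only [Matrix.of_apply] at hne
  have hgr_r : grD D (Sum.inr ⟨r, hrn⟩) = r + 1 := by
    show (if r < D.nroots / 2 then r else r + 1) = r + 1
    rw [if_neg (by omega)]
  rcases col with i | s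
  · rcases row with i' | u
    · exfalso
      apply hne
      simp only [Matrix.one_apply, Sum.inl.injEq]
      split_ifs <;> simp
    · simp only [Matrix.one_apply_ne (Sum.inr_ne_inl), sub_zero] at hne
      by_cases hu : u = ⟨r, hrn⟩
      · rw [hu, hgr_r]
        show D.nroots / 2 + 1 ≤ r + 1
        omega
      · rw [if_neg hu] at hne
        exact absurd rfl hne
  · simp only at hne
    by_cases hs1 : s = ⟨r, hrn⟩
    · exfalso
      apply hne
      rw [if_pos hs1]
      rcases row with i' | u
      · simp only [Matrix.one_apply_ne (Sum.inl_ne_inr), sub_zero]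
      · simp only [Matrix.one_apply, Sum.inr.injEq, hs1]
        split_ifs <;> simp
    · rw [if_neg hs1] at hne
      by_cases hs2 : s.val = D.negIdx.getD r 0
      · rw [if_pos hs2] at hne
        have hgs : grD D (Sum.inr s) = s.val := by
          show (if s.val < D.nroots / 2 then s.val else s.val + 1) = s.val
          rw [if_pos (by omega)]
        rcases row with i' | u
        · rw [hgs]
          show s.val + 1 ≤ D.nroots / 2
          omega
        · simp only [Matrix.one_apply, Sum.inr.injEq] at hne
          by_cases hus : u = s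
          · exfalso
            apply hne
            rw [if_pos hus, if_pos hus, sub_self]
          · rw [if_neg hus, if_neg hus, sub_zero] at hne
            by_cases hur : u = ⟨r, hrn⟩
            · rw [hur, hgr_r, hgs]
              omega
            · rw [if_neg hur] at hne
              exact absurd rfl hne
      · rw [if_neg hs2] at hne
        rcases row with i' | u
        · exfalso
          apply hne
          simp only [Matrix.one_apply_ne (Sum.inl_ne_inr), sub_zero]
        · simp only [Matrix.one_apply, Sum.inr.injEq, add_sub_cancel_left] at hne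
          have hnil : D.chainCoeff r s.val u.val ≠ [] := by
            intro h0
            apply hne
            rw [h0]
            simp
          obtain ⟨e, he, hes, q, hq, hqu⟩ := chainCoeff_ne_nil D r s.val u.val hnil
          have := h3 e he q hq
          apply grD_inr_lt
          omega

end Cfsg.Agent.Lib.Helper5.ChevGrad
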