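import Mathlib
import Cfsg.Agent.Lib.Helper5.ChevGradC

set_option autoImplicit false
set_option linter.style.haveILetI false
set_option linter.unusedSectionVars false

namespace Cfsg.Agent.Lib.Helper5.ChevGrad

open Cfsg.Lie

variable {F : Type*} [Field F]

theorem posUnipotent_le_uni (D : ChevalleyDatum) (hT : TabOK D) :
    D.posUnipotent F ≤ uni (grD D) (D.nroots + 1) (grD_lt D) 1 le_rfl := by
  unfold ChevalleyDatum.posUnipotent
  rw [Subgroup.closure_le]
  rintro g ⟨r, t, hr, hg⟩
  show Lev (grD D) 1 ((g : Matrix D.Idx D.Idx F) - 1)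
  rw [hg]
  exact xMat_sub_one_lev D hT r hr t

theorem posUnipotent_unipotent (D : ChevalleyDatum) (hT : TabOK D) (g : GL D.Idx F)
    (hg : g ∈ D.posUnipotent F) :
    ((g : Matrix D.Idx D.Idx F) - 1) ^ (D.rank + D.nroots) = 0 := by
  have h1 : Lev (grD D) 1 ((g : Matrix D.Idx D.Idx F) - 1) := posUnipotent_le_uni D hT hg
  have h2 := h1.pow_eq_zero (D.nroots + 1) (grD_lt D)
  have h3 := pow_card_eq_zero_of_isNilpotent _ ⟨_, h2⟩
  rw [Fintype.card_sum, Fintype.card_fin, Fintype.card_fin] at h3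
  exact h3

theorem posUnipotent_isNilpotent (D : ChevalleyDatum) (hT : TabOK D) :
    Group.IsNilpotent (D.posUnipotent F) := by
  haveI := uni_isNilpotent (R := F) (grD D) (D.nroots + 1) (grD_lt D)
  exact Group.nilpotent_of_mulEquiv (Subgroup.subgroupOfEquivOfLe (posUnipotent_le_uni D hT))

end Cfsg.Agent.Lib.Helper5.ChevGrad
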