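import Mathlib
import Cfsg.Agent.Lib.Helper5.ChevGradD

set_option autoImplicit false
set_option linter.style.haveILetI false
set_option linter.unusedSectionVars false

namespace Cfsg.Agent.Lib.Helper5.ChevGrad

open Cfsg.Lie

/-- table property: negative roots are the lower half and chains go down in the index order -/
def TabOKneg (D : ChevalleyDatum) : Prop :=
  ∀ r, r < D.nroots → D.IsNegRoot r →
    (r < D.nroots / 2 ∧ D.nroots / 2 ≤ D.negIdx.getD r 0 ∧
      ∀ e ∈ (D.chain.getD r #[]).toList, ∀ q ∈ e.2.toList, q.1 < e.1)

instance (D : ChevalleyDatum) : Decidable (TabOKneg D) := by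
  unfold TabOKneg
  infer_instance

theorem tabn_G2 : TabOKneg chevG2 := by decide +kernel
theorem tabn_B2 : TabOKneg chevB2 := by decide +kernel
theorem tabn_D4 : TabOKneg chevD4 := by decide +kernel
theorem tabn_F4 : TabOKneg chevF4 := by decide +kernel
theorem tabn_E6 : TabOKneg chevE6 := by decide +kernel
theorem tabn_E7 : TabOKneg chevE7 := by decide +kernel
theorem tabn_E8 : TabOKneg chevE8 := by decide +kernel

theorem tabOKneg_of_mem (D : ChevalleyDatum)
    (hD : D ∈ [chevG2, chevB2, chevD4, chevF4, chevE6, chevE7, chevE8]) : TabOKneg D := by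
  simp only [List.mem_cons, List.not_mem_nil, or_false] at hD
  rcases hD with rfl | rfl | rfl | rfl | rfl | rfl | rfl
  · exact tabn_G2
  · exact tabn_B2
  · exact tabn_D4
  · exact tabn_F4
  · exact tabn_E6
  · exact tabn_E7
  · exact tabn_E8

/-- the reversed grading -/
def grN (D : ChevalleyDatum) (i : D.Idx) : ℕ := D.nroots - grD D i

theorem grN_lt (D : ChevalleyDatum) (i : D.Idx) : grN D i < D.nroots + 1 := by
  unfold grN
  omega

theorem grN_le_of (D : ChevalleyDatum) (i j : D.Idx) (h : grD D i + 1 ≤ grD D j) :
    grN D j + 1 ≤ grN D i := by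
  have := grD_lt D j
  unfold grN
  omega

theorem xMat_sub_one_levN {F : Type*} [Field F] (D : ChevalleyDatum) (hT : TabOKneg D) (r : ℕ)
    (hr : D.IsNegRoot r) (t : F) : Lev (grN D) 1 (D.x F r t - 1) := by
  have hrn : r < D.nroots := hr.1
  obtain ⟨h1, h2, h3⟩ := hT r hrn hr
  unfold ChevalleyDatum.x
  rw [dif_pos hrn]
  intro row col hne
  apply grN_le_of
  rw [Matrix.sub_apply] at hne
  unfold ChevalleyDatum.xMat at hne
  simp only [Matrix.of_apply] at hne
  have hgr_r : grD D (Sum.inr ⟨r, hrn⟩) = r := by
    show (if r < D.nroots / 2 then r else r + 1) = r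
    rw [if_pos h1]
  rcases col with i | s
  · rcases row with i' | u
    · exfalso
      apply hne
      simp only [Matrix.one_apply, Sum.inl.injEq]
      split_ifs <;> simp
    · simp only [Matrix.one_apply_ne (Sum.inr_ne_inl), sub_zero] at hne
      by_cases hu : u = ⟨r, hrn⟩
      · rw [hu, hgr_r]
        show r + 1 ≤ D.nroots / 2
        omega
      · rw [if_neg hu] at hne
        exact absurd rfl hne
  · simp only at hne
    by_cases hs1 : s = ⟨r, hrn⟩
    · exfalso
      apply hne
      rw [if_pos hs1]
      rcases row with i' | u
      · simp only [Matrix.one_apply_ne (Sum.inl_ne_inr), sub_zero]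
      · simp only [Matrix.one_apply, Sum.inr.injEq, hs1]
        split_ifs <;> simp
    · rw [if_neg hs1] at hne
      by_cases hs2 : s.val = D.negIdx.getD r 0
      · rw [if_pos hs2] at hne
        have hgs : grD D (Sum.inr s) = s.val + 1 := by
          show (if s.val < D.nroots / 2 then s.val else s.val + 1) = s.val + 1
          rw [if_neg (by omega)]
        rcases row with i' | u
        · rw [hgs]
          show D.nroots / 2 + 1 ≤ s.val + 1
          omega
        · simp only [Matrix.one_apply, Sum.inr.injEq] at hne
          by_cases hus : u = s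
          · exfalso
            apply hne
            rw [if_pos hus, if_pos hus, sub_self]
          · rw [if_neg hus, if_neg hus, sub_zero] at hne
            by_cases hur : u = ⟨r, hrn⟩
            · rw [hur, hgr_r, hgs]
              omega
            · rw [if_neg hur] at hne
              exact absurd rfl hne
      · rw [if_neg hs2] at hne
        rcases row with i' | u
        · exfalso
          apply hne
          simp only [Matrix.one_apply_ne (Sum.inl_ne_inr), sub_zero]
        · simp only [Matrix.one_apply, Sum.inr.injEq, add_sub_cancel_left] at hne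
          have hnil : D.chainCoeff r s.val u.val ≠ [] := by
            intro h0
            apply hne
            rw [h0]
            simp
          obtain ⟨e, he, hes, q, hq, hqu⟩ := chainCoeff_ne_nil D r s.val u.val hnil
          have := h3 e he q hq
          apply grD_inr_lt
          omega

variable {F : Type*} [Field F]

theorem negUnipotent_le_uni (D : ChevalleyDatum) (hT : TabOKneg D) :
    D.negUnipotent F ≤ uni (grN D) (D.nroots + 1) (grN_lt D) 1 le_rfl := by
  unfold ChevalleyDatum.negUnipotent
  rw [Subgroup.closure_le]
  rintro g ⟨r, t, hr, hg⟩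
  show Lev (grN D) 1 ((g : Matrix D.Idx D.Idx F) - 1)
  rw [hg]
  exact xMat_sub_one_levN D hT r hr t

end Cfsg.Agent.Lib.Helper5.ChevGrad
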