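import Mathlib
import Cfsg.Agent.Lib.Helper5.ChevGradD
import Cfsg.Agent.Lib.Helper5.ChevGradE
import Cfsg.Agent.S1041
import Cfsg.Agent.S1024

set_option autoImplicit false
set_option linter.style.haveILetI false
set_option linter.unusedSectionVars false

namespace Cfsg.Agent.Lib.Helper5.ChevBN

open Cfsg.Lie Cfsg.Agent.Lib.Helper5.ChevGrad

/-- table property: the negative of a negative root is positive, and `neg` is an involution there -/
def NegPos (D : ChevalleyDatum) : Prop :=
  ∀ r, r < D.nroots → D.IsNegRoot r → (D.IsPosRoot (D.neg r) ∧ D.neg (D.neg r) = r)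

instance (D : ChevalleyDatum) : Decidable (NegPos D) := by
  unfold NegPos
  infer_instance

theorem negPos_G2 : NegPos chevG2 := by decide +kernel
theorem negPos_B2 : NegPos chevB2 := by decide +kernel
theorem negPos_D4 : NegPos chevD4 := by decide +kernel
theorem negPos_F4 : NegPos chevF4 := by decide +kernel
theorem negPos_E6 : NegPos chevE6 := by decide +kernel
theorem negPos_E7 : NegPos chevE7 := by decide +kernel
theorem negPos_E8 : NegPos chevE8 := by decide +kernel

theorem negPos_of_mem (D : ChevalleyDatum)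
    (hD : D ∈ [chevG2, chevB2, chevD4, chevF4, chevE6, chevE7, chevE8]) : NegPos D := by
  simp only [List.mem_cons, List.not_mem_nil, or_false] at hD
  rcases hD with rfl | rfl | rfl | rfl | rfl | rfl | rfl
  · exact negPos_G2
  · exact negPos_B2
  · exact negPos_D4
  · exact negPos_F4
  · exact negPos_E6
  · exact negPos_E7
  · exact negPos_E8

variable {F : Type*} [Field F]

theorem x_isUnit (D : ChevalleyDatum)
    (hD : D ∈ [chevG2, chevB2, chevD4, chevF4, chevE6, chevE7, chevE8]) (r : ℕ) (t : F) :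
    IsUnit (D.x F r t) := by
  by_cases hr : r < D.nroots
  · have key : IsNilpotent (D.x F r t - 1) := by
      rcases Cfsg.Agent.S1041.pos_or_neg D hD r hr with hp | hn
      · exact ⟨D.nroots + 1, (xMat_sub_one_lev D (tabOK_of_mem D hD) r hp t).pow_eq_zero _ (grD_lt D)⟩
      · exact ⟨D.nroots + 1, (xMat_sub_one_levN D (tabOKneg_of_mem D hD) r hn t).pow_eq_zero _ (grN_lt D)⟩
    have := key.isUnit_add_one
    rwa [sub_add_cancel] at this
  · unfold ChevalleyDatum.x
    rw [dif_neg hr]
    exact isUnit_one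

/-- `x_r(t)` as an element of `GL` -/
noncomputable def xGL (D : ChevalleyDatum)
    (hD : D ∈ [chevG2, chevB2, chevD4, chevF4, chevE6, chevE7, chevE8]) (r : ℕ) (t : F) :
    GL D.Idx F := (x_isUnit D hD r t).unit

theorem xGL_val (D : ChevalleyDatum)
    (hD : D ∈ [chevG2, chevB2, chevD4, chevF4, chevE6, chevE7, chevE8]) (r : ℕ) (t : F) :
    ((xGL D hD r t : GL D.Idx F) : Matrix D.Idx D.Idx F) = D.x F r t := rfl

theorem xGL_mem_group (D : ChevalleyDatum)
    (hD : D ∈ [chevG2, chevB2, chevD4, chevF4, chevE6, chevE7, chevE8]) (r : ℕ) (t : F) :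
    xGL D hD r t ∈ D.group F := by
  by_cases hr : r < D.nroots
  · apply Subgroup.subset_closure
    refine ⟨⟨r, hr⟩, t, ?_⟩
    rw [xGL_val]
    unfold ChevalleyDatum.x
    rw [dif_pos hr]
  · have : xGL D hD r t = 1 := by
      apply Units.ext
      rw [xGL_val]
      unfold ChevalleyDatum.x
      rw [dif_neg hr]
      rfl
    rw [this]
    exact one_mem _

/-- the matrix of a word, as an element of `GL` -/
noncomputable def wordGL (D : ChevalleyDatum)
    (hD : D ∈ [chevG2, chevB2, chevD4, chevF4, chevE6, chevE7, chevE8]) (w : List (ℕ × F)) :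
    GL D.Idx F := (w.map fun p => xGL D hD p.1 p.2).prod

theorem wordGL_val (D : ChevalleyDatum)
    (hD : D ∈ [chevG2, chevB2, chevD4, chevF4, chevE6, chevE7, chevE8]) (w : List (ℕ × F)) :
    ((wordGL D hD w : GL D.Idx F) : Matrix D.Idx D.Idx F) = D.wordMat F w := by
  induction w with
  | nil => simp [wordGL, ChevalleyDatum.wordMat]
  | cons a w ih =>
    have h1 : wordGL D hD (a :: w) = xGL D hD a.1 a.2 * wordGL D hD w := by
      unfold wordGL
      rw [List.map_cons, List.prod_cons]
    have h2 : D.wordMat F (a :: w) = D.x F a.1 a.2 * D.wordMat F w := by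
      unfold ChevalleyDatum.wordMat
      rw [List.map_cons, List.prod_cons]
    rw [h1, h2, Units.val_mul, ih, xGL_val]

theorem wordGL_mem_group (D : ChevalleyDatum)
    (hD : D ∈ [chevG2, chevB2, chevD4, chevF4, chevE6, chevE7, chevE8]) (w : List (ℕ × F)) :
    wordGL D hD w ∈ D.group F := by
  unfold wordGL
  apply Subgroup.list_prod_mem
  intro g hg
  rw [List.mem_map] at hg
  obtain ⟨p, _, rfl⟩ := hg
  exact xGL_mem_group D hD p.1 p.2

theorem mem_group_of_word (D : ChevalleyDatum)
    (hD : D ∈ [chevG2, chevB2, chevD4, chevF4, chevE6, chevE7, chevE8]) (g : GL D.Idx F)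
    (w : List (ℕ × F)) (hg : (g : Matrix D.Idx D.Idx F) = D.wordMat F w) : g ∈ D.group F := by
  have : g = wordGL D hD w := by
    apply Units.ext
    rw [hg, wordGL_val]
  rw [this]
  exact wordGL_mem_group D hD w

theorem posUnipotent_le_group (D : ChevalleyDatum) : D.posUnipotent F ≤ D.group F := by
  unfold ChevalleyDatum.posUnipotent ChevalleyDatum.group
  apply Subgroup.closure_mono
  rintro g ⟨r, t, hr, hg⟩
  refine ⟨⟨r, hr.1⟩, t, ?_⟩
  rw [hg]; unfold ChevalleyDatum.x; rw [dif_pos hr.1]

theorem diagonal_le_group (D : ChevalleyDatum)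
    (hD : D ∈ [chevG2, chevB2, chevD4, chevF4, chevE6, chevE7, chevE8]) :
    D.diagonalSubgroup F ≤ D.group F := by
  unfold ChevalleyDatum.diagonalSubgroup
  rw [Subgroup.closure_le]
  rintro g ⟨r, t, _, _, hg⟩
  exact mem_group_of_word D hD g (D.hWord r t) hg

theorem borel_le_group (D : ChevalleyDatum)
    (hD : D ∈ [chevG2, chevB2, chevD4, chevF4, chevE6, chevE7, chevE8]) :
    D.borelSubgroup F ≤ D.group F := by
  unfold ChevalleyDatum.borelSubgroup
  exact sup_le (posUnipotent_le_group D) (diagonal_le_group D hD)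

theorem monomial_le_group (D : ChevalleyDatum)
    (hD : D ∈ [chevG2, chevB2, chevD4, chevF4, chevE6, chevE7, chevE8]) :
    D.monomialSubgroup F ≤ D.group F := by
  unfold ChevalleyDatum.monomialSubgroup
  refine sup_le (diagonal_le_group D hD) ?_
  rw [Subgroup.closure_le]
  rintro g ⟨r, _, hg⟩
  exact mem_group_of_word D hD g (D.nWord r 1) hg

theorem wordMat_append' (D : ChevalleyDatum) (w₁ w₂ : List (ℕ × F)) :
    D.wordMat F (w₁ ++ w₂) = D.wordMat F w₁ * D.wordMat F w₂ := by
  unfold ChevalleyDatum.wordMat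
  rw [List.map_append, List.prod_append]

/-- `n_s(c) ∈ N` for `c ≠ 0` -/
theorem nGL_mem_monomial (D : ChevalleyDatum)
    (hD : D ∈ [chevG2, chevB2, chevD4, chevF4, chevE6, chevE7, chevE8]) (s : ℕ) (hs : s < D.nroots)
    (c : F) (hc : c ≠ 0) : wordGL D hD (D.nWord s c) ∈ D.monomialSubgroup F := by
  -- h_s(c) = n_s(c) n_s(-1), h_s(1) = n_s(1) n_s(-1)
  have hH : ∀ t : F, t ≠ 0 → wordGL D hD (D.hWord s t) ∈ D.monomialSubgroup F := by
    intro t ht
    unfold ChevalleyDatum.monomialSubgroup
    apply Subgroup.mem_sup_left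
    apply Subgroup.subset_closure
    exact ⟨s, t, hs, ht, by rw [wordGL_val]; rfl⟩
  have hN1 : wordGL D hD (D.nWord s (1 : F)) ∈ D.monomialSubgroup F := by
    unfold ChevalleyDatum.monomialSubgroup
    apply Subgroup.mem_sup_right
    apply Subgroup.subset_closure
    exact ⟨s, hs, by rw [wordGL_val]; rfl⟩
  have e : ∀ t : F, wordGL D hD (D.hWord s t) =
      wordGL D hD (D.nWord s t) * wordGL D hD (D.nWord s (-1)) := by
    intro t
    apply Units.ext
    rw [Units.val_mul, wordGL_val, wordGL_val, wordGL_val]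
    unfold ChevalleyDatum.hWord
    rw [wordMat_append']
  -- n_s(-1) = n_s(1)⁻¹ h_s(1)
  have hm1 : wordGL D hD (D.nWord s (-1 : F)) ∈ D.monomialSubgroup F := by
    have : wordGL D hD (D.nWord s (-1 : F)) =
        (wordGL D hD (D.nWord s (1 : F)))⁻¹ * wordGL D hD (D.hWord s (1 : F)) := by
      rw [e 1, inv_mul_cancel_left]
    rw [this]
    exact mul_mem (inv_mem hN1) (hH 1 one_ne_zero)
  have : wordGL D hD (D.nWord s c) =
      wordGL D hD (D.hWord s c) * (wordGL D hD (D.nWord s (-1 : F)))⁻¹ := by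
    rw [e c, mul_inv_cancel_right]
  rw [this]
  exact mul_mem (hH c hc) (inv_mem hm1)

theorem group_le_borel_sup_monomial (D : ChevalleyDatum)
    (hD : D ∈ [chevG2, chevB2, chevD4, chevF4, chevE6, chevE7, chevE8]) :
    D.group F ≤ D.borelSubgroup F ⊔ D.monomialSubgroup F := by
  unfold ChevalleyDatum.group
  rw [Subgroup.closure_le]
  rintro g ⟨r, t, hg⟩
  have hx : (g : Matrix D.Idx D.Idx F) = D.x F r.val t := by
    rw [hg]; unfold ChevalleyDatum.x; rw [dif_pos r.isLt]
  have hU : D.posUnipotent F ≤ D.borelSubgroup F ⊔ D.monomialSubgroup F := by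
    unfold ChevalleyDatum.borelSubgroup
    exact le_sup_of_le_left le_sup_left
  rcases Cfsg.Agent.S1041.pos_or_neg D hD r.val r.isLt with hp | hn
  · apply hU
    exact Subgroup.subset_closure ⟨r.val, t, hp, hx⟩
  · obtain ⟨hsp, hss⟩ := negPos_of_mem D hD r.val r.isLt hn
    by_cases ht : t = 0
    · have : g = 1 := by
        apply Units.ext
        rw [hx, ht]
        unfold ChevalleyDatum.x
        rw [dif_pos r.isLt]
        exact Cfsg.Agent.S1024.xMat_zero D r
      rw [this]
      exact one_mem _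
    · set s := D.neg r.val with hsdef
      set c : F := -t⁻¹ with hcdef
      have hc : c ≠ 0 := neg_ne_zero.mpr (inv_ne_zero ht)
      have hct : -c⁻¹ = t := by
        rw [hcdef, inv_neg, neg_neg, inv_inv]
      have hu : xGL D hD s c ∈ D.posUnipotent F :=
        Subgroup.subset_closure ⟨s, c, hsp, xGL_val D hD s c⟩
      have hn' := nGL_mem_monomial D hD s hsp.1 c hc
      have e : xGL D hD s c * g * xGL D hD s c = wordGL D hD (D.nWord s c) := by
        apply Units.ext
        rw [Units.val_mul, Units.val_mul, wordGL_val, xGL_val, hx]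
        unfold ChevalleyDatum.nWord ChevalleyDatum.wordMat
        simp only [List.map_cons, List.map_nil, List.prod_cons, List.prod_nil, mul_one]
        rw [hss, hct, Matrix.mul_assoc]
      have : g = (xGL D hD s c)⁻¹ * wordGL D hD (D.nWord s c) * (xGL D hD s c)⁻¹ := by
        rw [← e]; group
      rw [this]
      exact mul_mem (mul_mem (hU (inv_mem hu)) (Subgroup.mem_sup_right hn')) (hU (inv_mem hu))

end Cfsg.Agent.Lib.Helper5.ChevBN
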