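import Mathlib

namespace Cfsg.Agent.Lib.Helper5.F4

/-- a computable field with four elements: `0, 1, ω, ω² = ω + 1` -/
inductive F4c : Type
  | z | o | w | v
  deriving DecidableEq

namespace F4c

instance : Fintype F4c :=
  ⟨⟨{z, o, w, v}, by decide⟩, by intro x; cases x <;> decide⟩

def add : F4c → F4c → F4c
  | z, x => x
  | x, z => x
  | o, o => z
  | o, w => v
  | o, v => w
  | w, o => v
  | w, w => z
  | w, v => o
  | v, o => w
  | v, w => o
  | v, v => z

def mul : F4c → F4c → F4c
  | z, _ => z
  | _, z => z
  | o, x => x
  | x, o => x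
  | w, w => v
  | w, v => o
  | v, w => o
  | v, v => w

def inv : F4c → F4c
  | z => z
  | o => o
  | w => v
  | v => w

instance : Zero F4c := ⟨z⟩
instance : One F4c := ⟨o⟩
instance : Add F4c := ⟨add⟩
instance : Mul F4c := ⟨mul⟩
instance : Neg F4c := ⟨id⟩
instance : Inv F4c := ⟨inv⟩

instance : CommRing F4c where
  add_assoc := by decide
  zero_add := by decide
  add_zero := by decide
  nsmul := nsmulRec
  zsmul := zsmulRec
  neg_add_cancel := by decide
  add_comm := by decide
  left_distrib := by decide
  right_distrib := by decide
  zero_mul := by decide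
  mul_zero := by decide
  mul_assoc := by decide
  one_mul := by decide
  mul_one := by decide
  mul_comm := by decide

instance : Field F4c where
  exists_pair_ne := ⟨z, o, by decide⟩
  mul_inv_cancel := by decide
  inv_zero := rfl
  nnqsmul := _
  qsmul := _

theorem card_eq : Fintype.card F4c = 4 := rfl

theorem two_eq_zero : (2 : F4c) = 0 := by decide

instance : CharP F4c 2 :=
  CharTwo.of_one_ne_zero_of_two_eq_zero one_ne_zero two_eq_zero

end F4c

end Cfsg.Agent.Lib.Helper5.F4
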