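import Mathlib
import Cfsg.Prelude.Def_SporadicCombinatorics
import Cfsg.Agent.Lib.Helper5.F4c

set_option autoImplicit false

namespace Cfsg.Agent.Lib.Helper5.Hexa
open Cfsg.Agent.Lib.Helper5.F4

def hexG {F : Type*} [Field F] (ω : F) (t : F × F × F) : Fin 6 → F :=
  t.1 • ![ω, ω ^ 2, ω ^ 2, ω, ω ^ 2, ω] + t.2.1 • ![ω ^ 2, ω, ω, ω ^ 2, ω ^ 2, ω]
    + t.2.2 • ![ω ^ 2, ω, ω ^ 2, ω, ω, ω ^ 2]

def wt {F : Type*} [Field F] [DecidableEq F] (x : Fin 6 → F) : ℕ :=
  (Finset.univ.filter fun i => x i ≠ 0).card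

theorem mem_hexacode_iff {F : Type*} [Field F] (ω : F) (x : Fin 6 → F) :
    x ∈ Cfsg.hexacode F ω ↔ ∃ t, hexG ω t = x := by
  unfold Cfsg.hexacode
  rw [Submodule.mem_span_triple]
  constructor
  · rintro ⟨a, b, c, h⟩; exact ⟨(a, b, c), h⟩
  · rintro ⟨⟨a, b, c⟩, h⟩; exact ⟨a, b, c, h⟩

set_option maxRecDepth 100000 in
theorem inj_w : ∀ t t' : F4c × F4c × F4c, hexG F4c.w t = hexG F4c.w t' → t = t' := by
  decide +kernel

set_option maxRecDepth 100000 in
theorem inj_v : ∀ t t' : F4c × F4c × F4c, hexG F4c.v t = hexG F4c.v t' → t = t' := by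
  decide +kernel

set_option maxRecDepth 100000 in
theorem wts_w : ∀ t : F4c × F4c × F4c, t ≠ 0 → wt (hexG F4c.w t) = 4 ∨ wt (hexG F4c.w t) = 6 := by
  decide +kernel

set_option maxRecDepth 100000 in
theorem wts_v : ∀ t : F4c × F4c × F4c, t ≠ 0 → wt (hexG F4c.v t) = 4 ∨ wt (hexG F4c.v t) = 6 := by
  decide +kernel

set_option maxRecDepth 100000 in
theorem count4_w : (Finset.univ.filter fun t : F4c × F4c × F4c => wt (hexG F4c.w t) = 4).card = 45 := by
  decide +kernel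

set_option maxRecDepth 100000 in
theorem count4_v : (Finset.univ.filter fun t : F4c × F4c × F4c => wt (hexG F4c.v t) = 4).card = 45 := by
  decide +kernel

set_option maxRecDepth 100000 in
theorem count6_w : (Finset.univ.filter fun t : F4c × F4c × F4c => wt (hexG F4c.w t) = 6).card = 18 := by
  decide +kernel

set_option maxRecDepth 100000 in
theorem count6_v : (Finset.univ.filter fun t : F4c × F4c × F4c => wt (hexG F4c.v t) = 6).card = 18 := by
  decide +kernel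

theorem omega_cases : ∀ x : F4c, x ^ 2 + x + 1 = 0 → x = F4c.w ∨ x = F4c.v := by
  decide

end Cfsg.Agent.Lib.Helper5.Hexa

namespace Cfsg.Agent.Lib.Helper5.Hexa
open Cfsg.Agent.Lib.Helper5.F4

/-- The four facts for a given `ω'`. -/
structure Facts (ω' : F4c) : Prop where
  inj : ∀ t t' : F4c × F4c × F4c, hexG ω' t = hexG ω' t' → t = t'
  wts : ∀ t : F4c × F4c × F4c, t ≠ 0 → wt (hexG ω' t) = 4 ∨ wt (hexG ω' t) = 6
  c4 : (Finset.univ.filter fun t : F4c × F4c × F4c => wt (hexG ω' t) = 4).card = 45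
  c6 : (Finset.univ.filter fun t : F4c × F4c × F4c => wt (hexG ω' t) = 6).card = 18

theorem facts_of (ω' : F4c) (h : ω' ^ 2 + ω' + 1 = 0) : Facts ω' := by
  rcases omega_cases ω' h with rfl | rfl
  · exact ⟨inj_w, wts_w, count4_w, count6_w⟩
  · exact ⟨inj_v, wts_v, count4_v, count6_v⟩

section abstract

variable {F : Type*} [Field F] [DecidableEq F]

def P (ρ : F ≃+* F4c) : F × F × F ≃ F4c × F4c × F4c := Equiv.prodCongr ρ.toEquiv (Equiv.prodCongr ρ.toEquiv ρ.toEquiv)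

omit [DecidableEq F] in
theorem compat (ρ : F ≃+* F4c) (ω : F) (t : F × F × F) (i : Fin 6) :
    ρ (hexG ω t i) = hexG (ρ ω) (P ρ t) i := by
  obtain ⟨a, b, c⟩ := t
  fin_cases i <;> simp [hexG, P, map_add, map_mul, map_pow]

theorem wt_eq (ρ : F ≃+* F4c) (ω : F) (t : F × F × F) : wt (hexG ω t) = wt (hexG (ρ ω) (P ρ t)) := by
  unfold wt
  congr 1
  ext i
  simp only [Finset.mem_filter, Finset.mem_univ, true_and]
  rw [← compat]
  simp

omit [DecidableEq F] in
theorem hexG_inj (ρ : F ≃+* F4c) (ω : F) (hω : ω ^ 2 + ω + 1 = 0) : Function.Injective (hexG ω) := by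
  have hF := facts_of (ρ ω) (by rw [← map_pow, ← map_add, ← map_one ρ, ← map_add, hω, map_zero])
  intro t t' h
  apply (P ρ).injective
  apply hF.inj
  funext i
  rw [← compat, ← compat, h]

theorem main (ρ : F ≃+* F4c) (ω : F) (hω : ω ^ 2 + ω + 1 = 0) [Fintype F] (hcard : Fintype.card F = 4) :
    Nat.card ↥(Cfsg.hexacode F ω) = 64 ∧
    (∀ x ∈ Cfsg.hexacode F ω, x ≠ 0 → wt x = 4 ∨ wt x = 6) ∧
    {x : Fin 6 → F | x ∈ Cfsg.hexacode F ω ∧ wt x = 4}.ncard = 45 ∧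
    {x : Fin 6 → F | x ∈ Cfsg.hexacode F ω ∧ wt x = 6}.ncard = 18 := by
  have hF := facts_of (ρ ω) (by rw [← map_pow, ← map_add, ← map_one ρ, ← map_add, hω, map_zero])
  have hinj := hexG_inj ρ ω hω
  have hcount : ∀ k : ℕ, {x : Fin 6 → F | x ∈ Cfsg.hexacode F ω ∧ wt x = k}.ncard
      = (Finset.univ.filter fun t : F4c × F4c × F4c => wt (hexG (ρ ω) t) = k).card := by
    intro k
    have h1 : {x : Fin 6 → F | x ∈ Cfsg.hexacode F ω ∧ wt x = k}
        = (hexG ω) '' ((P ρ) ⁻¹' {t | wt (hexG (ρ ω) t) = k}) := by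
      ext x
      simp only [Set.mem_ofPred_eq, Set.mem_image, Set.mem_preimage]
      rw [mem_hexacode_iff]
      constructor
      · rintro ⟨⟨t, rfl⟩, h⟩
        exact ⟨t, by rw [← wt_eq]; exact h, rfl⟩
      · rintro ⟨t, h, rfl⟩
        exact ⟨⟨t, rfl⟩, by rw [wt_eq ρ]; exact h⟩
    rw [h1, Set.ncard_image_of_injective _ hinj, Set.ncard_preimage_of_injective_subset_range (P ρ).injective (by rw [(P ρ).surjective.range_eq]; exact Set.subset_univ _),
      Set.ncard_eq_toFinset_card']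
    congr 1
    ext t
    simp
  refine ⟨?_, ?_, ?_, ?_⟩
  · have e : (F × F × F) ≃ ↥(Cfsg.hexacode F ω) :=
      Equiv.ofBijective (fun t => ⟨hexG ω t, (mem_hexacode_iff ω _).2 ⟨t, rfl⟩⟩)
        ⟨fun t t' h => hinj (Subtype.ext_iff.1 h), fun ⟨x, hx⟩ => by
          obtain ⟨t, rfl⟩ := (mem_hexacode_iff ω _).1 hx
          exact ⟨t, rfl⟩⟩
    rw [← Nat.card_congr e, Nat.card_eq_fintype_card, Fintype.card_prod, Fintype.card_prod, hcard]
  · intro x hx hx0
    obtain ⟨t, rfl⟩ := (mem_hexacode_iff ω _).1 hx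
    rw [wt_eq ρ]
    apply hF.wts
    intro h0
    apply hx0
    have : t = 0 := by
      apply (P ρ).injective
      rw [h0]
      simp [P, Prod.ext_iff]
    rw [this]
    simp [hexG]
  · rw [hcount, hF.c4]
  · rw [hcount, hF.c6]

end abstract

end Cfsg.Agent.Lib.Helper5.Hexa
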