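import Mathlib
import Cfsg.Agent.Lib.Helper5.Hexa

set_option autoImplicit false

namespace Cfsg.Agent.Lib.Helper5.Hexa
open Cfsg.Agent.Lib.Helper5.F4 Equiv

def gen {K : Type*} [Field K] (ω : K) : Fin 3 → Fin 6 → K :=
  ![![ω, ω ^ 2, ω ^ 2, ω, ω ^ 2, ω], ![ω ^ 2, ω, ω, ω ^ 2, ω ^ 2, ω],
    ![ω ^ 2, ω, ω ^ 2, ω, ω, ω ^ 2]]

def mono {K : Type*} [Field K] (σ : Perm (Fin 6)) (d : Fin 6 → K) (x : Fin 6 → K) : Fin 6 → K :=
  fun i => d i * x (σ.symm i)

theorem hexG_eq {K : Type*} [Field K] (ω : K) (t : K × K × K) :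
    hexG ω t = t.1 • gen ω 0 + t.2.1 • gen ω 1 + t.2.2 • gen ω 2 := rfl

/-- parity check membership test -/
def memD (ω' : F4c) (x : Fin 6 → F4c) : Prop :=
  ∀ j : Fin 3, ∑ i, x i * (gen ω' j i) ^ 2 = 0

instance (ω' : F4c) : DecidablePred (memD ω') := fun x => by unfold memD; infer_instance

def PresD (ω' : F4c) (σ : Perm (Fin 6)) (d : Fin 6 → F4c) : Prop :=
  ∀ j : Fin 3, memD ω' (mono σ d (gen ω' j))

instance (ω' : F4c) (σ : Perm (Fin 6)) : DecidablePred (PresD ω' σ) := fun d => by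
  unfold PresD; infer_instance

set_option maxRecDepth 100000 in
theorem memD_hexG_w : ∀ t, memD F4c.w (hexG F4c.w t) := by decide +kernel

set_option maxRecDepth 100000 in
theorem memD_hexG_v : ∀ t, memD F4c.v (hexG F4c.v t) := by decide +kernel

set_option maxRecDepth 100000 in
theorem memD_imp_w : ∀ x : Fin 6 → F4c, memD F4c.w x → ∃ t, hexG F4c.w t = x := by decide +kernel

set_option maxRecDepth 100000 in
theorem memD_imp_v : ∀ x : Fin 6 → F4c, memD F4c.v x → ∃ t, hexG F4c.v t = x := by decide +kernel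

set_option maxRecDepth 100000 in
theorem kern_w : ∀ d : Fin 6 → F4c, (∀ i, d i ≠ 0) → PresD F4c.w 1 d → ∀ i j, d i = d j := by
  decide +kernel

set_option maxRecDepth 100000 in
theorem kern_v : ∀ d : Fin 6 → F4c, (∀ i, d i ≠ 0) → PresD F4c.v 1 d → ∀ i j, d i = d j := by
  decide +kernel

set_option maxRecDepth 100000 in
theorem transp_w : ∀ d : Fin 6 → F4c, (∀ i, d i ≠ 0) → ¬ PresD F4c.w (swap 0 1) d := by
  decide +kernel

set_option maxRecDepth 100000 in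
theorem transp_v : ∀ d : Fin 6 → F4c, (∀ i, d i ≠ 0) → ¬ PresD F4c.v (swap 0 1) d := by
  decide +kernel

def nz : Fin 3 → F4c := ![F4c.o, F4c.w, F4c.v]

def dOf (e : Fin 3 × Fin 3 × Fin 3 × Fin 3 × Fin 3) : Fin 6 → F4c :=
  ![F4c.o, nz e.1, nz e.2.1, nz e.2.2.1, nz e.2.2.2.1, nz e.2.2.2.2]

set_option maxRecDepth 100000 in
theorem dOf_ne_zero : ∀ e i, dOf e i ≠ 0 := by decide +kernel

set_option maxRecDepth 100000 in
theorem ex_w : ∀ a b : Fin 6, a ≠ b → ∃ e, PresD F4c.w (swap a b * swap 0 1) (dOf e) := by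
  decide +kernel

set_option maxRecDepth 100000 in
theorem ex_v : ∀ a b : Fin 6, a ≠ b → ∃ e, PresD F4c.v (swap a b * swap 0 1) (dOf e) := by
  decide +kernel

end Cfsg.Agent.Lib.Helper5.Hexa
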