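import Mathlib
import Cfsg.Prelude.Def_SporadicCombinatorics

set_option autoImplicit false

namespace Cfsg.Agent.Lib.Helper5.Mono

open Equiv

variable {α K : Type*} [Field K]

theorem mono_apply (σ : Perm α) (c : α → Kˣ) (x : α → K) (i : α) :
    Cfsg.monomialMap σ c x i = (c i : K) * x (σ.symm i) := rfl

theorem mono_mul (σ τ : Perm α) (c d : α → Kˣ) (x : α → K) :
    Cfsg.monomialMap σ c (Cfsg.monomialMap τ d x)
      = Cfsg.monomialMap (σ * τ) (fun i => c i * d (σ⁻¹ i)) x := by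
  funext i
  simp only [mono_apply, Units.val_mul]
  rw [mul_assoc]
  rfl

theorem mono_one_one (x : α → K) : Cfsg.monomialMap (1 : Perm α) (fun _ => (1 : Kˣ)) x = x := by
  funext i
  simp only [mono_apply, Units.val_one, one_mul]
  rfl

theorem mono_add (σ : Perm α) (c : α → Kˣ) (x y : α → K) :
    Cfsg.monomialMap σ c (x + y) = Cfsg.monomialMap σ c x + Cfsg.monomialMap σ c y := by
  funext i
  simp [mono_apply, mul_add]

theorem mono_smul (σ : Perm α) (c : α → Kˣ) (a : K) (x : α → K) :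
    Cfsg.monomialMap σ c (a • x) = a • Cfsg.monomialMap σ c x := by
  funext i
  simp [mono_apply, mul_left_comm]

theorem mono_scale (σ : Perm α) (c : α → Kˣ) (k : Kˣ) (x : α → K) :
    Cfsg.monomialMap σ (fun i => k * c i) x = (k : K) • Cfsg.monomialMap σ c x := by
  funext i
  simp [mono_apply, mul_assoc]

/-- the monomial map `(σ, c)` preserves `C` -/
def Pres (C : Submodule K (α → K)) (σ : Perm α) (c : α → Kˣ) : Prop :=
  ∀ x ∈ C, Cfsg.monomialMap σ c x ∈ C

variable {C : Submodule K (α → K)}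

theorem Pres.one : Pres C 1 (fun _ => (1 : Kˣ)) := by
  intro x hx
  rw [mono_one_one]
  exact hx

theorem Pres.mul {σ τ : Perm α} {c d : α → Kˣ} (h1 : Pres C σ c) (h2 : Pres C τ d) :
    Pres C (σ * τ) (fun i => c i * d (σ⁻¹ i)) := by
  intro x hx
  rw [← mono_mul]
  exact h1 _ (h2 _ hx)

theorem Pres.scale {σ : Perm α} {c : α → Kˣ} (h1 : Pres C σ c) (k : Kˣ) :
    Pres C σ (fun i => k * c i) := by
  intro x hx
  rw [mono_scale]
  exact C.smul_mem _ (h1 x hx)

theorem Pres.inv [Finite K] [Finite α] {σ : Perm α} {c : α → Kˣ} (h1 : Pres C σ c) :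
    Pres C σ⁻¹ (fun i => (c (σ i))⁻¹) := by
  have hleft : ∀ x : α → K, Cfsg.monomialMap σ⁻¹ (fun i => (c (σ i))⁻¹) (Cfsg.monomialMap σ c x) = x := by
    intro x
    rw [mono_mul]
    convert mono_one_one x using 2
    · simp
    · funext i
      simp
  -- restricted map
  let f : C → C := fun x => ⟨Cfsg.monomialMap σ c x.1, h1 x.1 x.2⟩
  have hf : Function.Injective f := by
    intro x y hxy
    have := congrArg (fun z : C => Cfsg.monomialMap σ⁻¹ (fun i => (c (σ i))⁻¹) z.1) hxy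
    simp only [f, hleft] at this
    exact Subtype.ext this
  have hs : Function.Surjective f := Finite.surjective_of_injective hf
  intro y hy
  obtain ⟨x, hx⟩ := hs ⟨y, hy⟩
  have : y = Cfsg.monomialMap σ c x.1 := by
    have := congrArg Subtype.val hx
    exact this.symm
  rw [this, hleft]
  exact x.2

/-- permutations occurring -/
def permsOf [Finite K] [Finite α] (C : Submodule K (α → K)) : Subgroup (Perm α) where
  carrier := {σ | ∃ c, Pres C σ c}
  one_mem' := ⟨_, Pres.one⟩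
  mul_mem' := by
    rintro σ τ ⟨c, hc⟩ ⟨d, hd⟩
    exact ⟨_, hc.mul hd⟩
  inv_mem' := by
    rintro σ ⟨c, hc⟩
    exact ⟨_, hc.inv⟩

theorem mem_permsOf [Finite K] [Finite α] {σ : Perm α} : σ ∈ permsOf C ↔ ∃ c, Pres C σ c := Iff.rfl

section main

variable [Finite K] [Fintype α] [DecidableEq α]
variable (s₀ : Perm α) (hs₀ : s₀.IsSwap)
variable (hK : ∀ c, Pres C 1 c → ∀ i j, c i = c j)
variable (hT : ∀ c, ¬ Pres C s₀ c)
variable (hE : ∀ s : Perm α, s.IsSwap → ∃ c, Pres C (s * s₀) c)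

include hs₀ hE in
theorem swap_mul_swap_mem {s t : Perm α} (hs : s.IsSwap) (ht : t.IsSwap) : s * t ∈ permsOf C := by
  have h0 : s₀ * s₀ = 1 := by
    obtain ⟨a, b, hab, rfl⟩ := hs₀
    simp
  have ht2 : t * t = 1 := by
    obtain ⟨a, b, hab, rfl⟩ := ht
    simp
  have h1 : s * s₀ ∈ permsOf C := hE s hs
  have h2 : t * s₀ ∈ permsOf C := hE t ht
  have h3 : (t * s₀)⁻¹ = s₀ * t := by
    rw [mul_inv_rev]
    congr 1
    · exact inv_eq_of_mul_eq_one_left h0
    · exact inv_eq_of_mul_eq_one_left ht2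
  have h4 : s * t = (s * s₀) * (t * s₀)⁻¹ := by
    rw [h3, mul_assoc, ← mul_assoc s₀, h0, one_mul]
  rw [h4]
  exact (permsOf C).mul_mem h1 ((permsOf C).inv_mem h2)

include hs₀ hE in
theorem alternating_le : alternatingGroup α ≤ permsOf C := by
  intro σ hσ
  suffices hind :
      ∀ (n : ℕ) (l : List (Perm α)) (_ : ∀ g, g ∈ l → g.IsSwap) (_ : l.length = 2 * n),
        l.prod ∈ permsOf C by
    obtain ⟨l, rfl, hl⟩ := Equiv.Perm.truncSwapFactors σ
    obtain ⟨n, hn⟩ := (Equiv.Perm.prod_list_swap_mem_alternatingGroup_iff_even_length hl).1 hσ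
    rw [← two_mul] at hn
    exact hind n l hl hn
  intro n
  induction n with
  | zero =>
    intro l hl hn
    simp [List.length_eq_zero_iff.1 hn, one_mem]
  | succ n ih =>
    intro l hl hn
    rw [Nat.mul_succ] at hn
    obtain ⟨a, l, rfl⟩ := l.exists_of_length_succ hn
    rw [List.length_cons, Nat.succ_inj] at hn
    obtain ⟨b, l, rfl⟩ := l.exists_of_length_succ hn
    rw [List.prod_cons, List.prod_cons, ← mul_assoc]
    rw [List.length_cons, Nat.succ_inj] at hn
    exact mul_mem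
      (swap_mul_swap_mem s₀ hs₀ hE (hl a List.mem_cons_self)
        (hl b (List.mem_cons_of_mem a List.mem_cons_self)))
      (ih _ (fun g hg => hl g (List.mem_cons_of_mem _ (List.mem_cons_of_mem _ hg))) hn)

include hs₀ hT hE in
theorem permsOf_eq : permsOf C = alternatingGroup α := by
  apply le_antisymm
  · intro σ hσ
    rw [Equiv.Perm.mem_alternatingGroup]
    rcases Int.units_eq_one_or (Equiv.Perm.sign σ) with h | h
    · exact h
    · exfalso
      have hs0 : Equiv.Perm.sign s₀ = -1 := by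
        obtain ⟨a, b, hab, rfl⟩ := hs₀
        exact Equiv.Perm.sign_swap hab
      have h1 : σ⁻¹ * s₀ ∈ alternatingGroup α := by
        rw [Equiv.Perm.mem_alternatingGroup, map_mul, map_inv, h, hs0]
        simp
      have h2 : σ⁻¹ * s₀ ∈ permsOf C := alternating_le s₀ hs₀ hE h1
      have h3 : s₀ ∈ permsOf C := by
        have := (permsOf C).mul_mem hσ h2
        rwa [mul_inv_cancel_left] at this
      obtain ⟨c, hc⟩ := h3
      exact hT c hc
  · exact alternating_le s₀ hs₀ hE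

include hK in
omit [DecidableEq α] in
theorem fibre {σ : Perm α} {c c₀ : α → Kˣ} (h : Pres C σ c) (h₀ : Pres C σ c₀) :
    ∃ k : Kˣ, ∀ i, c i = k * c₀ i := by
  have h1 := h.mul h₀.inv
  rw [mul_inv_cancel] at h1
  have h2 := hK _ h1
  have hσ : ∀ i, σ (σ⁻¹ i) = i := fun i => Equiv.apply_symm_apply σ i
  simp only [hσ] at h2
  rcases isEmpty_or_nonempty α with he | ⟨⟨i₀⟩⟩
  · exact ⟨1, fun i => (he.false i).elim⟩
  · refine ⟨c i₀ * (c₀ i₀)⁻¹, fun i => ?_⟩
    rw [← h2 i i₀]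
    simp

include hs₀ hK hT hE in
theorem card_pres [Nonempty α] :
    Nat.card {f : Perm α × (α → Kˣ) // Pres C f.1 f.2}
      = Nat.card (alternatingGroup α) * Nat.card Kˣ := by
  classical
  have hEq := permsOf_eq (C := C) s₀ hs₀ hT hE
  obtain ⟨i₀⟩ := ‹Nonempty α›
  have hex : ∀ σ : alternatingGroup α, ∃ c, Pres C σ.1 c := by
    intro σ
    have : σ.1 ∈ permsOf C := by rw [hEq]; exact σ.2
    exact this
  choose c₀ hc₀ using hex
  have hmem : ∀ f : {f : Perm α × (α → Kˣ) // Pres C f.1 f.2}, f.1.1 ∈ alternatingGroup α := by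
    intro f
    rw [← hEq]
    exact ⟨f.1.2, f.2⟩
  let Φ : {f : Perm α × (α → Kˣ) // Pres C f.1 f.2} → (alternatingGroup α) × Kˣ :=
    fun f => (⟨f.1.1, hmem f⟩, f.1.2 i₀ * (c₀ ⟨f.1.1, hmem f⟩ i₀)⁻¹)
  have hbij : Function.Bijective Φ := by
    constructor
    · rintro ⟨⟨σ, c⟩, hc⟩ ⟨⟨τ, d⟩, hd⟩ hfg
      simp only [Φ, Prod.mk.injEq, Subtype.mk.injEq] at hfg
      obtain ⟨h1, h2⟩ := hfg
      subst h1
      simp only at hc hd h2
      have hmem' : σ ∈ alternatingGroup α := hmem ⟨⟨σ, c⟩, hc⟩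
      obtain ⟨k, hk⟩ := fibre hK hc (hc₀ ⟨σ, hmem'⟩)
      obtain ⟨k', hk'⟩ := fibre hK hd (hc₀ ⟨σ, hmem'⟩)
      have hkk : k = k' := by
        rw [hk i₀, hk' i₀] at h2
        simpa using h2
      have : c = d := by
        funext i
        rw [hk i, hk' i, hkk]
      subst this
      rfl
    · rintro ⟨σ, k⟩
      refine ⟨⟨⟨σ.1, fun i => k * c₀ σ i⟩, (hc₀ σ).scale k⟩, ?_⟩
      simp [Φ]
  rw [Nat.card_congr (Equiv.ofBijective Φ hbij), Nat.card_prod]

end main

end Cfsg.Agent.Lib.Helper5.Mono
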