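import Mathlib
import Cfsg.Agent.Lib.Helper5.HexaB
import Cfsg.Agent.Lib.Helper5.Mono

set_option autoImplicit false

namespace Cfsg.Agent.Lib.Helper5.Hexa
open Cfsg.Agent.Lib.Helper5.F4 Cfsg.Agent.Lib.Helper5.Mono Equiv

structure FactsB (ω' : F4c) : Prop where
  memD_iff : ∀ x, memD ω' x ↔ ∃ t, hexG ω' t = x
  kern : ∀ d : Fin 6 → F4c, (∀ i, d i ≠ 0) → PresD ω' 1 d → ∀ i j, d i = d j
  transp : ∀ d : Fin 6 → F4c, (∀ i, d i ≠ 0) → ¬ PresD ω' (swap 0 1) d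
  ex : ∀ a b : Fin 6, a ≠ b → ∃ e, PresD ω' (swap a b * swap 0 1) (dOf e)

theorem factsB_of (ω' : F4c) (h : ω' ^ 2 + ω' + 1 = 0) : FactsB ω' := by
  rcases omega_cases ω' h with rfl | rfl
  · refine ⟨fun x => ⟨memD_imp_w x, ?_⟩, kern_w, transp_w, ex_w⟩
    rintro ⟨t, rfl⟩
    exact memD_hexG_w t
  · refine ⟨fun x => ⟨memD_imp_v x, ?_⟩, kern_v, transp_v, ex_v⟩
    rintro ⟨t, rfl⟩
    exact memD_hexG_v t

theorem gen_mem {K : Type*} [Field K] (ω : K) (j : Fin 3) : gen ω j ∈ Cfsg.hexacode K ω := by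
  unfold Cfsg.hexacode
  apply Submodule.subset_span
  fin_cases j <;> simp [gen]

theorem pres_iff {K : Type*} [Field K] (ω : K) (σ : Perm (Fin 6)) (c : Fin 6 → Kˣ) :
    Pres (Cfsg.hexacode K ω) σ c ↔
      ∀ j : Fin 3, ∃ t, hexG ω t = mono σ (fun i => (c i : K)) (gen ω j) := by
  constructor
  · intro h j
    exact (mem_hexacode_iff ω _).1 (h _ (gen_mem ω j))
  · intro h x hx
    obtain ⟨t, rfl⟩ := (mem_hexacode_iff ω _).1 hx
    rw [hexG_eq, mono_add, mono_add, mono_smul, mono_smul, mono_smul]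
    have hj : ∀ j, Cfsg.monomialMap σ c (gen ω j) ∈ Cfsg.hexacode K ω :=
      fun j => (mem_hexacode_iff ω _).2 (h j)
    exact add_mem (add_mem (Submodule.smul_mem _ _ (hj 0)) (Submodule.smul_mem _ _ (hj 1)))
      (Submodule.smul_mem _ _ (hj 2))

section transfer

variable {F : Type*} [Field F] (ρ : F ≃+* F4c)

theorem gen_compat (ω : F) (j : Fin 3) (k : Fin 6) : ρ (gen ω j k) = gen (ρ ω) j k := by
  fin_cases j <;> fin_cases k <;> simp [gen, map_pow]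

theorem mono_compat (σ : Perm (Fin 6)) (d : Fin 6 → F) (ω : F) (j : Fin 3) (i : Fin 6) :
    ρ (mono σ d (gen ω j) i) = mono σ (fun i => ρ (d i)) (gen (ρ ω) j) i := by
  simp only [mono, map_mul, gen_compat]

theorem presG_transfer (ω : F) (σ : Perm (Fin 6)) (d : Fin 6 → F) (j : Fin 3) :
    (∃ t, hexG ω t = mono σ d (gen ω j)) ↔
      ∃ t', hexG (ρ ω) t' = mono σ (fun i => ρ (d i)) (gen (ρ ω) j) := by
  constructor
  · rintro ⟨t, ht⟩
    refine ⟨P ρ t, ?_⟩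
    funext i
    rw [← compat, ht, mono_compat]
  · rintro ⟨t', ht'⟩
    refine ⟨(P ρ).symm t', ?_⟩
    funext i
    apply ρ.injective
    rw [compat, Equiv.apply_symm_apply, ht', mono_compat]

theorem pres_iff_D (ω : F) (hω : ω ^ 2 + ω + 1 = 0) (σ : Perm (Fin 6)) (c : Fin 6 → Fˣ) :
    Pres (Cfsg.hexacode F ω) σ c ↔ PresD (ρ ω) σ (fun i => ρ (c i : F)) := by
  have hF := factsB_of (ρ ω) (by rw [← map_pow, ← map_add, ← map_one ρ, ← map_add, hω, map_zero])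
  rw [pres_iff]
  unfold PresD
  refine forall_congr' fun j => ?_
  rw [presG_transfer ρ, hF.memD_iff]

include ρ in
theorem final [Fintype F] (hcard : Fintype.card F = 4) (ω : F) (hω : ω ^ 2 + ω + 1 = 0) :
    Nat.card {f : Perm (Fin 6) × (Fin 6 → Fˣ) // Pres (Cfsg.hexacode F ω) f.1 f.2} = 1080 ∧
    (∀ c : Fin 6 → Fˣ, Pres (Cfsg.hexacode F ω) 1 c → ∀ i j, c i = c j) ∧
    {σ : Perm (Fin 6) | ∃ c : Fin 6 → Fˣ, Pres (Cfsg.hexacode F ω) σ c}
      = (alternatingGroup (Fin 6) : Set (Perm (Fin 6))) := by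
  have hF := factsB_of (ρ ω) (by rw [← map_pow, ← map_add, ← map_one ρ, ← map_add, hω, map_zero])
  have hne : ∀ (c : Fin 6 → Fˣ) i, ρ (c i : F) ≠ 0 := by
    intro c i
    rw [Ne, map_eq_zero_iff ρ ρ.injective]
    exact (c i).ne_zero
  have hK : ∀ c, Pres (Cfsg.hexacode F ω) 1 c → ∀ i j, c i = c j := by
    intro c hc i j
    rw [pres_iff_D ρ ω hω] at hc
    have := hF.kern _ (hne c) hc i j
    exact Units.ext (ρ.injective this)
  have hT : ∀ c, ¬ Pres (Cfsg.hexacode F ω) (swap 0 1) c := by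
    intro c hc
    rw [pres_iff_D ρ ω hω] at hc
    exact hF.transp _ (hne c) hc
  have hE : ∀ s : Perm (Fin 6), s.IsSwap → ∃ c, Pres (Cfsg.hexacode F ω) (s * swap 0 1) c := by
    rintro s ⟨a, b, hab, rfl⟩
    obtain ⟨e, he⟩ := hF.ex a b hab
    refine ⟨fun i => Units.mk0 (ρ.symm (dOf e i)) ?_, ?_⟩
    · rw [Ne, map_eq_zero_iff ρ.symm ρ.symm.injective]
      exact dOf_ne_zero e i
    · rw [pres_iff_D ρ ω hω]
      convert he using 2
      simp
  have hs₀ : (swap (0 : Fin 6) 1).IsSwap := ⟨0, 1, by decide, rfl⟩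
  have : Finite F := Finite.of_fintype F
  classical
  refine ⟨?_, hK, ?_⟩
  · rw [card_pres (swap 0 1) hs₀ hK hT hE, nat_card_alternatingGroup, Nat.card_eq_fintype_card,
      Nat.card_eq_fintype_card, Fintype.card_units, hcard, Fintype.card_fin]
    decide
  · have := permsOf_eq (C := Cfsg.hexacode F ω) (swap 0 1) hs₀ hT hE
    rw [← this]
    rfl

end transfer

end Cfsg.Agent.Lib.Helper5.Hexa
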