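import Mathlib

set_option autoImplicit false
set_option linter.style.haveILetI false
set_option linter.unusedSectionVars false

namespace Cfsg.Agent.Lib.Helper5.Nil

open Polynomial

section kappa

variable (F : Type*) [Field F]

/-- the number of elements killed by `X ^ j` -/
noncomputable def kappa (M : Type*) [AddCommGroup M] [Module F[X] M] (j : ℕ) : ℕ :=
  Nat.card {y : M // (X ^ j : F[X]) • y = 0}

variable {F}

theorem kappa_congr {M N : Type*} [AddCommGroup M] [Module F[X] M] [AddCommGroup N]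
    [Module F[X] N] (e : M ≃ₗ[F[X]] N) (j : ℕ) : kappa F M j = kappa F N j := by
  apply Nat.card_congr
  refine e.toEquiv.subtypeEquiv (fun y => ?_)
  show (X ^ j : F[X]) • y = 0 ↔ (X ^ j : F[X]) • e y = 0
  rw [← map_smul, LinearEquiv.map_eq_zero_iff]

theorem kappa_pi {ι : Type*} [Fintype ι] (M : ι → Type*) [∀ i, AddCommGroup (M i)]
    [∀ i, Module F[X] (M i)] (j : ℕ) :
    kappa F (∀ i, M i) j = ∏ i, kappa F (M i) j := by
  unfold kappa
  rw [← Nat.card_pi]
  apply Nat.card_congr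
  refine (Equiv.subtypeEquivRight (fun y => ?_)).trans
    (Equiv.subtypePiEquivPi (p := fun i (b : M i) => (X ^ j : F[X]) • b = 0))
  rw [funext_iff]
  rfl

theorem card_quot_X_pow [Finite F] (a : ℕ) :
    Nat.card (F[X] ⧸ Ideal.span {(X : F[X]) ^ a}) = Nat.card F ^ a := by
  have h : Module.finrank F (F[X] ⧸ Ideal.span {(X : F[X]) ^ a}) = a := by
    rw [finrank_quotient_span_eq_natDegree, natDegree_X_pow]
  haveI : Module.Finite F (F[X] ⧸ Ideal.span {(X : F[X]) ^ a}) := by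
    rcases Nat.eq_zero_or_pos a with rfl | ha
    · haveI : Subsingleton (F[X] ⧸ Ideal.span {(X : F[X]) ^ 0}) := by
        rw [pow_zero, Ideal.span_singleton_one]
        exact Ideal.Quotient.subsingleton_iff.2 rfl
      infer_instance
    · exact Module.finite_of_finrank_pos (by rw [h]; exact ha)
  rw [Module.natCard_eq_pow_finrank (K := F), h]

end kappa

end Cfsg.Agent.Lib.Helper5.Nil

namespace Cfsg.Agent.Lib.Helper5.Nil

open Polynomial

section cyclic

variable {F : Type*} [Field F]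

theorem kappa_cyclic_le [Finite F] {a j : ℕ} (hja : j ≤ a) :
    kappa F (F[X] ⧸ Ideal.span {(X : F[X]) ^ a}) j = Nat.card F ^ j := by
  rw [← card_quot_X_pow j]
  symm
  unfold kappa
  apply Nat.card_congr
  have hmap : Ideal.span {(X : F[X]) ^ j} ≤
      Submodule.comap (LinearMap.lsmul F[X] F[X] (X ^ (a - j))) (Ideal.span {(X : F[X]) ^ a}) := by
    intro g hg
    rw [Ideal.mem_span_singleton] at hg
    obtain ⟨c, rfl⟩ := hg
    show (X : F[X]) ^ (a - j) • (X ^ j * c) ∈ Ideal.span {(X : F[X]) ^ a}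
    rw [Ideal.mem_span_singleton, smul_eq_mul, ← mul_assoc, ← pow_add, Nat.sub_add_cancel hja]
    exact dvd_mul_right _ _
  let φ : (F[X] ⧸ Ideal.span {(X : F[X]) ^ j}) →ₗ[F[X]] (F[X] ⧸ Ideal.span {(X : F[X]) ^ a}) :=
    Submodule.mapQ _ _ (LinearMap.lsmul F[X] F[X] (X ^ (a - j))) hmap
  have hφ : ∀ g : F[X], φ (Ideal.Quotient.mk _ g) = Ideal.Quotient.mk _ (X ^ (a - j) * g) :=
    fun g => rfl
  have hsm : ∀ (b : ℕ) (c g : F[X]), c • (Ideal.Quotient.mk (Ideal.span {(X : F[X]) ^ b}) g) =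
      Ideal.Quotient.mk _ (c * g) := fun b c g => rfl
  refine Equiv.ofBijective (fun z => ⟨φ z, ?_⟩) ⟨?_, ?_⟩
  · obtain ⟨g, rfl⟩ := Ideal.Quotient.mk_surjective z
    rw [hφ, hsm, Ideal.Quotient.eq_zero_iff_mem, Ideal.mem_span_singleton, ← mul_assoc, ← pow_add,
      Nat.add_sub_cancel' hja]
    exact dvd_mul_right _ _
  · intro z w hzw
    have h1 : φ z = φ w := congrArg Subtype.val hzw
    obtain ⟨g, rfl⟩ := Ideal.Quotient.mk_surjective z
    obtain ⟨g', rfl⟩ := Ideal.Quotient.mk_surjective w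
    rw [hφ, hφ, Ideal.Quotient.eq, Ideal.mem_span_singleton, ← mul_sub] at h1
    rw [Ideal.Quotient.eq, Ideal.mem_span_singleton]
    have h2 : (X : F[X]) ^ a = X ^ (a - j) * X ^ j := by rw [← pow_add, Nat.sub_add_cancel hja]
    rw [h2] at h1
    exact (mul_dvd_mul_iff_left (pow_ne_zero _ X_ne_zero)).1 h1
  · rintro ⟨y, hy⟩
    obtain ⟨h, rfl⟩ := Ideal.Quotient.mk_surjective y
    rw [hsm, Ideal.Quotient.eq_zero_iff_mem, Ideal.mem_span_singleton] at hy
    have h2 : (X : F[X]) ^ a = X ^ j * X ^ (a - j) := by rw [← pow_add, Nat.add_sub_cancel' hja]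
    rw [h2] at hy
    obtain ⟨g, rfl⟩ := (mul_dvd_mul_iff_left (pow_ne_zero _ X_ne_zero)).1 hy
    exact ⟨Ideal.Quotient.mk _ g, Subtype.ext (hφ g)⟩

theorem kappa_cyclic_ge [Finite F] {a j : ℕ} (haj : a ≤ j) :
    kappa F (F[X] ⧸ Ideal.span {(X : F[X]) ^ a}) j = Nat.card F ^ a := by
  rw [← card_quot_X_pow a]
  unfold kappa
  apply Nat.card_congr
  refine Equiv.subtypeUnivEquiv (fun y => ?_)
  obtain ⟨g, rfl⟩ := Ideal.Quotient.mk_surjective y
  show Ideal.Quotient.mk _ (X ^ j * g) = 0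
  rw [Ideal.Quotient.eq_zero_iff_mem, Ideal.mem_span_singleton]
  exact (pow_dvd_pow X haj).trans (dvd_mul_right _ _)

theorem kappa_cyclic [Finite F] (a j : ℕ) :
    kappa F (F[X] ⧸ Ideal.span {(X : F[X]) ^ a}) j = Nat.card F ^ (min j a) := by
  rcases le_total j a with h | h
  · rw [kappa_cyclic_le h, min_eq_left h]
  · rw [kappa_cyclic_ge h, min_eq_right h]

end cyclic

end Cfsg.Agent.Lib.Helper5.Nil
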