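import Mathlib
import Cfsg.Agent.Lib.Helper5.NilA

set_option autoImplicit false
set_option linter.style.haveILetI false
set_option linter.unusedSectionVars false

namespace Cfsg.Agent.Lib.Helper5.Nil

open Polynomial

section mod

variable (F : Type*) [Field F]

/-- the standard nilpotent module with given block sizes -/
abbrev Mod {ι : Type*} (k : ι → ℕ) : Type _ := ∀ i, F[X] ⧸ Ideal.span {(X : F[X]) ^ k i}

variable {F}

theorem kappa_mod [Finite F] {ι : Type*} [Fintype ι] (k : ι → ℕ) (j : ℕ) :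
    kappa F (Mod F k) j = Nat.card F ^ (∑ i, min j (k i)) := by
  rw [kappa_pi, ← Finset.prod_pow_eq_pow_sum]
  apply Finset.prod_congr rfl
  intro i _
  exact kappa_cyclic (k i) j

/-- the submodule of tuples divisible by the prescribed powers of `X` -/
noncomputable def S {ι : Type*} (k : ι → ℕ) : Submodule F[X] (ι → F[X]) :=
  Submodule.pi Set.univ (fun i => (Ideal.span {(X : F[X]) ^ k i} : Submodule F[X] F[X]))

theorem mem_S {ι : Type*} (k : ι → ℕ) (y : ι → F[X]) : y ∈ S k ↔ ∀ i, (X : F[X]) ^ k i ∣ y i := by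
  unfold S
  rw [Submodule.mem_pi]
  constructor
  · intro h i
    exact Ideal.mem_span_singleton.1 (h i (Set.mem_univ i))
  · intro h i _
    exact Ideal.mem_span_singleton.2 (h i)

/-- reindexing along an injection which misses only trivial blocks -/
theorem mod_reindex {ι₁ ι₂ : Type*} [Fintype ι₁] [Fintype ι₂] [DecidableEq ι₁] [DecidableEq ι₂]
    (k₁ : ι₁ → ℕ) (k₂ : ι₂ → ℕ) (f : ι₁ → ι₂) (hf : Function.Injective f)
    (hk : ∀ i, k₂ (f i) = k₁ i) (h0 : ∀ j, j ∉ Set.range f → k₂ j = 0) :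
    Nonempty (Mod F k₂ ≃ₗ[F[X]] Mod F k₁) := by
  let ρ : (ι₂ → F[X]) →ₗ[F[X]] (ι₁ → F[X]) := LinearMap.funLeft F[X] F[X] f
  have hρ : Function.Surjective ρ := LinearMap.funLeft_surjective_of_injective F[X] F[X] f hf
  let g : (ι₂ → F[X]) →ₗ[F[X]] ((ι₁ → F[X]) ⧸ S k₁) := (S k₁).mkQ ∘ₗ ρ
  have hg : Function.Surjective g := (Submodule.mkQ_surjective _).comp hρ
  have hker : S k₂ = LinearMap.ker g := by
    ext y
    rw [LinearMap.mem_ker, LinearMap.comp_apply, Submodule.mkQ_apply,
      Submodule.Quotient.mk_eq_zero, mem_S, mem_S]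
    constructor
    · intro h i
      show (X : F[X]) ^ k₁ i ∣ y (f i)
      rw [← hk]; exact h (f i)
    · intro h j
      by_cases hj : j ∈ Set.range f
      · obtain ⟨i, rfl⟩ := hj
        rw [hk]; exact h i
      · rw [h0 j hj, pow_zero]; exact one_dvd _
  exact ⟨(Submodule.quotientPi _).symm.trans ((Submodule.quotEquivOfEq _ _ hker).trans
    ((LinearMap.quotKerEquivOfSurjective g hg).trans (Submodule.quotientPi _)))⟩

end mod

end Cfsg.Agent.Lib.Helper5.Nil
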