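import Mathlib
import Cfsg.Agent.Lib.Helper5.NilB

set_option autoImplicit false
set_option linter.style.haveILetI false
set_option linter.unusedSectionVars false

namespace Cfsg.Agent.Lib.Helper5.Nil

open Polynomial

section profile

/-- the profile sums -/
def prof {ι : Type*} [Fintype ι] (k : ι → ℕ) (j : ℕ) : ℕ := ∑ i, min j (k i)

theorem prof_succ {ι : Type*} [Fintype ι] (k : ι → ℕ) (j : ℕ) :
    prof k (j + 1) = prof k j + (Finset.univ.filter (fun i => j < k i)).card := by
  unfold prof
  rw [Finset.card_filter, ← Finset.sum_add_distrib]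
  apply Finset.sum_congr rfl
  intro i _
  split_ifs with h
  · rw [min_eq_left (by omega), min_eq_left (by omega)]
  · rw [min_eq_right (by omega), min_eq_right (by omega), add_zero]

theorem card_key {κ : Type*} [Fintype κ] (l : κ → ℕ) (c : ℕ) (hc : 0 < c) :
    (Finset.univ.filter (fun i => c - 1 < l i)).card =
    (Finset.univ.filter (fun i => l i = c)).card + (Finset.univ.filter (fun i => c < l i)).card := by
  classical
  rw [← Finset.card_union_of_disjoint]
  · congr 1
    ext i
    simp only [Finset.mem_filter, Finset.mem_univ, true_and, Finset.mem_union]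
    omega
  · rw [Finset.disjoint_filter]
    intro i _ h1 h2
    omega

theorem card_gt_eq {ι ι' : Type*} [Fintype ι] [Fintype ι'] (k : ι → ℕ) (k' : ι' → ℕ)
    (h : ∀ j, prof k j = prof k' j) (j : ℕ) :
    (Finset.univ.filter (fun i => j < k i)).card = (Finset.univ.filter (fun i => j < k' i)).card := by
  have h1 := prof_succ k j
  have h2 := prof_succ k' j
  rw [h (j + 1), h j] at h1
  omega

theorem card_eq_eq {ι ι' : Type*} [Fintype ι] [Fintype ι'] (k : ι → ℕ) (k' : ι' → ℕ)
    (h : ∀ j, prof k j = prof k' j) (c : ℕ) (hc : 0 < c) :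
    (Finset.univ.filter (fun i => k i = c)).card = (Finset.univ.filter (fun i => k' i = c)).card := by
  have h1 := card_key k c hc
  have h2 := card_key k' c hc
  have h3 := card_gt_eq k k' h (c - 1)
  have h4 := card_gt_eq k k' h c
  omega

end profile

end Cfsg.Agent.Lib.Helper5.Nil

namespace Cfsg.Agent.Lib.Helper5.Nil

open Polynomial

section complete

variable {F : Type*} [Field F]

theorem exists_pos_equiv {ι ι' : Type*} [Fintype ι] [Fintype ι'] [DecidableEq ι] [DecidableEq ι']
    (k : ι → ℕ) (k' : ι' → ℕ) (h : ∀ j, prof k j = prof k' j) :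
    ∃ e : {i // 0 < k i} ≃ {i' // 0 < k' i'}, ∀ x, k' (e x) = k x := by
  have hfib : ∀ c : ℕ, Nonempty ({x : {i // 0 < k i} // k x = c} ≃ {y : {i' // 0 < k' i'} // k' y = c}) := by
    intro c
    rcases Nat.eq_zero_or_pos c with rfl | hc
    · haveI : IsEmpty {x : {i // 0 < k i} // k x = 0} := ⟨fun x => by have := x.1.2; have := x.2; omega⟩
      haveI : IsEmpty {y : {i' // 0 < k' i'} // k' y = 0} := ⟨fun x => by have := x.1.2; have := x.2; omega⟩
      exact ⟨Equiv.equivOfIsEmpty _ _⟩
    · have e1 : {x : {i // 0 < k i} // k x = c} ≃ {i // k i = c} :=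
        { toFun := fun x => ⟨x.1.1, x.2⟩
          invFun := fun x => ⟨⟨x.1, by rw [x.2]; exact hc⟩, x.2⟩
          left_inv := fun x => rfl
          right_inv := fun x => rfl }
      have e2 : {y : {i' // 0 < k' i'} // k' y = c} ≃ {i' // k' i' = c} :=
        { toFun := fun x => ⟨x.1.1, x.2⟩
          invFun := fun x => ⟨⟨x.1, by rw [x.2]; exact hc⟩, x.2⟩
          left_inv := fun x => rfl
          right_inv := fun x => rfl }
      have hcard : Fintype.card {i // k i = c} = Fintype.card {i' // k' i' = c} := by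
        rw [Fintype.card_subtype, Fintype.card_subtype]
        exact card_eq_eq k k' h c hc
      exact ⟨e1.trans ((Fintype.equivOfCardEq hcard).trans e2.symm)⟩
  let e := Equiv.ofFiberEquiv (f := fun x : {i // 0 < k i} => k x)
    (g := fun y : {i' // 0 < k' i'} => k' y) (fun c => (hfib c).some)
  refine ⟨e, fun x => ?_⟩
  exact Equiv.ofFiberEquiv_map (f := fun x : {i // 0 < k i} => k x)
    (g := fun y : {i' // 0 < k' i'} => k' y) (fun c => (hfib c).some) x

/-- standard nilpotent modules with the same profile are isomorphic -/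
theorem mod_iso_of_prof {ι ι' : Type*} [Fintype ι] [Fintype ι'] [DecidableEq ι] [DecidableEq ι']
    (k : ι → ℕ) (k' : ι' → ℕ) (h : ∀ j, prof k j = prof k' j) :
    Nonempty (Mod F k ≃ₗ[F[X]] Mod F k') := by
  obtain ⟨e, he⟩ := exists_pos_equiv k k' h
  obtain ⟨E₁⟩ := mod_reindex (F := F) (fun x : {i // 0 < k i} => k x) k Subtype.val
    Subtype.val_injective (fun _ => rfl) (by
      intro j hj
      by_contra hne
      exact hj ⟨⟨j, Nat.pos_of_ne_zero hne⟩, rfl⟩)
  obtain ⟨E₂⟩ := mod_reindex (F := F) (fun x : {i // 0 < k i} => k x) k' (fun x => (e x).1)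
    (fun a b hab => e.injective (Subtype.ext hab)) (fun x => he x) (by
      intro j hj
      by_contra hne
      exact hj ⟨e.symm ⟨j, Nat.pos_of_ne_zero hne⟩, by simp⟩)
  exact ⟨E₁.trans E₂.symm⟩

end complete

end Cfsg.Agent.Lib.Helper5.Nil
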