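import Mathlib
import Cfsg.Agent.Lib.Helper5.NilC

set_option autoImplicit false
set_option linter.style.haveILetI false
set_option linter.unusedSectionVars false

namespace Cfsg.Agent.Lib.Helper5.Nil

open Polynomial

universe u v

/-- the structure theorem for nilpotent modules -/
theorem exists_iso_mod {F : Type u} [Field F] (M : Type v) [AddCommGroup M] [Module F[X] M]
    [Module.Finite F[X] M] (hnil : ∃ m : ℕ, ∀ y : M, (X ^ m : F[X]) • y = 0) :
    ∃ (d : ℕ) (k : Fin d → ℕ), Nonempty (M ≃ₗ[F[X]] Mod F k) := by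
  classical
  obtain ⟨m, hm⟩ := hnil
  have htors : Module.IsTorsion' M (Submonoid.powers (X : F[X])) := by
    intro y
    exact ⟨⟨X ^ m, m, rfl⟩, hm y⟩
  obtain ⟨d, k, ⟨E⟩⟩ := Module.torsion_by_prime_power_decomposition (irreducible_X (R := F)) htors
  exact ⟨d, k, ⟨E.trans (DirectSum.linearEquivFunOnFintype F[X] (Fin d)
    (fun i => F[X] ⧸ Submodule.span F[X] {(X : F[X]) ^ k i}))⟩⟩

end Cfsg.Agent.Lib.Helper5.Nil
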