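import Mathlib
import Cfsg.Agent.Lib.Helper5.NilD

set_option autoImplicit false
set_option linter.style.haveILetI false
set_option linter.unusedSectionVars false

namespace Cfsg.Agent.Lib.Helper5.Nil

open Polynomial

section parts

/-- the multiset of positive block sizes -/
def partsOf {ι : Type*} [Fintype ι] (k : ι → ℕ) : Multiset ℕ :=
  (Finset.univ.val.map k).filter (0 < ·)

theorem sum_filter_pos (s : Multiset ℕ) (f : ℕ → ℕ) (hf : f 0 = 0) :
    ((s.filter (0 < ·)).map f).sum = (s.map f).sum := by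
  induction s using Multiset.induction_on with
  | empty => simp
  | cons a s ih =>
    by_cases ha : 0 < a
    · rw [Multiset.filter_cons_of_pos _ ha, Multiset.map_cons, Multiset.sum_cons, ih,
        Multiset.map_cons, Multiset.sum_cons]
    · have ha0 : a = 0 := by omega
      rw [Multiset.filter_cons_of_neg _ ha, ih, Multiset.map_cons, Multiset.sum_cons, ha0, hf,
        zero_add]

theorem prof_eq_partsOf {ι : Type*} [Fintype ι] (k : ι → ℕ) (j : ℕ) :
    prof k j = ((partsOf k).map (min j)).sum := by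
  unfold partsOf
  rw [sum_filter_pos _ _ (Nat.min_zero j), Multiset.map_map]
  rfl

theorem sum_partsOf {ι : Type*} [Fintype ι] (k : ι → ℕ) : (partsOf k).sum = ∑ i, k i := by
  unfold partsOf
  have := sum_filter_pos (Finset.univ.val.map k) id rfl
  simp only [Multiset.map_id] at this
  rw [this]
  rfl

theorem partsOf_pos {ι : Type*} [Fintype ι] (k : ι → ℕ) (a : ℕ) (ha : a ∈ partsOf k) : 0 < a :=
  (Multiset.mem_filter.1 ha).2

theorem count_partsOf {ι : Type*} [Fintype ι] (k : ι → ℕ) (c : ℕ) (hc : 0 < c) :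
    (partsOf k).count c = (Finset.univ.filter (fun i => k i = c)).card := by
  classical
  unfold partsOf
  rw [Multiset.count_filter_of_pos hc, Multiset.count_map]
  rw [Finset.card_def, Finset.filter_val]
  congr 1
  apply Multiset.filter_congr
  intro i _
  exact eq_comm

theorem partsOf_eq_of_prof {ι ι' : Type*} [Fintype ι] [Fintype ι'] (k : ι → ℕ) (k' : ι' → ℕ)
    (h : ∀ j, prof k j = prof k' j) : partsOf k = partsOf k' := by
  classical
  ext c
  rcases Nat.eq_zero_or_pos c with rfl | hc
  · rw [Multiset.count_eq_zero_of_notMem, Multiset.count_eq_zero_of_notMem]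
    · intro h0; exact absurd (partsOf_pos k' 0 h0) (lt_irrefl 0)
    · intro h0; exact absurd (partsOf_pos k 0 h0) (lt_irrefl 0)
  · rw [count_partsOf k c hc, count_partsOf k' c hc]
    exact card_eq_eq k k' h c hc

theorem prof_eq_of_partsOf {ι ι' : Type*} [Fintype ι] [Fintype ι'] (k : ι → ℕ) (k' : ι' → ℕ)
    (h : partsOf k = partsOf k') (j : ℕ) : prof k j = prof k' j := by
  rw [prof_eq_partsOf, prof_eq_partsOf, h]

end parts

end Cfsg.Agent.Lib.Helper5.Nil

namespace Cfsg.Agent.Lib.Helper5.Nil

open Polynomial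

section modfacts

variable {F : Type*} [Field F]

theorem prof_of_kappa [Finite F] {ι ι' : Type*} [Fintype ι] [Fintype ι'] (k : ι → ℕ) (k' : ι' → ℕ)
    (h : ∀ j, kappa F (Mod F k) j = kappa F (Mod F k') j) (j : ℕ) : prof k j = prof k' j := by
  have := h j
  rw [kappa_mod, kappa_mod] at this
  exact Nat.pow_right_injective Finite.one_lt_card this

theorem kills_mod_iff {ι : Type*} [Fintype ι] [DecidableEq ι] (k : ι → ℕ) (j : ℕ) :
    (∀ y : Mod F k, (X ^ j : F[X]) • y = 0) ↔ ∀ a ∈ partsOf k, a ≤ j := by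
  constructor
  · intro h a ha
    unfold partsOf at ha
    rw [Multiset.mem_filter, Multiset.mem_map] at ha
    obtain ⟨⟨i, -, rfl⟩, -⟩ := ha
    have h1 := congrFun (h (Pi.single i (Ideal.Quotient.mk _ 1))) i
    rw [Pi.smul_apply, Pi.single_eq_same, Pi.zero_apply] at h1
    have h2 : (X ^ j : F[X]) • (Ideal.Quotient.mk (Ideal.span {(X : F[X]) ^ k i}) 1) =
        Ideal.Quotient.mk _ (X ^ j * 1) := rfl
    rw [h2, mul_one, Ideal.Quotient.eq_zero_iff_mem, Ideal.mem_span_singleton] at h1
    exact (pow_dvd_pow_iff X_ne_zero not_isUnit_X).1 h1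
  · intro h y
    funext i
    rw [Pi.smul_apply, Pi.zero_apply]
    obtain ⟨g, hg⟩ := Ideal.Quotient.mk_surjective (y i)
    rw [← hg]
    show Ideal.Quotient.mk _ (X ^ j * g) = 0
    rw [Ideal.Quotient.eq_zero_iff_mem, Ideal.mem_span_singleton]
    have hle : k i ≤ j := by
      rcases Nat.eq_zero_or_pos (k i) with h0 | hpos
      · omega
      · apply h
        unfold partsOf
        rw [Multiset.mem_filter, Multiset.mem_map]
        exact ⟨⟨i, Finset.mem_univ_val i, rfl⟩, hpos⟩
    exact (pow_dvd_pow X hle).trans (dvd_mul_right _ _)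

end modfacts

end Cfsg.Agent.Lib.Helper5.Nil
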