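import Mathlib

set_option autoImplicit false
set_option linter.style.haveILetI false
set_option linter.unusedSectionVars false

namespace Cfsg.Agent.Lib.Helper5.SSClass

open Polynomial Module

section basic

variable (F : Type*) [Field F] (M : Type*) [AddCommGroup M] [Module F[X] M] [Module F M]
  [IsScalarTower F F[X] M]

/-- multiplication by `X` as an `F`-linear endomorphism -/
noncomputable def xEnd : Module.End F M where
  toFun y := (X : F[X]) • y
  map_add' := smul_add _
  map_smul' _ _ := smul_comm _ _ _

@[simp] theorem xEnd_apply (y : M) : xEnd F M y = (X : F[X]) • y := rfl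

theorem C_smul' (a : F) (y : M) : (C a : F[X]) • y = a • y := by
  rw [← smul_one_smul F[X] a y]
  congr 1
  rw [← C_mul', mul_one]

theorem aeval_xEnd_apply (p : F[X]) (y : M) : (aeval (xEnd F M) p) y = p • y := by
  induction p using Polynomial.induction_on' with
  | add p q hp hq => rw [map_add, LinearMap.add_apply, hp, hq, add_smul]
  | monomial n a =>
    rw [aeval_monomial, ← C_mul_X_pow_eq_monomial, mul_smul]
    have h : ∀ k : ℕ, ((xEnd F M) ^ k) y = (X ^ k : F[X]) • y := by
      intro k
      induction k with
      | zero => simp
      | succ k ih => rw [pow_succ', Module.End.mul_apply, ih, xEnd_apply, pow_succ', mul_smul]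
    rw [Module.End.mul_apply, h, Module.algebraMap_end_apply, C_smul']

variable [Module.Finite F M]

/-- the characteristic polynomial of an `F[X]`-module of finite dimension over `F` -/
noncomputable def cp : F[X] := (xEnd F M).charpoly

theorem cp_monic : (cp F M).Monic := LinearMap.charpoly_monic _

theorem cp_ne_zero : cp F M ≠ 0 := (cp_monic F M).ne_zero

theorem cp_natDegree : (cp F M).natDegree = Module.finrank F M := LinearMap.charpoly_natDegree _

/-- Cayley–Hamilton -/
theorem cp_smul (y : M) : cp F M • y = 0 := by
  rw [← aeval_xEnd_apply, cp, LinearMap.aeval_self_charpoly, LinearMap.zero_apply]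

end basic

section iso

variable {F : Type*} [Field F] {M N : Type*} [AddCommGroup M] [Module F[X] M] [Module F M]
  [IsScalarTower F F[X] M] [Module.Finite F M] [AddCommGroup N] [Module F[X] N] [Module F N]
  [IsScalarTower F F[X] N] [Module.Finite F N]

theorem cp_congr (e : M ≃ₗ[F[X]] N) : cp F M = cp F N := by
  have h := LinearEquiv.charpoly_conj (e.restrictScalars F) (xEnd F M)
  rw [cp, cp, ← h]
  congr 1
  apply LinearMap.ext
  intro y
  simp [LinearEquiv.conj_apply]

end iso

end Cfsg.Agent.Lib.Helper5.SSClass
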