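import Mathlib
import Cfsg.Agent.Lib.Helper5.NilE
import Cfsg.Agent.Lib.Helper5.SSClassA

set_option autoImplicit false
set_option linter.style.haveILetI false
set_option linter.unusedSectionVars false

namespace Cfsg.Agent.Lib.Helper5.Nil

open Polynomial Module

section glue

variable {F : Type*} [Field F] {n : ℕ}

/-- the `F[X]`-module of a matrix -/
abbrev MN (N : Matrix (Fin n) (Fin n) F) : Type _ := AEval' (Matrix.toLin' N)

theorem iso_of_conj (N N' : Matrix (Fin n) (Fin n) F) (G : GL (Fin n) F)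
    (h : (G : Matrix (Fin n) (Fin n) F) * N = N' * (G : Matrix (Fin n) (Fin n) F)) :
    Nonempty (MN N ≃ₗ[F[X]] MN N') := by
  let E : (Fin n → F) ≃ₗ[F] (Fin n → F) := Matrix.toLinearEquiv' (G : Matrix (Fin n) (Fin n) F)
    ⟨(G⁻¹ : GL (Fin n) F), by simp, by simp⟩
  refine ⟨LinearEquiv.ofAEval (Matrix.toLin' N) (E.trans (AEval'.of (Matrix.toLin' N'))) ?_⟩
  intro v
  show AEval'.of (Matrix.toLin' N') (E (Matrix.toLin' N v)) = X • AEval'.of (Matrix.toLin' N') (E v)
  rw [AEval'.X_smul_of]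
  congr 1
  show Matrix.toLin' (G : Matrix (Fin n) (Fin n) F) (Matrix.toLin' N v) =
    Matrix.toLin' N' (Matrix.toLin' (G : Matrix (Fin n) (Fin n) F) v)
  rw [← LinearMap.comp_apply, ← LinearMap.comp_apply, ← Matrix.toLin'_mul, ← Matrix.toLin'_mul, h]

theorem conj_of_iso (N N' : Matrix (Fin n) (Fin n) F) (e : MN N ≃ₗ[F[X]] MN N') :
    ∃ G : GL (Fin n) F, (G : Matrix (Fin n) (Fin n) F) * N = N' * (G : Matrix (Fin n) (Fin n) F) := by
  let f := Matrix.toLin' N
  let g := Matrix.toLin' N'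
  let E : (Fin n → F) ≃ₗ[F] (Fin n → F) :=
    (AEval'.of f).trans ((e.restrictScalars F).trans (AEval'.of g).symm)
  have hE : ∀ v, E (f v) = g (E v) := by
    intro v
    show (AEval'.of g).symm (e (AEval'.of f (f v))) = g ((AEval'.of g).symm (e (AEval'.of f v)))
    rw [← AEval'.X_smul_of, map_smul, AEval'.of_symm_X_smul]
  let G : Matrix (Fin n) (Fin n) F := LinearMap.toMatrix' (E : (Fin n → F) →ₗ[F] (Fin n → F))
  let G' : Matrix (Fin n) (Fin n) F := LinearMap.toMatrix' (E.symm : (Fin n → F) →ₗ[F] (Fin n → F))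
  have h1 : G * G' = 1 := by
    rw [← LinearMap.toMatrix'_comp]
    simp
  have h2 : G' * G = 1 := by
    rw [← LinearMap.toMatrix'_comp]
    simp
  refine ⟨⟨G, G', h1, h2⟩, ?_⟩
  show G * N = N' * G
  apply Matrix.toLin'.injective
  rw [Matrix.toLin'_mul, Matrix.toLin'_mul, Matrix.toLin'_toMatrix']
  apply LinearMap.ext
  intro v
  exact hE v

theorem kills_MN_iff (N : Matrix (Fin n) (Fin n) F) (j : ℕ) :
    (∀ y : MN N, (X ^ j : F[X]) • y = 0) ↔ N ^ j = 0 := by
  constructor
  · intro h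
    apply Matrix.toLin'.injective
    rw [map_zero]
    apply LinearMap.ext
    intro v
    have := h (AEval'.of (Matrix.toLin' N) v)
    rw [AEval'.X_pow_smul_of] at this
    have h2 := (AEval'.of (Matrix.toLin' N)).injective (this.trans (map_zero _).symm)
    rw [LinearMap.zero_apply, ← h2, Matrix.toLin'_pow]
    rfl
  · intro h y
    obtain ⟨v, rfl⟩ := (AEval'.of (Matrix.toLin' N)).surjective y
    rw [AEval'.X_pow_smul_of, ← Matrix.toLin'_pow, h, map_zero]
    simp

end glue

end Cfsg.Agent.Lib.Helper5.Nil
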