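import Mathlib
import Cfsg.Agent.Lib.Helper5.NilF

set_option autoImplicit false
set_option linter.style.haveILetI false
set_option linter.unusedSectionVars false

namespace Cfsg.Agent.Lib.Helper5.Nil

open Polynomial Module Cfsg.Agent.Lib.Helper5.SSClass

section realize

variable {F : Type*} [Field F] {n : ℕ}

theorem exists_matrix_iso (M : Type*) [AddCommGroup M] [Module F[X] M] [Module F M]
    [IsScalarTower F F[X] M] [Module.Finite F M] (h : Module.finrank F M = n) :
    ∃ N : Matrix (Fin n) (Fin n) F, Nonempty (MN N ≃ₗ[F[X]] M) := by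
  let b : Basis (Fin n) F M := Module.finBasisOfFinrankEq F M h
  let N : Matrix (Fin n) (Fin n) F := LinearMap.toMatrix b b (xEnd F M)
  refine ⟨N, ⟨LinearEquiv.ofAEval (Matrix.toLin' N) b.equivFun.symm ?_⟩⟩
  intro v
  obtain ⟨m, rfl⟩ := b.equivFun.surjective v
  rw [LinearEquiv.symm_apply_apply]
  show b.equivFun.symm (N.mulVec (b.repr m)) = X • m
  rw [LinearMap.toMatrix_mulVec_repr]
  show b.equivFun.symm (b.equivFun (xEnd F M m)) = X • m
  rw [LinearEquiv.symm_apply_apply, xEnd_apply]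

end realize

end Cfsg.Agent.Lib.Helper5.Nil

namespace Cfsg.Agent.Lib.Helper5.Nil

open Polynomial Module Cfsg.Agent.Lib.Helper5.SSClass

section types

variable {F : Type*} [Field F] {n : ℕ}

/-- the matrix `N` has Jordan type `s` -/
def HasType (N : Matrix (Fin n) (Fin n) F) (s : Multiset ℕ) : Prop :=
  ∃ (d : ℕ) (k : Fin d → ℕ), Nonempty (MN N ≃ₗ[F[X]] Mod F k) ∧ partsOf k = s

theorem exists_hasType (N : Matrix (Fin n) (Fin n) F) (hN : ∃ m, N ^ m = 0) :
    ∃ s, HasType N s := by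
  obtain ⟨m, hm⟩ := hN
  obtain ⟨d, k, hk⟩ := exists_iso_mod (F := F) (MN N) ⟨m, (kills_MN_iff N m).2 hm⟩
  exact ⟨partsOf k, d, k, hk, rfl⟩

theorem HasType.unique [Finite F] {N : Matrix (Fin n) (Fin n) F} {s s' : Multiset ℕ}
    (h : HasType N s) (h' : HasType N s') : s = s' := by
  obtain ⟨d, k, ⟨e⟩, rfl⟩ := h
  obtain ⟨d', k', ⟨e'⟩, rfl⟩ := h'
  apply partsOf_eq_of_prof
  apply prof_of_kappa (F := F)
  intro j
  exact kappa_congr (e.symm.trans e') j

theorem HasType.conj_of_eq {N N' : Matrix (Fin n) (Fin n) F} {s : Multiset ℕ}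
    (h : HasType N s) (h' : HasType N' s) :
    ∃ G : GL (Fin n) F, (G : Matrix (Fin n) (Fin n) F) * N = N' * (G : Matrix (Fin n) (Fin n) F) := by
  obtain ⟨d, k, ⟨e⟩, rfl⟩ := h
  obtain ⟨d', k', ⟨e'⟩, hk'⟩ := h'
  obtain ⟨E⟩ := mod_iso_of_prof (F := F) k k' (prof_eq_of_partsOf k k' hk'.symm)
  exact conj_of_iso N N' (e.trans (E.trans e'.symm))

theorem HasType.of_conj {N N' : Matrix (Fin n) (Fin n) F} {s : Multiset ℕ} (h : HasType N s)
    (G : GL (Fin n) F)
    (hG : (G : Matrix (Fin n) (Fin n) F) * N = N' * (G : Matrix (Fin n) (Fin n) F)) :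
    HasType N' s := by
  obtain ⟨d, k, ⟨e⟩, rfl⟩ := h
  obtain ⟨E⟩ := iso_of_conj N N' G hG
  exact ⟨d, k, ⟨E.symm.trans e⟩, rfl⟩

theorem HasType.pos {N : Matrix (Fin n) (Fin n) F} {s : Multiset ℕ} (h : HasType N s) :
    ∀ a ∈ s, 0 < a := by
  obtain ⟨d, k, -, rfl⟩ := h
  exact partsOf_pos k

theorem HasType.pow_eq_zero_iff {N : Matrix (Fin n) (Fin n) F} {s : Multiset ℕ}
    (h : HasType N s) (j : ℕ) : N ^ j = 0 ↔ ∀ a ∈ s, a ≤ j := by
  obtain ⟨d, k, ⟨e⟩, rfl⟩ := h
  rw [← kills_MN_iff, ← kills_mod_iff (F := F)]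
  constructor
  · intro h y
    have := h (e.symm y)
    have h2 := congrArg e this
    rwa [map_smul, LinearEquiv.apply_symm_apply, map_zero] at h2
  · intro h y
    have := h (e y)
    rw [← map_smul] at this
    exact e.injective (this.trans (map_zero e).symm)

theorem HasType.sum [Finite F] {N : Matrix (Fin n) (Fin n) F} {s : Multiset ℕ}
    (h : HasType N s) : s.sum = n := by
  obtain ⟨d, k, ⟨e⟩, rfl⟩ := h
  rw [sum_partsOf]
  have h1 : Nat.card (MN N) = Nat.card (Mod F k) := Nat.card_congr e.toEquiv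
  have h2 : Nat.card (MN N) = Nat.card F ^ n := by
    rw [Nat.card_congr (AEval'.of (Matrix.toLin' N)).symm.toEquiv, Nat.card_fun,
      Nat.card_eq_fintype_card (α := Fin n), Fintype.card_fin]
  have h3 : Nat.card (Mod F k) = Nat.card F ^ (∑ i, k i) := by
    rw [Nat.card_pi, ← Finset.prod_pow_eq_pow_sum]
    apply Finset.prod_congr rfl
    intro i _
    exact card_quot_X_pow (k i)
  rw [h2, h3] at h1
  exact (Nat.pow_right_injective Finite.one_lt_card h1).symm

end types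

end Cfsg.Agent.Lib.Helper5.Nil
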