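import Mathlib
import Cfsg.Agent.Lib.Helper5.NilG

set_option autoImplicit false
set_option linter.style.haveILetI false
set_option linter.unusedSectionVars false

namespace Cfsg.Agent.Lib.Helper5.Nil

open Polynomial Module Cfsg.Agent.Lib.Helper5.SSClass

section exist

variable {F : Type*} [Field F] {n : ℕ}

theorem finrank_quot_X_pow (a : ℕ) :
    Module.finrank F (F[X] ⧸ Ideal.span {(X : F[X]) ^ a}) = a := by
  rw [finrank_quotient_span_eq_natDegree, natDegree_X_pow]

instance finite_quot_X_pow (a : ℕ) : Module.Finite F (F[X] ⧸ Ideal.span {(X : F[X]) ^ a}) := by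
  rcases Nat.eq_zero_or_pos a with rfl | ha
  · haveI : Subsingleton (F[X] ⧸ Ideal.span {(X : F[X]) ^ 0}) := by
      rw [pow_zero, Ideal.span_singleton_one]
      exact Ideal.Quotient.subsingleton_iff.2 rfl
    infer_instance
  · exact Module.finite_of_finrank_pos (by rw [finrank_quot_X_pow]; exact ha)

theorem exists_of_type (s : Multiset ℕ) (hpos : ∀ a ∈ s, 0 < a) (hsum : s.sum = n) :
    ∃ N : Matrix (Fin n) (Fin n) F, HasType N s := by
  let k : Fin s.toList.length → ℕ := fun i => s.toList.get i
  have hk : partsOf k = s := by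
    unfold partsOf
    have h1 : Finset.univ.val.map k = s := by
      rw [Fin.univ_val_map, List.ofFn_get, Multiset.coe_toList]
    rw [h1, Multiset.filter_eq_self]
    exact hpos
  have hfr : Module.finrank F (Mod F k) = n := by
    rw [Module.finrank_pi_fintype]
    simp only [finrank_quot_X_pow]
    rw [← sum_partsOf, hk, hsum]
  obtain ⟨N, ⟨e⟩⟩ := exists_matrix_iso (F := F) (Mod F k) hfr
  exact ⟨N, _, k, ⟨e⟩, hk⟩

end exist

end Cfsg.Agent.Lib.Helper5.Nil
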