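import Mathlib
import Cfsg.Agent.Lib.Helper5.NilH

set_option autoImplicit false
set_option linter.style.haveILetI false
set_option linter.unusedSectionVars false

namespace Cfsg.Agent.Lib.Helper5.Nil

open Polynomial Module

section unip

variable {F : Type*} [Field F] (p : ℕ) [Fact p.Prime] [CharP F p] {n : ℕ}

/-- the nilpotent part of a unipotent element -/
def nilPart (g : GL (Fin n) F) : Matrix (Fin n) (Fin n) F := (g : Matrix (Fin n) (Fin n) F) - 1

theorem pow_char_pow_nilPart (g : GL (Fin n) F) (k : ℕ) :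
    (nilPart g) ^ (p ^ k) = ((g ^ (p ^ k) : GL (Fin n) F) : Matrix (Fin n) (Fin n) F) - 1 := by
  rcases Nat.eq_zero_or_pos n with rfl | hn
  · exact Subsingleton.elim _ _
  · haveI : Nonempty (Fin n) := ⟨⟨0, hn⟩⟩
    unfold nilPart
    rw [sub_pow_char_pow_of_commute p k (Commute.one_right _), one_pow, Units.val_pow_eq_pow_val]

theorem ppow_order_iff (g : GL (Fin n) F) :
    (∃ k : ℕ, orderOf g = p ^ k) ↔ ∃ m : ℕ, (nilPart g) ^ m = 0 := by
  have hp : p.Prime := Fact.out
  constructor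
  · rintro ⟨k, hk⟩
    refine ⟨p ^ k, ?_⟩
    rw [pow_char_pow_nilPart, ← hk, pow_orderOf_eq_one, Units.val_one, sub_self]
  · rintro ⟨m, hm⟩
    have hle : m ≤ p ^ m := (Nat.lt_pow_self hp.one_lt).le
    have h1 : (nilPart g) ^ (p ^ m) = 0 := by
      rw [← Nat.sub_add_cancel hle, pow_add, hm, mul_zero]
    rw [pow_char_pow_nilPart, sub_eq_zero] at h1
    have h2 : g ^ (p ^ m) = 1 := Units.ext h1
    exact (Nat.dvd_prime_pow hp).1 (orderOf_dvd_of_pow_eq_one h2) |>.imp fun j hj => hj.2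

end unip

end Cfsg.Agent.Lib.Helper5.Nil

namespace Cfsg.Agent.Lib.Helper5.Nil

open Polynomial Module

section jtype

variable {F : Type*} [Field F] {n : ℕ}

theorem isConj_iff_nilPart (g g' : GL (Fin n) F) :
    IsConj g g' ↔ ∃ G : GL (Fin n) F,
      (G : Matrix (Fin n) (Fin n) F) * nilPart g = nilPart g' * (G : Matrix (Fin n) (Fin n) F) := by
  rw [isConj_iff]
  constructor
  · rintro ⟨c, hc⟩
    refine ⟨c, ?_⟩
    rw [mul_inv_eq_iff_eq_mul] at hc
    have h := congrArg (fun y : GL (Fin n) F => (y : Matrix (Fin n) (Fin n) F)) hc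
    simp only [Units.val_mul] at h
    unfold nilPart
    rw [mul_sub, sub_mul, h, mul_one, one_mul]
  · rintro ⟨G, hG⟩
    refine ⟨G, ?_⟩
    rw [mul_inv_eq_iff_eq_mul]
    apply Units.ext
    unfold nilPart at hG
    rw [mul_sub, sub_mul, mul_one, one_mul, sub_left_inj] at hG
    exact hG

theorem exists_gl_nilPart (N : Matrix (Fin n) (Fin n) F) (hN : ∃ m, N ^ m = 0) :
    ∃ g : GL (Fin n) F, nilPart g = N := by
  have hnil : IsNilpotent N := hN
  have hu : IsUnit (1 + N) := hnil.isUnit_one_add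
  refine ⟨hu.unit, ?_⟩
  unfold nilPart
  rw [IsUnit.unit_spec]
  abel

open Classical in
/-- the Jordan type of a unipotent element -/
noncomputable def jtype (g : GL (Fin n) F) : Multiset ℕ :=
  if h : ∃ s, HasType (nilPart g) s then Classical.choose h else 0

theorem jtype_spec (g : GL (Fin n) F) (hg : ∃ m, (nilPart g) ^ m = 0) :
    HasType (nilPart g) (jtype g) := by
  have h := exists_hasType (nilPart g) hg
  unfold jtype
  rw [dif_pos h]
  exact Classical.choose_spec h

theorem nilpotent_of_conj (g g' : GL (Fin n) F) (hg : ∃ m, (nilPart g) ^ m = 0)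
    (h : IsConj g g') : ∃ m, (nilPart g') ^ m = 0 := by
  obtain ⟨m, hm⟩ := hg
  obtain ⟨G, hG⟩ := (isConj_iff_nilPart g g').1 h
  refine ⟨m, ?_⟩
  have hpow : ∀ j : ℕ, (G : Matrix (Fin n) (Fin n) F) * (nilPart g) ^ j =
      (nilPart g') ^ j * (G : Matrix (Fin n) (Fin n) F) := by
    intro j
    induction j with
    | zero => simp
    | succ j ih => rw [pow_succ, ← mul_assoc, ih, mul_assoc, hG, ← mul_assoc, ← pow_succ]
  have h1 := hpow m
  rw [hm, mul_zero] at h1
  have h2 : (nilPart g') ^ m * (G : Matrix (Fin n) (Fin n) F) *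
      ((G⁻¹ : GL (Fin n) F) : Matrix (Fin n) (Fin n) F) = 0 := by rw [← h1, zero_mul]
  rwa [mul_assoc, ← Units.val_mul, mul_inv_cancel, Units.val_one, mul_one] at h2

theorem jtype_conj [Finite F] (g g' : GL (Fin n) F) (hg : ∃ m, (nilPart g) ^ m = 0)
    (h : IsConj g g') : jtype g = jtype g' := by
  have hg' := nilpotent_of_conj g g' hg h
  obtain ⟨G, hG⟩ := (isConj_iff_nilPart g g').1 h
  exact ((jtype_spec g hg).of_conj G hG).unique (jtype_spec g' hg')

theorem conj_of_jtype (g g' : GL (Fin n) F) (hg : ∃ m, (nilPart g) ^ m = 0)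
    (hg' : ∃ m, (nilPart g') ^ m = 0) (h : jtype g = jtype g') : IsConj g g' := by
  rw [isConj_iff_nilPart]
  have h1 := jtype_spec g hg
  have h2 := jtype_spec g' hg'
  rw [← h] at h2
  exact h1.conj_of_eq h2

theorem exists_jtype [Finite F] (s : Multiset ℕ) (hpos : ∀ a ∈ s, 0 < a) (hsum : s.sum = n) :
    ∃ g : GL (Fin n) F, (∃ m, (nilPart g) ^ m = 0) ∧ jtype g = s := by
  obtain ⟨N, hN⟩ := exists_of_type (F := F) s hpos hsum
  have hnil : ∃ m, N ^ m = 0 := by
    refine ⟨n, (hN.pow_eq_zero_iff n).2 ?_⟩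
    intro a ha
    rw [← hsum]
    exact Multiset.le_sum_of_mem ha
  obtain ⟨g, rfl⟩ := exists_gl_nilPart N hnil
  exact ⟨g, hnil, (jtype_spec g hnil).unique hN⟩

end jtype

end Cfsg.Agent.Lib.Helper5.Nil
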