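import Mathlib
import Cfsg.Agent.Lib.Helper5.NilI

set_option autoImplicit false
set_option linter.style.haveILetI false
set_option linter.unusedSectionVars false

namespace Cfsg.Agent.Lib.Helper5.Nil

open Polynomial Module

section count

variable {F : Type*} [Field F] [Fintype F] (p : ℕ) [Fact p.Prime] [CharP F p] (n : ℕ)

theorem card_unipotent_classes :
    Nat.card {C : ConjClasses (GL (Fin n) F) //
      ∃ g : GL (Fin n) F, (∃ k : ℕ, orderOf g = p ^ k) ∧ ConjClasses.mk g = C} =
      Fintype.card (Nat.Partition n) := by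
  rw [← Nat.card_eq_fintype_card]
  apply Nat.card_congr
  have hnil : ∀ (C : {C : ConjClasses (GL (Fin n) F) //
      ∃ g : GL (Fin n) F, (∃ k : ℕ, orderOf g = p ^ k) ∧ ConjClasses.mk g = C}),
      ∃ m, (nilPart (Classical.choose C.2)) ^ m = 0 := fun C =>
    (ppow_order_iff p _).1 (Classical.choose_spec C.2).1
  refine Equiv.ofBijective (fun C => ⟨jtype (Classical.choose C.2),
    fun {i} hi => (jtype_spec _ (hnil C)).pos i hi, (jtype_spec _ (hnil C)).sum⟩) ⟨?_, ?_⟩
  · intro C C' h
    have h1 : jtype (Classical.choose C.2) = jtype (Classical.choose C'.2) :=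
      congrArg Nat.Partition.parts h
    have h2 := conj_of_jtype _ _ (hnil C) (hnil C') h1
    apply Subtype.ext
    rw [← (Classical.choose_spec C.2).2, ← (Classical.choose_spec C'.2).2,
      ConjClasses.mk_eq_mk_iff_isConj]
    exact h2
  · intro lam
    obtain ⟨g, hg, hgt⟩ := exists_jtype (F := F) lam.parts (fun a ha => lam.parts_pos ha)
      lam.parts_sum
    have hex : ∃ g' : GL (Fin n) F, (∃ k : ℕ, orderOf g' = p ^ k) ∧
        ConjClasses.mk g' = ConjClasses.mk g := ⟨g, (ppow_order_iff p g).2 hg, rfl⟩
    refine ⟨⟨ConjClasses.mk g, hex⟩, ?_⟩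
    apply Nat.Partition.ext
    show jtype (Classical.choose hex) = lam.parts
    rw [← hgt]
    have hc : IsConj (Classical.choose hex) g := by
      rw [← ConjClasses.mk_eq_mk_iff_isConj]
      exact (Classical.choose_spec hex).2
    exact jtype_conj _ _ ((ppow_order_iff p _).1 (Classical.choose_spec hex).1) hc

end count

end Cfsg.Agent.Lib.Helper5.Nil
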