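import Mathlib
import Cfsg.Agent.Lib.Helper5.NilJ

set_option autoImplicit false
set_option linter.style.haveILetI false
set_option linter.unusedSectionVars false

namespace Cfsg.Agent.Lib.Helper5.Nil

open Polynomial Module

section orderp

variable {F : Type*} [Field F] [Fintype F] (p : ℕ) [Fact p.Prime] [CharP F p] (n : ℕ)

theorem orderOf_eq_p_iff (g : GL (Fin n) F) :
    orderOf g = p ↔ (nilPart g) ^ p = 0 ∧ ¬ (nilPart g) ^ 1 = 0 := by
  have hp : p.Prime := Fact.out
  rw [orderOf_eq_prime_iff]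
  have h1 := pow_char_pow_nilPart p g 1
  rw [pow_one] at h1
  rw [h1, sub_eq_zero, pow_one]
  unfold nilPart
  rw [sub_eq_zero]
  constructor
  · rintro ⟨h, h'⟩
    exact ⟨by rw [h]; rfl, fun h2 => h' (Units.ext h2)⟩
  · rintro ⟨h, h'⟩
    exact ⟨Units.ext h, fun h2 => h' (by rw [h2]; rfl)⟩

/-- the all-ones partition -/
def onesPartition : Nat.Partition n where
  parts := Multiset.replicate n 1
  parts_pos := fun {i} hi => by rw [Multiset.eq_of_mem_replicate hi]; exact Nat.one_pos
  parts_sum := by simp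

theorem all_le_one_iff (lam : Nat.Partition n) :
    (∀ a ∈ lam.parts, a ≤ 1) ↔ lam = onesPartition n := by
  constructor
  · intro h
    apply Nat.Partition.ext
    show lam.parts = Multiset.replicate n 1
    have h1 : ∀ a ∈ lam.parts, a = 1 := fun a ha => le_antisymm (h a ha) (lam.parts_pos ha)
    have h2 := Multiset.eq_replicate_card.2 h1
    have h3 : Multiset.card lam.parts = n := by
      have := lam.parts_sum
      rw [h2, Multiset.sum_replicate, smul_eq_mul, mul_one] at this
      exact this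
    rw [h2, h3]
  · rintro rfl a ha
    rw [Multiset.eq_of_mem_replicate ha]

end orderp

end Cfsg.Agent.Lib.Helper5.Nil

namespace Cfsg.Agent.Lib.Helper5.Nil

open Polynomial Module

section countp

variable {F : Type*} [Field F] [Fintype F] (p : ℕ) [Fact p.Prime] [CharP F p] (n : ℕ)

theorem card_order_p_classes_aux :
    Nat.card {C : ConjClasses (GL (Fin n) F) //
      ∃ g : GL (Fin n) F, ConjClasses.mk g = C ∧ orderOf g = p} =
      Nat.card {lam : Nat.Partition n // (∀ a ∈ lam.parts, a ≤ p) ∧ ¬ (∀ a ∈ lam.parts, a ≤ 1)} := by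
  apply Nat.card_congr
  have hord : ∀ (C : {C : ConjClasses (GL (Fin n) F) //
      ∃ g : GL (Fin n) F, ConjClasses.mk g = C ∧ orderOf g = p}),
      (nilPart (Classical.choose C.2)) ^ p = 0 ∧ ¬ (nilPart (Classical.choose C.2)) ^ 1 = 0 :=
    fun C => (orderOf_eq_p_iff p n _).1 (Classical.choose_spec C.2).2
  have hnil : ∀ (C : {C : ConjClasses (GL (Fin n) F) //
      ∃ g : GL (Fin n) F, ConjClasses.mk g = C ∧ orderOf g = p}),
      ∃ m, (nilPart (Classical.choose C.2)) ^ m = 0 := fun C => ⟨p, (hord C).1⟩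
  refine Equiv.ofBijective (fun C => ⟨⟨jtype (Classical.choose C.2),
    fun {i} hi => (jtype_spec _ (hnil C)).pos i hi, (jtype_spec _ (hnil C)).sum⟩,
    ((jtype_spec _ (hnil C)).pow_eq_zero_iff p).1 (hord C).1,
    fun h => (hord C).2 (((jtype_spec _ (hnil C)).pow_eq_zero_iff 1).2 h)⟩) ⟨?_, ?_⟩
  · intro C C' h
    have h1 : jtype (Classical.choose C.2) = jtype (Classical.choose C'.2) :=
      congrArg (fun x => x.1.parts) h
    have h2 := conj_of_jtype _ _ (hnil C) (hnil C') h1
    apply Subtype.ext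
    rw [← (Classical.choose_spec C.2).1, ← (Classical.choose_spec C'.2).1,
      ConjClasses.mk_eq_mk_iff_isConj]
    exact h2
  · rintro ⟨lam, hlp, hl1⟩
    obtain ⟨g, hg, hgt⟩ := exists_jtype (F := F) lam.parts (fun a ha => lam.parts_pos ha)
      lam.parts_sum
    have hspec := jtype_spec g hg
    rw [hgt] at hspec
    have hgp : orderOf g = p := by
      rw [orderOf_eq_p_iff]
      exact ⟨(hspec.pow_eq_zero_iff p).2 hlp, fun h => hl1 ((hspec.pow_eq_zero_iff 1).1 h)⟩
    have hex : ∃ g' : GL (Fin n) F, ConjClasses.mk g' = ConjClasses.mk g ∧ orderOf g' = p :=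
      ⟨g, rfl, hgp⟩
    refine ⟨⟨ConjClasses.mk g, hex⟩, ?_⟩
    apply Subtype.ext
    apply Nat.Partition.ext
    show jtype (Classical.choose hex) = lam.parts
    rw [← hgt]
    have hc : IsConj (Classical.choose hex) g := by
      rw [← ConjClasses.mk_eq_mk_iff_isConj]
      exact (Classical.choose_spec hex).1
    have hn' : ∃ m, (nilPart (Classical.choose hex)) ^ m = 0 :=
      ⟨p, ((orderOf_eq_p_iff p n _).1 (Classical.choose_spec hex).2).1⟩
    exact jtype_conj _ _ hn' hc

theorem card_order_p_classes :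
    Nat.card {C : ConjClasses (GL (Fin n) F) //
      ∃ g : GL (Fin n) F, ConjClasses.mk g = C ∧ orderOf g = p} =
      (Finset.univ.filter (fun μ : Nat.Partition n => ∀ a ∈ μ.parts, a ≤ p)).card - 1 := by
  classical
  have hp : p.Prime := Fact.out
  rw [card_order_p_classes_aux, Nat.card_eq_fintype_card, Fintype.card_subtype]
  have h1 : (Finset.univ.filter (fun lam : Nat.Partition n =>
      (∀ a ∈ lam.parts, a ≤ p) ∧ ¬ (∀ a ∈ lam.parts, a ≤ 1))) =
      (Finset.univ.filter (fun μ : Nat.Partition n => ∀ a ∈ μ.parts, a ≤ p)) \ {onesPartition n} := by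
    ext lam
    simp only [Finset.mem_filter, Finset.mem_univ, true_and, Finset.mem_sdiff,
      Finset.mem_singleton, all_le_one_iff]
  rw [h1, Finset.card_sdiff_of_subset, Finset.card_singleton]
  intro lam hl
  rw [Finset.mem_singleton] at hl
  rw [hl, Finset.mem_filter]
  refine ⟨Finset.mem_univ _, ?_⟩
  intro a ha
  have : a = 1 := Multiset.eq_of_mem_replicate ha
  rw [this]
  exact hp.one_lt.le

end countp

end Cfsg.Agent.Lib.Helper5.Nil
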