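import Mathlib

set_option autoImplicit false
set_option linter.style.haveILetI false
set_option linter.unusedSectionVars false

namespace Cfsg.Agent.Lib.Helper5.RegNil

open Module

section linalg

variable {F V : Type*} [Field F] [AddCommGroup V] [Module F V] [FiniteDimensional F V]

theorem finrank_ker_pow_le (y : Module.End F V) (j : ℕ) :
    finrank F (LinearMap.ker (y ^ j)) ≤ j * finrank F (LinearMap.ker y) := by
  induction j with
  | zero =>
    rw [pow_zero, Module.End.one_eq_id, LinearMap.ker_id, finrank_bot]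
    omega
  | succ j ih =>
    set K := LinearMap.ker (y ^ (j + 1)) with hK
    let φ : K →ₗ[F] V := (y ^ j).domRestrict K
    have h1 := φ.finrank_range_add_finrank_ker
    have h2 : LinearMap.range φ ≤ LinearMap.ker y := by
      rintro _ ⟨x, rfl⟩
      rw [LinearMap.mem_ker]
      show y ((y ^ j) x.1) = 0
      have h' : x.1 ∈ LinearMap.ker (y ^ (j + 1)) := x.2
      rw [LinearMap.mem_ker, pow_succ', Module.End.mul_apply] at h'
      exact h'
    have h3 : (LinearMap.ker φ).map K.subtype ≤ LinearMap.ker (y ^ j) := by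
      rintro _ ⟨x, hx, rfl⟩
      rw [SetLike.mem_coe, LinearMap.mem_ker] at hx
      rw [LinearMap.mem_ker]
      exact hx
    have h4 := Submodule.finrank_mono h2
    have h5 := Submodule.finrank_mono h3
    rw [Submodule.finrank_map_subtype_eq] at h5
    rw [add_mul, one_mul]
    omega

theorem pow_pred_ne_zero (y : Module.End F V) {n : ℕ} (hn : 0 < n) (hV : finrank F V = n)
    (hk : finrank F (LinearMap.ker y) = 1) : y ^ (n - 1) ≠ 0 := by
  intro h
  have h1 := finrank_ker_pow_le y (n - 1)
  rw [h, LinearMap.ker_zero, finrank_top, hV, hk] at h1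
  omega

theorem linearIndependent_pow_apply (y : Module.End F V) {n : ℕ} (hn : 0 < n) (hy : y ^ n = 0)
    (v : V) (hv : (y ^ (n - 1)) v ≠ 0) :
    LinearIndependent F (fun i : Fin n => (y ^ (i : ℕ)) v) := by
  rw [Fintype.linearIndependent_iff]
  intro c hc
  have key : ∀ j : ℕ, ∀ hj : j < n, c ⟨j, hj⟩ = 0 := by
    intro j
    induction j using Nat.strong_induction_on with
    | _ j ih =>
      intro hj
      have h1 := congrArg (y ^ (n - 1 - j)) hc
      rw [map_sum, map_zero] at h1
      rw [Finset.sum_eq_single ⟨j, hj⟩] at h1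
      · rw [map_smul, ← Module.End.mul_apply, ← pow_add, show n - 1 - j + j = n - 1 by omega] at h1
        exact (smul_eq_zero.mp h1).resolve_right hv
      · intro i _ hij
        rw [map_smul, ← Module.End.mul_apply, ← pow_add]
        rcases lt_or_gt_of_ne (fun h => hij (Fin.ext h) : (i : ℕ) ≠ j) with h | h
        · have := ih i h i.2
          rw [this, zero_smul]
        · have : y ^ (n - 1 - j + (i : ℕ)) = 0 := by
            rw [show n - 1 - j + (i : ℕ) = n + ((i : ℕ) - j - 1) by omega, pow_add, hy, zero_mul]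
          rw [this, LinearMap.zero_apply, smul_zero]
      · intro h
        exact absurd (Finset.mem_univ _) h
  intro i
  exact key i i.2

theorem commutant_repr (y : Module.End F V) {n : ℕ} (hn : 0 < n) (hV : finrank F V = n)
    (hy : y ^ n = 0) (hk : finrank F (LinearMap.ker y) = 1) :
    ∃ v : V, (y ^ (n - 1)) v ≠ 0 ∧ LinearIndependent F (fun i : Fin n => (y ^ (i : ℕ)) v) ∧
      ∀ g : Module.End F V, g * y = y * g → ∃ a : Fin n → F, g = ∑ i, a i • y ^ (i : ℕ) := by
  have hne := pow_pred_ne_zero y hn hV hk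
  obtain ⟨v, hv⟩ : ∃ v, (y ^ (n - 1)) v ≠ 0 := by
    by_contra hcon
    push Not at hcon
    exact hne (LinearMap.ext hcon)
  have hli := linearIndependent_pow_apply y hn hy v hv
  refine ⟨v, hv, hli, ?_⟩
  haveI : Nonempty (Fin n) := ⟨⟨0, hn⟩⟩
  let b := basisOfLinearIndependentOfCardEqFinrank hli (by rw [Fintype.card_fin, hV])
  have hb : ∀ j, b j = (y ^ (j : ℕ)) v := fun j => by
    show (basisOfLinearIndependentOfCardEqFinrank hli _) j = _
    rw [coe_basisOfLinearIndependentOfCardEqFinrank]
  intro g hg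
  refine ⟨b.equivFun (g v), ?_⟩
  apply b.ext
  intro j
  have hsum := b.sum_equivFun (g v)
  have hcomm : g * y ^ (j : ℕ) = y ^ (j : ℕ) * g := (Commute.pow_right hg (j : ℕ))
  rw [hb, ← Module.End.mul_apply, hcomm, Module.End.mul_apply, ← hsum, map_sum,
    LinearMap.sum_apply]
  apply Finset.sum_congr rfl
  intro i _
  rw [map_smul, LinearMap.smul_apply, hb, ← Module.End.mul_apply, ← Module.End.mul_apply,
    ← pow_add, ← pow_add, add_comm, hsum]

theorem matrix_regular {ι : Type*} [Fintype ι] [DecidableEq ι] (Y : Matrix ι ι F) {n : ℕ}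
    (hn : 0 < n) (hcard : Fintype.card ι = n) (hY : Y ^ n = 0) (hr : Y.rank = n - 1) :
    (∃ w : ι → F, w ≠ 0 ∧ Y.mulVec w = 0) ∧
    (∀ a : Fin n → F, ∑ i, a i • Y ^ (i : ℕ) = 0 → a = 0) ∧
    (∀ g : Matrix ι ι F, g * Y = Y * g → ∃ a : Fin n → F, g = ∑ i, a i • Y ^ (i : ℕ)) := by
  let φ := Matrix.toLinAlgEquiv' (R := F) (n := ι)
  set y : Module.End F (ι → F) := φ Y with hy
  have hyn : y ^ n = 0 := by rw [hy, ← map_pow, hY, map_zero]
  have hV : finrank F (ι → F) = n := by rw [Module.finrank_fintype_fun_eq_card, hcard]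
  have hk : finrank F (LinearMap.ker y) = 1 := by
    have h1 := y.finrank_range_add_finrank_ker
    have h2 : finrank F (LinearMap.range y) = n - 1 := by
      rw [← hr]
      rfl
    rw [hV, h2] at h1
    omega
  obtain ⟨v, hv, hli, hrep⟩ := commutant_repr y hn hV hyn hk
  refine ⟨⟨(y ^ (n - 1)) v, hv, ?_⟩, ?_, ?_⟩
  · show y ((y ^ (n - 1)) v) = 0
    rw [← Module.End.mul_apply, ← pow_succ', show n - 1 + 1 = n by omega, hyn]
    rfl
  · intro a ha
    have h1 := congrArg φ ha
    rw [map_sum, map_zero] at h1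
    have h2 := congrArg (fun f : Module.End F (ι → F) => f v) h1
    simp only [LinearMap.sum_apply, LinearMap.zero_apply] at h2
    rw [Fintype.linearIndependent_iff] at hli
    funext i
    apply hli a
    rw [← h2]
    apply Finset.sum_congr rfl
    intro i _
    rw [map_smul, map_pow, LinearMap.smul_apply]
  · intro g hg
    have h1 : φ g * y = y * φ g := by rw [hy, ← map_mul, ← map_mul, hg]
    obtain ⟨a, ha⟩ := hrep (φ g) h1
    refine ⟨a, ?_⟩
    apply φ.injective
    rw [ha, map_sum]
    apply Finset.sum_congr rfl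
    intro i _
    rw [map_smul, map_pow]

end linalg

end Cfsg.Agent.Lib.Helper5.RegNil
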