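import Mathlib

set_option autoImplicit false
set_option linter.style.haveILetI false
set_option linter.unusedSectionVars false

namespace Cfsg.Agent.Lib.Helper5.RegNil

section cayley

variable {C : Type*} [CommRing C] {F : Type*} [Field F]

theorem mul_inverse_eq_iff {a b u : C} (hu : IsUnit u) : a * Ring.inverse u = b ↔ a = b * u :=
  ⟨fun h => by rw [← h, mul_assoc, Ring.inverse_mul_cancel u hu, mul_one],
   fun h => by rw [h, mul_assoc, Ring.mul_inverse_cancel u hu, mul_one]⟩

variable (h2 : (2 : F) ≠ 0) (τ : C ≃+* C) (ρ : C →+* F) (hρτ : ∀ x, ρ (τ x) = ρ x)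
  (hL : ∀ x, ρ x ≠ 0 → IsUnit x)

include h2 hρτ in
theorem rho_minus (o : C) (ho : τ o = -o) : ρ o = 0 := by
  have h1 := hρτ o
  rw [ho, map_neg] at h1
  have h3 : (2 : F) * ρ o = 0 := by linear_combination -h1
  exact (mul_eq_zero.mp h3).resolve_left h2

include h2 hρτ hL in
/-- the Cayley transform -/
noncomputable def cayleyEquiv :
    {g : C // g * τ g = 1 ∧ ρ g = 1} ≃ {o : C // τ o = -o} where
  toFun g := ⟨(g.1 - 1) * Ring.inverse (g.1 + 1), by
    have hu : IsUnit (g.1 + 1) := hL _ (by
      rw [map_add, map_one, g.2.2]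
      intro h
      apply h2
      linear_combination h)
    set o := (g.1 - 1) * Ring.inverse (g.1 + 1) with ho
    have h1 : o * (g.1 + 1) = g.1 - 1 := by
      rw [ho, mul_assoc, Ring.inverse_mul_cancel _ hu, mul_one]
    have h3 := congrArg τ h1
    rw [map_mul, map_add, map_one, map_sub, map_one] at h3
    have hT := g.2.1
    have h4 : (τ o + o) * (g.1 + 1) = 0 := by
      linear_combination g.1 * h3 + h1 + (1 - τ o) * hT
    have h5 := (hu.mul_left_eq_zero).mp h4
    linear_combination h5⟩
  invFun o := ⟨(1 + o.1) * Ring.inverse (1 - o.1), by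
    have hρo := rho_minus h2 τ ρ hρτ o.1 o.2
    have hu1 : IsUnit (1 - o.1) := hL _ (by rw [map_sub, map_one, hρo, sub_zero]; exact one_ne_zero)
    have hu2 : IsUnit (1 + o.1) := hL _ (by rw [map_add, map_one, hρo, add_zero]; exact one_ne_zero)
    set g := (1 + o.1) * Ring.inverse (1 - o.1) with hg
    have h1 : g * (1 - o.1) = 1 + o.1 := by
      rw [hg, mul_assoc, Ring.inverse_mul_cancel _ hu1, mul_one]
    have h3 := congrArg τ h1
    rw [map_mul, map_sub, map_one, map_add, map_one, o.2] at h3
    have h4 : (g * τ g - 1) * ((1 - o.1) * (1 + o.1)) = 0 := by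
      linear_combination (τ g * (1 + o.1)) * h1 + (1 + o.1) * h3
    have h5 := ((hu1.mul hu2).mul_left_eq_zero).mp h4
    refine ⟨by linear_combination h5, ?_⟩
    have h6 := congrArg ρ h1
    rw [map_mul, map_sub, map_one, map_add, map_one, hρo] at h6
    linear_combination h6⟩
  left_inv g := by
    apply Subtype.ext
    have hu : IsUnit (g.1 + 1) := hL _ (by
      rw [map_add, map_one, g.2.2]
      intro h
      apply h2
      linear_combination h)
    simp only
    set o := (g.1 - 1) * Ring.inverse (g.1 + 1) with ho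
    have h1 : o * (g.1 + 1) = g.1 - 1 := by
      rw [ho, mul_assoc, Ring.inverse_mul_cancel _ hu, mul_one]
    clear_value o
    have hτo : τ o = -o := by
      have h3 := congrArg τ h1
      rw [map_mul, map_add, map_one, map_sub, map_one] at h3
      have hT := g.2.1
      have h4 : (τ o + o) * (g.1 + 1) = 0 := by
        linear_combination g.1 * h3 + h1 + (1 - τ o) * hT
      have h5 := (hu.mul_left_eq_zero).mp h4
      linear_combination h5
    have hρo := rho_minus h2 τ ρ hρτ o hτo
    have hu1 : IsUnit (1 - o) := hL _ (by rw [map_sub, map_one, hρo, sub_zero]; exact one_ne_zero)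
    rw [mul_inverse_eq_iff hu1]
    linear_combination h1
  right_inv o := by
    apply Subtype.ext
    have hρo := rho_minus h2 τ ρ hρτ o.1 o.2
    have hu1 : IsUnit (1 - o.1) := hL _ (by rw [map_sub, map_one, hρo, sub_zero]; exact one_ne_zero)
    simp only
    set g := (1 + o.1) * Ring.inverse (1 - o.1) with hg
    have h1 : g * (1 - o.1) = 1 + o.1 := by
      rw [hg, mul_assoc, Ring.inverse_mul_cancel _ hu1, mul_one]
    clear_value g
    have hρg : ρ g = 1 := by
      have h6 := congrArg ρ h1
      rw [map_mul, map_sub, map_one, map_add, map_one, hρo] at h6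
      linear_combination h6
    have hu : IsUnit (g + 1) := hL _ (by
      rw [map_add, map_one, hρg]
      intro h
      apply h2
      linear_combination h)
    rw [mul_inverse_eq_iff hu]
    linear_combination h1

end cayley

section count

variable {C : Type*} [CommRing C] [Finite C] {F : Type*} [Field F]

theorem card_norm_one (h2 : (2 : F) ≠ 0) (τ : C ≃+* C) (ρ : C →+* F)
    (hρτ : ∀ x, ρ (τ x) = ρ x) (hL : ∀ x, ρ x ≠ 0 → IsUnit x) :
    Nat.card {g : C // g * τ g = 1} = 2 * Nat.card {o : C // τ o = -o} := by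
  classical
  have hsq : ∀ g : C, g * τ g = 1 → (ρ g = 1 ∨ ρ g = -1) := by
    intro g hg
    have h1 := congrArg ρ hg
    rw [map_mul, hρτ, map_one] at h1
    have h3 : (ρ g - 1) * (ρ g + 1) = 0 := by linear_combination h1
    rcases mul_eq_zero.mp h3 with h | h
    · left; linear_combination h
    · right; linear_combination h
  have hne : (1 : F) ≠ -1 := by
    intro h
    apply h2
    linear_combination h
  let e0 := (Equiv.sumCompl (fun g : {g : C // g * τ g = 1} => ρ g.1 = 1)).symm
  let e1 : {g : {g : C // g * τ g = 1} // ρ g.1 = 1} ≃ {g : C // g * τ g = 1 ∧ ρ g = 1} :=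
    Equiv.subtypeSubtypeEquivSubtypeInter (fun g : C => g * τ g = 1) (fun g => ρ g = 1)
  let e2 : {g : {g : C // g * τ g = 1} // ¬ ρ g.1 = 1} ≃ {g : C // g * τ g = 1 ∧ ρ g = 1} :=
    { toFun := fun g => ⟨-g.1.1, by
        refine ⟨?_, ?_⟩
        · rw [map_neg, neg_mul_neg]
          exact g.1.2
        · rw [map_neg]
          rcases hsq g.1.1 g.1.2 with h | h
          · exact absurd h g.2
          · rw [h, neg_neg]⟩
      invFun := fun g => ⟨⟨-g.1, by rw [map_neg, neg_mul_neg]; exact g.2.1⟩, by
        simp only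
        rw [map_neg, g.2.2]
        exact fun h => hne h.symm⟩
      left_inv := fun g => by
        apply Subtype.ext
        apply Subtype.ext
        simp only [neg_neg]
      right_inv := fun g => by
        apply Subtype.ext
        simp only [neg_neg] }
  rw [Nat.card_congr e0, Nat.card_sum, Nat.card_congr e1, Nat.card_congr e2,
    Nat.card_congr (cayleyEquiv h2 τ ρ hρτ hL)]
  ring

theorem card_norm_one' {C : Type*} [Ring C] [Finite C] {F : Type*} [Field F]
    (hcomm : ∀ a b : C, a * b = b * a) (h2 : (2 : F) ≠ 0) (τ : C ≃+* C) (ρ : C →+* F)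
    (hρτ : ∀ x, ρ (τ x) = ρ x) (hL : ∀ x, ρ x ≠ 0 → IsUnit x) :
    Nat.card {g : C // g * τ g = 1} = 2 * Nat.card {o : C // τ o = -o} := by
  letI : CommRing C := { (inferInstance : Ring C) with mul_comm := hcomm }
  exact card_norm_one h2 τ ρ hρτ hL

end count

end Cfsg.Agent.Lib.Helper5.RegNil
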