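import Mathlib
import Cfsg.Agent.Lib.Helper5.RegNilA

set_option autoImplicit false
set_option linter.style.haveILetI false
set_option linter.unusedSectionVars false

namespace Cfsg.Agent.Lib.Helper5.RegNil

section mlevel

variable {F : Type*} [Field F] {ι : Type*} [Fintype ι] [DecidableEq ι]
  (Y : Matrix ι ι F) {n : ℕ} (hn : 0 < n) (hYn : Y ^ n = 0)
  (w : ι → F) (hw : w ≠ 0) (hYw : Y.mulVec w = 0)
  (hind : ∀ a : Fin n → F, ∑ i, a i • Y ^ (i : ℕ) = 0 → a = 0)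
  (hrep : ∀ g : Matrix ι ι F, g * Y = Y * g → ∃ a : Fin n → F, g = ∑ i, a i • Y ^ (i : ℕ))

include hrep in
theorem comm_of_comm (g h : Matrix ι ι F) (hg : g * Y = Y * g) (hh : h * Y = Y * h) :
    g * h = h * g := by
  obtain ⟨a, rfl⟩ := hrep g hg
  rw [Finset.sum_mul, Finset.mul_sum]
  apply Finset.sum_congr rfl
  intro i _
  rw [smul_mul_assoc, mul_smul_comm]
  congr 1
  exact ((Commute.pow_right (show Commute h Y from hh) i).eq).symm

theorem poly_comm (a : Fin n → F) : (∑ i, a i • Y ^ (i : ℕ)) * Y = Y * ∑ i, a i • Y ^ (i : ℕ) := by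
  rw [Finset.sum_mul, Finset.mul_sum]
  apply Finset.sum_congr rfl
  intro i _
  rw [smul_mul_assoc, mul_smul_comm, ← pow_succ, ← pow_succ']

include hYw in
theorem pow_mulVec_w (i : ℕ) (hi : 0 < i) : (Y ^ i).mulVec w = 0 := by
  obtain ⟨k, rfl⟩ := Nat.exists_eq_succ_of_ne_zero hi.ne'
  rw [pow_succ, ← Matrix.mulVec_mulVec, hYw, Matrix.mulVec_zero]

include hYw in
theorem poly_mulVec_w (a : Fin n → F) :
    (∑ i, a i • Y ^ (i : ℕ)).mulVec w = a ⟨0, hn⟩ • w := by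
  rw [Matrix.sum_mulVec, Finset.sum_eq_single ⟨0, hn⟩]
  · rw [Matrix.smul_mulVec, pow_zero, Matrix.one_mulVec]
  · intro i _ hi
    rw [Matrix.smul_mulVec, pow_mulVec_w Y w hYw i
      (Nat.pos_of_ne_zero (fun h => hi (Fin.ext h))), smul_zero]
  · intro h
    exact absurd (Finset.mem_univ _) h

include hw in
theorem eigen_unique (c c' : F) (h : c • w = c' • w) : c = c' := by
  have h1 : (c - c') • w = 0 := by rw [sub_smul, h, sub_self]
  rcases smul_eq_zero.mp h1 with h2 | h2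
  · exact sub_eq_zero.mp h2
  · exact absurd h2 hw

include hn hYn hw hYw hrep in
theorem exists_inv_of_eigen (g : Matrix ι ι F) (hg : g * Y = Y * g) (c : F) (hc : c ≠ 0)
    (hgw : g.mulVec w = c • w) : ∃ s : Matrix ι ι F, s * Y = Y * s ∧ g * s = 1 ∧ s * g = 1 := by
  obtain ⟨a, ha⟩ := hrep g hg
  have ha0 : a ⟨0, hn⟩ = c := by
    apply eigen_unique w hw
    rw [← hgw, ha, poly_mulVec_w Y hn w hYw]
  obtain ⟨n', rfl⟩ := Nat.exists_eq_succ_of_ne_zero hn.ne'
  set s' : Matrix ι ι F := ∑ i : Fin n', a i.succ • Y ^ (i : ℕ) with hs'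
  have hg2 : g = algebraMap F (Matrix ι ι F) c + Y * s' := by
    rw [ha, Fin.sum_univ_succ, hs', Finset.mul_sum, Algebra.algebraMap_eq_smul_one]
    congr 1
    · rw [← ha0]
      simp
    · apply Finset.sum_congr rfl
      intro i _
      rw [mul_smul_comm, ← pow_succ']
      simp
  have hcomm : Commute Y s' := by
    rw [hs']
    apply Commute.sum_right
    intro i _
    exact (Commute.pow_right (Commute.refl Y) _).smul_right _
  have hnil : IsNilpotent (Y * s') := ⟨n' + 1, by rw [hcomm.mul_pow, hYn, zero_mul]⟩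
  have hu : IsUnit (algebraMap F (Matrix ι ι F) c) := (IsUnit.mk0 c hc).map _
  have hgu : IsUnit g := by
    rw [hg2]
    exact hnil.isUnit_add_left_of_commute hu (Algebra.commute_algebraMap_right c _)
  obtain ⟨U, hU⟩ := hgu
  refine ⟨((U⁻¹ : (Matrix ι ι F)ˣ) : Matrix ι ι F), ?_, ?_, ?_⟩
  · have h1 : (U : Matrix ι ι F) * Y = Y * (U : Matrix ι ι F) := by rw [hU]; exact hg
    calc ((U⁻¹ : (Matrix ι ι F)ˣ) : Matrix ι ι F) * Y
        = ((U⁻¹ : (Matrix ι ι F)ˣ) : Matrix ι ι F) * (Y * (U : Matrix ι ι F)) *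
            ((U⁻¹ : (Matrix ι ι F)ˣ) : Matrix ι ι F) := by
          rw [mul_assoc, mul_assoc, Units.mul_inv, mul_one]
      _ = Y * ((U⁻¹ : (Matrix ι ι F)ˣ) : Matrix ι ι F) := by
          rw [← h1, ← mul_assoc, Units.inv_mul, one_mul]
  · rw [← hU, Units.mul_inv]
  · rw [← hU, Units.inv_mul]

theorem sigma_pow (σ : Matrix ι ι F →ₗ[F] Matrix ι ι F)
    (hσmul : ∀ x y, σ (x * y) = σ y * σ x) (hσone : σ 1 = 1) (hσY : σ Y = -Y) (i : ℕ) :
    σ (Y ^ i) = (-1 : F) ^ i • Y ^ i := by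
  induction i with
  | zero => rw [pow_zero, pow_zero, hσone, one_smul]
  | succ i ih =>
    rw [pow_succ, hσmul, ih, hσY, neg_mul, mul_smul_comm, ← pow_succ', pow_succ (-1 : F),
      mul_neg, mul_one, neg_smul, pow_succ]

theorem sigma_poly (σ : Matrix ι ι F →ₗ[F] Matrix ι ι F)
    (hσmul : ∀ x y, σ (x * y) = σ y * σ x) (hσone : σ 1 = 1) (hσY : σ Y = -Y)
    (a : Fin n → F) :
    σ (∑ i, a i • Y ^ (i : ℕ)) = ∑ i : Fin n, ((-1 : F) ^ (i : ℕ) * a i) • Y ^ (i : ℕ) := by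
  rw [map_sum]
  apply Finset.sum_congr rfl
  intro i _
  rw [map_smul, sigma_pow Y σ hσmul hσone hσY, smul_smul, mul_comm]

end mlevel

end Cfsg.Agent.Lib.Helper5.RegNil
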