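import Mathlib
import Cfsg.Agent.Lib.Helper5.RegNilB
import Cfsg.Agent.Lib.Helper5.RegNilC

set_option autoImplicit false
set_option linter.style.haveILetI false
set_option linter.unusedSectionVars false

namespace Cfsg.Agent.Lib.Helper5.RegNil

variable {F : Type*} [Field F] {ι : Type*} [Fintype ι] [DecidableEq ι]

/-- data of a regular nilpotent matrix together with an anti-involution negating it -/
structure Reg (Y : Matrix ι ι F) (n : ℕ) (w : ι → F)
    (σ : Matrix ι ι F →ₗ[F] Matrix ι ι F) : Prop where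
  hn : 0 < n
  hYn : Y ^ n = 0
  hw : w ≠ 0
  hYw : Y.mulVec w = 0
  hind : ∀ a : Fin n → F, ∑ i, a i • Y ^ (i : ℕ) = 0 → a = 0
  hrep : ∀ g : Matrix ι ι F, g * Y = Y * g → ∃ a : Fin n → F, g = ∑ i, a i • Y ^ (i : ℕ)
  hσmul : ∀ x y, σ (x * y) = σ y * σ x
  hσone : σ 1 = 1
  hσσ : ∀ x, σ (σ x) = x
  hσY : σ Y = -Y

/-- the commutant -/
abbrev Cen (Y : Matrix ι ι F) : Subalgebra F (Matrix ι ι F) :=
  Subalgebra.centralizer F ({Y} : Set (Matrix ι ι F))

theorem mem_Cen (Y g : Matrix ι ι F) : g ∈ Cen Y ↔ g * Y = Y * g := by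
  rw [Subalgebra.mem_centralizer_iff]
  constructor
  · intro h
    exact (h Y rfl).symm
  · intro h y hy
    rw [Set.mem_singleton_iff] at hy
    rw [hy]
    exact h.symm

variable {Y : Matrix ι ι F} {n : ℕ} {w : ι → F} {σ : Matrix ι ι F →ₗ[F] Matrix ι ι F}

namespace Reg

variable (R : Reg Y n w σ)

include R

theorem sigma_mem (g : Matrix ι ι F) (hg : g * Y = Y * g) : σ g * Y = Y * σ g := by
  have h1 := congrArg σ hg
  rw [R.hσmul, R.hσmul, R.hσY, neg_mul, mul_neg, neg_inj] at h1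
  exact h1.symm

theorem comm (a b : Cen Y) : a * b = b * a :=
  Subtype.ext (comm_of_comm Y R.hrep a.1 b.1 ((mem_Cen Y _).1 a.2) ((mem_Cen Y _).1 b.2))

/-- the involution on the commutant -/
noncomputable def tau : Cen Y ≃+* Cen Y where
  toFun g := ⟨σ g.1, (mem_Cen Y _).2 (R.sigma_mem g.1 ((mem_Cen Y _).1 g.2))⟩
  invFun g := ⟨σ g.1, (mem_Cen Y _).2 (R.sigma_mem g.1 ((mem_Cen Y _).1 g.2))⟩
  left_inv g := Subtype.ext (R.hσσ g.1)
  right_inv g := Subtype.ext (R.hσσ g.1)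
  map_mul' g h := by
    apply Subtype.ext
    show σ (g.1 * h.1) = σ g.1 * σ h.1
    rw [R.hσmul]
    exact comm_of_comm Y R.hrep _ _ (R.sigma_mem h.1 ((mem_Cen Y _).1 h.2))
      (R.sigma_mem g.1 ((mem_Cen Y _).1 g.2))
  map_add' g h := Subtype.ext (map_add σ g.1 h.1)

theorem tau_val (g : Cen Y) : (R.tau g).1 = σ g.1 := rfl

theorem exists_eigen (g : Matrix ι ι F) (hg : g * Y = Y * g) : ∃ c : F, g.mulVec w = c • w := by
  obtain ⟨a, rfl⟩ := R.hrep g hg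
  exact ⟨a ⟨0, R.hn⟩, poly_mulVec_w Y R.hn w R.hYw a⟩

/-- the residue -/
noncomputable def rhoFun (g : Cen Y) : F :=
  Classical.choose (R.exists_eigen g.1 ((mem_Cen Y _).1 g.2))

theorem rhoFun_spec (g : Cen Y) : g.1.mulVec w = R.rhoFun g • w :=
  Classical.choose_spec (R.exists_eigen g.1 ((mem_Cen Y _).1 g.2))

theorem rhoFun_eq (g : Cen Y) (c : F) (h : g.1.mulVec w = c • w) : R.rhoFun g = c :=
  eigen_unique w R.hw _ _ (by rw [← R.rhoFun_spec, h])

/-- the residue as a ring homomorphism -/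
noncomputable def rho : Cen Y →+* F where
  toFun := R.rhoFun
  map_one' := R.rhoFun_eq 1 1 (by
    show (1 : Matrix ι ι F).mulVec w = _
    rw [Matrix.one_mulVec, one_smul])
  map_mul' g h := R.rhoFun_eq _ _ (by
    show (g.1 * h.1).mulVec w = _
    rw [← Matrix.mulVec_mulVec, R.rhoFun_spec h, Matrix.mulVec_smul, R.rhoFun_spec g, smul_smul,
      mul_comm])
  map_zero' := R.rhoFun_eq 0 0 (by
    show (0 : Matrix ι ι F).mulVec w = _
    rw [Matrix.zero_mulVec, zero_smul])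
  map_add' g h := R.rhoFun_eq _ _ (by
    show (g.1 + h.1).mulVec w = _
    rw [Matrix.add_mulVec, R.rhoFun_spec g, R.rhoFun_spec h, add_smul])

theorem rho_apply (g : Cen Y) : R.rho g = R.rhoFun g := rfl

theorem rho_tau (g : Cen Y) : R.rho (R.tau g) = R.rho g := by
  rw [rho_apply, rho_apply]
  obtain ⟨a, ha⟩ := R.hrep g.1 ((mem_Cen Y _).1 g.2)
  have h1 : R.rhoFun g = a ⟨0, R.hn⟩ := R.rhoFun_eq g _ (by
    rw [ha]
    exact poly_mulVec_w Y R.hn w R.hYw a)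
  rw [h1]
  apply R.rhoFun_eq
  rw [tau_val, ha, sigma_poly Y σ R.hσmul R.hσone R.hσY, poly_mulVec_w Y R.hn w R.hYw]
  simp

theorem isUnit_of_rho (g : Cen Y) (hg : R.rho g ≠ 0) : IsUnit g := by
  obtain ⟨s, hs1, hs2, hs3⟩ := exists_inv_of_eigen Y R.hn R.hYn w R.hw R.hYw R.hrep g.1
    ((mem_Cen Y _).1 g.2) (R.rho g) hg (R.rhoFun_spec g)
  exact ⟨⟨g, ⟨s, (mem_Cen Y _).2 hs1⟩, Subtype.ext hs2, Subtype.ext hs3⟩, rfl⟩

end Reg

end Cfsg.Agent.Lib.Helper5.RegNil
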