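import Mathlib
import Cfsg.Agent.Lib.Helper5.RegNilD

set_option autoImplicit false
set_option linter.style.haveILetI false
set_option linter.unusedSectionVars false

namespace Cfsg.Agent.Lib.Helper5.RegNil

variable {F : Type*} [Field F] {ι : Type*} [Fintype ι] [DecidableEq ι]

theorem card_even_vanish [Fintype F] (m : ℕ) :
    Nat.card {a : Fin (2 * m) → F // ∀ i : Fin (2 * m), Even i.val → a i = 0} =
      (Fintype.card F) ^ m := by
  have e : {a : Fin (2 * m) → F // ∀ i : Fin (2 * m), Even i.val → a i = 0} ≃ (Fin m → F) :=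
    { toFun := fun a j => a.1 ⟨2 * j.val + 1, by have := j.2; omega⟩
      invFun := fun c => ⟨fun i => if h : Even i.val then 0 else
        c ⟨i.val / 2, by have := i.2; omega⟩, fun i hi => dif_pos hi⟩
      left_inv := fun a => by
        apply Subtype.ext
        funext i
        simp only
        by_cases h : Even i.val
        · rw [dif_pos h, a.2 i h]
        · rw [dif_neg h]
          rw [Nat.not_even_iff_odd, Nat.odd_iff] at h
          have hi : (⟨2 * (i.val / 2) + 1, by have := i.2; omega⟩ : Fin (2 * m)) = i :=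
            Fin.ext (by simp only; omega)
          rw [hi]
      right_inv := fun c => by
        funext j
        simp only
        rw [dif_neg (by rw [Nat.not_even_iff_odd]; exact ⟨j.val, rfl⟩)]
        have hj : (⟨(2 * j.val + 1) / 2, by have := j.2; omega⟩ : Fin m) = j :=
          Fin.ext (by simp only; omega)
        rw [hj] }
  rw [Nat.card_congr e, Nat.card_fun]
  simp only [Nat.card_eq_fintype_card, Fintype.card_fin]

variable {Y : Matrix ι ι F} {n : ℕ} {w : ι → F} {σ : Matrix ι ι F →ₗ[F] Matrix ι ι F}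

/-- polynomial element of the commutant -/
def polyCen (Y : Matrix ι ι F) {n : ℕ} (a : Fin n → F) : Cen Y :=
  ⟨∑ i, a i • Y ^ (i : ℕ), (mem_Cen Y _).2 (poly_comm Y a)⟩

namespace Reg

variable (R : Reg Y n w σ)

include R

theorem tau_polyCen_of_odd (a : Fin n → F) (ha : ∀ i : Fin n, Even i.val → a i = 0) :
    R.tau (polyCen Y a) = -polyCen Y a := by
  apply Subtype.ext
  show σ (∑ i, a i • Y ^ (i : ℕ)) = -∑ i, a i • Y ^ (i : ℕ)
  rw [sigma_poly Y σ R.hσmul R.hσone R.hσY, ← Finset.sum_neg_distrib]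
  apply Finset.sum_congr rfl
  intro i _
  rcases Nat.even_or_odd i.val with h | h
  · rw [ha i h, mul_zero, zero_smul, neg_zero]
  · rw [h.neg_one_pow, neg_one_mul, neg_smul]

/-- the minus eigenspace in coordinates -/
noncomputable def minusEquiv (h2 : (2 : F) ≠ 0) :
    {a : Fin n → F // ∀ i : Fin n, Even i.val → a i = 0} ≃ {o : Cen Y // R.tau o = -o} :=
  Equiv.ofBijective (fun a => ⟨polyCen Y a.1, R.tau_polyCen_of_odd a.1 a.2⟩) (by
    constructor
    · intro a a' h
      apply Subtype.ext
      have h1 : (∑ i, a.1 i • Y ^ (i : ℕ)) = ∑ i, a'.1 i • Y ^ (i : ℕ) :=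
        congrArg (fun o : {o : Cen Y // R.tau o = -o} => (o.1.1 : Matrix ι ι F)) h
      have h3 : ∑ i, (a.1 - a'.1) i • Y ^ (i : ℕ) = 0 := by
        simp only [Pi.sub_apply, sub_smul, Finset.sum_sub_distrib]
        rw [h1, sub_self]
      exact sub_eq_zero.mp (R.hind _ h3)
    · intro o
      obtain ⟨a, ha⟩ := R.hrep o.1.1 ((mem_Cen Y _).1 o.1.2)
      have ho : σ o.1.1 = -o.1.1 := congrArg Subtype.val o.2
      rw [ha, sigma_poly Y σ R.hσmul R.hσone R.hσY] at ho
      have h3 : ∑ i : Fin n, ((-1 : F) ^ (i : ℕ) * a i + a i) • Y ^ (i : ℕ) = 0 := by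
        simp only [add_smul, Finset.sum_add_distrib]
        rw [ho, neg_add_cancel]
      have h4 := R.hind _ h3
      have hev : ∀ i : Fin n, Even i.val → a i = 0 := by
        intro i hi
        have h5 := congrFun h4 i
        simp only [Pi.zero_apply] at h5
        rw [hi.neg_one_pow, one_mul] at h5
        have h6 : (2 : F) * a i = 0 := by linear_combination h5
        exact (mul_eq_zero.mp h6).resolve_left h2
      refine ⟨⟨a, hev⟩, ?_⟩
      apply Subtype.ext
      apply Subtype.ext
      exact ha.symm)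

end Reg

theorem card_unitary_commutant [Fintype F] {m : ℕ} (R : Reg Y (2 * m) w σ) (h2 : (2 : F) ≠ 0) :
    Nat.card {g : Matrix ι ι F // g * Y = Y * g ∧ g * σ g = 1} = 2 * (Fintype.card F) ^ m := by
  have e : {g : Cen Y // g * R.tau g = 1} ≃
      {g : Matrix ι ι F // g * Y = Y * g ∧ g * σ g = 1} :=
    { toFun := fun g => ⟨g.1.1, (mem_Cen Y _).1 g.1.2, congrArg Subtype.val g.2⟩
      invFun := fun g => ⟨⟨g.1, (mem_Cen Y _).2 g.2.1⟩, Subtype.ext g.2.2⟩
      left_inv := fun g => rfl
      right_inv := fun g => rfl }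
  rw [← Nat.card_congr e, card_norm_one' R.comm h2 R.tau R.rho R.rho_tau R.isUnit_of_rho,
    ← Nat.card_congr (R.minusEquiv h2), card_even_vanish]

end Cfsg.Agent.Lib.Helper5.RegNil
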