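import Mathlib
import Cfsg.Agent.Lib.Helper5.RegNilE

set_option autoImplicit false
set_option linter.style.haveILetI false
set_option linter.unusedSectionVars false

namespace Cfsg.Agent.Lib.Helper5.RegNil

open Matrix

section symp

variable {F : Type*} [Field F] {l : Type*} [Fintype l] [DecidableEq l]

/-- the symplectic adjoint -/
def sAdj : Matrix (l ⊕ l) (l ⊕ l) F →ₗ[F] Matrix (l ⊕ l) (l ⊕ l) F where
  toFun g := (-J l F) * gᵀ * J l F
  map_add' x y := by
    rw [Matrix.transpose_add, Matrix.mul_add, Matrix.add_mul]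
  map_smul' c x := by
    rw [Matrix.transpose_smul, Matrix.mul_smul, Matrix.smul_mul, RingHom.id_apply]

theorem sAdj_apply (g : Matrix (l ⊕ l) (l ⊕ l) F) : sAdj g = (-J l F) * gᵀ * J l F := rfl

theorem J_mul_negJ : J l F * (-J l F) = 1 := by
  rw [Matrix.mul_neg, J_squared, neg_neg]

theorem negJ_mul_J : (-J l F) * J l F = 1 := by
  rw [Matrix.neg_mul, J_squared, neg_neg]

theorem sAdj_mul (x y : Matrix (l ⊕ l) (l ⊕ l) F) : sAdj (x * y) = sAdj y * sAdj x := by
  rw [sAdj_apply, sAdj_apply, sAdj_apply, Matrix.transpose_mul]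
  symm
  calc (-J l F) * yᵀ * J l F * ((-J l F) * xᵀ * J l F)
      = (-J l F) * yᵀ * (J l F * (-J l F)) * xᵀ * J l F := by simp only [Matrix.mul_assoc]
    _ = (-J l F) * (yᵀ * xᵀ) * J l F := by
        rw [J_mul_negJ, Matrix.mul_one]
        simp only [Matrix.mul_assoc]

theorem sAdj_one : sAdj (1 : Matrix (l ⊕ l) (l ⊕ l) F) = 1 := by
  rw [sAdj_apply, Matrix.transpose_one, Matrix.mul_one, negJ_mul_J]

theorem sAdj_sAdj (x : Matrix (l ⊕ l) (l ⊕ l) F) : sAdj (sAdj x) = x := by
  rw [sAdj_apply, sAdj_apply, Matrix.transpose_mul, Matrix.transpose_mul, Matrix.transpose_transpose,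
    Matrix.transpose_neg, J_transpose, neg_neg]
  calc (-J l F) * ((-J l F) * (x * J l F)) * J l F
      = ((-J l F) * (-J l F)) * x * (J l F * J l F) := by simp only [Matrix.mul_assoc]
    _ = x := by
        rw [neg_mul_neg, J_squared]
        simp

theorem mem_symplectic_iff_sAdj (g : Matrix (l ⊕ l) (l ⊕ l) F) :
    g ∈ symplecticGroup l F ↔ g * sAdj g = 1 := by
  rw [SymplecticGroup.mem_iff, sAdj_apply]
  constructor
  · intro h
    calc g * ((-J l F) * gᵀ * J l F) = -(g * J l F * gᵀ) * J l F := by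
          simp only [Matrix.mul_assoc, Matrix.neg_mul, Matrix.mul_neg]
      _ = 1 := by rw [h, negJ_mul_J]
  · intro h
    have h1 : -(g * J l F * gᵀ) * J l F = 1 := by
      rw [← h]
      simp only [Matrix.mul_assoc, Matrix.neg_mul, Matrix.mul_neg]
    calc g * J l F * gᵀ = g * J l F * gᵀ * (J l F * (-J l F)) := by
          rw [J_mul_negJ, Matrix.mul_one]
      _ = -(-(g * J l F * gᵀ) * J l F) * (-J l F) := by
          simp only [Matrix.mul_assoc, Matrix.neg_mul, Matrix.mul_neg, neg_neg]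
      _ = J l F := by
          rw [h1]
          simp

end symp

end Cfsg.Agent.Lib.Helper5.RegNil
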