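import Cfsg.Agent.Lib.Helper5.Stem

set_option autoImplicit false
open scoped commutatorElement

/-! A group generated by `x`, `s` and a central subgroup `K`, in which `s` inverts `x` modulo `K`
(the shape of every central extension of a dihedral or generalized quaternion group). -/

namespace Cfsg.Agent.Lib.Helper5

variable {Γ : Type*} [Group Γ]

/-- `s` inverts `x` modulo the central subgroup `K`, and `x`, `s`, `K` generate. -/
structure InvData (K : Subgroup Γ) (x s : Γ) : Prop where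
  central : K ≤ Subgroup.center Γ
  gen : Subgroup.closure (({x, s} : Set Γ) ∪ (K : Set Γ)) = ⊤
  inv : s * x * s⁻¹ * x ∈ K

namespace InvData

variable {K : Subgroup Γ} {x s : Γ} (h : InvData K x s)
include h

theorem conj_comm_x : Commute (s * x * s⁻¹) x := by
  have hk := Subgroup.mem_center_iff.1 (h.central h.inv) x
  -- x * (u * x) = (u * x) * x
  have : x * (s * x * s⁻¹) = (s * x * s⁻¹) * x := by
    have h2 : x * (s * x * s⁻¹ * x) * x⁻¹ = (s * x * s⁻¹ * x) * x * x⁻¹ := by rw [hk]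
    simpa [mul_assoc] using h2
  exact this.symm

omit h in
theorem comm_eq : ⁅s, x⁆ = (s * x * s⁻¹) * x⁻¹ := by
  rw [commutatorElement_def]

theorem x_conj_c : x * ⁅s, x⁆ * x⁻¹ = ⁅s, x⁆ := by
  rw [comm_eq]
  have := h.conj_comm_x.eq
  calc x * ((s * x * s⁻¹) * x⁻¹) * x⁻¹ = (x * (s * x * s⁻¹)) * x⁻¹ * x⁻¹ := by group
  _ = ((s * x * s⁻¹) * x) * x⁻¹ * x⁻¹ := by rw [this]
  _ = _ := by group

theorem s_conj_u : s * (s * x * s⁻¹) * s⁻¹ = x := by
  -- u = k x⁻¹, so s u s⁻¹ = k u⁻¹ = x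
  have hk := Subgroup.mem_center_iff.1 (h.central h.inv)
  have hu : s * x * s⁻¹ = (s * x * s⁻¹ * x) * x⁻¹ := by group
  have h1 : s * ((s * x * s⁻¹ * x) * x⁻¹) * s⁻¹ = (s * x * s⁻¹ * x) * (s * x * s⁻¹)⁻¹ := by
    calc s * ((s * x * s⁻¹ * x) * x⁻¹) * s⁻¹ = (s * (s * x * s⁻¹ * x)) * (x⁻¹ * s⁻¹) := by group
    _ = ((s * x * s⁻¹ * x) * s) * (x⁻¹ * s⁻¹) := by rw [hk s]
    _ = _ := by group
  rw [hu, h1]
  have := h.conj_comm_x.eq
  calc (s * x * s⁻¹ * x) * (s * x * s⁻¹)⁻¹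
      = (x * (s * x * s⁻¹)) * (s * x * s⁻¹)⁻¹ := by rw [this]
  _ = x := by group

theorem s_conj_c : s * ⁅s, x⁆ * s⁻¹ = ⁅s, x⁆⁻¹ := by
  rw [comm_eq]
  calc s * ((s * x * s⁻¹) * x⁻¹) * s⁻¹ = (s * (s * x * s⁻¹) * s⁻¹) * (s * x * s⁻¹)⁻¹ := by group
  _ = x * (s * x * s⁻¹)⁻¹ := by rw [h.s_conj_u]
  _ = _ := by group

omit h in
theorem mem_normalizer_zpowers {g c : Γ} (hg : g * c * g⁻¹ = c ∨ g * c * g⁻¹ = c⁻¹) :
    g ∈ Subgroup.normalizer ((Subgroup.zpowers c : Subgroup Γ) : Set Γ) := by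
  rw [Subgroup.mem_normalizer_iff_map_conj_eq, MonoidHom.map_zpowers]
  show Subgroup.zpowers (g * c * g⁻¹) = _
  rcases hg with hg | hg
  · rw [hg]
  · rw [hg, Subgroup.zpowers_inv]

theorem zpowers_normal : (Subgroup.zpowers ⁅s, x⁆).Normal := by
  rw [← Subgroup.normalizer_eq_top_iff, eq_top_iff, ← h.gen, Subgroup.closure_le]
  rintro g (hg | hg)
  · simp only [Set.mem_insert_iff, Set.mem_singleton_iff] at hg
    rcases hg with rfl | rfl
    · exact mem_normalizer_zpowers (Or.inl h.x_conj_c)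
    · exact mem_normalizer_zpowers (Or.inr h.s_conj_c)
  · apply mem_normalizer_zpowers
    left
    rw [← Subgroup.mem_center_iff.1 (h.central hg) ⁅s, x⁆, mul_inv_cancel_right]

theorem commutator_le : commutator Γ ≤ Subgroup.zpowers ⁅s, x⁆ := by
  have := h.zpowers_normal
  apply commutator_le_of_closure _ _ h.gen
  have hker : ∀ k ∈ K, ∀ b : Γ, ⁅k, b⁆ ∈ Subgroup.zpowers ⁅s, x⁆ ∧
      ⁅b, k⁆ ∈ Subgroup.zpowers ⁅s, x⁆ := by
    intro k hk b
    have hkz := Subgroup.mem_center_iff.1 (h.central hk)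
    constructor
    · have : ⁅k, b⁆ = 1 := commutatorElement_eq_one_iff_mul_comm.2 (hkz b).symm
      rw [this]; exact Subgroup.one_mem _
    · have : ⁅b, k⁆ = 1 := commutatorElement_eq_one_iff_mul_comm.2 (hkz b)
      rw [this]; exact Subgroup.one_mem _
  rintro a (ha | ha) b (hb | hb)
  · simp only [Set.mem_insert_iff, Set.mem_singleton_iff] at ha hb
    rcases ha with rfl | rfl <;> rcases hb with rfl | rfl
    · rw [commutatorElement_self]; exact Subgroup.one_mem _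
    · have : ⁅a, b⁆ = ⁅b, a⁆⁻¹ := (commutatorElement_inv b a).symm
      rw [this]; exact Subgroup.inv_mem _ (Subgroup.mem_zpowers _)
    · exact Subgroup.mem_zpowers _
    · rw [commutatorElement_self]; exact Subgroup.one_mem _
  · exact (hker b hb a).2
  · exact (hker a ha b).1
  · exact (hker a ha b).1

/-- central elements of `⟨⁅s,x⁆⟩` are involutions. -/
theorem sq_eq_one_of_central {z : Γ} (hz : z ∈ Subgroup.zpowers ⁅s, x⁆)
    (hzc : z ∈ Subgroup.center Γ) : z ^ 2 = 1 := by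
  obtain ⟨i, rfl⟩ := Subgroup.mem_zpowers_iff.1 hz
  have h1 : s * ⁅s, x⁆ ^ i * s⁻¹ = (⁅s, x⁆ ^ i)⁻¹ := by
    rw [← conj_zpow, h.s_conj_c, inv_zpow]
  have h2 : s * ⁅s, x⁆ ^ i * s⁻¹ = ⁅s, x⁆ ^ i := by
    rw [Subgroup.mem_center_iff.1 hzc s, mul_inv_cancel_right]
  rw [h2] at h1
  rw [pow_two]
  nth_rewrite 2 [h1]
  exact mul_inv_cancel _

/-- if `s` centralizes `x ^ n` then `⁅s,x⁆ ^ n = 1`. -/
theorem comm_pow_eq_one {n : ℕ} (hn : s * x ^ n * s⁻¹ = x ^ n) : ⁅s, x⁆ ^ n = 1 := by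
  rw [comm_eq, (h.conj_comm_x.inv_right).mul_pow, conj_pow, hn, inv_pow, mul_inv_cancel]

/-- the kernel is cyclic of exponent at most two whenever it lies in the commutator subgroup. -/
theorem exists_surjective (hK : K ≤ commutator Γ) :
    ∃ π : Multiplicative (ZMod 2) →* K, Function.Surjective π := by
  have hle : K ≤ Subgroup.zpowers ⁅s, x⁆ := hK.trans h.commutator_le
  have : IsCyclic K := Subgroup.isCyclic_of_le hle
  apply exists_surjective_of_isCyclic
  intro k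
  apply Subtype.ext
  rw [Subgroup.coe_pow]
  exact h.sq_eq_one_of_central (hle k.2) (h.central k.2)

end InvData

end Cfsg.Agent.Lib.Helper5
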