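import Cfsg.Prelude.Def_RootSubgroups

set_option autoImplicit false

namespace Cfsg.Agent.Lib.Helper5

open Cfsg

variable {G : Type*} [Group G]

theorem mem_conjBy_iff (A : Subgroup G) (g x : G) : x ∈ Cfsg.conjBy A g ↔ g⁻¹ * x * g ∈ A := by
  unfold Cfsg.conjBy
  rw [Subgroup.mem_map]
  constructor
  · rintro ⟨y, hy, rfl⟩
    simpa [MulAut.conj_apply, mul_assoc] using hy
  · intro h
    exact ⟨g⁻¹ * x * g, h, by simp [MulAut.conj_apply, mul_assoc]⟩

theorem conjBy_conjBy (A : Subgroup G) (g h : G) :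
    Cfsg.conjBy (Cfsg.conjBy A g) h = Cfsg.conjBy A (h * g) := by
  ext x
  simp only [mem_conjBy_iff]
  simp [mul_assoc]

theorem conjBy_one (A : Subgroup G) : Cfsg.conjBy A 1 = A := by
  ext x
  simp

theorem conjBy_of_mem {A : Subgroup G} {g : G} (hg : g ∈ A) : Cfsg.conjBy A g = A := by
  ext x
  rw [mem_conjBy_iff]
  constructor
  · intro h
    have := A.mul_mem (A.mul_mem hg h) (A.inv_mem hg)
    simpa [mul_assoc] using this
  · intro h
    exact A.mul_mem (A.mul_mem (A.inv_mem hg) h) hg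

theorem conjBy_eq_self_iff (A : Subgroup G) (g : G) :
    Cfsg.conjBy A g = A ↔ g ∈ Subgroup.normalizer (A : Set G) := by
  rw [Subgroup.mem_normalizer_iff]
  constructor
  · intro h x
    constructor
    · intro hx
      rw [← h, mem_conjBy_iff]
      simpa [mul_assoc] using hx
    · intro hx
      rw [← h, mem_conjBy_iff] at hx
      simpa [mul_assoc] using hx
  · intro h
    ext x
    rw [mem_conjBy_iff]
    rw [h (g⁻¹ * x * g)]
    simp [mul_assoc]

theorem conjBy_injective (g : G) {A B : Subgroup G} (h : Cfsg.conjBy A g = Cfsg.conjBy B g) :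
    A = B := by
  have := congrArg (fun C => Cfsg.conjBy C g⁻¹) h
  simpa [conjBy_conjBy, conjBy_one] using this

theorem conjBy_eq_iff (A B : Subgroup G) (g : G) :
    Cfsg.conjBy A g = B ↔ A = Cfsg.conjBy B g⁻¹ := by
  constructor
  · rintro rfl; simp [conjBy_conjBy, conjBy_one]
  · rintro rfl; simp [conjBy_conjBy, conjBy_one]

/-- In a rank one pair, no nonidentity element of `A` normalizes `B`. -/
theorem inf_normalizer_eq_bot {A B : Subgroup G} (hne : A ≠ B) (h : Cfsg.RankOneCondition A B) :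
    A ⊓ Subgroup.normalizer (B : Set G) = ⊥ := by
  rw [eq_bot_iff]
  rintro a ⟨haA, haN⟩
  rw [Subgroup.mem_bot]
  by_contra ha1
  obtain ⟨b, hbB, _, hb⟩ := h a haA ha1
  have h1 : Cfsg.conjBy B a⁻¹ = B :=
    (conjBy_eq_self_iff B a⁻¹).2 (Subgroup.inv_mem _ haN)
  rw [h1, conjBy_eq_iff, inv_inv, conjBy_of_mem hbB] at hb
  exact hne hb

end Cfsg.Agent.Lib.Helper5

namespace Cfsg.Agent.Lib.Helper5

open Cfsg

variable {G : Type*} [Group G]

/-- `A` together with the `A`-conjugates of `B`. -/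
def omegaSet (A B : Subgroup G) : Set (Subgroup G) :=
  {C | C = A ∨ ∃ a ∈ A, C = Cfsg.conjBy B a}

theorem left_ne_bot {A B : Subgroup G} (h : Cfsg.IsRankOnePair A B) : A ≠ ⊥ := by
  intro hA
  have hB : B ≠ ⊥ := fun hB => h.ne (hA.trans hB.symm)
  obtain ⟨b, hb1⟩ := (Subgroup.ne_bot_iff_exists_ne_one).1 hB
  have hb1' : (b : G) ≠ 1 := fun hh => hb1 (Subtype.ext hh)
  obtain ⟨a, haA, ha1, _⟩ := h.cond_right b b.2 hb1'
  rw [hA, Subgroup.mem_bot] at haA
  exact ha1 haA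

theorem right_ne_bot {A B : Subgroup G} (h : Cfsg.IsRankOnePair A B) : B ≠ ⊥ :=
  left_ne_bot (Cfsg.RankOnePair_symm h)

theorem exists_ne_one_of_ne_bot {A : Subgroup G} (h : A ≠ ⊥) : ∃ a ∈ A, a ≠ 1 := by
  obtain ⟨a, ha1⟩ := (Subgroup.ne_bot_iff_exists_ne_one).1 h
  exact ⟨a, a.2, fun hh => ha1 (Subtype.ext hh)⟩

/-- `B` is a conjugate of `A` under `A ⊔ B`. -/
theorem right_eq_conjBy {A B : Subgroup G} (h : Cfsg.IsRankOnePair A B) :
    ∃ x ∈ A ⊔ B, B = Cfsg.conjBy A x := by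
  obtain ⟨a, haA, ha1⟩ := exists_ne_one_of_ne_bot (left_ne_bot h)
  obtain ⟨b, hbB, _, hb⟩ := h.cond_left a haA ha1
  refine ⟨a * b⁻¹, mul_mem (Subgroup.mem_sup_left haA) (inv_mem (Subgroup.mem_sup_right hbB)), ?_⟩
  have := congrArg (fun C => Cfsg.conjBy C a) hb
  simp only [conjBy_conjBy, mul_inv_cancel, conjBy_one] at this
  exact this.symm

theorem conjBy_left_mem_omegaSet {A B : Subgroup G} (h : Cfsg.IsRankOnePair A B) {b : G} (hb : b ∈ B) :
    Cfsg.conjBy A b ∈ omegaSet A B := by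
  by_cases hb1 : b = 1
  · left; rw [hb1, conjBy_one]
  · right
    have hb1' : b⁻¹ ≠ 1 := fun hh => hb1 (inv_eq_one.1 hh)
    obtain ⟨a, haA, _, ha⟩ := h.cond_right b⁻¹ (inv_mem hb) hb1'
    rw [inv_inv] at ha
    exact ⟨a⁻¹, inv_mem haA, ha.symm⟩

theorem conjBy_mem_omegaSet {A B : Subgroup G} (h : Cfsg.IsRankOnePair A B) {x : G} (hx : x ∈ A ⊔ B)
    {C : Subgroup G} (hC : C ∈ omegaSet A B) : Cfsg.conjBy C x ∈ omegaSet A B := by
  rw [Subgroup.sup_eq_closure] at hx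
  induction hx using Subgroup.closure_induction'' generalizing C with
  | one => rw [conjBy_one]; exact hC
  | mul x y _ _ ihx ihy =>
    rw [← conjBy_conjBy]
    exact ihx (ihy hC)
  | mem x hx =>
    rcases hx with hxA | hxB
    · rcases hC with rfl | ⟨a, haA, rfl⟩
      · left; exact conjBy_of_mem hxA
      · right; exact ⟨x * a, mul_mem hxA haA, conjBy_conjBy _ _ _⟩
    · rcases hC with rfl | ⟨a, haA, rfl⟩
      · exact conjBy_left_mem_omegaSet h hxB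
      · by_cases ha1 : a = 1
        · right
          refine ⟨1, one_mem _, ?_⟩
          rw [ha1, conjBy_one, conjBy_of_mem hxB]
        · have ha1' : a⁻¹ ≠ 1 := fun hh => ha1 (inv_eq_one.1 hh)
          obtain ⟨b₀, hb₀, _, hb⟩ := h.cond_left a⁻¹ (inv_mem haA) ha1'
          rw [inv_inv] at hb
          rw [← hb, conjBy_conjBy]
          exact conjBy_left_mem_omegaSet h (mul_mem hxB (inv_mem hb₀))
  | inv_mem x hx =>
    rcases hx with hxA | hxB
    · have hxA' : x⁻¹ ∈ A := inv_mem hxA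
      rcases hC with rfl | ⟨a, haA, rfl⟩
      · left; exact conjBy_of_mem hxA'
      · right; exact ⟨x⁻¹ * a, mul_mem hxA' haA, conjBy_conjBy _ _ _⟩
    · have hxB' : x⁻¹ ∈ B := inv_mem hxB
      rcases hC with rfl | ⟨a, haA, rfl⟩
      · exact conjBy_left_mem_omegaSet h hxB'
      · by_cases ha1 : a = 1
        · right
          refine ⟨1, one_mem _, ?_⟩
          rw [ha1, conjBy_one, conjBy_of_mem hxB']
        · have ha1' : a⁻¹ ≠ 1 := fun hh => ha1 (inv_eq_one.1 hh)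
          obtain ⟨b₀, hb₀, _, hb⟩ := h.cond_left a⁻¹ (inv_mem haA) ha1'
          rw [inv_inv] at hb
          rw [← hb, conjBy_conjBy]
          exact conjBy_left_mem_omegaSet h (mul_mem hxB' (inv_mem hb₀))

theorem unipotentSubgroups_eq_omegaSet {A B : Subgroup G} (h : Cfsg.IsRankOnePair A B) :
    Cfsg.unipotentSubgroups A B = omegaSet A B := by
  ext C
  constructor
  · rintro ⟨x, hx, rfl⟩
    exact conjBy_mem_omegaSet h hx (Or.inl rfl)
  · rintro (rfl | ⟨a, haA, rfl⟩)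
    · exact ⟨1, one_mem _, (conjBy_one _).symm⟩
    · obtain ⟨x₀, hx₀, hB⟩ := right_eq_conjBy h
      refine ⟨a * x₀, mul_mem (Subgroup.mem_sup_left haA) hx₀, ?_⟩
      rw [hB, conjBy_conjBy]

theorem conjBy_mem_unipotentSubgroups {A B : Subgroup G} {x : G} (hx : x ∈ A ⊔ B)
    {C : Subgroup G} (hC : C ∈ Cfsg.unipotentSubgroups A B) :
    Cfsg.conjBy C x ∈ Cfsg.unipotentSubgroups A B := by
  obtain ⟨y, hy, rfl⟩ := hC
  exact ⟨x * y, mul_mem hx hy, conjBy_conjBy _ _ _⟩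

theorem conjBy_right_ne_left {A B : Subgroup G} (h : Cfsg.IsRankOnePair A B) {a : G} (ha : a ∈ A) :
    Cfsg.conjBy B a ≠ A := by
  intro hh
  rw [conjBy_eq_iff, conjBy_of_mem (inv_mem ha)] at hh
  exact h.ne hh.symm

/-- `A` acts regularly on the unipotent subgroups other than `A`. -/
theorem exists_unique_conjBy {A B : Subgroup G} (h : Cfsg.IsRankOnePair A B)
    {C D : Subgroup G} (hC : C ∈ Cfsg.unipotentSubgroups A B) (hD : D ∈ Cfsg.unipotentSubgroups A B)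
    (hCA : C ≠ A) (hDA : D ≠ A) : ∃! a : G, a ∈ A ∧ Cfsg.conjBy C a = D := by
  rw [unipotentSubgroups_eq_omegaSet h] at hC hD
  rcases hC with rfl | ⟨a₁, ha₁, rfl⟩
  · exact absurd rfl hCA
  rcases hD with rfl | ⟨a₂, ha₂, rfl⟩
  · exact absurd rfl hDA
  refine ⟨a₂ * a₁⁻¹, ⟨mul_mem ha₂ (inv_mem ha₁), ?_⟩, ?_⟩
  · rw [conjBy_conjBy]; simp
  · rintro a ⟨haA, ha⟩
    rw [conjBy_conjBy, conjBy_eq_iff, conjBy_conjBy, eq_comm, conjBy_eq_self_iff] at ha
    have hmem : (a * a₁)⁻¹ * a₂ ∈ A ⊓ Subgroup.normalizer (B : Set G) :=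
      Subgroup.mem_inf.2 ⟨A.mul_mem (A.inv_mem (A.mul_mem haA ha₁)) ha₂, ha⟩
    rw [inf_normalizer_eq_bot h.ne h.cond_left, Subgroup.mem_bot] at hmem
    have : a * a₁ = a₂ := by
      have := congrArg (fun t => (a * a₁) * t) hmem
      simpa [mul_assoc] using this.symm
    rw [← this]; simp

end Cfsg.Agent.Lib.Helper5

namespace Cfsg.Agent.Lib.Helper5

open Cfsg

variable {G : Type*} [Group G]

/-- an element centralizing `C` fixes `C` under conjugation -/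
theorem conjBy_of_mem_centralizer {C : Subgroup G} {z : G}
    (hz : z ∈ Subgroup.centralizer (C : Set G)) : Cfsg.conjBy C z = C :=
  (conjBy_eq_self_iff C z).2 (Subgroup.centralizer_le_normalizer (C : Set G) hz)

theorem conjBy_mono {C D : Subgroup G} (h : C ≤ D) (g : G) : Cfsg.conjBy C g ≤ Cfsg.conjBy D g :=
  Subgroup.map_mono h

theorem conjBy_le_of_mem {C D : Subgroup G} (h : C ≤ D) {g : G} (hg : g ∈ D) :
    Cfsg.conjBy C g ≤ D := by
  rw [← conjBy_of_mem hg]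
  exact conjBy_mono h g

/-- For `a ∈ A` nonidentity, the conjugate `a B a⁻¹` meets the normalizer of `B` trivially. -/
theorem conjBy_right_inf_normalizer {A B : Subgroup G} (h : Cfsg.IsRankOnePair A B) {a : G}
    (ha : a ∈ A) (ha1 : a ≠ 1) :
    Cfsg.conjBy B a ⊓ Subgroup.normalizer (B : Set G) = ⊥ := by
  have ha1' : a⁻¹ ≠ 1 := fun hh => ha1 (inv_eq_one.1 hh)
  obtain ⟨b₂, hb₂, _, hb⟩ := h.cond_left a⁻¹ (inv_mem ha) ha1'
  rw [inv_inv] at hb
  rw [eq_bot_iff]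
  rintro w ⟨hw1, hw2⟩
  rw [Subgroup.mem_bot]
  have hw1' : w ∈ Cfsg.conjBy A b₂⁻¹ := hb ▸ hw1
  rw [mem_conjBy_iff, inv_inv] at hw1'
  have hb₂N : b₂ ∈ Subgroup.normalizer (B : Set G) := Subgroup.le_normalizer hb₂
  have hmem : b₂ * w * b₂⁻¹ ∈ A ⊓ Subgroup.normalizer (B : Set G) :=
    Subgroup.mem_inf.2 ⟨hw1', mul_mem (mul_mem hb₂N hw2) (inv_mem hb₂N)⟩
  rw [inf_normalizer_eq_bot h.ne h.cond_left, Subgroup.mem_bot] at hmem
  have := congrArg (fun t => b₂⁻¹ * t * b₂) hmem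
  simpa [mul_assoc] using this

end Cfsg.Agent.Lib.Helper5

namespace Cfsg.Agent.Lib.Helper5

open Cfsg

variable {G : Type*} [Group G]

/-- double transitivity of `A ⊔ B` on the unipotent subgroups -/
theorem exists_conjBy_pair {A B : Subgroup G} (h : Cfsg.IsRankOnePair A B)
    {C₁ C₂ D₁ D₂ : Subgroup G} (hC₁ : C₁ ∈ Cfsg.unipotentSubgroups A B)
    (hC₂ : C₂ ∈ Cfsg.unipotentSubgroups A B) (hD₁ : D₁ ∈ Cfsg.unipotentSubgroups A B)
    (hD₂ : D₂ ∈ Cfsg.unipotentSubgroups A B) (hC : C₁ ≠ C₂) (hD : D₁ ≠ D₂) :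
    ∃ x ∈ A ⊔ B, Cfsg.conjBy C₁ x = D₁ ∧ Cfsg.conjBy C₂ x = D₂ := by
  obtain ⟨x₁, hx₁, rfl⟩ := hC₁
  obtain ⟨y₁, hy₁, rfl⟩ := hD₁
  have hC₂' : Cfsg.conjBy C₂ x₁⁻¹ ∈ Cfsg.unipotentSubgroups A B :=
    conjBy_mem_unipotentSubgroups (inv_mem hx₁) hC₂
  have hD₂' : Cfsg.conjBy D₂ y₁⁻¹ ∈ Cfsg.unipotentSubgroups A B :=
    conjBy_mem_unipotentSubgroups (inv_mem hy₁) hD₂
  have hC₂A : Cfsg.conjBy C₂ x₁⁻¹ ≠ A := by
    intro hh
    rw [conjBy_eq_iff, inv_inv] at hh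
    exact hC hh.symm
  have hD₂A : Cfsg.conjBy D₂ y₁⁻¹ ≠ A := by
    intro hh
    rw [conjBy_eq_iff, inv_inv] at hh
    exact hD hh.symm
  obtain ⟨a, ⟨haA, ha⟩, _⟩ := exists_unique_conjBy h hC₂' hD₂' hC₂A hD₂A
  refine ⟨y₁ * a * x₁⁻¹, mul_mem (mul_mem hy₁ (Subgroup.mem_sup_left haA)) (inv_mem hx₁), ?_, ?_⟩
  · rw [conjBy_conjBy]
    have : y₁ * a * x₁⁻¹ * x₁ = y₁ * a := by group
    rw [this, ← conjBy_conjBy, conjBy_of_mem haA]
  · have : y₁ * a * x₁⁻¹ = y₁ * (a * x₁⁻¹) := by group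
    rw [this, ← conjBy_conjBy, ← conjBy_conjBy, ha, conjBy_conjBy]
    simp [conjBy_one]

theorem left_mem_unipotentSubgroups (A B : Subgroup G) : A ∈ Cfsg.unipotentSubgroups A B :=
  ⟨1, one_mem _, (conjBy_one A).symm⟩

theorem right_mem_unipotentSubgroups {A B : Subgroup G} (h : Cfsg.IsRankOnePair A B) :
    B ∈ Cfsg.unipotentSubgroups A B := by
  obtain ⟨x, hx, hB⟩ := right_eq_conjBy h
  exact ⟨x, hx, hB⟩

theorem mem_normalizer_conjBy {E : Subgroup G} {w : G} (hw : w ∈ Subgroup.normalizer (E : Set G))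
    (y : G) : y * w * y⁻¹ ∈ Subgroup.normalizer ((Cfsg.conjBy E y : Subgroup G) : Set G) := by
  rw [← conjBy_eq_self_iff, conjBy_conjBy]
  have : y * w * y⁻¹ * y = y * w := by group
  rw [this, ← conjBy_conjBy, (conjBy_eq_self_iff E w).2 hw]

/-- distinct unipotent subgroups: one meets the normalizer of the other trivially -/
theorem inf_normalizer_of_ne {A B : Subgroup G} (h : Cfsg.IsRankOnePair A B)
    {E₁ E₂ : Subgroup G} (h₁ : E₁ ∈ Cfsg.unipotentSubgroups A B)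
    (h₂ : E₂ ∈ Cfsg.unipotentSubgroups A B) (hne : E₁ ≠ E₂) :
    E₁ ⊓ Subgroup.normalizer (E₂ : Set G) = ⊥ := by
  obtain ⟨y, _, hy₁, hy₂⟩ := exists_conjBy_pair h h₁ h₂ (left_mem_unipotentSubgroups A B)
    (right_mem_unipotentSubgroups h) hne h.ne
  rw [eq_bot_iff]
  rintro w ⟨hw1, hw2⟩
  rw [Subgroup.mem_bot]
  have h3 : y * w * y⁻¹ ∈ A := by
    rw [← hy₁, mem_conjBy_iff]
    have : y⁻¹ * (y * w * y⁻¹) * y = w := by group
    rw [this]; exact hw1
  have h4 : y * w * y⁻¹ ∈ Subgroup.normalizer (B : Set G) := by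
    rw [← hy₂]; exact mem_normalizer_conjBy hw2 y
  have hmem : y * w * y⁻¹ ∈ A ⊓ Subgroup.normalizer (B : Set G) := Subgroup.mem_inf.2 ⟨h3, h4⟩
  rw [inf_normalizer_eq_bot h.ne h.cond_left, Subgroup.mem_bot] at hmem
  have := congrArg (fun t => y⁻¹ * t * y) hmem
  simpa [mul_assoc] using this

end Cfsg.Agent.Lib.Helper5
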