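import Mathlib

set_option autoImplicit false
set_option linter.style.haveILetI false
set_option linter.unusedSectionVars false

namespace Cfsg.Agent.Lib.Helper5.PrimeOrd

theorem hockey (s N : ℕ) :
    ∑ k ∈ Finset.range (N + 1), (s + k).choose k = (N + s + 1).choose (s + 1) := by
  induction N with
  | zero => simp
  | succ N ih =>
    rw [Finset.sum_range_succ, ih, show N + 1 + s + 1 = (N + s + 1) + 1 by ring,
      Nat.choose_succ_succ' (N + s + 1) s, add_comm]
    congr 1
    have : s + (N + 1) = N + s + 1 := by ring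
    rw [this]
    exact Nat.choose_symm_of_eq_add (n := N + s + 1) (a := N + 1) (b := s) (by ring)

theorem hockey' (t N : ℕ) :
    ∑ k ∈ Finset.range (N + 1), (t + k - 1).choose k = (N + t).choose t := by
  rcases t with _ | s
  · rw [Finset.sum_range_succ']
    simp only [zero_add, Nat.add_sub_cancel, Nat.choose_succ_self, Finset.sum_const_zero,
      Nat.choose_zero_right, add_zero]
  · have := hockey s N
    rw [show N + (s + 1) = N + s + 1 by ring, ← this]
    apply Finset.sum_congr rfl
    intro k _
    congr 1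
    omega

noncomputable def multisetLeEquiv (α : Type*) (N : ℕ) :
    {m : Multiset α // Multiset.card m ≤ N} ≃ Σ k : Fin (N + 1), Sym α k where
  toFun m := ⟨⟨Multiset.card m.1, Nat.lt_succ_of_le m.2⟩, ⟨m.1, rfl⟩⟩
  invFun x := ⟨x.2.1, by rw [x.2.2]; exact Nat.le_of_lt_succ x.1.2⟩
  left_inv m := rfl
  right_inv x := by
    obtain ⟨⟨k, hk⟩, ⟨s, hs⟩⟩ := x
    simp only at hs
    subst hs
    rfl

theorem card_multiset_le (α : Type*) [Fintype α] (N : ℕ) :
    Nat.card {m : Multiset α // Multiset.card m ≤ N} =
      (N + Fintype.card α).choose (Fintype.card α) := by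
  classical
  rw [Nat.card_congr (multisetLeEquiv α N), Nat.card_eq_fintype_card, Fintype.card_sigma]
  rw [← hockey' (Fintype.card α) N, Finset.sum_fin_eq_sum_range]
  apply Finset.sum_congr rfl
  intro k hk
  rw [dif_pos (Finset.mem_range.mp hk), Sym.card_sym_eq_choose]

theorem card_multiset_le_ne (α : Type*) [Fintype α] (N : ℕ) :
    Nat.card {m : Multiset α // m ≠ 0 ∧ Multiset.card m ≤ N} =
      (N + Fintype.card α).choose (Fintype.card α) - 1 := by
  classical
  rw [← card_multiset_le α N]
  haveI : Finite {m : Multiset α // Multiset.card m ≤ N} :=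
    Finite.of_equiv _ (multisetLeEquiv α N).symm
  have e : {m : Multiset α // m ≠ 0 ∧ Multiset.card m ≤ N} ≃
      {x : {m : Multiset α // Multiset.card m ≤ N} // x ≠ ⟨0, by simp⟩} :=
    { toFun := fun m => ⟨⟨m.1, m.2.2⟩, fun h => m.2.1 (congrArg Subtype.val h)⟩
      invFun := fun x => ⟨x.1.1, fun h => x.2 (Subtype.ext h), x.1.2⟩
      left_inv := fun m => rfl
      right_inv := fun x => rfl }
  rw [Nat.card_congr e]
  haveI := Fintype.ofFinite {m : Multiset α // Multiset.card m ≤ N}
  rw [Nat.card_eq_fintype_card, Nat.card_eq_fintype_card, Fintype.card_subtype_compl,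
    Fintype.card_subtype_eq]

end Cfsg.Agent.Lib.Helper5.PrimeOrd
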