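import Mathlib
import Cfsg.Agent.Lib.Helper5.SSClassA

set_option autoImplicit false
set_option linter.style.haveILetI false
set_option linter.unusedSectionVars false

namespace Cfsg.Agent.Lib.Helper5.SSClass

open Polynomial Module

section prod

variable {F : Type*} [Field F] {M : Type*} [AddCommGroup M] [Module F[X] M] [Module F M]
  [IsScalarTower F F[X] M] [Module.Finite F M]

instance finite_sub (m : Submodule F[X] M) : Module.Finite F m :=
  Module.Finite.of_injective (m.subtype.restrictScalars F) (Submodule.subtype_injective m)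

theorem cp_prod (A B : Type*) [AddCommGroup A] [Module F[X] A] [Module F A]
    [IsScalarTower F F[X] A] [Module.Finite F A] [AddCommGroup B] [Module F[X] B] [Module F B]
    [IsScalarTower F F[X] B] [Module.Finite F B] : cp F (A × B) = cp F A * cp F B := by
  rw [cp, cp, cp, ← LinearMap.charpoly_prodMap]
  congr 1

theorem cp_isCompl {m m' : Submodule F[X] M} (h : IsCompl m m') :
    cp F M = cp F m * cp F m' := by
  rw [← cp_prod, cp_congr (Submodule.prodEquivOfIsCompl m m' h)]

theorem finrank_isCompl {m m' : Submodule F[X] M} (h : IsCompl m m') :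
    Module.finrank F M = Module.finrank F m + Module.finrank F m' := by
  rw [← Module.finrank_prod]
  exact (LinearEquiv.finrank_eq ((Submodule.prodEquivOfIsCompl m m' h).restrictScalars F)).symm

end prod

end Cfsg.Agent.Lib.Helper5.SSClass

namespace Cfsg.Agent.Lib.Helper5.SSClass

open Polynomial Module

section simple

variable {F : Type*} [Field F] {S : Type*} [AddCommGroup S] [Module F[X] S] [Module F S]
  [IsScalarTower F F[X] S] [Module.Finite F S]

theorem ideal_eq_span_cp (I : Ideal F[X]) (e : S ≃ₗ[F[X]] F[X] ⧸ I) :
    I = Ideal.span {cp F S} := by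
  have hmem : cp F S ∈ I := by
    have h1 := cp_smul F S (e.symm 1)
    have h2 := congrArg e h1
    rw [map_smul, LinearEquiv.apply_symm_apply, map_zero] at h2
    rw [← Ideal.Quotient.eq_zero_iff_mem]
    have h3 : cp F S • (1 : F[X] ⧸ I) = Ideal.Quotient.mk I (cp F S) := by
      rw [← map_one (Ideal.Quotient.mk I), ← Ideal.Quotient.mk_eq_mk, ← Submodule.Quotient.mk_smul, smul_eq_mul, mul_one]
      rfl
    rw [← h3]
    exact h2
  obtain ⟨π, rfl⟩ : ∃ π, I = Ideal.span {π} := ⟨_, (Submodule.IsPrincipal.span_singleton_generator I).symm⟩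
  have hdvd : π ∣ cp F S := Ideal.mem_span_singleton.1 hmem
  have hfr : Module.finrank F (F[X] ⧸ Ideal.span {π}) = Module.finrank F S :=
    (LinearEquiv.finrank_eq (e.restrictScalars F)).symm
  rw [finrank_quotient_span_eq_natDegree, ← cp_natDegree] at hfr
  have hass := associated_of_dvd_of_natDegree_le hdvd (cp_ne_zero F S) hfr.ge
  exact Ideal.span_singleton_eq_span_singleton.2 hass

end simple

end Cfsg.Agent.Lib.Helper5.SSClass
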