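import Mathlib
import Cfsg.Agent.Lib.Helper5.SSClassB

set_option autoImplicit false
set_option linter.style.haveILetI false
set_option linter.unusedSectionVars false

namespace Cfsg.Agent.Lib.Helper5.SSClass

open Polynomial Module

section simple2

variable {F : Type*} [Field F] {S : Type*} [AddCommGroup S] [Module F[X] S] [Module F S]
  [IsScalarTower F F[X] S] [Module.Finite F S]
  {T : Type*} [AddCommGroup T] [Module F[X] T] [Module F T]
  [IsScalarTower F F[X] T] [Module.Finite F T]

theorem prime_cp_of_simple (hS : IsSimpleModule F[X] S) : Prime (cp F S) := by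
  obtain ⟨I, hI, ⟨e⟩⟩ := isSimpleModule_iff_quot_maximal.mp hS
  have h := ideal_eq_span_cp I e
  rw [← Ideal.span_singleton_prime (cp_ne_zero F S), ← h]
  exact hI.isPrime

theorem simple_iso_of_dvd (hS : IsSimpleModule F[X] S) (hT : IsSimpleModule F[X] T)
    (hdvd : cp F S ∣ cp F T) : Nonempty (S ≃ₗ[F[X]] T) := by
  obtain ⟨I, hI, ⟨e⟩⟩ := isSimpleModule_iff_quot_maximal.mp hS
  obtain ⟨J, hJ, ⟨e'⟩⟩ := isSimpleModule_iff_quot_maximal.mp hT
  have h1 := ideal_eq_span_cp I e
  have h2 := ideal_eq_span_cp J e'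
  have hle : J ≤ I := by
    rw [h1, h2, Ideal.span_singleton_le_span_singleton]
    exact hdvd
  have heq : J = I := hJ.eq_of_le hI.ne_top hle
  subst heq
  exact ⟨e.trans e'.symm⟩

end simple2

end Cfsg.Agent.Lib.Helper5.SSClass
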