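import Mathlib
import Cfsg.Agent.Lib.Helper5.SSClassC

set_option autoImplicit false
set_option linter.style.haveILetI false
set_option linter.unusedSectionVars false

namespace Cfsg.Agent.Lib.Helper5.SSClass

open Polynomial Module

universe u v w

theorem cp_eq_one_of_subsingleton {F : Type*} [Field F] {N : Type*} [AddCommGroup N]
    [Module F[X] N] [Module F N] [IsScalarTower F F[X] N] [Module.Finite F N] [Subsingleton N] :
    cp F N = 1 := by
  have h0 : Module.finrank F N = 0 := Module.finrank_zero_of_subsingleton
  have : (cp F N).natDegree = 0 := by rw [cp_natDegree, h0]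
  exact (cp_monic F N).natDegree_eq_zero.1 this

theorem exists_sub_iso {F : Type u} [Field F] {S : Type w} [AddCommGroup S] [Module F[X] S]
    [Module F S] [IsScalarTower F F[X] S] [Module.Finite F S] (hS : IsSimpleModule F[X] S) :
    ∀ (d : ℕ) (N : Type v) [AddCommGroup N] [Module F[X] N] [Module F N] [IsScalarTower F F[X] N]
      [Module.Finite F N] [IsSemisimpleModule F[X] N], Module.finrank F N = d →
      cp F S ∣ cp F N → ∃ n : Submodule F[X] N, Nonempty (S ≃ₗ[F[X]] n) := by
  intro d
  induction d using Nat.strong_induction_on with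
  | _ d ih =>
    intro N _ _ _ _ _ _ hd hdvd
    by_cases hN : Subsingleton N
    · exfalso
      rw [cp_eq_one_of_subsingleton (N := N)] at hdvd
      exact (prime_cp_of_simple hS).not_isUnit (isUnit_of_dvd_one hdvd)
    · rw [not_subsingleton_iff_nontrivial] at hN
      obtain ⟨n, hn⟩ := IsSemisimpleModule.exists_simple_submodule F[X] N
      obtain ⟨n', hc⟩ := exists_isCompl n
      rw [cp_isCompl hc] at hdvd
      rcases (prime_cp_of_simple hS).dvd_or_dvd hdvd with h | h
      · obtain ⟨e⟩ := simple_iso_of_dvd hS hn h
        exact ⟨n, ⟨e⟩⟩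
      · have hlt : Module.finrank F n' < d := by
          rw [← hd, finrank_isCompl hc]
          haveI : Nontrivial n := IsSimpleModule.nontrivial F[X] n
          have : 0 < Module.finrank F n := Module.finrank_pos
          omega
        obtain ⟨n'', ⟨e⟩⟩ := ih _ hlt n' rfl h
        exact ⟨n''.map n'.subtype,
          ⟨e.trans (Submodule.equivMapOfInjective n'.subtype n'.subtype_injective n'')⟩⟩

/-- semisimple modules with the same characteristic polynomial are isomorphic -/
theorem iso_of_cp_eq {F : Type u} [Field F] :
    ∀ (d : ℕ) (M : Type v) [AddCommGroup M] [Module F[X] M] [Module F M] [IsScalarTower F F[X] M]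
      [Module.Finite F M] [IsSemisimpleModule F[X] M]
      (N : Type w) [AddCommGroup N] [Module F[X] N] [Module F N] [IsScalarTower F F[X] N]
      [Module.Finite F N] [IsSemisimpleModule F[X] N], Module.finrank F M = d →
      cp F M = cp F N → Nonempty (M ≃ₗ[F[X]] N) := by
  intro d
  induction d using Nat.strong_induction_on with
  | _ d ih =>
    intro M _ _ _ _ _ _ N _ _ _ _ _ _ hd hcp
    by_cases hM : Subsingleton M
    · have h1 : cp F N = 1 := by rw [← hcp]; exact cp_eq_one_of_subsingleton
      have h2 : Module.finrank F N = 0 := by rw [← cp_natDegree, h1, natDegree_one]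
      haveI : Subsingleton N := Module.finrank_zero_iff.1 h2
      exact ⟨LinearEquiv.ofSubsingleton M N⟩
    · rw [not_subsingleton_iff_nontrivial] at hM
      obtain ⟨m, hm⟩ := IsSemisimpleModule.exists_simple_submodule F[X] M
      obtain ⟨m', hc⟩ := exists_isCompl m
      have hcpM := cp_isCompl hc
      have hdvd : cp F m ∣ cp F N := by rw [← hcp, hcpM]; exact dvd_mul_right _ _
      obtain ⟨n, ⟨e₁⟩⟩ := exists_sub_iso hm _ N rfl hdvd
      obtain ⟨n', hc'⟩ := exists_isCompl n
      have hcpN := cp_isCompl hc'
      have hcp' : cp F m' = cp F n' := by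
        rw [hcpM, hcpN, ← cp_congr e₁] at hcp
        exact mul_left_cancel₀ (cp_ne_zero F m) hcp
      have hlt : Module.finrank F m' < d := by
        rw [← hd, finrank_isCompl hc]
        haveI : Nontrivial m := IsSimpleModule.nontrivial F[X] m
        have : 0 < Module.finrank F m := Module.finrank_pos
        omega
      obtain ⟨e₂⟩ := ih _ hlt m' n' rfl hcp'
      exact ⟨(Submodule.prodEquivOfIsCompl m m' hc).symm.trans
        ((e₁.prodCongr e₂).trans (Submodule.prodEquivOfIsCompl n n' hc'))⟩

end Cfsg.Agent.Lib.Helper5.SSClass
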