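import Mathlib

set_option autoImplicit false
set_option linter.style.haveILetI false

namespace Cfsg.Agent.Lib.Helper5.SSConj

open Polynomial Module

/-- for a semisimple endomorphism of a nonzero finite-dimensional space over a finite field,
the determinant is surjective on its centralizer -/
theorem exists_commuting_det {F : Type*} [Field F] [Finite F] {V : Type*} [AddCommGroup V]
    [Module F V] [Module.Finite F V] [Nontrivial V]
    (f : Module.End F V) (hf : f.IsSemisimple) (lam : F) :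
    ∃ c : Module.End F V, c ∘ₗ f = f ∘ₗ c ∧ LinearMap.det c = lam := by
  haveI : IsSemisimpleModule F[X] (AEval' f) := hf
  haveI : Nontrivial (AEval' f) := (AEval'.of f).symm.toEquiv.nontrivial
  haveI : Finite V := Module.finite_of_finite F
  haveI : Finite (AEval' f) := Finite.of_equiv V (AEval'.of f).toEquiv
  obtain ⟨m, hm⟩ := IsSemisimpleModule.exists_simple_submodule F[X] (AEval' f)
  obtain ⟨m', hcompl⟩ := exists_isCompl m
  obtain ⟨I, hI, ⟨e⟩⟩ := isSimpleModule_iff_quot_maximal.mp hm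
  letI := Ideal.Quotient.field I
  haveI : Finite (F[X] ⧸ I) := Finite.of_equiv m e.toEquiv
  obtain ⟨u, hu⟩ := FiniteField.norm_surjective F (F[X] ⧸ I) lam
  obtain ⟨q, rfl⟩ := Ideal.Quotient.mk_surjective u
  -- the F-linear maps
  let eF : m ≃ₗ[F] (F[X] ⧸ I) := e.restrictScalars F
  let a : m →ₗ[F] m := (q • (LinearMap.id : m →ₗ[F[X]] m)).restrictScalars F
  have ha : LinearMap.det a = lam := by
    have h1 : a = (eF.symm : (F[X] ⧸ I) →ₗ[F] m) ∘ₗ
        (Algebra.lmul F (F[X] ⧸ I) (Ideal.Quotient.mk I q)) ∘ₗ (eF : m →ₗ[F] (F[X] ⧸ I)) := by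
      apply LinearMap.ext
      intro z
      apply eF.injective
      simp only [LinearMap.coe_comp, LinearEquiv.coe_coe, Function.comp_apply,
        LinearEquiv.apply_symm_apply]
      show e (q • z) = (Ideal.Quotient.mk I q) * e z
      rw [map_smul, Algebra.smul_def]
      rfl
    have h2 := LinearMap.det_conj (Algebra.lmul F (F[X] ⧸ I) (Ideal.Quotient.mk I q)) eF.symm
    rw [LinearEquiv.symm_symm] at h2
    rw [h1, h2, ← Algebra.norm_apply, hu]
  let P : (m × m') ≃ₗ[F] AEval' f := (Submodule.prodEquivOfIsCompl m m' hcompl).restrictScalars F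
  let c₀ : (m × m') →ₗ[F] (m × m') := LinearMap.prodMap a LinearMap.id
  let c₁ : AEval' f →ₗ[F] AEval' f := (P : (m × m') →ₗ[F] AEval' f) ∘ₗ c₀ ∘ₗ
    (P.symm : AEval' f →ₗ[F] (m × m'))
  have hc₁ : LinearMap.det c₁ = lam := by
    rw [LinearMap.det_conj, LinearMap.det_prodMap, ha, LinearMap.det_id, mul_one]
  have hX : ∀ y : AEval' f, c₁ ((X : F[X]) • y) = (X : F[X]) • c₁ y := by
    intro y
    have hP : ∀ w : m × m', P ((X : F[X]) • w) = (X : F[X]) • P w := fun w =>
      map_smul (Submodule.prodEquivOfIsCompl m m' hcompl) X w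
    have hPs : ∀ y, P.symm ((X : F[X]) • y) = (X : F[X]) • P.symm y := fun y =>
      map_smul (Submodule.prodEquivOfIsCompl m m' hcompl).symm X y
    have hc₀ : ∀ w : m × m', c₀ ((X : F[X]) • w) = (X : F[X]) • c₀ w := by
      rintro ⟨z, z'⟩
      show (a ((X : F[X]) • z), (X : F[X]) • z') = (X : F[X]) • (a z, z')
      rw [Prod.smul_mk]
      congr 1
      show q • ((X : F[X]) • z) = (X : F[X]) • (q • z)
      rw [smul_comm]
    show P (c₀ (P.symm (X • y))) = X • P (c₀ (P.symm y))
    rw [hPs, hc₀, hP]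
  let c : V →ₗ[F] V := ((AEval'.of f).symm : AEval' f →ₗ[F] V) ∘ₗ c₁ ∘ₗ
    ((AEval'.of f) : V →ₗ[F] AEval' f)
  refine ⟨c, ?_, ?_⟩
  · apply LinearMap.ext
    intro v
    show (AEval'.of f).symm (c₁ (AEval'.of f (f v))) = f ((AEval'.of f).symm (c₁ (AEval'.of f v)))
    rw [← AEval'.X_smul_of, hX, AEval'.of_symm_X_smul]
  · have := LinearMap.det_conj c₁ (AEval'.of f).symm
    rw [LinearEquiv.symm_symm] at this
    rw [this, hc₁]

end Cfsg.Agent.Lib.Helper5.SSConj
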