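import Mathlib
import Cfsg.Agent.Lib.Helper5.SSConj

set_option autoImplicit false
set_option linter.style.haveILetI false

namespace Cfsg.Agent.Lib.Helper5.SSConj

open Polynomial Module

theorem sl_class_eq_gl_class {F : Type*} [Field F] [Fintype F] {p : ℕ} [Fact p.Prime] [CharP F p]
    {n : ℕ} (x g : GL (Fin n) F) (hx : (orderOf x).Coprime p) :
    ∃ h : GL (Fin n) F, (h : Matrix (Fin n) (Fin n) F).det = 1 ∧ h * x * h⁻¹ = g * x * g⁻¹ := by
  cases n with
  | zero => exact ⟨g, Matrix.det_isEmpty, rfl⟩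
  | succ n =>
    set m := orderOf x with hm
    have hpm : ¬ p ∣ m := by
      intro hd
      have := Nat.Coprime.eq_one_of_dvd hx.symm hd
      exact (Fact.out : p.Prime).one_lt.ne' this
    let f : Module.End F (Fin (n + 1) → F) := Matrix.toLinAlgEquiv' (x : Matrix (Fin (n+1)) (Fin (n+1)) F)
    have hxm : (x : Matrix (Fin (n+1)) (Fin (n+1)) F) ^ m = 1 := by
      have h1 : x ^ m = 1 := pow_orderOf_eq_one x
      have := congrArg (fun y : GL (Fin (n+1)) F => (y : Matrix (Fin (n+1)) (Fin (n+1)) F)) h1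
      simpa using this
    have hfm : f ^ m = 1 := by
      show (Matrix.toLinAlgEquiv' (x : Matrix (Fin (n+1)) (Fin (n+1)) F)) ^ m = 1
      rw [← map_pow, hxm, map_one]
    have hss : f.IsSemisimple := by
      apply Module.End.isSemisimple_of_squarefree_aeval_eq_zero
        (separable_X_pow_sub_C' p m (1 : F) hpm one_ne_zero).squarefree
      simp [hfm]
    have hdg : (g : Matrix (Fin (n+1)) (Fin (n+1)) F).det ≠ 0 := by
      have h1 : (g * g⁻¹ : GL (Fin (n+1)) F) = 1 := mul_inv_cancel g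
      have h2 := congrArg (fun y : GL (Fin (n+1)) F => (y : Matrix (Fin (n+1)) (Fin (n+1)) F).det) h1
      simp only [Units.val_mul, Matrix.det_mul, Units.val_one, Matrix.det_one] at h2
      exact left_ne_zero_of_mul_eq_one h2
    obtain ⟨c, hcf, hcd⟩ := exists_commuting_det f hss ((g : Matrix (Fin (n+1)) (Fin (n+1)) F).det)⁻¹
    let C : Matrix (Fin (n+1)) (Fin (n+1)) F := Matrix.toLinAlgEquiv'.symm c
    have hCc : Matrix.toLinAlgEquiv' C = c := AlgEquiv.apply_symm_apply _ _
    have hCdet : C.det = ((g : Matrix (Fin (n+1)) (Fin (n+1)) F).det)⁻¹ := by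
      rw [← hcd, ← hCc]
      exact (LinearMap.det_toLin' C).symm
    have hCx : C * (x : Matrix (Fin (n+1)) (Fin (n+1)) F) = (x : Matrix (Fin (n+1)) (Fin (n+1)) F) * C := by
      apply Matrix.toLinAlgEquiv'.injective
      rw [map_mul, map_mul, hCc]
      exact hcf
    have hC0 : C.det ≠ 0 := by rw [hCdet]; exact inv_ne_zero hdg
    let C' : GL (Fin (n+1)) F := Matrix.GeneralLinearGroup.mkOfDetNeZero C hC0
    have hC'x : C' * x = x * C' := by
      apply Units.ext
      exact hCx
    refine ⟨g * C', ?_, ?_⟩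
    · show ((g : Matrix (Fin (n+1)) (Fin (n+1)) F) * C).det = 1
      rw [Matrix.det_mul, hCdet, mul_inv_cancel₀ hdg]
    · have : g * C' * x * (g * C')⁻¹ = g * (C' * x * C'⁻¹) * g⁻¹ := by group
      rw [this, hC'x, mul_inv_cancel_right]

end Cfsg.Agent.Lib.Helper5.SSConj
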