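import Mathlib
import Cfsg.Agent.Lib.Helper5.SSClassD
import Cfsg.Agent.Lib.Helper5.SSConjB

set_option autoImplicit false
set_option linter.style.haveILetI false
set_option linter.unusedSectionVars false

namespace Cfsg.Agent.Lib.Helper5.SSClass

open Polynomial Module

theorem isSemisimple_of_pow_eq_one {F : Type*} [Field F] {p : ℕ} [CharP F p]
    {V : Type*} [AddCommGroup V] [Module F V] (f : Module.End F V) (m : ℕ) (hfm : f ^ m = 1)
    (hpm : ¬ p ∣ m) : f.IsSemisimple := by
  apply Module.End.isSemisimple_of_squarefree_aeval_eq_zero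
    (separable_X_pow_sub_C' p m (1 : F) hpm one_ne_zero).squarefree
  simp [hfm]

theorem cp_aeval {F : Type*} [Field F] {V : Type*} [AddCommGroup V] [Module F V]
    [Module.Finite F V] (f : Module.End F V) : cp F (AEval' f) = f.charpoly := by
  have h := LinearEquiv.charpoly_conj (AEval'.of f) f
  rw [cp, ← h]
  congr 1
  apply LinearMap.ext
  intro y
  obtain ⟨v, rfl⟩ := (AEval'.of f).surjective y
  rw [xEnd_apply, AEval'.X_smul_of, LinearEquiv.conj_apply]
  simp

/-- semisimple endomorphisms with the same characteristic polynomial are conjugate -/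
theorem exists_conj_of_charpoly_eq {F : Type*} [Field F] {V : Type*} [AddCommGroup V] [Module F V]
    [Module.Finite F V] (f g : Module.End F V) (hf : f.IsSemisimple) (hg : g.IsSemisimple)
    (hc : f.charpoly = g.charpoly) : ∃ E : V ≃ₗ[F] V, ∀ v, E (f v) = g (E v) := by
  haveI : IsSemisimpleModule F[X] (AEval' f) := hf
  haveI : IsSemisimpleModule F[X] (AEval' g) := hg
  obtain ⟨e⟩ := iso_of_cp_eq _ (AEval' f) (AEval' g) rfl (by rw [cp_aeval, cp_aeval, hc])
  refine ⟨(AEval'.of f).trans ((e.restrictScalars F).trans (AEval'.of g).symm), ?_⟩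
  intro v
  show (AEval'.of g).symm (e (AEval'.of f (f v))) = g ((AEval'.of g).symm (e (AEval'.of f v)))
  rw [← AEval'.X_smul_of, map_smul, AEval'.of_symm_X_smul]

end Cfsg.Agent.Lib.Helper5.SSClass

namespace Cfsg.Agent.Lib.Helper5.SSClass

open Polynomial Module

/-- semisimple matrices with the same characteristic polynomial are conjugate in `GL` -/
theorem exists_gl_conj {F : Type*} [Field F] {n : ℕ} (A B : Matrix (Fin n) (Fin n) F)
    (hA : Module.End.IsSemisimple (Matrix.toLinAlgEquiv' A)) (hB : Module.End.IsSemisimple (Matrix.toLinAlgEquiv' B))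
    (hc : A.charpoly = B.charpoly) :
    ∃ G : GL (Fin n) F, (G : Matrix (Fin n) (Fin n) F) * A = B * (G : Matrix (Fin n) (Fin n) F) := by
  obtain ⟨E, hE⟩ := exists_conj_of_charpoly_eq (Matrix.toLinAlgEquiv' A) (Matrix.toLinAlgEquiv' B)
    hA hB (by
      show (Matrix.toLin' A).charpoly = (Matrix.toLin' B).charpoly
      rw [Matrix.charpoly_toLin', Matrix.charpoly_toLin', hc])
  let G : Matrix (Fin n) (Fin n) F := LinearMap.toMatrix' (E : (Fin n → F) →ₗ[F] (Fin n → F))
  let G' : Matrix (Fin n) (Fin n) F := LinearMap.toMatrix' (E.symm : (Fin n → F) →ₗ[F] (Fin n → F))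
  have h1 : G * G' = 1 := by
    rw [← LinearMap.toMatrix'_comp]
    simp
  have h2 : G' * G = 1 := by
    rw [← LinearMap.toMatrix'_comp]
    simp
  refine ⟨⟨G, G', h1, h2⟩, ?_⟩
  show G * A = B * G
  apply Matrix.toLin'.injective
  rw [Matrix.toLin'_mul, Matrix.toLin'_mul, Matrix.toLin'_toMatrix']
  apply LinearMap.ext
  intro v
  exact hE v

theorem sl_conj_of_charpoly_eq {F : Type*} [Field F] [Fintype F] (p : ℕ) [Fact p.Prime] [CharP F p]
    (n : ℕ) (g h : Matrix.SpecialLinearGroup (Fin n) F) (hg : (orderOf g).Coprime p)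
    (hh : (orderOf h).Coprime p)
    (hc : (g : Matrix (Fin n) (Fin n) F).charpoly = (h : Matrix (Fin n) (Fin n) F).charpoly) :
    IsConj g h := by
  have hp : p.Prime := Fact.out
  have key : ∀ k : Matrix.SpecialLinearGroup (Fin n) F, (orderOf k).Coprime p →
      Module.End.IsSemisimple (Matrix.toLinAlgEquiv' (k : Matrix (Fin n) (Fin n) F)) := by
    intro k hk
    apply isSemisimple_of_pow_eq_one (p := p) _ (orderOf k)
    · rw [← map_pow]
      have : (k : Matrix (Fin n) (Fin n) F) ^ orderOf k = 1 := by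
        rw [← Matrix.SpecialLinearGroup.coe_pow, pow_orderOf_eq_one]
        rfl
      rw [this, map_one]
    · intro hd
      have := Nat.Coprime.eq_one_of_dvd hk.symm hd
      exact hp.one_lt.ne' this
  obtain ⟨G, hG⟩ := exists_gl_conj _ _ (key g hg) (key h hh) hc
  -- move to GL
  let g' : GL (Fin n) F := Matrix.SpecialLinearGroup.toGL g
  have hg' : (orderOf g').Coprime p := by
    have : orderOf g' = orderOf g :=
      orderOf_injective (Matrix.SpecialLinearGroup.toGL) Matrix.SpecialLinearGroup.toGL_injective g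
    rw [this]; exact hg
  obtain ⟨c, hcdet, hcc⟩ := Cfsg.Agent.Lib.Helper5.SSConj.sl_class_eq_gl_class g' G hg'
  rw [isConj_iff]
  let c' : Matrix.SpecialLinearGroup (Fin n) F := ⟨c, hcdet⟩
  refine ⟨c', ?_⟩
  rw [mul_inv_eq_iff_eq_mul]
  apply Subtype.ext
  show (c : Matrix (Fin n) (Fin n) F) * g = h * c
  have h3 : G * g' * G⁻¹ = Matrix.SpecialLinearGroup.toGL h := by
    rw [mul_inv_eq_iff_eq_mul]
    apply Units.ext
    exact hG
  have h5 : c * g' = Matrix.SpecialLinearGroup.toGL h * c := by
    rw [← mul_inv_eq_iff_eq_mul, hcc, h3]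
  have h4 := congrArg (fun y : GL (Fin n) F => (y : Matrix (Fin n) (Fin n) F)) h5
  simp only [Units.val_mul] at h4
  exact h4

end Cfsg.Agent.Lib.Helper5.SSClass
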