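import Mathlib
import Cfsg.Agent.Lib.Helper5.SSClassE

set_option autoImplicit false
set_option linter.style.haveILetI false
set_option linter.unusedSectionVars false

namespace Cfsg.Agent.Lib.Helper5.SSClass

open Polynomial Module

universe u

/-- `χ` is the characteristic polynomial of an endomorphism of order prime to `p` -/
def Realizable (F : Type u) [Field F] (p : ℕ) (χ : F[X]) : Prop :=
  ∃ (V : Type u) (_ : AddCommGroup V) (_ : Module F V) (_ : Module.Finite F V)
    (f : Module.End F V), f.charpoly = χ ∧ ∃ m : ℕ, ¬ p ∣ m ∧ f ^ m = 1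

theorem realizable_one (F : Type u) [Field F] (p : ℕ) (hp : p.Prime) : Realizable F p 1 := by
  refine ⟨PUnit, inferInstance, inferInstance, inferInstance, 1, ?_, 1, ?_, ?_⟩
  · have h0 : Module.finrank F PUnit.{u+1} = 0 := Module.finrank_zero_of_subsingleton
    have : (LinearMap.charpoly (1 : Module.End F PUnit.{u+1})).natDegree = 0 := by
      rw [LinearMap.charpoly_natDegree, h0]
    exact (LinearMap.charpoly_monic _).natDegree_eq_zero.1 this
  · exact hp.one_lt.ne' ∘ Nat.dvd_one.1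
  · simp

theorem realizable_mul {F : Type u} [Field F] {p : ℕ} (hp : p.Prime) {χ₁ χ₂ : F[X]}
    (h₁ : Realizable F p χ₁) (h₂ : Realizable F p χ₂) : Realizable F p (χ₁ * χ₂) := by
  obtain ⟨V₁, _, _, _, f₁, hf₁, m₁, hm₁, hfm₁⟩ := h₁
  obtain ⟨V₂, _, _, _, f₂, hf₂, m₂, hm₂, hfm₂⟩ := h₂
  refine ⟨V₁ × V₂, inferInstance, inferInstance, inferInstance, f₁.prodMap f₂, ?_, m₁ * m₂, ?_, ?_⟩
  · rw [LinearMap.charpoly_prodMap, hf₁, hf₂]
  · intro h
    rcases (Nat.Prime.dvd_mul hp).1 h with h | h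
    · exact hm₁ h
    · exact hm₂ h
  · have h : f₁.prodMap f₂ = LinearMap.prodMapRingHom F V₁ V₂ (f₁, f₂) := rfl
    rw [h, ← map_pow, Prod.pow_mk, pow_mul, hfm₁, one_pow, mul_comm, pow_mul, hfm₂, one_pow]
    rfl

end Cfsg.Agent.Lib.Helper5.SSClass
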