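import Mathlib
import Cfsg.Agent.Lib.Helper5.SSRealA

set_option autoImplicit false
set_option linter.style.haveILetI false
set_option linter.unusedSectionVars false

namespace Cfsg.Agent.Lib.Helper5.SSClass

open Polynomial Module

universe u

theorem realizable_irreducible {F : Type u} [Field F] [Finite F] {p : ℕ} [CharP F p] (hp : p.Prime)
    {π : F[X]} (hmon : π.Monic) (hirr : Irreducible π) (h0 : π.coeff 0 ≠ 0) :
    Realizable F p π := by
  let I : Ideal F[X] := Ideal.span {π}
  haveI hImax : I.IsMaximal := PrincipalIdealRing.isMaximal_of_irreducible hirr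
  have hfr : Module.finrank F (F[X] ⧸ I) = π.natDegree := finrank_quotient_span_eq_natDegree
  have hdeg : 0 < π.natDegree := hirr.natDegree_pos
  haveI : Module.Finite F (F[X] ⧸ I) := Module.finite_of_finrank_pos (by rw [hfr]; exact hdeg)
  refine ⟨F[X] ⧸ I, inferInstance, inferInstance, inferInstance, xEnd F (F[X] ⧸ I), ?_, ?_⟩
  · have h := ideal_eq_span_cp I (LinearEquiv.refl F[X] (F[X] ⧸ I))
    have hass : Associated π (cp F (F[X] ⧸ I)) := Ideal.span_singleton_eq_span_singleton.1 h
    exact (eq_of_monic_of_associated hmon (cp_monic F _) hass).symm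
  · letI := Ideal.Quotient.field I
    haveI : Finite (F[X] ⧸ I) := Module.finite_of_finite F
    haveI : Fintype (F[X] ⧸ I) := Fintype.ofFinite _
    haveI : CharP (F[X] ⧸ I) p := charP_of_injective_algebraMap (algebraMap F (F[X] ⧸ I)).injective p
    obtain ⟨k, -, hk⟩ := FiniteField.card (F[X] ⧸ I) p
    refine ⟨Fintype.card (F[X] ⧸ I) - 1, ?_, ?_⟩
    · intro hd
      have h1 : p ∣ Fintype.card (F[X] ⧸ I) := by
        rw [hk]; exact dvd_pow_self p k.pos.ne'
      have hpos : 0 < Fintype.card (F[X] ⧸ I) := Fintype.card_pos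
      have h2 : p ∣ 1 := by
        have := Nat.dvd_sub h1 hd
        rwa [Nat.sub_sub_self hpos] at this
      exact hp.one_lt.ne' (Nat.dvd_one.1 h2)
    · have hx : (Ideal.Quotient.mk I X : F[X] ⧸ I) ≠ 0 := by
        intro h
        rw [Ideal.Quotient.eq_zero_iff_mem, Ideal.mem_span_singleton] at h
        have hass : Associated π X := hirr.associated_of_dvd irreducible_X h
        have := eq_of_monic_of_associated hmon monic_X hass
        rw [this, coeff_X_zero] at h0
        exact h0 rfl
      have hpow := FiniteField.pow_card_sub_one_eq_one _ hx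
      apply LinearMap.ext
      intro y
      have h : ∀ k : ℕ, ((xEnd F (F[X] ⧸ I)) ^ k) y = (Ideal.Quotient.mk I X) ^ k * y := by
        intro k
        induction k with
        | zero => simp
        | succ k ih =>
          rw [pow_succ', Module.End.mul_apply, ih, xEnd_apply, pow_succ', mul_assoc]
          rfl
      rw [h, hpow, one_mul, Module.End.one_apply]

end Cfsg.Agent.Lib.Helper5.SSClass

namespace Cfsg.Agent.Lib.Helper5.SSClass

open Polynomial Module

universe u

theorem realizable_of_monic {F : Type u} [Field F] [Finite F] {p : ℕ} [CharP F p] (hp : p.Prime) :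
    ∀ (d : ℕ) (χ : F[X]), χ.natDegree = d → χ.Monic → χ.coeff 0 ≠ 0 → Realizable F p χ := by
  intro d
  induction d using Nat.strong_induction_on with
  | _ d ih =>
    intro χ hd hmon h0
    by_cases hd0 : χ.natDegree = 0
    · rw [hmon.natDegree_eq_zero.1 hd0]
      exact realizable_one F p hp
    · obtain ⟨π, hπm, hπi, c, rfl⟩ := exists_monic_irreducible_factor χ
        (not_isUnit_of_natDegree_pos χ (Nat.pos_of_ne_zero hd0))
      have hcm : c.Monic := hπm.of_mul_monic_left hmon
      rw [mul_coeff_zero] at h0
      have hπ0 : π.coeff 0 ≠ 0 := left_ne_zero_of_mul h0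
      have hc0 : c.coeff 0 ≠ 0 := right_ne_zero_of_mul h0
      have hlt : c.natDegree < d := by
        rw [← hd, hπm.natDegree_mul hcm]
        have := hπi.natDegree_pos
        omega
      exact realizable_mul hp (realizable_irreducible hp hπm hπi hπ0) (ih _ hlt c rfl hcm hc0)

/-- every monic polynomial of degree `n` with nonzero constant term is the characteristic
polynomial of an invertible matrix of order prime to `p` -/
theorem exists_matrix_of_monic {F : Type u} [Field F] [Finite F] {p : ℕ} [CharP F p]
    (hp : p.Prime) (n : ℕ) (χ : F[X]) (hn : χ.natDegree = n) (hmon : χ.Monic)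
    (h0 : χ.coeff 0 ≠ 0) :
    ∃ (A : Matrix (Fin n) (Fin n) F) (m : ℕ), A.charpoly = χ ∧ ¬ p ∣ m ∧ A ^ m = 1 := by
  obtain ⟨V, _, _, _, f, hf, m, hm, hfm⟩ := realizable_of_monic hp n χ hn hmon h0
  have hfin : Module.finrank F V = n := by
    rw [← LinearMap.charpoly_natDegree f, hf, hn]
  let b : Basis (Fin n) F V := Module.finBasisOfFinrankEq F V hfin
  refine ⟨LinearMap.toMatrix b b f, m, ?_, hm, ?_⟩
  · rw [LinearMap.charpoly_toMatrix, hf]
  · have h1 : LinearMap.toMatrix b b f = LinearMap.toMatrixAlgEquiv b f := rfl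
    rw [h1, ← map_pow, hfm, map_one]

end Cfsg.Agent.Lib.Helper5.SSClass
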