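import Mathlib

set_option autoImplicit false
set_option linter.style.haveILetI false
set_option linter.unusedSectionVars false

namespace Cfsg.Agent.Lib.Helper5.SSClass

open Polynomial

section polycount

variable {F : Type*} [Field F]

/-- the monic polynomial of degree `n` with given lower coefficients -/
noncomputable def toPoly {n : ℕ} (a : Fin n → F) : F[X] :=
  X ^ n + ∑ i : Fin n, C (a i) * X ^ (i : ℕ)

theorem toPoly_monic {n : ℕ} (a : Fin n → F) : (toPoly a).Monic :=
  monic_X_pow_add (degree_sum_fin_lt a)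

theorem toPoly_natDegree {n : ℕ} (a : Fin n → F) : (toPoly a).natDegree = n := by
  have h : (∑ i : Fin n, C (a i) * X ^ (i : ℕ)).degree < ((X : F[X]) ^ n).degree := by
    rw [degree_X_pow]; exact degree_sum_fin_lt a
  unfold toPoly
  rw [natDegree_add_eq_left_of_degree_lt h, natDegree_X_pow]

theorem toPoly_coeff {n : ℕ} (a : Fin n → F) (i : Fin n) : (toPoly a).coeff i = a i := by
  unfold toPoly
  rw [coeff_add, coeff_X_pow, if_neg (by have := i.2; omega), zero_add, finsetSum_coeff]
  rw [Finset.sum_eq_single i]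
  · rw [coeff_C_mul_X_pow, if_pos rfl]
  · intro j _ hj
    rw [coeff_C_mul_X_pow, if_neg]
    intro h
    exact hj (Fin.ext h.symm)
  · intro h; exact absurd (Finset.mem_univ i) h

theorem toPoly_injective {n : ℕ} : Function.Injective (toPoly (F := F) (n := n)) := by
  intro a b h
  funext i
  rw [← toPoly_coeff a i, ← toPoly_coeff b i, h]

theorem toPoly_surj {n : ℕ} (χ : F[X]) (hm : χ.Monic) (hd : χ.natDegree = n) :
    ∃ a : Fin n → F, toPoly a = χ := by
  refine ⟨fun i => χ.coeff i, ?_⟩
  conv_rhs => rw [hm.as_sum, hd]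
  unfold toPoly
  rw [Fin.sum_univ_eq_sum_range (fun i => C (χ.coeff i) * X ^ i) n]

theorem card_monic_pred [Finite F] (k : ℕ) (P : F → Prop) :
    Nat.card {χ : F[X] // χ.Monic ∧ χ.natDegree = k + 1 ∧ P (χ.coeff 0)} =
      Nat.card {x : F // P x} * Nat.card F ^ k := by
  have e1 : {χ : F[X] // χ.Monic ∧ χ.natDegree = k + 1 ∧ P (χ.coeff 0)} ≃
      {a : Fin (k + 1) → F // P (a 0)} := by
    symm
    refine Equiv.ofBijective (fun a => ⟨toPoly a.1, toPoly_monic _, toPoly_natDegree _, ?_⟩) ⟨?_, ?_⟩
    · have := toPoly_coeff a.1 0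
      simp only [Fin.val_zero] at this
      rw [this]; exact a.2
    · intro a b h
      apply Subtype.ext
      apply toPoly_injective
      exact congrArg Subtype.val h
    · rintro ⟨χ, hm, hd, hP⟩
      obtain ⟨a, rfl⟩ := toPoly_surj χ hm hd
      refine ⟨⟨a, ?_⟩, rfl⟩
      have := toPoly_coeff a 0
      simp only [Fin.val_zero] at this
      rw [← this]; exact hP
  have e2 : {a : Fin (k + 1) → F // P (a 0)} ≃ {x : F // P x} × (Fin k → F) :=
    { toFun := fun a => (⟨a.1 0, a.2⟩, Fin.tail a.1)
      invFun := fun x => ⟨Fin.cons x.1.1 x.2, by simpa using x.1.2⟩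
      left_inv := by
        rintro ⟨a, ha⟩
        apply Subtype.ext
        exact Fin.cons_self_tail a
      right_inv := by
        rintro ⟨⟨x, hx⟩, t⟩
        simp }
  rw [Nat.card_congr (e1.trans e2), Nat.card_prod, Nat.card_fun, Nat.card_eq_fintype_card (α := Fin k),
    Fintype.card_fin]

end polycount

end Cfsg.Agent.Lib.Helper5.SSClass
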