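import Mathlib

set_option autoImplicit false
set_option linter.style.haveILetI false
set_option linter.unusedSectionVars false

namespace Cfsg.Agent.Lib.Helper5.PrimeOrd

open Polynomial

section cyc

variable {F : Type*} [Field F] [Fintype F] (p : ℕ) [Fact p.Prime] [CharP F p]

/-- the monic irreducible factors of the `r`-th cyclotomic polynomial -/
noncomputable def cycFactors (F : Type*) [Field F] (r : ℕ) : Finset F[X] := by
  classical
  exact (UniqueFactorizationMonoid.normalizedFactors (cyclotomic r F)).toFinset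

theorem mem_cycFactors_iff (r : ℕ) (f : F[X]) :
    f ∈ cycFactors F r ↔ Irreducible f ∧ f.Monic ∧ f ∣ cyclotomic r F := by
  classical
  unfold cycFactors
  rw [Multiset.mem_toFinset, UniqueFactorizationMonoid.mem_normalizedFactors_iff'
    (cyclotomic_ne_zero r F)]
  constructor
  · rintro ⟨h1, h2, h3⟩
    refine ⟨h1, ?_, h3⟩
    rw [← h2]
    exact monic_normalize h1.ne_zero
  · rintro ⟨h1, h2, h3⟩
    exact ⟨h1, h2.normalize_eq_self, h3⟩

theorem cast_ne_zero_of_ne {r : ℕ} (hr : r.Prime) (hrp : r ≠ p) : (r : F) ≠ 0 := by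
  intro h
  rw [CharP.cast_eq_zero_iff F p r] at h
  have hp : p.Prime := Fact.out
  exact hrp ((Nat.prime_dvd_prime_iff_eq hp hr).mp h).symm

theorem ne_X_sub_one_of_mem {r : ℕ} (hr : r.Prime) (hrp : r ≠ p) (f : F[X])
    (hf : f ∈ cycFactors F r) : f ≠ X - 1 := by
  rintro rfl
  rw [mem_cycFactors_iff] at hf
  have h1 : (X - 1 : F[X]) = X - C 1 := by simp
  have h2 := hf.2.2
  rw [h1, dvd_iff_isRoot, IsRoot.def] at h2
  haveI : Fact r.Prime := ⟨hr⟩
  rw [eval_one_cyclotomic_prime] at h2
  exact cast_ne_zero_of_ne p hr hrp h2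

theorem factor_cases {r : ℕ} (hr : r.Prime) (f : F[X]) (hf : Irreducible f) (hm : f.Monic)
    (hd : f ∣ X ^ r - 1) : f = X - 1 ∨ f ∈ cycFactors F r := by
  haveI : Fact r.Prime := ⟨hr⟩
  rw [← cyclotomic_prime_mul_X_sub_one F r] at hd
  rcases hf.prime.dvd_or_dvd hd with h | h
  · right
    rw [mem_cycFactors_iff]
    exact ⟨hf, hm, h⟩
  · left
    have h1 : (X - 1 : F[X]) = X - C 1 := by simp
    rw [h1] at h ⊢
    have hass : Associated f (X - C 1) := hf.associated_of_dvd (irreducible_X_sub_C 1) h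
    exact eq_of_monic_of_associated hm (monic_X_sub_C 1) hass

theorem natDegree_of_mem_cycFactors {r q i : ℕ} (hr : r.Prime) (hrp : r ≠ p)
    (hF : Fintype.card F = q) (hi : i = orderOf (q : ZMod r)) (f : F[X])
    (hf : f ∈ cycFactors F r) : f.natDegree = i := by
  classical
  obtain ⟨k, hk1, hk2⟩ := FiniteField.card F p
  have hK : Fintype.card F = p ^ (k : ℕ) := hk2
  have hp : p.Prime := Fact.out
  have hn : p.Coprime r := (Nat.coprime_primes hp hr).mpr (Ne.symm hrp)
  unfold cycFactors at hf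
  rw [Multiset.mem_toFinset] at hf
  have := natDegree_of_mem_normalizedFactors_cyclotomic hK hn (by convert hf)
  rw [this, hi, ← orderOf_units, ZMod.coe_unitOfCoprime, ← hF, hK]

theorem card_cycFactors {r q i t : ℕ} (hr : r.Prime) (hrp : r ≠ p)
    (hF : Fintype.card F = q) (hi : i = orderOf (q : ZMod r)) (ht : t * i = r - 1) :
    (cycFactors F r).card = t := by
  classical
  obtain ⟨k, hk1, hk2⟩ := FiniteField.card F p
  have hK : Fintype.card F = p ^ (k : ℕ) := hk2
  have hp : p.Prime := Fact.out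
  have hn : p.Coprime r := (Nat.coprime_primes hp hr).mpr (Ne.symm hrp)
  have := normalizedFactors_cyclotomic_card (K := F) hK hn
  have hi' : orderOf (ZMod.unitOfCoprime (p ^ (k : ℕ)) (hn.pow_left k)) = i := by
    rw [hi, ← orderOf_units, ZMod.coe_unitOfCoprime, ← hF, hK]
  rw [hi', Nat.totient_prime hr, ← ht] at this
  unfold cycFactors
  convert this using 1
  have hi0 : 0 < i := by
    rw [← hi']
    exact orderOf_pos _
  rw [Nat.mul_div_cancel _ hi0]

end cyc

end Cfsg.Agent.Lib.Helper5.PrimeOrd
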