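import Mathlib

set_option autoImplicit false
set_option linter.style.haveILetI false
set_option linter.unusedSectionVars false

namespace Cfsg.Agent.Lib.Helper5.PrimeOrd

open Polynomial

universe u

/-- an eigenvector kills `P(A) - P(λ)` -/
theorem aeval_mulVec_eigen {K : Type*} [Field K] {F : Type*} [Field F] [Algebra F K]
    {n : Type*} [Fintype n] [DecidableEq n]
    (A : Matrix n n K) (l : K) (v : n → K) (hv : A.mulVec v = l • v) (P : F[X]) :
    (aeval A P).mulVec v = (aeval l P) • v := by
  induction P using Polynomial.induction_on' with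
  | add p q hp hq => rw [map_add, map_add, Matrix.add_mulVec, hp, hq, add_smul]
  | monomial k a =>
    rw [aeval_monomial, aeval_monomial]
    have hk : ∀ k : ℕ, (A ^ k).mulVec v = l ^ k • v := by
      intro k
      induction k with
      | zero => simp
      | succ k ih =>
        rw [pow_succ, ← Matrix.mulVec_mulVec, hv, Matrix.mulVec_smul, ih, smul_smul, pow_succ, mul_comm]
    rw [← Matrix.mulVec_mulVec, hk, Matrix.mulVec_smul, Algebra.algebraMap_eq_smul_one,
      Matrix.smul_mulVec, Matrix.one_mulVec]
    rw [mul_smul, smul_comm, algebraMap_smul]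

/-- every irreducible factor of the characteristic polynomial divides every annihilating
polynomial -/
theorem dvd_of_dvd_charpoly {F : Type u} [Field F] {n : Type*} [Fintype n] [DecidableEq n]
    (A : Matrix n n F) (f : F[X]) (hf : Irreducible f) (hfc : f ∣ A.charpoly)
    (P : F[X]) (hP : aeval A P = 0) : f ∣ P := by
  haveI : Fact (Irreducible f) := ⟨hf⟩
  let K := AdjoinRoot f
  let l : K := AdjoinRoot.root f
  let φ : F →ₐ[F] K := Algebra.ofId F K
  let A' : Matrix n n K := φ.mapMatrix A
  have hA' : A' = A.map (algebraMap F K) := rfl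
  have hroot : A'.charpoly.eval l = 0 := by
    rw [hA', Matrix.charpoly_map, eval_map_algebraMap, AdjoinRoot.aeval_eq, AdjoinRoot.mk_eq_zero]
    exact hfc
  rw [Matrix.eval_charpoly] at hroot
  obtain ⟨v, hv0, hv⟩ := Matrix.exists_mulVec_eq_zero_iff.mpr hroot
  have hv' : A'.mulVec v = l • v := by
    rw [Matrix.sub_mulVec, sub_eq_zero] at hv
    rw [← hv]
    ext i
    simp [Matrix.scalar_apply, Matrix.mulVec_diagonal]
  have h1 := aeval_mulVec_eigen (F := F) A' l v hv' P
  have h2 : aeval A' P = 0 := by
    have := Polynomial.aeval_algHom_apply φ.mapMatrix A P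
    rw [hP, map_zero] at this
    exact this
  rw [h2, Matrix.zero_mulVec] at h1
  have h3 : aeval l P = 0 := by
    rcases smul_eq_zero.mp h1.symm with h | h
    · exact h
    · exact absurd h hv0
  rw [AdjoinRoot.aeval_eq, AdjoinRoot.mk_eq_zero] at h3
  exact h3

end Cfsg.Agent.Lib.Helper5.PrimeOrd
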