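import Mathlib
import Cfsg.Agent.Lib.Helper5.SSPoly
import Cfsg.Agent.Lib.Helper5.SSRealB

set_option autoImplicit false
set_option linter.style.haveILetI false
set_option linter.unusedSectionVars false

namespace Cfsg.Agent.Lib.Helper5.SSClass

open Polynomial Module

section gl

variable {F : Type*} [Field F] [Fintype F] (p : ℕ) [Fact p.Prime] [CharP F p] (n : ℕ)

theorem not_dvd_of_coprime {m : ℕ} (h : m.Coprime p) : ¬ p ∣ m := by
  intro hd
  have := Nat.Coprime.eq_one_of_dvd h.symm hd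
  exact (Fact.out : p.Prime).one_lt.ne' this

theorem gl_isSemisimple (g : GL (Fin n) F) (hg : (orderOf g).Coprime p) :
    Module.End.IsSemisimple (Matrix.toLinAlgEquiv' (g : Matrix (Fin n) (Fin n) F)) := by
  apply isSemisimple_of_pow_eq_one (p := p) _ (orderOf g)
  · rw [← map_pow]
    have h1 : g ^ orderOf g = 1 := pow_orderOf_eq_one g
    have : (g : Matrix (Fin n) (Fin n) F) ^ orderOf g = 1 := by
      rw [← Units.val_pow_eq_pow_val, h1]
      rfl
    rw [this, map_one]
  · exact not_dvd_of_coprime p hg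

theorem gl_conj_of_charpoly_eq (g h : GL (Fin n) F) (hg : (orderOf g).Coprime p)
    (hh : (orderOf h).Coprime p)
    (hc : (g : Matrix (Fin n) (Fin n) F).charpoly = (h : Matrix (Fin n) (Fin n) F).charpoly) :
    IsConj g h := by
  obtain ⟨G, hG⟩ := exists_gl_conj _ _ (gl_isSemisimple p n g hg) (gl_isSemisimple p n h hh) hc
  rw [isConj_iff]
  refine ⟨G, ?_⟩
  rw [mul_inv_eq_iff_eq_mul]
  apply Units.ext
  exact hG

theorem charpoly_eq_of_isConj (g h : GL (Fin n) F) (hc : IsConj g h) :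
    (g : Matrix (Fin n) (Fin n) F).charpoly = (h : Matrix (Fin n) (Fin n) F).charpoly := by
  rw [isConj_iff] at hc
  obtain ⟨c, rfl⟩ := hc
  have := Matrix.charpoly_units_conj c (g : Matrix (Fin n) (Fin n) F)
  rw [← this]
  congr 1
  simp [Matrix.coe_units_inv]

theorem gl_coeff_zero_ne (g : GL (Fin n) F) :
    (g : Matrix (Fin n) (Fin n) F).charpoly.coeff 0 ≠ 0 := by
  intro h
  have hd := Matrix.det_eq_sign_charpoly_coeff (g : Matrix (Fin n) (Fin n) F)
  rw [h, mul_zero] at hd
  have h1 : (g * g⁻¹ : GL (Fin n) F) = 1 := mul_inv_cancel g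
  have h2 := congrArg (fun y : GL (Fin n) F => (y : Matrix (Fin n) (Fin n) F).det) h1
  simp only [Units.val_mul, Matrix.det_mul, Units.val_one, Matrix.det_one] at h2
  rw [hd, zero_mul] at h2
  exact zero_ne_one h2

/-- existence of an element of `GL` with prescribed characteristic polynomial and order prime to `p` -/
theorem exists_gl_of_monic (χ : F[X]) (hmon : χ.Monic) (hd : χ.natDegree = n) (h0 : χ.coeff 0 ≠ 0) :
    ∃ g : GL (Fin n) F, (g : Matrix (Fin n) (Fin n) F).charpoly = χ ∧ (orderOf g).Coprime p := by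
  have hp : p.Prime := Fact.out
  obtain ⟨A, m, hA, hm, hAm⟩ := exists_matrix_of_monic hp n χ hd hmon h0
  have hm0 : m ≠ 0 := by rintro rfl; exact hm (dvd_zero p)
  obtain ⟨m', rfl⟩ : ∃ m', m = m' + 1 := ⟨m - 1, by omega⟩
  let g : GL (Fin n) F := ⟨A, A ^ m', by rw [← pow_succ', hAm], by rw [← pow_succ, hAm]⟩
  refine ⟨g, hA, ?_⟩
  have hg : g ^ (m' + 1) = 1 := by
    apply Units.ext
    rw [Units.val_pow_eq_pow_val]
    exact hAm
  have hdvd := orderOf_dvd_of_pow_eq_one hg
  rw [Nat.coprime_comm, Nat.Prime.coprime_iff_not_dvd hp]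
  intro h
  exact hm (h.trans hdvd)

end gl

end Cfsg.Agent.Lib.Helper5.SSClass
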