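import Mathlib
import Cfsg.Agent.Lib.Helper5.PrimeOrdA
import Cfsg.Agent.Lib.Helper5.SSGL

set_option autoImplicit false
set_option linter.style.haveILetI false
set_option linter.unusedSectionVars false

namespace Cfsg.Agent.Lib.Helper5.PrimeOrd

open Polynomial Cfsg.Agent.Lib.Helper5.SSClass

/-- all irreducible factors of `χ` divide `Q` -/
def Smooth {F : Type*} [Field F] (Q χ : F[X]) : Prop :=
  ∀ f : F[X], Irreducible f → f ∣ χ → f ∣ Q

theorem dvd_of_squarefree_smooth {F : Type*} [Field F] (μ Q : F[X]) (hQ : Q ≠ 0)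
    (hμ : Squarefree μ) (h : Smooth Q μ) : μ ∣ Q := by
  classical
  have hμ0 : μ ≠ 0 := hμ.ne_zero
  rw [UniqueFactorizationMonoid.dvd_iff_normalizedFactors_le_normalizedFactors hμ0 hQ]
  rw [Multiset.le_iff_subset
    ((UniqueFactorizationMonoid.squarefree_iff_nodup_normalizedFactors hμ0).mp hμ)]
  intro f hf
  rw [UniqueFactorizationMonoid.mem_normalizedFactors_iff' hμ0] at hf
  rw [UniqueFactorizationMonoid.mem_normalizedFactors_iff' hQ]
  exact ⟨hf.1, hf.2.1, h f hf.1 hf.2.2⟩

section gl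

variable {F : Type*} [Field F] [Fintype F] (p : ℕ) [Fact p.Prime] [CharP F p] (n : ℕ)

theorem pow_eq_one_iff_smooth (g : GL (Fin n) F) (hg : (orderOf g).Coprime p) (r : ℕ)
    (hr : 0 < r) :
    g ^ r = 1 ↔ Smooth (X ^ r - 1) (g : Matrix (Fin n) (Fin n) F).charpoly := by
  have key : g ^ r = 1 ↔ aeval (g : Matrix (Fin n) (Fin n) F) (X ^ r - 1 : F[X]) = 0 := by
    rw [map_sub, map_pow, aeval_X, map_one, sub_eq_zero, ← Units.val_pow_eq_pow_val]
    constructor
    · intro h; rw [h]; rfl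
    · intro h; exact Units.ext h
  constructor
  · intro h f hf hfc
    exact dvd_of_dvd_charpoly _ f hf hfc _ (key.mp h)
  · intro h
    rw [key]
    have hss := gl_isSemisimple p n g hg
    have hsq := hss.minpoly_squarefree
    have hmin : minpoly F (Matrix.toLinAlgEquiv' (g : Matrix (Fin n) (Fin n) F)) =
        minpoly F (g : Matrix (Fin n) (Fin n) F) := Matrix.minpoly_toLin' _
    rw [hmin] at hsq
    have hQ : (X ^ r - 1 : F[X]) ≠ 0 := by
      exact X_pow_sub_C_ne_zero hr 1
    have hdvd : minpoly F (g : Matrix (Fin n) (Fin n) F) ∣ X ^ r - 1 := by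
      apply dvd_of_squarefree_smooth _ _ hQ hsq
      intro f hf hfd
      exact h f hf (hfd.trans (Matrix.minpoly_dvd_charpoly _))
    exact aeval_eq_zero_of_dvd_aeval_eq_zero hdvd (minpoly.aeval _ _)

end gl

end Cfsg.Agent.Lib.Helper5.PrimeOrd
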