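import Mathlib
import Cfsg.Agent.Lib.Helper5.PrimeOrdB

set_option autoImplicit false
set_option linter.style.haveILetI false
set_option linter.unusedSectionVars false

namespace Cfsg.Agent.Lib.Helper5.PrimeOrd

open Polynomial

section bij

variable {F : Type*} [Field F] (S : Finset F[X]) (Q : F[X]) (i n : ℕ)

/-- the polynomial attached to a multiset of factors -/
noncomputable def phi (m : Multiset S) : F[X] :=
  (X - 1) ^ (n - i * Multiset.card m) * (m.map (fun f : S => (f : F[X]))).prod

variable (hS1 : ∀ f ∈ S, Irreducible f ∧ f.Monic ∧ f.natDegree = i ∧ f ∣ Q ∧ f ≠ X - 1)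
  (hS2 : ∀ f : F[X], Irreducible f → f.Monic → f ∣ Q → f = X - 1 ∨ f ∈ S)
  (hQ : (X - 1 : F[X]) ∣ Q) (hi : 0 < i)

include hS1 in
theorem phi_monic (m : Multiset S) : (phi S i n m).Monic := by
  have h1 : (X - 1 : F[X]) = X - C 1 := by simp
  unfold phi
  apply Monic.mul
  · rw [h1]; exact (monic_X_sub_C 1).pow _
  · apply monic_multiset_prod_of_monic
    intro f _
    exact (hS1 f.1 f.2).2.1

include hS1 in
theorem natDegree_prod (m : Multiset S) :
    (m.map (fun f : S => (f : F[X]))).prod.natDegree = Multiset.card m * i := by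
  rw [natDegree_multiset_prod_of_monic]
  · rw [Multiset.map_map]
    have : m.map (natDegree ∘ fun f : S => (f : F[X])) = m.map (fun _ => i) := by
      apply Multiset.map_congr rfl
      intro f _
      exact (hS1 f.1 f.2).2.2.1
    rw [this, Multiset.map_const', Multiset.sum_replicate, smul_eq_mul]
  · intro f hf
    rw [Multiset.mem_map] at hf
    obtain ⟨g, _, rfl⟩ := hf
    exact (hS1 g.1 g.2).2.1

include hS1 in
theorem phi_natDegree (m : Multiset S) (hm : Multiset.card m ≤ n / i) :
    (phi S i n m).natDegree = n := by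
  have h1 : (X - 1 : F[X]) = X - C 1 := by simp
  have hle : Multiset.card m * i ≤ n := Nat.mul_le_of_le_div i _ n hm
  unfold phi
  rw [Monic.natDegree_mul, Monic.natDegree_pow, h1, natDegree_X_sub_C, natDegree_prod S Q i hS1]
  · rw [mul_comm i]; omega
  · rw [h1]; exact monic_X_sub_C 1
  · rw [h1]; exact (monic_X_sub_C 1).pow _
  · apply monic_multiset_prod_of_monic
    intro f _
    exact (hS1 f.1 f.2).2.1

include hS1 hQ in
theorem phi_smooth (m : Multiset S) : Smooth Q (phi S i n m) := by
  intro f hf hd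
  unfold phi at hd
  rcases hf.prime.dvd_or_dvd hd with h | h
  · exact (hf.prime.dvd_of_dvd_pow h).trans hQ
  · obtain ⟨g, hg, hfg⟩ := hf.prime.exists_mem_multiset_dvd h
    rw [Multiset.mem_map] at hg
    obtain ⟨g', _, rfl⟩ := hg
    exact hfg.trans (hS1 g'.1 g'.2).2.2.2.1

include hS1 in
theorem phi_not_smooth (m : Multiset S) (hm : m ≠ 0) : ¬ Smooth (X - 1) (phi S i n m) := by
  intro hs
  obtain ⟨f, hf⟩ := Multiset.exists_mem_of_ne_zero hm
  have h1 : (X - 1 : F[X]) = X - C 1 := by simp
  have hS := hS1 f.1 f.2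
  have hd : (f : F[X]) ∣ phi S i n m := by
    unfold phi
    apply Dvd.dvd.mul_left
    apply Multiset.dvd_prod
    rw [Multiset.mem_map]
    exact ⟨f, hf, rfl⟩
  have h2 := hs f.1 hS.1 hd
  rw [h1] at h2
  have hass : Associated (f : F[X]) (X - C 1) := hS.1.associated_of_dvd (irreducible_X_sub_C 1) h2
  have := eq_of_monic_of_associated hS.2.1 (monic_X_sub_C 1) hass
  rw [← h1] at this
  exact hS.2.2.2.2 this

include hS1 in
theorem normalizedFactors_phi [DecidableEq F] (m : Multiset S) :
    UniqueFactorizationMonoid.normalizedFactors (phi S i n m) =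
      Multiset.replicate (n - i * Multiset.card m) (X - 1) + m.map (fun f : S => (f : F[X])) := by
  have h1 : (X - 1 : F[X]) = X - C 1 := by simp
  have hmon : (m.map (fun f : S => (f : F[X]))).prod.Monic := by
    apply monic_multiset_prod_of_monic
    intro f _
    exact (hS1 f.1 f.2).2.1
  unfold phi
  rw [UniqueFactorizationMonoid.normalizedFactors_mul, UniqueFactorizationMonoid.normalizedFactors_pow,
    UniqueFactorizationMonoid.normalizedFactors_prod_eq]
  · congr 1
    · rw [h1, UniqueFactorizationMonoid.normalizedFactors_irreducible (irreducible_X_sub_C 1),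
        (monic_X_sub_C 1).normalize_eq_self, Multiset.nsmul_singleton]
    · rw [Multiset.map_map]
      apply Multiset.map_congr rfl
      intro f _
      exact (hS1 f.1 f.2).2.1.normalize_eq_self
  · intro f hf
    rw [Multiset.mem_map] at hf
    obtain ⟨g, _, rfl⟩ := hf
    exact (hS1 g.1 g.2).1
  · rw [h1]; exact ((monic_X_sub_C 1).pow _).ne_zero
  · exact hmon.ne_zero

include hS1 in
theorem phi_injective (m m' : Multiset S) (h : phi S i n m = phi S i n m') : m = m' := by
  classical
  have h1 := normalizedFactors_phi S Q i n hS1 m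
  have h2 := normalizedFactors_phi S Q i n hS1 m'
  rw [h] at h1
  rw [h1] at h2
  apply Multiset.ext.mpr
  intro f
  have h3 := congrArg (Multiset.count (f : F[X])) h2
  have hne : (f : F[X]) ≠ X - 1 := (hS1 f.1 f.2).2.2.2.2
  rw [Multiset.count_add, Multiset.count_add, Multiset.count_replicate, Multiset.count_replicate,
    if_neg (Ne.symm hne), if_neg (Ne.symm hne), zero_add, zero_add,
    Multiset.count_map_eq_count' _ _ Subtype.val_injective,
    Multiset.count_map_eq_count' _ _ Subtype.val_injective] at h3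
  exact h3

include hS1 hS2 hi in
theorem phi_surjective (χ : F[X]) (hm : χ.Monic) (hd : χ.natDegree = n) (hs : Smooth Q χ)
    (hns : ¬ Smooth (X - 1) χ) :
    ∃ m : Multiset S, m ≠ 0 ∧ Multiset.card m ≤ n / i ∧ phi S i n m = χ := by
  classical
  have h1 : (X - 1 : F[X]) = X - C 1 := by simp
  set M := UniqueFactorizationMonoid.normalizedFactors χ with hM
  have hχ0 : χ ≠ 0 := hm.ne_zero
  have hMf : ∀ f ∈ M, Irreducible f ∧ f.Monic ∧ f ∣ χ := by
    intro f hf
    rw [hM, UniqueFactorizationMonoid.mem_normalizedFactors_iff' hχ0] at hf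
    refine ⟨hf.1, ?_, hf.2.2⟩
    rw [← hf.2.1]
    exact monic_normalize hf.1.ne_zero
  have hMS : ∀ f ∈ M.filter (fun f => f ≠ X - 1), f ∈ S := by
    intro f hf
    rw [Multiset.mem_filter] at hf
    obtain ⟨h2, h3, h4⟩ := hMf f hf.1
    rcases hS2 f h2 h3 (hs f h2 h4) with h | h
    · exact absurd h hf.2
    · exact h
  have hprod : M.prod = χ := by
    apply eq_of_monic_of_associated _ hm (UniqueFactorizationMonoid.prod_normalizedFactors hχ0)
    have := monic_multiset_prod_of_monic M id (fun f hf => (hMf f hf).2.1)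
    rwa [Multiset.map_id] at this
  have hsplit : M = Multiset.replicate (Multiset.count (X - 1) M) (X - 1) +
      M.filter (fun f => f ≠ X - 1) := by
    conv_lhs => rw [← Multiset.filter_add_not (fun f => f = X - 1) M]
    congr 1
    rw [Multiset.filter_eq']
  set c := Multiset.count (X - 1) M with hc
  set M₂ := M.filter (fun f => f ≠ X - 1) with hM₂
  let m : Multiset S := M₂.pmap (fun f hf => (⟨f, hf⟩ : S)) hMS
  have hmap : m.map (fun f : S => (f : F[X])) = M₂ := by
    show (M₂.pmap (fun f hf => (⟨f, hf⟩ : S)) hMS).map (fun f : S => (f : F[X])) = M₂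
    rw [Multiset.map_pmap, Multiset.pmap_eq_map, Multiset.map_id']
  have hcard : Multiset.card m = Multiset.card M₂ := Multiset.card_pmap _ _ _
  have hχ : χ = (X - 1) ^ c * M₂.prod := by
    rw [← hprod]
    conv_lhs => rw [hsplit]
    rw [Multiset.prod_add, Multiset.prod_replicate]
  have hdeg : n = c + Multiset.card m * i := by
    rw [← hd, hχ, Monic.natDegree_mul, Monic.natDegree_pow, h1, natDegree_X_sub_C, ← hmap,
      natDegree_prod S Q i hS1, mul_one]
    · rw [h1]; exact monic_X_sub_C 1
    · rw [h1]; exact (monic_X_sub_C 1).pow _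
    · rw [← hmap]
      apply monic_multiset_prod_of_monic
      intro f _
      exact (hS1 f.1 f.2).2.1
  refine ⟨m, ?_, ?_, ?_⟩
  · intro h0
    apply hns
    intro f hf hfd
    rw [hχ, ← hmap, h0, Multiset.map_zero, Multiset.prod_zero, mul_one] at hfd
    exact hf.prime.dvd_of_dvd_pow hfd
  · rw [Nat.le_div_iff_mul_le hi]
    omega
  · unfold phi
    rw [hmap, hχ]
    congr 2
    rw [mul_comm i]
    omega

end bij

end Cfsg.Agent.Lib.Helper5.PrimeOrd
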