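import Mathlib
import Cfsg.Agent.Lib.Helper5.PrimeOrdC
import Cfsg.Agent.Lib.Helper5.PrimeOrdD
import Cfsg.Agent.Lib.Helper5.PrimeOrdE

set_option autoImplicit false
set_option linter.style.haveILetI false
set_option linter.unusedSectionVars false

namespace Cfsg.Agent.Lib.Helper5.PrimeOrd

open Polynomial Cfsg.Agent.Lib.Helper5.SSClass

section bij

variable {F : Type*} [Field F] (S : Finset F[X]) (Q : F[X]) (i n : ℕ)

theorem card_smooth_polys
    (hS1 : ∀ f ∈ S, Irreducible f ∧ f.Monic ∧ f.natDegree = i ∧ f ∣ Q ∧ f ≠ X - 1)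
    (hS2 : ∀ f : F[X], Irreducible f → f.Monic → f ∣ Q → f = X - 1 ∨ f ∈ S)
    (hQ : (X - 1 : F[X]) ∣ Q) (hi : 0 < i) :
    Nat.card {χ : F[X] // χ.Monic ∧ χ.natDegree = n ∧ Smooth Q χ ∧ ¬ Smooth (X - 1) χ} =
      Nat.card {m : Multiset S // m ≠ 0 ∧ Multiset.card m ≤ n / i} := by
  symm
  apply Nat.card_congr
  refine Equiv.ofBijective (fun m => ⟨phi S i n m.1, phi_monic S Q i n hS1 m.1,
    phi_natDegree S Q i n hS1 m.1 m.2.2, phi_smooth S Q i n hS1 hQ m.1,
    phi_not_smooth S Q i n hS1 m.1 m.2.1⟩) ⟨?_, ?_⟩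
  · intro m m' h
    apply Subtype.ext
    exact phi_injective S Q i n hS1 _ _ (congrArg Subtype.val h)
  · rintro ⟨χ, h1, h2, h3, h4⟩
    obtain ⟨m, hm1, hm2, hm3⟩ := phi_surjective S Q i n hS1 hS2 hi χ h1 h2 h3 h4
    exact ⟨⟨m, hm1, hm2⟩, Subtype.ext hm3⟩

end bij

section gl

variable {F : Type*} [Field F] [Fintype F] (p : ℕ) [Fact p.Prime] [CharP F p] (n : ℕ)

theorem card_classes_eq_polys (r : ℕ) (hr : r.Prime) (hrp : r ≠ p) :
    Nat.card {C : ConjClasses (GL (Fin n) F) //
      ∃ g : GL (Fin n) F, ConjClasses.mk g = C ∧ orderOf g = r} =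
    Nat.card {χ : F[X] // χ.Monic ∧ χ.natDegree = n ∧ Smooth (X ^ r - 1) χ ∧
      ¬ Smooth (X - 1) χ} := by
  have hp : p.Prime := Fact.out
  haveI : Fact r.Prime := ⟨hr⟩
  have hcop : r.Coprime p := (Nat.coprime_primes hr hp).mpr hrp
  have hone : ∀ g : GL (Fin n) F, (orderOf g).Coprime p →
      (g = 1 ↔ Smooth (X - 1) (g : Matrix (Fin n) (Fin n) F).charpoly) := by
    intro g hg
    have := pow_eq_one_iff_smooth p n g hg 1 one_pos
    rwa [pow_one, pow_one] at this
  apply Nat.card_congr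
  refine Equiv.ofBijective (fun c => ⟨((Classical.choose c.2 : GL (Fin n) F) :
      Matrix (Fin n) (Fin n) F).charpoly, Matrix.charpoly_monic _, ?_, ?_, ?_⟩) ⟨?_, ?_⟩
  · rw [Matrix.charpoly_natDegree_eq_dim, Fintype.card_fin]
  · have h1 := (Classical.choose_spec c.2).2
    have hg : (orderOf (Classical.choose c.2)).Coprime p := by rw [h1]; exact hcop
    rw [← pow_eq_one_iff_smooth p n _ hg r hr.pos]
    exact (orderOf_eq_prime_iff.mp h1).1
  · have h1 := (Classical.choose_spec c.2).2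
    have hg : (orderOf (Classical.choose c.2)).Coprime p := by rw [h1]; exact hcop
    rw [← hone _ hg]
    exact (orderOf_eq_prime_iff.mp h1).2
  · rintro ⟨c, hc⟩ ⟨c', hc'⟩ h
    have h1 := Classical.choose_spec hc
    have h2 := Classical.choose_spec hc'
    have h3 : ((Classical.choose hc : GL (Fin n) F) :
        Matrix (Fin n) (Fin n) F).charpoly =
        ((Classical.choose hc' : GL (Fin n) F) :
        Matrix (Fin n) (Fin n) F).charpoly := congrArg Subtype.val h
    have h4 := gl_conj_of_charpoly_eq p n _ _ (by rw [h1.2]; exact hcop)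
      (by rw [h2.2]; exact hcop) h3
    apply Subtype.ext
    show c = c'
    rw [← h1.1, ← h2.1, ConjClasses.mk_eq_mk_iff_isConj]
    exact h4
  · rintro ⟨χ, hm, hd, hs, hns⟩
    have h0 : χ.coeff 0 ≠ 0 := by
      intro h0
      have hX : (X : F[X]) ∣ χ := X_dvd_iff.mpr h0
      have := hs X irreducible_X hX
      have h2 := eval_dvd (x := (0 : F)) this
      simp only [eval_X, eval_sub, eval_pow, eval_one, zero_pow hr.ne_zero, zero_sub,
        zero_dvd_iff, neg_eq_zero, one_ne_zero] at h2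
    obtain ⟨g, hg, hgo⟩ := exists_gl_of_monic p n χ hm hd h0
    have hgr : orderOf g = r := by
      rw [orderOf_eq_prime_iff]
      constructor
      · rw [pow_eq_one_iff_smooth p n g hgo r hr.pos, hg]
        exact hs
      · rw [Ne, hone g hgo, hg]
        exact hns
    have hex : ∃ g' : GL (Fin n) F, ConjClasses.mk g' = ConjClasses.mk g ∧
        orderOf g' = r := ⟨g, rfl, hgr⟩
    refine ⟨⟨ConjClasses.mk g, hex⟩, ?_⟩
    apply Subtype.ext
    show ((Classical.choose hex : GL (Fin n) F) : Matrix (Fin n) (Fin n) F).charpoly = χ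
    rw [← hg]
    apply charpoly_eq_of_isConj
    rw [← ConjClasses.mk_eq_mk_iff_isConj]
    exact (Classical.choose_spec hex).1

theorem card_prime_order_classes {q : ℕ} (hF : Fintype.card F = q) (r i t : ℕ) (hr : r.Prime)
    (hrp : r ≠ p) (hi : i = orderOf (q : ZMod r)) (ht : t * i = r - 1) :
    Nat.card {C : ConjClasses (GL (Fin n) F) //
      ∃ g : GL (Fin n) F, ConjClasses.mk g = C ∧ orderOf g = r} =
      Nat.choose (n / i + t) t - 1 := by
  haveI : Fact r.Prime := ⟨hr⟩
  have hi0 : 0 < i := by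
    rcases Nat.eq_zero_or_pos i with h | h
    · rw [h, mul_zero] at ht
      have := hr.two_le
      omega
    · exact h
  have h1 : (X - 1 : F[X]) ∣ X ^ r - 1 := by
    rw [← cyclotomic_prime_mul_X_sub_one F r]
    exact dvd_mul_left _ _
  have hcyc : cyclotomic r F ∣ X ^ r - 1 := by
    rw [← cyclotomic_prime_mul_X_sub_one F r]
    exact dvd_mul_right _ _
  rw [card_classes_eq_polys p n r hr hrp,
    card_smooth_polys (cycFactors F r) (X ^ r - 1) i n ?_ ?_ h1 hi0,
    card_multiset_le_ne, Fintype.card_coe, card_cycFactors p hr hrp hF hi ht]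
  · intro f hf
    have h2 := (mem_cycFactors_iff r f).mp hf
    exact ⟨h2.1, h2.2.1, natDegree_of_mem_cycFactors p hr hrp hF hi f hf, h2.2.2.trans hcyc,
      ne_X_sub_one_of_mem p hr hrp f hf⟩
  · intro f hf hm hd
    exact factor_cases hr f hf hm hd

end gl

end Cfsg.Agent.Lib.Helper5.PrimeOrd
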