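import Mathlib

set_option autoImplicit false
set_option linter.style.haveILetI false
set_option linter.unusedSectionVars false

namespace Cfsg.Agent.Lib.Helper5.Pgl

theorem quot_orderOf_eq_prime_iff {G : Type*} [Group G] (N : Subgroup G) [N.Normal] (g : G)
    (r : ℕ) [Fact r.Prime] :
    orderOf (QuotientGroup.mk g : G ⧸ N) = r ↔ g ^ r ∈ N ∧ g ∉ N := by
  rw [orderOf_eq_prime_iff, ← QuotientGroup.mk_pow, QuotientGroup.eq_one_iff, Ne,
    QuotientGroup.eq_one_iff]

theorem quot_isConj_iff {G : Type*} [Group G] (N : Subgroup G) [N.Normal] (g h : G) :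
    IsConj (QuotientGroup.mk g : G ⧸ N) (QuotientGroup.mk h) ↔
      ∃ c : G, ∃ z ∈ N, c * g * c⁻¹ = h * z := by
  rw [isConj_iff]
  constructor
  · rintro ⟨c, hc⟩
    obtain ⟨c, rfl⟩ := QuotientGroup.mk_surjective c
    rw [← QuotientGroup.mk_inv, ← QuotientGroup.mk_mul, ← QuotientGroup.mk_mul,
      QuotientGroup.eq] at hc
    have hc' := N.inv_mem hc
    rw [mul_inv_rev, inv_inv] at hc'
    exact ⟨c, h⁻¹ * (c * g * c⁻¹), hc', by group⟩
  · rintro ⟨c, z, hz, hc⟩
    refine ⟨QuotientGroup.mk c, ?_⟩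
    rw [← QuotientGroup.mk_inv, ← QuotientGroup.mk_mul, ← QuotientGroup.mk_mul, hc,
      QuotientGroup.mk_mul, (QuotientGroup.eq_one_iff z).mpr hz, mul_one]

end Cfsg.Agent.Lib.Helper5.Pgl
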