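import Mathlib

set_option autoImplicit false
set_option linter.style.haveILetI false
set_option linter.unusedSectionVars false

namespace Cfsg.Agent.Lib.Helper5.Pgl

section burnside

variable (G : Type*) [Group G] (n : ℕ)

/-- multisets of size `n` that are not constant -/
def NS : Type _ := {m : Multiset G // Multiset.card m = n ∧ ∀ x, m ≠ Multiset.replicate n x}

variable {G n}

theorem map_mul_inv_cancel (g : G) (m : Multiset G) :
    (m.map (fun x => g * x)).map (fun x => g⁻¹ * x) = m := by
  rw [Multiset.map_map]
  have : ((fun x => g⁻¹ * x) ∘ fun x => g * x) = id := by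
    funext x; simp
  rw [this, Multiset.map_id]

/-- translation of a non-constant multiset -/
def NS.smul (g : G) (m : NS G n) : NS G n :=
  ⟨m.1.map (fun x => g * x), by rw [Multiset.card_map]; exact m.2.1, fun x h => by
    apply m.2.2 (g⁻¹ * x)
    have := congrArg (Multiset.map (fun y => g⁻¹ * y)) h
    rw [map_mul_inv_cancel, Multiset.map_replicate] at this
    exact this⟩

instance : MulAction G (NS G n) where
  smul := NS.smul
  one_smul m := by
    apply Subtype.ext
    show m.1.map (fun x => 1 * x) = m.1
    simp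
  mul_smul g h m := by
    apply Subtype.ext
    show m.1.map (fun x => g * h * x) = (m.1.map (fun x => h * x)).map (fun x => g * x)
    rw [Multiset.map_map]
    apply Multiset.map_congr rfl
    intro x _
    simp [mul_assoc]

theorem NS.smul_val (g : G) (m : NS G n) : (g • m).1 = m.1.map (fun x => g * x) := rfl

variable [Fintype G] [DecidableEq G]

theorem count_const_of_fixed {r : ℕ} [Fact r.Prime] (hG : Nat.card G = r) (g : G) (hg : g ≠ 1)
    (m : Multiset G) (hm : m.map (fun x => g * x) = m) (x : G) :
    Multiset.count x m = Multiset.count 1 m := by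
  have h1 : ∀ y, Multiset.count (g * y) m = Multiset.count y m := by
    intro y
    conv_lhs => rw [← hm]
    exact Multiset.count_map_eq_count' (fun x => g * x) m (mul_right_injective g) y
  have h2 : ∀ k : ℕ, Multiset.count (g ^ k) m = Multiset.count 1 m := by
    intro k
    induction k with
    | zero => simp
    | succ k ih => rw [pow_succ', h1, ih]
  have hx : x ∈ Subgroup.zpowers g := by
    rw [zpowers_eq_top_of_prime_card hG hg]; trivial
  rw [mem_zpowers_iff_mem_range_orderOf, Finset.mem_image] at hx
  obtain ⟨k, _, rfl⟩ := hx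
  exact h2 k

theorem fixed_iff {r : ℕ} [Fact r.Prime] (hG : Nat.card G = r) (g : G) (hg : g ≠ 1)
    (m : NS G n) : g • m = m ↔ r ∣ n ∧ m.1 = (n / r) • (Finset.univ : Finset G).val := by
  have hr : r.Prime := Fact.out
  have hcard : Fintype.card G = r := by rw [← Nat.card_eq_fintype_card, hG]
  constructor
  · intro h
    have h' : m.1.map (fun x => g * x) = m.1 := congrArg Subtype.val h
    have hc := count_const_of_fixed hG g hg m.1 h'
    have hsum : ∑ x : G, Multiset.count x m.1 = Multiset.card m.1 :=
      Multiset.sum_count_eq_card (fun a _ => Finset.mem_univ a)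
    rw [Finset.sum_congr rfl (fun x _ => hc x), Finset.sum_const, Finset.card_univ, hcard,
      smul_eq_mul, m.2.1] at hsum
    refine ⟨⟨_, hsum.symm⟩, ?_⟩
    apply Multiset.ext.mpr
    intro x
    have hdiv : n / r = Multiset.count 1 m.1 := by
      conv_lhs => rw [← hsum]
      exact Nat.mul_div_cancel_left _ hr.pos
    rw [hc x, Multiset.count_nsmul, Multiset.count_univ, mul_one, hdiv]
  · rintro ⟨_, h⟩
    apply Subtype.ext
    rw [NS.smul_val, h, Multiset.map_nsmul]
    congr 1
    exact Multiset.map_univ_val_equiv (Equiv.mulLeft g)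

/-- the multiset containing every element `n / r` times -/
def NS.full {r : ℕ} (hr : r.Prime) (hG : Nat.card G = r) (hn : 0 < n) (hrn : r ∣ n) : NS G n :=
  ⟨(n / r) • (Finset.univ : Finset G).val, by
    rw [Multiset.card_nsmul, Finset.card_val, Finset.card_univ, ← Nat.card_eq_fintype_card, hG,
      Nat.div_mul_cancel hrn], fun x h => by
    have h1 := congrArg (Multiset.count x) h
    rw [Multiset.count_nsmul, Multiset.count_univ, mul_one, Multiset.count_replicate_self] at h1
    have h2 : n / r < n := Nat.div_lt_self hn hr.one_lt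
    omega⟩

theorem card_fixedBy {r : ℕ} [Fact r.Prime] (hG : Nat.card G = r) (hn : 0 < n) (g : G)
    (hg : g ≠ 1) :
    Nat.card (MulAction.fixedBy (NS G n) g) = if r ∣ n then 1 else 0 := by
  have hr : r.Prime := Fact.out
  split_ifs with hrn
  · rw [Nat.card_eq_one_iff_unique]
    refine ⟨⟨?_⟩, ⟨⟨NS.full hr hG hn hrn, ?_⟩⟩⟩
    · rintro ⟨a, ha⟩ ⟨b, hb⟩
      apply Subtype.ext
      apply Subtype.ext
      rw [MulAction.mem_fixedBy, fixed_iff hG g hg] at ha hb
      rw [ha.2, hb.2]
    · rw [MulAction.mem_fixedBy, fixed_iff hG g hg]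
      exact ⟨hrn, rfl⟩
  · rw [Nat.card_eq_zero]
    left
    constructor
    rintro ⟨a, ha⟩
    rw [MulAction.mem_fixedBy, fixed_iff hG g hg] at ha
    exact hrn ha.1

theorem card_NS {r : ℕ} (hG : Nat.card G = r) (hn : 0 < n) :
    Nat.card (NS G n) = (n + r - 1).choose (r - 1) - r := by
  have hcard : Fintype.card G = r := by rw [← Nat.card_eq_fintype_card, hG]
  have hr0 : 0 < r := by rw [← hcard]; exact Fintype.card_pos
  let f : G → Sym G n := fun x => Sym.replicate n x
  have hf : Function.Injective f := by
    intro x y h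
    have h1 : (Multiset.replicate n x) = Multiset.replicate n y := congrArg Subtype.val h
    have h2 : x ∈ Multiset.replicate n y := by
      rw [← h1, Multiset.mem_replicate]; exact ⟨hn.ne', rfl⟩
    exact (Multiset.mem_replicate.mp h2).2
  let e : NS G n ≃ {s : Sym G n // ¬ ∃ x, f x = s} :=
    { toFun := fun m => ⟨⟨m.1, m.2.1⟩, fun ⟨x, hx⟩ => m.2.2 x (congrArg Subtype.val hx).symm⟩
      invFun := fun s => ⟨s.1.1, s.1.2, fun x h => s.2 ⟨x, Subtype.ext h.symm⟩⟩
      left_inv := fun m => rfl
      right_inv := fun s => rfl }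
  rw [Nat.card_congr e, Nat.card_eq_fintype_card, Fintype.card_subtype_compl,
    Sym.card_sym_eq_choose, hcard]
  have h1 : Fintype.card {s : Sym G n // ∃ x, f x = s} = r := by
    rw [← hcard, ← Nat.card_eq_fintype_card, ← Nat.card_eq_fintype_card]
    exact (Nat.card_congr (Equiv.ofInjective f hf)).symm
  rw [h1]
  congr 1
  have : r + n - 1 = n + (r - 1) := by omega
  rw [this, show n + r - 1 = n + (r - 1) by omega]
  exact Nat.choose_symm_add

theorem finite_NS : Finite (NS G n) :=
  haveI : Finite (Sym G n) := Finite.of_fintype _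
  Finite.of_injective (β := Sym G n) (fun m : NS G n => (⟨m.1, m.2.1⟩ : Sym G n)) (by
    intro a b h
    apply Subtype.ext
    exact congrArg (fun s : Sym G n => (s : Multiset G)) h)

theorem card_orbits {r : ℕ} [Fact r.Prime] (hG : Nat.card G = r) (hn : 0 < n) :
    Nat.card (MulAction.orbitRel.Quotient G (NS G n)) =
      ((n + r - 1).choose (r - 1) - r - (if r ∣ n then 1 else 0)) / r +
        (if r ∣ n then 1 else 0) := by
  classical
  have hr : r.Prime := Fact.out
  have hcard : Fintype.card G = r := by rw [← Nat.card_eq_fintype_card, hG]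
  haveI : Finite (NS G n) := finite_NS
  haveI : Fintype (NS G n) := Fintype.ofFinite _
  haveI : ∀ g : G, Fintype (MulAction.fixedBy (NS G n) g) := fun g => Fintype.ofFinite _
  haveI : Fintype (MulAction.orbitRel.Quotient G (NS G n)) := Fintype.ofFinite _
  have B := MulAction.sum_card_fixedBy_eq_card_orbits_mul_card_group G (NS G n)
  rw [hcard] at B
  have h1 : ∀ g : G, g ≠ 1 → Fintype.card (MulAction.fixedBy (NS G n) g) =
      if r ∣ n then 1 else 0 := by
    intro g hg
    rw [← Nat.card_eq_fintype_card]
    exact card_fixedBy hG hn g hg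
  have h0 : Fintype.card (MulAction.fixedBy (NS G n) (1 : G)) = (n + r - 1).choose (r - 1) - r := by
    rw [← Nat.card_eq_fintype_card, ← card_NS hG hn]
    apply Nat.card_congr
    exact Equiv.subtypeUnivEquiv (fun m => by rw [MulAction.mem_fixedBy, one_smul])
  rw [← Finset.add_sum_erase Finset.univ _ (Finset.mem_univ (1 : G)), h0,
    Finset.sum_congr rfl (fun g hg => h1 g (Finset.ne_of_mem_erase hg)), Finset.sum_const,
    Finset.card_erase_of_mem (Finset.mem_univ _), Finset.card_univ, hcard, smul_eq_mul] at B
  rw [Nat.card_eq_fintype_card]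
  set k := Fintype.card (MulAction.orbitRel.Quotient G (NS G n)) with hk
  set c := (n + r - 1).choose (r - 1) - r with hc
  split_ifs at B ⊢ with hrn
  · have hc1 : 1 ≤ c := by
      rw [hc, ← card_NS hG hn]
      haveI : Nonempty (NS G n) := ⟨NS.full hr hG hn hrn⟩
      exact Nat.card_pos
    have hr2 := hr.two_le
    have hk1 : 1 ≤ k := by
      rcases Nat.eq_zero_or_pos k with h | h
      · rw [h, zero_mul] at B; omega
      · exact h
    have : c - 1 = (k - 1) * r := by
      have : k * r = (k - 1) * r + r := by
        conv_lhs => rw [show k = (k - 1) + 1 by omega]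
        ring
      omega
    rw [this, Nat.mul_div_cancel _ hr.pos]
    omega
  · rw [mul_zero, add_zero] at B
    rw [Nat.sub_zero, add_zero, B, Nat.mul_div_cancel _ hr.pos]

end burnside

end Cfsg.Agent.Lib.Helper5.Pgl
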