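import Mathlib
import Cfsg.Agent.Lib.Helper5.PrimeOrdB

set_option autoImplicit false
set_option linter.style.haveILetI false
set_option linter.unusedSectionVars false

namespace Cfsg.Agent.Lib.Helper5.Pgl

open Polynomial Cfsg.Agent.Lib.Helper5.SSClass Cfsg.Agent.Lib.Helper5.PrimeOrd

theorem charpoly_smul_comp {F : Type*} [Field F] {n : ℕ} (A : Matrix (Fin n) (Fin n) F) (ν : F) :
    (ν • A).charpoly.comp (C ν * X) = C (ν ^ n) * A.charpoly := by
  unfold Matrix.charpoly
  have h1 : (Matrix.charmatrix (ν • A)).det.comp (C ν * X) =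
      ((compRingHom (C ν * X)).mapMatrix (Matrix.charmatrix (ν • A))).det := by
    rw [← RingHom.map_det]
    rfl
  rw [h1]
  have h2 : (compRingHom (C ν * X)).mapMatrix (Matrix.charmatrix (ν • A)) =
      (C ν : F[X]) • Matrix.charmatrix A := by
    ext i j
    simp only [RingHom.mapMatrix_apply, Matrix.map_apply, Matrix.smul_apply, smul_eq_mul,
      coe_compRingHom_apply]
    by_cases hij : i = j
    · subst hij
      rw [Matrix.charmatrix_apply_eq, Matrix.charmatrix_apply_eq]
      simp only [Matrix.smul_apply, smul_eq_mul, sub_comp, X_comp, C_comp]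
      rw [C_mul]
      ring_nf
    · rw [Matrix.charmatrix_apply_ne _ _ _ hij, Matrix.charmatrix_apply_ne _ _ _ hij]
      simp only [Matrix.smul_apply, smul_eq_mul, neg_comp, C_comp]
      rw [C_mul]
      ring_nf
  rw [h2, Matrix.det_smul, Fintype.card_fin, ← C_pow]

theorem comp_mul_X_injective {F : Type*} [Field F] (ν : F) (hν : ν ≠ 0) (P Q : F[X])
    (h : P.comp (C ν * X) = Q.comp (C ν * X)) : P = Q := by
  have h1 := congrArg (fun R : F[X] => R.comp (C ν⁻¹ * X)) h
  simp only [comp_assoc] at h1
  have h2 : (C ν * X : F[X]).comp (C ν⁻¹ * X) = X := by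
    rw [mul_comp, C_comp, X_comp, ← mul_assoc, ← C_mul, mul_inv_cancel₀ hν, C_1, one_mul]
  rwa [h2, comp_X, comp_X] at h1

theorem charpoly_smul_of_split {F : Type*} [Field F] {n : ℕ} (A : Matrix (Fin n) (Fin n) F)
    (ν : F) (hν : ν ≠ 0) (m : Multiset F)
    (hA : A.charpoly = (m.map (fun x => X - C x)).prod) :
    (ν • A).charpoly = ((m.map (fun x => ν * x)).map (fun x => X - C x)).prod := by
  apply comp_mul_X_injective ν hν
  rw [charpoly_smul_comp, hA]
  have hcard : Multiset.card m = n := by
    have := congrArg natDegree hA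
    rw [Matrix.charpoly_natDegree_eq_dim, Fintype.card_fin,
      natDegree_multiset_prod_X_sub_C_eq_card] at this
    exact this.symm
  rw [← hcard]
  clear hA hcard
  induction m using Multiset.induction_on with
  | empty => simp
  | cons a s ih =>
    rw [Multiset.map_cons, Multiset.map_cons, Multiset.map_cons, Multiset.prod_cons,
      Multiset.prod_cons, Multiset.card_cons, mul_comp, ← ih, pow_succ, C_mul]
    simp only [sub_comp, X_comp, C_comp]
    rw [C_mul]
    ring

section gl

variable {F : Type*} [Field F] [Fintype F] (p : ℕ) [Fact p.Prime] [CharP F p] (n : ℕ)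

theorem aeval_eq_zero_iff_smooth (g : GL (Fin n) F) (hg : (orderOf g).Coprime p) (Q : F[X])
    (hQ : Q ≠ 0) :
    aeval (g : Matrix (Fin n) (Fin n) F) Q = 0 ↔
      Smooth Q (g : Matrix (Fin n) (Fin n) F).charpoly := by
  constructor
  · intro h f hf hfc
    exact dvd_of_dvd_charpoly _ f hf hfc _ h
  · intro h
    have hss := gl_isSemisimple p n g hg
    have hsq := hss.minpoly_squarefree
    have hmin : minpoly F (Matrix.toLinAlgEquiv' (g : Matrix (Fin n) (Fin n) F)) =
        minpoly F (g : Matrix (Fin n) (Fin n) F) := Matrix.minpoly_toLin' _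
    rw [hmin] at hsq
    have hdvd : minpoly F (g : Matrix (Fin n) (Fin n) F) ∣ Q := by
      apply dvd_of_squarefree_smooth _ _ hQ hsq
      intro f hf hfd
      exact h f hf (hfd.trans (Matrix.minpoly_dvd_charpoly _))
    exact aeval_eq_zero_of_dvd_aeval_eq_zero hdvd (minpoly.aeval _ _)

end gl

end Cfsg.Agent.Lib.Helper5.Pgl
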