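import Mathlib
import Cfsg.Agent.Lib.Helper5.PglB

set_option autoImplicit false
set_option linter.style.haveILetI false
set_option linter.unusedSectionVars false

namespace Cfsg.Agent.Lib.Helper5.Pgl

open Polynomial Cfsg.Agent.Lib.Helper5.SSClass Cfsg.Agent.Lib.Helper5.PrimeOrd

section poly

variable {F : Type*} [Field F] (r : ℕ)

/-- coercion of a root of unity to the field -/
def cu (x : rootsOfUnity r F) : F := ((x : Fˣ) : F)

theorem cu_injective : Function.Injective (cu (F := F) r) := by
  intro x y h
  exact Subtype.ext (Units.ext h)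

theorem cu_pow (x : rootsOfUnity r F) : cu r x ^ r = 1 := by
  have := (mem_rootsOfUnity' r (x : Fˣ)).mp x.2
  exact this

theorem cu_mul (x y : rootsOfUnity r F) : cu r (x * y) = cu r x * cu r y := rfl

theorem cu_ne_zero (x : rootsOfUnity r F) : cu r x ≠ 0 := Units.ne_zero _

/-- the split polynomial with prescribed multiset of roots -/
noncomputable def polyOf (m : Multiset (rootsOfUnity r F)) : F[X] :=
  ((m.map (cu r)).map (fun x => X - C x)).prod

theorem polyOf_monic (m : Multiset (rootsOfUnity r F)) : (polyOf r m).Monic := by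
  unfold polyOf
  apply monic_multiset_prod_of_monic
  intro x _
  exact monic_X_sub_C x

theorem polyOf_natDegree (m : Multiset (rootsOfUnity r F)) :
    (polyOf r m).natDegree = Multiset.card m := by
  unfold polyOf
  rw [natDegree_multiset_prod_X_sub_C_eq_card, Multiset.card_map]

theorem polyOf_roots (m : Multiset (rootsOfUnity r F)) : (polyOf r m).roots = m.map (cu r) := by
  unfold polyOf
  rw [roots_multiset_prod_X_sub_C]

theorem polyOf_injective (m m' : Multiset (rootsOfUnity r F)) (h : polyOf r m = polyOf r m') :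
    m = m' := by
  have := congrArg roots h
  rw [polyOf_roots, polyOf_roots] at this
  exact Multiset.map_injective (cu_injective r) this

theorem polyOf_coeff_zero (m : Multiset (rootsOfUnity r F)) : (polyOf r m).coeff 0 ≠ 0 := by
  intro h
  have hX : (X : F[X]) ∣ polyOf r m := X_dvd_iff.mpr h
  have hroot : (0 : F) ∈ (polyOf r m).roots := by
    rw [mem_roots (polyOf_monic r m).ne_zero, IsRoot.def]
    obtain ⟨Q, hQ⟩ := hX
    rw [hQ]; simp
  rw [polyOf_roots, Multiset.mem_map] at hroot
  obtain ⟨x, _, hx⟩ := hroot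
  exact cu_ne_zero r x hx

theorem polyOf_smooth (m : Multiset (rootsOfUnity r F)) :
    Smooth (X ^ r - 1) (polyOf r m) := by
  intro f hf hd
  unfold polyOf at hd
  obtain ⟨g, hg, hfg⟩ := hf.prime.exists_mem_multiset_dvd hd
  rw [Multiset.mem_map] at hg
  obtain ⟨y, hy, rfl⟩ := hg
  rw [Multiset.mem_map] at hy
  obtain ⟨x, _, rfl⟩ := hy
  apply hfg.trans
  rw [dvd_iff_isRoot, IsRoot.def]
  simp [cu_pow]

/-- translation by a root of unity -/
def tr (ν : rootsOfUnity r F) (m : Multiset (rootsOfUnity r F)) : Multiset (rootsOfUnity r F) :=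
  m.map (fun x => ν * x)

theorem tr_map_cu (ν : rootsOfUnity r F) (m : Multiset (rootsOfUnity r F)) :
    (tr r ν m).map (cu r) = (m.map (cu r)).map (fun x => cu r ν * x) := by
  unfold tr
  rw [Multiset.map_map, Multiset.map_map]
  rfl

theorem charpoly_smul_polyOf {n : ℕ} (A : Matrix (Fin n) (Fin n) F) (ν : rootsOfUnity r F)
    (m : Multiset (rootsOfUnity r F)) (hA : A.charpoly = polyOf r m) :
    (cu r ν • A).charpoly = polyOf r (tr r ν m) := by
  unfold polyOf
  rw [tr_map_cu]
  exact charpoly_smul_of_split A (cu r ν) (cu_ne_zero r ν) _ hA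

end poly

end Cfsg.Agent.Lib.Helper5.Pgl
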