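import Mathlib
import Cfsg.Agent.Lib.Helper5.PglC

set_option autoImplicit false
set_option linter.style.haveILetI false
set_option linter.unusedSectionVars false

namespace Cfsg.Agent.Lib.Helper5.Pgl

open Polynomial Cfsg.Agent.Lib.Helper5.SSClass Cfsg.Agent.Lib.Helper5.PrimeOrd

section gl

variable {F : Type*} [Field F] [Fintype F] (p : ℕ) [Fact p.Prime] [CharP F p] (n : ℕ) (r : ℕ)

/-- the scalar matrix in `GL` -/
noncomputable def sc (ν : Fˣ) : GL (Fin n) F := Matrix.GeneralLinearGroup.scalar (Fin n) ν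

theorem coe_sc_mul (ν : Fˣ) (g : GL (Fin n) F) :
    ((sc n ν * g : GL (Fin n) F) : Matrix (Fin n) (Fin n) F) =
      (ν : F) • (g : Matrix (Fin n) (Fin n) F) := by
  rw [Units.val_mul]
  unfold sc
  rw [Matrix.GeneralLinearGroup.coe_scalar, Matrix.scalar_apply, ← Matrix.smul_eq_diagonal_mul]

theorem coe_sc (ν : Fˣ) :
    ((sc n ν : GL (Fin n) F) : Matrix (Fin n) (Fin n) F) = Matrix.diagonal (fun _ => (ν : F)) := by
  unfold sc
  rw [Matrix.GeneralLinearGroup.coe_scalar, Matrix.scalar_apply]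

theorem mem_center_iff (g : GL (Fin n) F) :
    g ∈ Subgroup.center (GL (Fin n) F) ↔ ∃ ν : Fˣ, g = sc n ν := by
  rw [Matrix.GeneralLinearGroup.center_eq_range_scalar, MonoidHom.mem_range]
  constructor
  · rintro ⟨ν, rfl⟩; exact ⟨ν, rfl⟩
  · rintro ⟨ν, rfl⟩; exact ⟨ν, rfl⟩

theorem sc_mem_center (ν : Fˣ) : sc n ν ∈ Subgroup.center (GL (Fin n) F) :=
  (mem_center_iff n _).mpr ⟨ν, rfl⟩

theorem sc_pow (ν : Fˣ) (k : ℕ) : sc n ν ^ k = sc n (ν ^ k) := by
  unfold sc
  rw [map_pow]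

theorem sc_mul (ν ν' : Fˣ) : sc n ν * sc n ν' = sc n (ν * ν') := by
  unfold sc
  rw [map_mul]

theorem sc_one : sc n (1 : Fˣ) = 1 := by
  unfold sc
  rw [map_one]

theorem sc_injective (hn : 0 < n) : Function.Injective (sc (F := F) n) := by
  intro ν ν' h
  have h1 := congrArg (fun g : GL (Fin n) F => (g : Matrix (Fin n) (Fin n) F) ⟨0, hn⟩ ⟨0, hn⟩) h
  simp only [coe_sc, Matrix.diagonal_apply_eq] at h1
  exact Units.ext h1

theorem sc_commute (ν : Fˣ) (g : GL (Fin n) F) : sc n ν * g = g * sc n ν :=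
  Matrix.GeneralLinearGroup.scalar_commute ν g

theorem charpoly_sc (ν : Fˣ) :
    ((sc n ν : GL (Fin n) F) : Matrix (Fin n) (Fin n) F).charpoly = (X - C (ν : F)) ^ n := by
  rw [coe_sc, Matrix.charpoly_diagonal, Finset.prod_const, Finset.card_univ, Fintype.card_fin]

/-- a semisimple element whose characteristic polynomial is a power of `X - c` is scalar -/
theorem eq_sc_of_charpoly (g : GL (Fin n) F) (hg : (orderOf g).Coprime p) (ν : Fˣ)
    (h : (g : Matrix (Fin n) (Fin n) F).charpoly = (X - C (ν : F)) ^ n) : g = sc n ν := by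
  have hs : Smooth (X - C (ν : F)) (g : Matrix (Fin n) (Fin n) F).charpoly := by
    intro f hf hd
    rw [h] at hd
    exact hf.prime.dvd_of_dvd_pow hd
  have h0 := (aeval_eq_zero_iff_smooth p n g hg _ (X_sub_C_ne_zero _)).mpr hs
  rw [map_sub, aeval_X, aeval_C, sub_eq_zero] at h0
  apply Units.ext
  rw [h0, coe_sc, Algebra.algebraMap_eq_smul_one]
  ext i j
  by_cases hij : i = j
  · subst hij; simp
  · simp [hij]

end gl

end Cfsg.Agent.Lib.Helper5.Pgl
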