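import Mathlib
import Cfsg.Agent.Lib.Helper5.PglD

set_option autoImplicit false
set_option linter.style.haveILetI false
set_option linter.unusedSectionVars false

namespace Cfsg.Agent.Lib.Helper5.Pgl

open Polynomial Cfsg.Agent.Lib.Helper5.SSClass Cfsg.Agent.Lib.Helper5.PrimeOrd

section gl

variable {F : Type*} [Field F] [Fintype F] (p : ℕ) [Fact p.Prime] [CharP F p] (n : ℕ) (r : ℕ)

/-- a root of unity from a field element -/
def mkRoot (x : F) (hx : x ^ r = 1 ∧ x ≠ 0) : rootsOfUnity r F :=
  ⟨Units.mk0 x hx.2, (mem_rootsOfUnity' r _).mpr (by rw [Units.val_mk0]; exact hx.1)⟩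

theorem cu_mkRoot (x : F) (hx : x ^ r = 1 ∧ x ≠ 0) : cu r (mkRoot r x hx) = x := rfl

theorem coprime_of_pow_eq_one (hr : r.Prime) (hrp : r ≠ p) (g : GL (Fin n) F) (hg : g ^ r = 1) :
    (orderOf g).Coprime p := by
  have hp : p.Prime := Fact.out
  have hd := orderOf_dvd_of_pow_eq_one hg
  exact Nat.Coprime.coprime_dvd_left hd ((Nat.coprime_primes hr hp).mpr hrp)

/-- the characteristic polynomial of an element with `g ^ r = 1` is of the form `polyOf m` -/
theorem exists_multiset_of_pow_eq_one (hr : r.Prime) (hrp : r ≠ p)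
    (hsplit : (X ^ r - 1 : F[X]).Splits) (g : GL (Fin n) F) (hg : g ^ r = 1) :
    ∃ m : Multiset (rootsOfUnity r F), Multiset.card m = n ∧
      (g : Matrix (Fin n) (Fin n) F).charpoly = polyOf r m := by
  classical
  have hcop := coprime_of_pow_eq_one p n r hr hrp g hg
  have hs := (pow_eq_one_iff_smooth p n g hcop r hr.pos).mp hg
  set χ := (g : Matrix (Fin n) (Fin n) F).charpoly with hχ
  have hmon : χ.Monic := Matrix.charpoly_monic _
  have hQ : (X ^ r - 1 : F[X]) ≠ 0 := X_pow_sub_C_ne_zero hr.pos 1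
  have hχsplit : χ.Splits := by
    have hprod := UniqueFactorizationMonoid.prod_normalizedFactors hmon.ne_zero
    have h1 : (UniqueFactorizationMonoid.normalizedFactors χ).prod.Splits := by
      apply Splits.multisetProd
      intro f hf
      rw [UniqueFactorizationMonoid.mem_normalizedFactors_iff' hmon.ne_zero] at hf
      exact Splits.of_dvd hsplit hQ (hs f hf.1 hf.2.2)
    obtain ⟨u, hu⟩ := hprod
    rw [← hu]
    exact h1.mul u.isUnit.splits
  have hroots : ∀ x ∈ χ.roots, x ^ r = 1 := by
    intro x hx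
    have h1 : (X - C x) ∣ χ := dvd_iff_isRoot.mpr (isRoot_of_mem_roots hx)
    have h2 := hs _ (irreducible_X_sub_C x) h1
    rw [dvd_iff_isRoot, IsRoot.def] at h2
    simpa [sub_eq_zero] using h2
  have hroots0 : ∀ x ∈ χ.roots, x ≠ 0 := by
    intro x hx h0
    have := hroots x hx
    rw [h0, zero_pow hr.ne_zero] at this
    exact zero_ne_one this
  let m : Multiset (rootsOfUnity r F) := χ.roots.pmap (mkRoot r)
    (fun x hx => ⟨hroots x hx, hroots0 x hx⟩)
  have hmap : m.map (cu r) = χ.roots := by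
    show (χ.roots.pmap (mkRoot r) _).map (cu r) = χ.roots
    rw [Multiset.map_pmap]
    simp only [cu_mkRoot]
    rw [Multiset.pmap_eq_map, Multiset.map_id']
  have hpoly : χ = polyOf r m := by
    unfold polyOf
    rw [hmap]
    exact hχsplit.eq_prod_roots_of_monic hmon
  refine ⟨m, ?_, hpoly⟩
  have := polyOf_natDegree r m
  rw [← hpoly, hχ, Matrix.charpoly_natDegree_eq_dim, Fintype.card_fin] at this
  exact this.symm

/-- realisation of a multiset of roots of unity by a semisimple element -/
theorem exists_gl_of_multiset (hr : r.Prime) (m : Multiset (rootsOfUnity r F))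
    (hm : Multiset.card m = n) :
    ∃ g : GL (Fin n) F, (g : Matrix (Fin n) (Fin n) F).charpoly = polyOf r m ∧
      (orderOf g).Coprime p ∧ g ^ r = 1 := by
  obtain ⟨g, hg, hgo⟩ := exists_gl_of_monic p n (polyOf r m) (polyOf_monic r m)
    (by rw [polyOf_natDegree, hm]) (polyOf_coeff_zero r m)
  refine ⟨g, hg, hgo, ?_⟩
  rw [pow_eq_one_iff_smooth p n g hgo r hr.pos, hg]
  exact polyOf_smooth r m

theorem central_iff_replicate (g : GL (Fin n) F) (hg : (orderOf g).Coprime p)
    (m : Multiset (rootsOfUnity r F)) (hm : Multiset.card m = n)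
    (hχ : (g : Matrix (Fin n) (Fin n) F).charpoly = polyOf r m) :
    g ∈ Subgroup.center (GL (Fin n) F) ↔ ∃ x, m = Multiset.replicate n x := by
  rw [mem_center_iff]
  constructor
  · rintro ⟨ν, rfl⟩
    rw [charpoly_sc] at hχ
    have h1 := congrArg roots hχ
    rw [polyOf_roots, roots_pow, roots_X_sub_C] at h1
    rcases Nat.eq_zero_or_pos n with h0 | h0
    · subst h0
      rw [Multiset.card_eq_zero] at hm
      subst hm
      exact ⟨1, rfl⟩
    · have hne : m ≠ 0 := by
        intro h; rw [h, Multiset.card_zero] at hm; omega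
      obtain ⟨x, hx⟩ := Multiset.exists_mem_of_ne_zero hne
      refine ⟨x, ?_⟩
      rw [Multiset.eq_replicate]
      refine ⟨hm, ?_⟩
      intro y hy
      have hx' : cu r x ∈ m.map (cu r) := Multiset.mem_map_of_mem _ hx
      have hy' : cu r y ∈ m.map (cu r) := Multiset.mem_map_of_mem _ hy
      rw [← h1, Multiset.mem_nsmul] at hx' hy'
      rw [Multiset.mem_singleton] at hx' hy'
      exact cu_injective r (hy'.2.trans hx'.2.symm)
  · rintro ⟨x, rfl⟩
    refine ⟨(x : Fˣ), ?_⟩
    apply eq_sc_of_charpoly p n g hg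
    rw [hχ]
    unfold polyOf
    rw [Multiset.map_replicate, Multiset.map_replicate, Multiset.prod_replicate]
    rfl

end gl

end Cfsg.Agent.Lib.Helper5.Pgl
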