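import Mathlib
import Cfsg.Agent.Lib.Helper5.PglE

set_option autoImplicit false
set_option linter.style.haveILetI false
set_option linter.unusedSectionVars false

namespace Cfsg.Agent.Lib.Helper5.Pgl

open Polynomial Cfsg.Agent.Lib.Helper5.SSClass Cfsg.Agent.Lib.Helper5.PrimeOrd

section gl

variable {F : Type*} [Field F] [Fintype F] (p : ℕ) [Fact p.Prime] [CharP F p] (n : ℕ) (r : ℕ)

theorem aeval_kummer_iff (g : GL (Fin n) F) (l : Fˣ) :
    aeval (g : Matrix (Fin n) (Fin n) F) (X ^ r - C (l : F) : F[X]) = 0 ↔ g ^ r = sc n l := by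
  rw [map_sub, map_pow, aeval_X, aeval_C, sub_eq_zero, ← Units.val_pow_eq_pow_val]
  have h1 : (algebraMap F (Matrix (Fin n) (Fin n) F)) (l : F) =
      ((sc n l : GL (Fin n) F) : Matrix (Fin n) (Fin n) F) := by
    rw [coe_sc, Algebra.algebraMap_eq_smul_one]
    ext i j
    by_cases hij : i = j
    · subst hij; simp
    · simp [hij]
  rw [h1]
  constructor
  · intro h; exact Units.ext h
  · intro h; rw [h]

/-- order of an element whose `r`-th power is a scalar -/
theorem coprime_of_pow_eq_sc {q : ℕ} (hF : Fintype.card F = q) (hrq : r ∣ q - 1)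
    (g : GL (Fin n) F) (l : Fˣ) (hg : g ^ r = sc n l) : (orderOf g).Coprime p := by
  classical
  have hp : p.Prime := Fact.out
  have h1 : g ^ (r * (q - 1)) = 1 := by
    rw [pow_mul, hg, sc_pow]
    have : l ^ (q - 1) = 1 := by
      rw [← hF, ← Fintype.card_units]
      exact pow_card_eq_one
    rw [this, sc_one]
  have hd := orderOf_dvd_of_pow_eq_one h1
  apply Nat.Coprime.coprime_dvd_left hd
  obtain ⟨k, _, hk⟩ := FiniteField.card F p
  have hq : q = p ^ (k : ℕ) := by rw [← hF, hk]
  have hpq : p ∣ q := by rw [hq]; exact dvd_pow_self p k.pos.ne'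
  have hq1 : 1 ≤ q := by rw [hq]; exact Nat.one_le_pow _ _ hp.pos
  have h2 : ¬ p ∣ q - 1 := by
    intro h
    have : p ∣ 1 := by
      have h3 := Nat.dvd_sub hpq h
      rwa [Nat.sub_sub_self hq1] at h3
    exact hp.one_lt.ne' (Nat.dvd_one.mp this)
  have h3 : ¬ p ∣ r := by
    intro h
    exact h2 (h.trans hrq)
  rw [Nat.coprime_comm, Nat.Prime.coprime_iff_not_dvd hp]
  intro h
  rcases (Nat.Prime.dvd_mul hp).mp h with h | h
  · exact h3 h
  · exact h2 h

theorem charpoly_of_kummer (hr : r.Prime) (g : GL (Fin n) F) (hgo : (orderOf g).Coprime p)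
    (l : Fˣ) (hl : ∀ b : F, b ^ r ≠ (l : F)) (hg : g ^ r = sc n l) :
    r ∣ n ∧ (g : Matrix (Fin n) (Fin n) F).charpoly = (X ^ r - C (l : F)) ^ (n / r) := by
  classical
  have hirr : Irreducible (X ^ r - C (l : F) : F[X]) := X_pow_sub_C_irreducible_of_prime hr hl
  have hQmon : (X ^ r - C (l : F) : F[X]).Monic := monic_X_pow_sub_C _ hr.ne_zero
  have hs := (aeval_eq_zero_iff_smooth p n g hgo _ hQmon.ne_zero).mp
    ((aeval_kummer_iff n r g l).mpr hg)
  set χ := (g : Matrix (Fin n) (Fin n) F).charpoly with hχ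
  have hmon : χ.Monic := Matrix.charpoly_monic _
  set M := UniqueFactorizationMonoid.normalizedFactors χ with hM
  have hMf : ∀ f ∈ M, f = X ^ r - C (l : F) := by
    intro f hf
    rw [hM, UniqueFactorizationMonoid.mem_normalizedFactors_iff' hmon.ne_zero] at hf
    have hfm : f.Monic := by
      rw [← hf.2.1]; exact monic_normalize hf.1.ne_zero
    exact eq_of_monic_of_associated hfm hQmon (hf.1.associated_of_dvd hirr (hs f hf.1 hf.2.2))
  have hMrep : M = Multiset.replicate (Multiset.card M) (X ^ r - C (l : F)) :=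
    Multiset.eq_replicate.mpr ⟨rfl, hMf⟩
  have hprod : M.prod = χ := by
    apply eq_of_monic_of_associated _ hmon
      (UniqueFactorizationMonoid.prod_normalizedFactors hmon.ne_zero)
    have := monic_multiset_prod_of_monic M id (fun f hf => by rw [hMf f hf]; exact hQmon)
    rwa [Multiset.map_id] at this
  rw [hMrep, Multiset.prod_replicate] at hprod
  have hdeg : n = Multiset.card M * r := by
    have := congrArg natDegree hprod
    rw [hQmon.natDegree_pow, natDegree_X_pow_sub_C, hχ, Matrix.charpoly_natDegree_eq_dim,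
      Fintype.card_fin] at this
    exact this.symm
  refine ⟨⟨Multiset.card M, by rw [hdeg, mul_comm]⟩, ?_⟩
  rw [← hprod, hdeg, Nat.mul_div_cancel _ hr.pos]

theorem exists_gl_of_kummer (hr : r.Prime) (hrn : r ∣ n) (l : Fˣ) :
    ∃ g : GL (Fin n) F, (orderOf g).Coprime p ∧ g ^ r = sc n l := by
  have hQmon : (X ^ r - C (l : F) : F[X]).Monic := monic_X_pow_sub_C _ hr.ne_zero
  obtain ⟨g, hg, hgo⟩ := exists_gl_of_monic p n ((X ^ r - C (l : F)) ^ (n / r))
    (hQmon.pow _) (by
      rw [hQmon.natDegree_pow, natDegree_X_pow_sub_C, Nat.div_mul_cancel hrn]) (by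
      rw [coeff_zero_eq_eval_zero, eval_pow]
      apply pow_ne_zero
      simp [zero_pow hr.ne_zero])
  refine ⟨g, hgo, ?_⟩
  rw [← aeval_kummer_iff, aeval_eq_zero_iff_smooth p n g hgo _ hQmon.ne_zero, hg]
  intro f hf hd
  exact hf.prime.dvd_of_dvd_pow hd

theorem not_central_of_kummer (hn : 0 < n) (g : GL (Fin n) F) (l : Fˣ)
    (hl : ∀ b : F, b ^ r ≠ (l : F)) (hg : g ^ r = sc n l) :
    g ∉ Subgroup.center (GL (Fin n) F) := by
  rw [mem_center_iff]
  rintro ⟨c, rfl⟩
  rw [sc_pow] at hg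
  have := sc_injective n hn hg
  apply hl (c : F)
  rw [← this]
  simp

end gl

end Cfsg.Agent.Lib.Helper5.Pgl
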