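import Mathlib
import Cfsg.Agent.Lib.Helper5.PglF

set_option autoImplicit false
set_option linter.style.haveILetI false
set_option linter.unusedSectionVars false

namespace Cfsg.Agent.Lib.Helper5.Pgl

open Polynomial Cfsg.Agent.Lib.Helper5.SSClass Cfsg.Agent.Lib.Helper5.PrimeOrd

theorem card_eq_of_rel {A B : Type*} (R : A → B → Prop) (h1 : ∀ a, ∃ b, R a b)
    (h2 : ∀ b, ∃ a, R a b)
    (h3 : ∀ a a' b b', R a b → R a' b' → (a = a' ↔ b = b')) : Nat.card A = Nat.card B := by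
  apply Nat.card_congr
  refine Equiv.ofBijective (fun a => Classical.choose (h1 a)) ⟨?_, ?_⟩
  · intro a a' h
    exact (h3 a a' _ _ (Classical.choose_spec (h1 a)) (Classical.choose_spec (h1 a'))).mpr h
  · intro b
    obtain ⟨a, ha⟩ := h2 b
    refine ⟨a, ?_⟩
    exact (h3 a a _ _ (Classical.choose_spec (h1 a)) ha).mp rfl

section gl

variable {F : Type*} [Field F] [Fintype F] (n : ℕ) (r : ℕ)

/-- rescaling an element whose `r`-th power is scalar -/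
theorem exists_normalize (hr : 0 < r) (γ : Fˣ) (hγ : ∀ x : Fˣ, x ∈ Subgroup.zpowers γ)
    (g : GL (Fin n) F) (hg : g ^ r ∈ Subgroup.center (GL (Fin n) F)) :
    ∃ ν : Fˣ, ∃ e : ℕ, e < r ∧ (sc n ν * g) ^ r = sc n (γ ^ e) := by
  obtain ⟨l, hl⟩ := (mem_center_iff n _).mp hg
  have h1 : l ∈ Submonoid.powers γ := by
    rw [mem_powers_iff_mem_zpowers]; exact hγ l
  obtain ⟨s, hs⟩ := (Submonoid.mem_powers_iff _ _).mp h1
  refine ⟨γ⁻¹ ^ (s / r), s % r, Nat.mod_lt _ hr, ?_⟩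
  have hcomm : Commute (sc n (γ⁻¹ ^ (s / r))) g := sc_commute n _ g
  rw [hcomm.mul_pow, sc_pow, hl, sc_mul]
  congr 1
  rw [← hs, ← pow_mul, inv_pow, inv_mul_eq_iff_eq_mul, ← pow_add]
  congr 1
  exact (Nat.div_add_mod' s r).symm

theorem exponent_invariant {q : ℕ} (hF : Fintype.card F = q) (hrq : r ∣ q - 1) (hn : 0 < n)
    (γ : Fˣ) (hγ : ∀ x : Fˣ, x ∈ Subgroup.zpowers γ)
    (g₁ g₂ c : GL (Fin n) F) (ν : Fˣ) (e₁ e₂ : ℕ) (he₁ : e₁ < r) (he₂ : e₂ < r)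
    (h₁ : g₁ ^ r = sc n (γ ^ e₁)) (h₂ : g₂ ^ r = sc n (γ ^ e₂))
    (hc : c * (sc n ν * g₁) * c⁻¹ = g₂) : e₁ = e₂ ∧ ν ^ r = 1 := by
  classical
  have hcomm : Commute (sc n ν) g₁ := sc_commute n _ g₁
  have h3 : g₂ ^ r = sc n (ν ^ r * γ ^ e₁) := by
    rw [← hc, conj_pow, hcomm.mul_pow, sc_pow, h₁, sc_mul,
      ← sc_commute, mul_inv_cancel_right]
  rw [h₂] at h3
  have h4 := sc_injective n hn h3
  have h40 := h4
  have h5 : ν ∈ Submonoid.powers γ := by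
    rw [mem_powers_iff_mem_zpowers]; exact hγ ν
  obtain ⟨u, hu⟩ := (Submonoid.mem_powers_iff _ _).mp h5
  rw [← hu, ← pow_mul, ← pow_add, pow_eq_pow_iff_modEq] at h4
  have hord : orderOf γ = q - 1 := by
    rw [orderOf_eq_card_of_forall_mem_zpowers hγ, Nat.card_eq_fintype_card, Fintype.card_units, hF]
  rw [hord] at h4
  have h6 : e₂ ≡ e₁ [MOD r] := by
    have h7 := h4.of_dvd hrq
    have h8 : u * r + e₁ ≡ e₁ [MOD r] := by
      unfold Nat.ModEq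
      rw [Nat.add_comm, Nat.add_mul_mod_self_right]
    exact h7.trans h8
  have h9 : e₁ = e₂ := (Nat.ModEq.eq_of_lt_of_lt h6 he₂ he₁).symm
  refine ⟨h9, ?_⟩
  rw [h9] at h40
  exact right_eq_mul.mp h40

end gl

end Cfsg.Agent.Lib.Helper5.Pgl
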