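import Mathlib
import Cfsg.Agent.Lib.Helper5.PglA
import Cfsg.Agent.Lib.Helper5.PglG
import Cfsg.Agent.Lib.Helper5.PglH

set_option autoImplicit false
set_option linter.style.haveILetI false
set_option linter.unusedSectionVars false

namespace Cfsg.Agent.Lib.Helper5.Pgl

open Polynomial Cfsg.Agent.Lib.Helper5.SSClass Cfsg.Agent.Lib.Helper5.PrimeOrd

section main

variable {F : Type*} [Field F] [Fintype F]

/-- labels for the classes of elements of order `r` in `PGL` -/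
abbrev Lab (F : Type*) [Field F] (n r : ℕ) : Type _ :=
  (MulAction.orbitRel.Quotient (rootsOfUnity r F) (NS (rootsOfUnity r F) n)) ⊕
    {e : ℕ // 1 ≤ e ∧ e < r ∧ r ∣ n}

/-- `g` is a normalised representative with label `ℓ` -/
def TypeRel (n r : ℕ) (γ : Fˣ) (g : GL (Fin n) F) : Lab F n r → Prop
  | Sum.inl o => g ^ r = 1 ∧ g ∉ Subgroup.center (GL (Fin n) F) ∧
      ∃ m : NS (rootsOfUnity r F) n,
        (Quotient.mk'' m : MulAction.orbitRel.Quotient (rootsOfUnity r F)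
          (NS (rootsOfUnity r F) n)) = o ∧
        (g : Matrix (Fin n) (Fin n) F).charpoly = polyOf r m.1
  | Sum.inr e => g ^ r = sc n (γ ^ e.1)

variable (p : ℕ) [Fact p.Prime] [CharP F p] {q : ℕ} (hF : Fintype.card F = q) {n r : ℕ}
  (hn : 0 < n) [Fact r.Prime] (hrq : r ∣ q - 1) (hrp : r ≠ p) (γ : Fˣ)
  (hγ : ∀ x : Fˣ, x ∈ Subgroup.zpowers γ) (hsplit : (X ^ r - 1 : F[X]).Splits)

include hF hrq hγ in
theorem not_pow_of_lt (e : ℕ) (he1 : 1 ≤ e) (he2 : e < r) (b : F) :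
    b ^ r ≠ ((γ ^ e : Fˣ) : F) := by
  classical
  intro h
  have hb0 : b ≠ 0 := by
    rintro rfl
    rw [zero_pow (Fact.out : r.Prime).ne_zero] at h
    exact (Units.ne_zero _) h.symm
  have h1 : (Units.mk0 b hb0) ^ r = γ ^ e := by
    apply Units.ext
    rw [Units.val_pow_eq_pow_val, Units.val_mk0, h]
  have h5 : Units.mk0 b hb0 ∈ Submonoid.powers γ := by
    rw [mem_powers_iff_mem_zpowers]; exact hγ _
  obtain ⟨u, hu⟩ := (Submonoid.mem_powers_iff _ _).mp h5
  rw [← hu, ← pow_mul, pow_eq_pow_iff_modEq] at h1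
  have hord : orderOf γ = q - 1 := by
    rw [orderOf_eq_card_of_forall_mem_zpowers hγ, Nat.card_eq_fintype_card, Fintype.card_units, hF]
  rw [hord] at h1
  have h2 := h1.of_dvd hrq
  have h3 : u * r ≡ 0 [MOD r] := by
    unfold Nat.ModEq
    rw [Nat.mul_mod_left, Nat.zero_mod]
  have h4 := (h2.symm.trans h3)
  have h6 := (Nat.modEq_zero_iff_dvd.mp h4)
  have := Nat.le_of_dvd (by omega) h6
  omega

include p hF hrq hγ hn in
theorem exists_rep (ℓ : Lab F n r) :
    ∃ g : GL (Fin n) F, TypeRel n r γ g ℓ ∧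
      orderOf (QuotientGroup.mk g : GL (Fin n) F ⧸ Subgroup.center (GL (Fin n) F)) = r := by
  have hr : r.Prime := Fact.out
  rcases ℓ with o | e
  · obtain ⟨m, rfl⟩ := Quotient.mk''_surjective o
    obtain ⟨g, hχ, hgo, hgr⟩ := exists_gl_of_multiset p n r hr m.1 m.2.1
    have hnc : g ∉ Subgroup.center (GL (Fin n) F) := by
      intro hc
      obtain ⟨x, hx⟩ := (central_iff_replicate p n r g hgo m.1 m.2.1 hχ).mp hc
      exact m.2.2 x hx
    refine ⟨g, ⟨hgr, hnc, m, rfl, hχ⟩, ?_⟩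
    rw [quot_orderOf_eq_prime_iff]
    exact ⟨by rw [hgr]; exact Subgroup.one_mem _, hnc⟩
  · obtain ⟨g, hgo, hg⟩ := exists_gl_of_kummer p n r hr e.2.2.2 (γ ^ e.1)
    refine ⟨g, hg, ?_⟩
    rw [quot_orderOf_eq_prime_iff]
    refine ⟨by rw [hg]; exact sc_mem_center n _, ?_⟩
    exact not_central_of_kummer n r hn g (γ ^ e.1)
      (not_pow_of_lt hF hrq γ hγ e.1 e.2.1 e.2.2.1) hg

include p hF hrq hγ hn hrp hsplit in
theorem exists_label (g₀ : GL (Fin n) F)
    (h₀ : orderOf (QuotientGroup.mk g₀ : GL (Fin n) F ⧸ Subgroup.center (GL (Fin n) F)) = r) :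
    ∃ (g : GL (Fin n) F) (ℓ : Lab F n r),
      (QuotientGroup.mk g₀ : GL (Fin n) F ⧸ Subgroup.center (GL (Fin n) F)) = QuotientGroup.mk g ∧
      TypeRel n r γ g ℓ := by
  have hr : r.Prime := Fact.out
  rw [quot_orderOf_eq_prime_iff] at h₀
  obtain ⟨ν, e, he, hh⟩ := exists_normalize n r hr.pos γ hγ g₀ h₀.1
  have hπ : (QuotientGroup.mk g₀ : GL (Fin n) F ⧸ Subgroup.center (GL (Fin n) F)) =
      QuotientGroup.mk (sc n ν * g₀) := by
    rw [QuotientGroup.mk_mul, (QuotientGroup.eq_one_iff _).mpr (sc_mem_center n ν), one_mul]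
  have hnc : sc n ν * g₀ ∉ Subgroup.center (GL (Fin n) F) := by
    intro hc
    apply h₀.2
    have := Subgroup.mul_mem _ (Subgroup.inv_mem _ (sc_mem_center n ν)) hc
    rwa [inv_mul_cancel_left] at this
  rcases Nat.eq_zero_or_pos e with he0 | he0
  · subst he0
    rw [pow_zero, sc_one] at hh
    have hgo := coprime_of_pow_eq_one p n r hr hrp _ hh
    obtain ⟨m, hm, hχ⟩ := exists_multiset_of_pow_eq_one p n r hr hrp hsplit _ hh
    have hns : ∀ x, m ≠ Multiset.replicate n x := by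
      intro x hx
      exact hnc ((central_iff_replicate p n r _ hgo m hm hχ).mpr ⟨x, hx⟩)
    exact ⟨sc n ν * g₀, Sum.inl (Quotient.mk'' ⟨m, hm, hns⟩), hπ, hh, hnc, ⟨m, hm, hns⟩, rfl, hχ⟩
  · have hl := not_pow_of_lt hF hrq γ hγ e he0 he
    have hgo := coprime_of_pow_eq_sc p n r hF hrq _ _ hh
    have hrn := (charpoly_of_kummer p n r hr _ hgo _ hl hh).1
    exact ⟨sc n ν * g₀, Sum.inr ⟨e, he0, he, hrn⟩, hπ, hh⟩

theorem conj_central {G : Type*} [Group G] (c s g : G) (hs : ∀ x, s * x = x * s) :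
    c * (s * g) * c⁻¹ = s * (c * g * c⁻¹) := by
  rw [← mul_assoc c, ← hs c]; group

include p hF hrq hγ hn in
theorem label_unique (g g' : GL (Fin n) F) (ℓ ℓ' : Lab F n r) (h : TypeRel n r γ g ℓ)
    (h' : TypeRel n r γ g' ℓ')
    (hc : IsConj (QuotientGroup.mk g : GL (Fin n) F ⧸ Subgroup.center (GL (Fin n) F))
      (QuotientGroup.mk g')) : ℓ = ℓ' := by
  have hr : r.Prime := Fact.out
  rw [quot_isConj_iff] at hc
  obtain ⟨c, z, hz, hcz⟩ := hc
  obtain ⟨ν, rfl⟩ := (mem_center_iff n z).mp hz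
  have hconj : c * (sc n ν⁻¹ * g) * c⁻¹ = g' := by
    rw [conj_central c (sc n ν⁻¹) g (sc_commute n ν⁻¹), hcz, ← sc_commute n ν g', ← mul_assoc,
      sc_mul, inv_mul_cancel, sc_one, one_mul]
  rcases ℓ with o | e <;> rcases ℓ' with o' | e'
  · obtain ⟨hgr, hnc, m, hm, hχ⟩ := h
    obtain ⟨hgr', hnc', m', hm', hχ'⟩ := h'
    obtain ⟨_, hν⟩ := exponent_invariant n r hF hrq hn γ hγ g g' c ν⁻¹ 0 0 hr.pos hr.pos
      (by rw [hgr, pow_zero, sc_one]) (by rw [hgr', pow_zero, sc_one]) hconj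
    let ν' : rootsOfUnity r F := ⟨ν⁻¹, (mem_rootsOfUnity r _).mpr hν⟩
    have h1 : (g' : Matrix (Fin n) (Fin n) F).charpoly =
        ((sc n ν⁻¹ * g : GL (Fin n) F) : Matrix (Fin n) (Fin n) F).charpoly := by
      symm
      apply charpoly_eq_of_isConj
      rw [isConj_iff]
      exact ⟨c, hconj⟩
    rw [coe_sc_mul] at h1
    have h2 := charpoly_smul_polyOf r (g : Matrix (Fin n) (Fin n) F) ν' m.1 hχ
    have h3 : polyOf r m'.1 = polyOf r (tr r ν' m.1) := by
      rw [← hχ', h1, ← h2]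
      rfl
    have h4 : m' = ν' • m := by
      apply Subtype.ext
      rw [polyOf_injective r _ _ h3]
      rfl
    congr 1
    rw [← hm, ← hm', h4]
    symm
    apply Quotient.sound'
    rw [MulAction.orbitRel_apply]
    exact MulAction.mem_orbit m ν'
  · exfalso
    obtain ⟨hgr, _⟩ := h
    have h'' : g' ^ r = sc n (γ ^ e'.1) := h'
    obtain ⟨h0, _⟩ := exponent_invariant n r hF hrq hn γ hγ g g' c ν⁻¹ 0 e'.1 hr.pos e'.2.2.1
      (by rw [hgr, pow_zero, sc_one]) h'' hconj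
    have := e'.2.1
    omega
  · exfalso
    obtain ⟨hgr', _⟩ := h'
    have h'' : g ^ r = sc n (γ ^ e.1) := h
    obtain ⟨h0, _⟩ := exponent_invariant n r hF hrq hn γ hγ g g' c ν⁻¹ e.1 0 e.2.2.1 hr.pos
      h'' (by rw [hgr', pow_zero, sc_one]) hconj
    have := e.2.1
    omega
  · have h1 : g ^ r = sc n (γ ^ e.1) := h
    have h2 : g' ^ r = sc n (γ ^ e'.1) := h'
    obtain ⟨h0, _⟩ := exponent_invariant n r hF hrq hn γ hγ g g' c ν⁻¹ e.1 e'.1 e.2.2.1 e'.2.2.1
      h1 h2 hconj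
    congr 1
    exact Subtype.ext h0

include p hF hrq hγ hrp in
theorem conj_of_label (g g' : GL (Fin n) F) (ℓ : Lab F n r) (h : TypeRel n r γ g ℓ)
    (h' : TypeRel n r γ g' ℓ) :
    IsConj (QuotientGroup.mk g : GL (Fin n) F ⧸ Subgroup.center (GL (Fin n) F))
      (QuotientGroup.mk g') := by
  have hr : r.Prime := Fact.out
  rcases ℓ with o | e
  · obtain ⟨hgr, hnc, m, hm, hχ⟩ := h
    obtain ⟨hgr', hnc', m', hm', hχ'⟩ := h'
    have h1 := Quotient.exact' (hm.trans hm'.symm)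
    rw [MulAction.orbitRel_apply, MulAction.mem_orbit_iff] at h1
    obtain ⟨ν', hν'⟩ := h1
    have h2 := charpoly_smul_polyOf r (g' : Matrix (Fin n) (Fin n) F) ν' m'.1 hχ'
    have h3 : (g : Matrix (Fin n) (Fin n) F).charpoly =
        ((sc n (ν' : Fˣ) * g' : GL (Fin n) F) : Matrix (Fin n) (Fin n) F).charpoly := by
      rw [coe_sc_mul, hχ, ← hν']
      exact h2.symm
    have hpow : (sc n (ν' : Fˣ) * g') ^ r = 1 := by
      have hcomm : Commute (sc n (ν' : Fˣ)) g' := sc_commute n _ g'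
      rw [hcomm.mul_pow, sc_pow, hgr', (mem_rootsOfUnity r _).mp ν'.2, sc_one, one_mul]
    have hconj := gl_conj_of_charpoly_eq p n g (sc n (ν' : Fˣ) * g')
      (coprime_of_pow_eq_one p n r hr hrp g hgr) (coprime_of_pow_eq_one p n r hr hrp _ hpow) h3
    have := (QuotientGroup.mk' (Subgroup.center (GL (Fin n) F))).map_isConj hconj
    rw [QuotientGroup.mk'_apply, QuotientGroup.mk'_apply, QuotientGroup.mk_mul,
      (QuotientGroup.eq_one_iff _).mpr (sc_mem_center n _), one_mul] at this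
    exact this
  · have h1 : g ^ r = sc n (γ ^ e.1) := h
    have h2 : g' ^ r = sc n (γ ^ e.1) := h'
    have hl := not_pow_of_lt hF hrq γ hγ e.1 e.2.1 e.2.2.1
    have hgo := coprime_of_pow_eq_sc p n r hF hrq _ _ h1
    have hgo' := coprime_of_pow_eq_sc p n r hF hrq _ _ h2
    have hc1 := (charpoly_of_kummer p n r hr _ hgo _ hl h1).2
    have hc2 := (charpoly_of_kummer p n r hr _ hgo' _ hl h2).2
    have hconj := gl_conj_of_charpoly_eq p n g g' hgo hgo' (hc1.trans hc2.symm)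
    exact (QuotientGroup.mk' (Subgroup.center (GL (Fin n) F))).map_isConj hconj

include p hF hrq hγ hn hrp hsplit in
theorem card_classes_eq_card_lab :
    Nat.card {C : ConjClasses (GL (Fin n) F ⧸ Subgroup.center (GL (Fin n) F)) //
      ∃ g : GL (Fin n) F ⧸ Subgroup.center (GL (Fin n) F), ConjClasses.mk g = C ∧ orderOf g = r} =
    Nat.card (Lab F n r) := by
  apply card_eq_of_rel (fun C ℓ => ∃ g : GL (Fin n) F,
    C.1 = ConjClasses.mk (QuotientGroup.mk g) ∧ TypeRel n r γ g ℓ)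
  · rintro ⟨C, g₀, rfl, h₀⟩
    obtain ⟨g₀, rfl⟩ := QuotientGroup.mk_surjective g₀
    obtain ⟨g, ℓ, hπ, hT⟩ := exists_label p hF hn hrq hrp γ hγ hsplit g₀ h₀
    exact ⟨ℓ, g, congrArg ConjClasses.mk hπ, hT⟩
  · intro ℓ
    obtain ⟨g, hT, hord⟩ := exists_rep p hF hn hrq γ hγ ℓ
    exact ⟨⟨ConjClasses.mk (QuotientGroup.mk g), QuotientGroup.mk g, rfl, hord⟩, g, rfl, hT⟩
  · rintro ⟨C, hC⟩ ⟨C', hC'⟩ ℓ ℓ' ⟨g, hg, hT⟩ ⟨g', hg', hT'⟩
    simp only at hg hg'
    constructor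
    · intro h
      have h1 : C = C' := congrArg Subtype.val h
      rw [hg, hg', ConjClasses.mk_eq_mk_iff_isConj] at h1
      exact label_unique p hF hn hrq γ hγ g g' ℓ ℓ' hT hT' h1
    · intro h
      subst h
      apply Subtype.ext
      show C = C'
      rw [hg, hg', ConjClasses.mk_eq_mk_iff_isConj]
      exact conj_of_label p hF hrq hrp γ hγ g g' ℓ hT hT'

end main

end Cfsg.Agent.Lib.Helper5.Pgl
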