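import Mathlib
import Cfsg.Agent.Lib.Helper5.PglI

set_option autoImplicit false
set_option linter.style.haveILetI false
set_option linter.unusedSectionVars false

namespace Cfsg.Agent.Lib.Helper5.Pgl

open Polynomial Cfsg.Agent.Lib.Helper5.SSClass Cfsg.Agent.Lib.Helper5.PrimeOrd

theorem card_labB (n r : ℕ) :
    Nat.card {e : ℕ // 1 ≤ e ∧ e < r ∧ r ∣ n} = (r - 1) * (if r ∣ n then 1 else 0) := by
  classical
  haveI : Finite {e : ℕ // 1 ≤ e ∧ e < r ∧ r ∣ n} :=
    Finite.of_injective (β := Fin r) (fun e => ⟨e.1, e.2.2.1⟩) (by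
      intro a b h
      apply Subtype.ext
      exact congrArg Fin.val h)
  haveI := Fintype.ofFinite {e : ℕ // 1 ≤ e ∧ e < r ∧ r ∣ n}
  rw [Nat.card_eq_fintype_card]
  split_ifs with hrn
  · rw [Fintype.card_of_subtype (Finset.Ico 1 r) (fun x => by simp [hrn]), Nat.card_Ico, mul_one]
  · rw [Fintype.card_of_subtype ∅ (fun x => by simp [hrn]), Finset.card_empty, mul_zero]

theorem finite_labB (n r : ℕ) : Finite {e : ℕ // 1 ≤ e ∧ e < r ∧ r ∣ n} :=
  Finite.of_injective (β := Fin r) (fun e => ⟨e.1, e.2.2.1⟩) (by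
    intro a b h
    apply Subtype.ext
    exact congrArg Fin.val h)

theorem card_pgl_classes {F : Type*} [Field F] [Fintype F] {q : ℕ} (hF : Fintype.card F = q)
    {n r : ℕ} (hn : 2 ≤ n) (hr : r.Prime) (hrq : r ∣ q - 1) :
    Nat.card {C : ConjClasses (GL (Fin n) F ⧸ Subgroup.center (GL (Fin n) F)) //
      ∃ g : GL (Fin n) F ⧸ Subgroup.center (GL (Fin n) F), ConjClasses.mk g = C ∧ orderOf g = r} =
    ((n + r - 1).choose (r - 1) - r - (if r ∣ n then 1 else 0)) / r +
      r * (if r ∣ n then 1 else 0) := by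
  classical
  obtain ⟨p, hchar⟩ := CharP.exists F
  haveI := hchar
  haveI : Fact p.Prime := ⟨CharP.char_is_prime F p⟩
  haveI : Fact r.Prime := ⟨hr⟩
  have hp : p.Prime := Fact.out
  obtain ⟨k, _, hk⟩ := FiniteField.card F p
  have hq : q = p ^ (k : ℕ) := by rw [← hF, hk]
  have hpq : p ∣ q := by rw [hq]; exact dvd_pow_self p k.pos.ne'
  have hq1 : 1 ≤ q := by rw [hq]; exact Nat.one_le_pow _ _ hp.pos
  have hrp : r ≠ p := by
    rintro rfl
    have h3 := Nat.dvd_sub hpq hrq
    rw [Nat.sub_sub_self hq1] at h3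
    exact hp.one_lt.ne' (Nat.dvd_one.mp h3)
  obtain ⟨γ, hγ⟩ := IsCyclic.exists_generator (α := Fˣ)
  have hcardU : Fintype.card Fˣ = q - 1 := by rw [Fintype.card_units, hF]
  obtain ⟨ζ, hζ⟩ := exists_prime_orderOf_dvd_card r (by rw [hcardU]; exact hrq)
  have hprim : IsPrimitiveRoot (ζ : F) r := by
    rw [IsPrimitiveRoot.coe_units_iff, ← hζ]; exact IsPrimitiveRoot.orderOf ζ
  haveI : NeZero r := ⟨hr.ne_zero⟩
  have hμ : Nat.card (rootsOfUnity r F) = r := hprim.card_rootsOfUnity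
  have hsplit : (X ^ r - 1 : F[X]).Splits := by
    rw [splits_iff_card_roots]
    have := hprim.card_nthRoots_one
    unfold nthRoots at this
    rw [C_1] at this
    rw [this]
    have h1 : (X ^ r - 1 : F[X]) = X ^ r - C 1 := by rw [C_1]
    rw [h1, natDegree_X_pow_sub_C]
  rw [card_classes_eq_card_lab p hF (by omega) hrq hrp γ hγ hsplit]
  haveI : Finite (NS (rootsOfUnity r F) n) := finite_NS
  haveI := finite_labB n r
  rw [Nat.card_sum, card_orbits hμ (by omega), card_labB, add_assoc]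
  congr 1
  split_ifs
  · have := hr.one_le; omega
  · simp

end Cfsg.Agent.Lib.Helper5.Pgl
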