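import Mathlib

set_option autoImplicit false
set_option linter.unusedSectionVars false
set_option linter.unusedVariables false

namespace Cfsg.Agent.Lib.Helper5.ES

open Subgroup

variable {G : Type*} [Group G]

/-- abstract extraspecial-like data: `Q` has centre `{1,z}`, commutators and squares in `{1,z}`. -/
structure ESData (Q : Subgroup G) (z : G) : Prop where
  zQ : z ∈ Q
  z1 : z ≠ 1
  zz : z * z = 1
  comm : ∀ x ∈ Q, ∀ y ∈ Q, x * y * x⁻¹ * y⁻¹ = 1 ∨ x * y * x⁻¹ * y⁻¹ = z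
  zc : ∀ x ∈ Q, z * x = x * z
  cen : ∀ x ∈ Q, (∀ y ∈ Q, x * y = y * x) → x = 1 ∨ x = z
  sq : ∀ x ∈ Q, x * x = 1 ∨ x * x = z

variable {Q : Subgroup G} {z : G}

theorem comm_eq_one_iff {x w : G} : x * w * x⁻¹ * w⁻¹ = 1 ↔ x * w = w * x := by
  constructor
  · intro h
    calc x * w = (x * w * x⁻¹ * w⁻¹) * w * x := by group
      _ = w * x := by rw [h, one_mul]
  · intro h
    calc x * w * x⁻¹ * w⁻¹ = (x * w) * x⁻¹ * w⁻¹ := by group
      _ = (w * x) * x⁻¹ * w⁻¹ := by rw [h]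
      _ = 1 := by group

theorem ESData.zinv (h : ESData Q z) : z⁻¹ = z := inv_eq_of_mul_eq_one_left h.zz

/-- the commutator is multiplicative in the first variable. -/
theorem ESData.comm_mul (h : ESData Q z) {x y w : G} (hx : x ∈ Q) (hy : y ∈ Q) (hw : w ∈ Q) :
    (x * y) * w * (x * y)⁻¹ * w⁻¹ = (x * w * x⁻¹ * w⁻¹) * (y * w * y⁻¹ * w⁻¹) := by
  have hc : (y * w * y⁻¹ * w⁻¹) * x = x * (y * w * y⁻¹ * w⁻¹) := by
    rcases h.comm y hy w hw with h1 | h1
    · rw [h1]; simp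
    · rw [h1]; exact h.zc x hx
  calc (x * y) * w * (x * y)⁻¹ * w⁻¹ = x * (y * w * y⁻¹ * w⁻¹) * w * x⁻¹ * w⁻¹ := by group
    _ = (y * w * y⁻¹ * w⁻¹) * x * w * x⁻¹ * w⁻¹ := by rw [hc]
    _ = (y * w * y⁻¹ * w⁻¹) * (x * w * x⁻¹ * w⁻¹) := by group
    _ = (x * w * x⁻¹ * w⁻¹) * (y * w * y⁻¹ * w⁻¹) := by
        rcases h.comm y hy w hw with h1 | h1
        · rw [h1]; simp
        · rw [h1]
          exact h.zc _ (Q.mul_mem (Q.mul_mem (Q.mul_mem hx hw) (Q.inv_mem hx)) (Q.inv_mem hw))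

/-- commuting with `w` is "additive". -/
theorem ESData.commute_mul_iff (h : ESData Q z) {x y w : G} (hx : x ∈ Q) (hy : y ∈ Q)
    (hw : w ∈ Q) : (x * y) * w = w * (x * y) ↔ (x * w = w * x ↔ y * w = w * y) := by
  rw [← comm_eq_one_iff, ← comm_eq_one_iff (x := x), ← comm_eq_one_iff (x := y), h.comm_mul hx hy hw]
  rcases h.comm x hx w hw with h1 | h1 <;> rcases h.comm y hy w hw with h2 | h2 <;> rw [h1, h2]
  · simp
  · simp [h.z1]
  · simp [h.z1]
  · simp [h.zz]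

theorem ESData.commute_inv_iff (h : ESData Q z) {x w : G} :
    x⁻¹ * w = w * x⁻¹ ↔ x * w = w * x := by
  constructor
  · intro h1
    calc x * w = x * (w * x⁻¹) * x := by group
      _ = x * (x⁻¹ * w) * x := by rw [h1]
      _ = w * x := by group
  · intro h1
    calc x⁻¹ * w = x⁻¹ * (w * x) * x⁻¹ := by group
      _ = x⁻¹ * (x * w) * x⁻¹ := by rw [h1]
      _ = w * x⁻¹ := by group

end Cfsg.Agent.Lib.Helper5.ES
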