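import Mathlib
import Cfsg.Agent.Lib.Helper5.ESA

set_option autoImplicit false
set_option linter.unusedSectionVars false
set_option linter.unusedVariables false

namespace Cfsg.Agent.Lib.Helper5.ES

open Subgroup

variable {G : Type*} [Group G] {Q : Subgroup G} {z : G}

/-- If some element of `V ≤ Q` does not commute with `w ∈ Q`, exactly half of `V` does. -/
theorem ESData.half (h : ESData Q z) [Fintype G] [DecidableEq G] (V : Finset G)
    (hVQ : ∀ v ∈ V, v ∈ Q) (hVmul : ∀ a ∈ V, ∀ b ∈ V, a * b ∈ V) (hVinv : ∀ a ∈ V, a⁻¹ ∈ V)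
    {w : G} (hw : w ∈ Q) {v₀ : G} (hv₀ : v₀ ∈ V) (hne : v₀ * w ≠ w * v₀) :
    2 * (V.filter (fun v => v * w = w * v)).card = V.card := by
  classical
  have h1 := Finset.card_filter_add_card_filter_not (s := V) (fun v => v * w = w * v)
  have h2 : (V.filter (fun v => ¬ v * w = w * v)).card = (V.filter (fun v => v * w = w * v)).card := by
    refine Finset.card_nbij' (fun v => v₀⁻¹ * v) (fun v => v₀ * v) ?_ ?_ ?_ ?_
    · intro v hv
      simp only [Finset.coe_filter, Set.mem_ofPred_eq] at hv ⊢
      refine ⟨hVmul _ (hVinv _ hv₀) _ hv.1, ?_⟩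
      have hiff := h.commute_mul_iff (hVQ _ (hVinv _ hv₀)) (hVQ _ hv.1) hw
      rw [hiff, h.commute_inv_iff]
      exact ⟨fun hh => absurd hh hne, fun hh => absurd hh hv.2⟩
    · intro v hv
      simp only [Finset.coe_filter, Set.mem_ofPred_eq] at hv ⊢
      refine ⟨hVmul _ hv₀ _ hv.1, ?_⟩
      have hiff := h.commute_mul_iff (hVQ _ hv₀) (hVQ _ hv.1) hw
      rw [hiff]
      intro hh
      exact hne (hh.mpr hv.2)
    · intro v _; group
    · intro v _; group
  omega

/-- `|C_Q(U)| * |U| = 2 |Q|` for `z ∈ U ≤ Q`. -/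
theorem ESData.card_centralizer_mul [Finite G] (h : ESData Q z) (U : Subgroup G) (hU : U ≤ Q)
    (hz : z ∈ U) :
    Nat.card (Q ⊓ centralizer (U : Set G) : Subgroup G) * Nat.card U = 2 * Nat.card Q := by
  classical
  have := Fintype.ofFinite G
  set Uf : Finset G := Finset.univ.filter (fun u => u ∈ U) with hUf
  set Qf : Finset G := Finset.univ.filter (fun q => q ∈ Q) with hQf
  have hUc : Nat.card U = Uf.card := by rw [Nat.card_eq_fintype_card, Fintype.card_subtype]
  have hQc : Nat.card Q = Qf.card := by rw [Nat.card_eq_fintype_card, Fintype.card_subtype]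
  have hCc : Nat.card (Q ⊓ centralizer (U : Set G) : Subgroup G) =
      (Qf.filter (fun q => q ∈ centralizer (U : Set G))).card := by
    rw [Nat.card_eq_fintype_card, Fintype.card_subtype, hQf, Finset.filter_filter]
    congr 1
    ext x
    simp [Subgroup.mem_inf]
  have memU : ∀ u, u ∈ Uf ↔ u ∈ U := by intro u; rw [hUf, Finset.mem_filter]; simp
  have memQ : ∀ q, q ∈ Qf ↔ q ∈ Q := by intro q; rw [hQf, Finset.mem_filter]; simp
  have hdc := Finset.sum_card_bipartiteAbove_eq_sum_card_bipartiteBelow (s := Uf) (t := Qf)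
    (fun u q => q * u = u * q)
  unfold Finset.bipartiteAbove Finset.bipartiteBelow at hdc
  -- left side
  have hL : ∀ u ∈ Uf, 2 * (Qf.filter (fun q => q * u = u * q)).card =
      Qf.card + (if u = 1 ∨ u = z then Qf.card else 0) := by
    intro u hu
    have huQ : u ∈ Q := hU ((memU u).mp hu)
    by_cases hc : u = 1 ∨ u = z
    · rw [if_pos hc]
      have : Qf.filter (fun q => q * u = u * q) = Qf := by
        apply Finset.filter_true_of_mem
        intro q hq
        rcases hc with rfl | rfl
        · simp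
        · exact (h.zc q ((memQ q).mp hq)).symm
      rw [this]; ring
    · rw [if_neg hc, add_zero]
      have hnc : ¬ ∀ y ∈ Q, u * y = y * u := fun hh => hc (h.cen u huQ hh)
      push Not at hnc
      obtain ⟨q₀, hq₀, hq₀u⟩ := hnc
      exact h.half Qf (fun v hv => (memQ v).mp hv)
        (fun a ha b hb => (memQ _).mpr (Q.mul_mem ((memQ a).mp ha) ((memQ b).mp hb)))
        (fun a ha => (memQ _).mpr (Q.inv_mem ((memQ a).mp ha))) huQ ((memQ q₀).mpr hq₀)
        (fun hh => hq₀u hh.symm)
  -- right side
  have hR : ∀ q ∈ Qf, 2 * (Uf.filter (fun u => q * u = u * q)).card =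
      Uf.card + (if q ∈ centralizer (U : Set G) then Uf.card else 0) := by
    intro q hq
    have hqQ : q ∈ Q := (memQ q).mp hq
    by_cases hc : q ∈ centralizer (U : Set G)
    · rw [if_pos hc]
      have : Uf.filter (fun u => q * u = u * q) = Uf := by
        apply Finset.filter_true_of_mem
        intro u hu
        exact ((mem_centralizer_iff.mp hc) u ((memU u).mp hu)).symm
      rw [this]; ring
    · rw [if_neg hc, add_zero]
      rw [mem_centralizer_iff] at hc
      push Not at hc
      obtain ⟨u₀, hu₀, hu₀q⟩ := hc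
      have := h.half Uf (fun v hv => hU ((memU v).mp hv))
        (fun a ha b hb => (memU _).mpr (U.mul_mem ((memU a).mp ha) ((memU b).mp hb)))
        (fun a ha => (memU _).mpr (U.inv_mem ((memU a).mp ha))) hqQ ((memU u₀).mpr hu₀) hu₀q
      rw [← this]
      congr 2
      ext u
      simp only [Finset.mem_filter]
      exact ⟨fun hh => ⟨hh.1, hh.2.symm⟩, fun hh => ⟨hh.1, hh.2.symm⟩⟩
  have hsumL : 2 * ∑ u ∈ Uf, (Qf.filter (fun q => q * u = u * q)).card =
      Uf.card * Qf.card + 2 * Qf.card := by
    rw [Finset.mul_sum, Finset.sum_congr rfl hL, Finset.sum_add_distrib, Finset.sum_const,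
      smul_eq_mul, ← Finset.sum_filter, Finset.sum_const, smul_eq_mul]
    have : (Uf.filter (fun u => u = 1 ∨ u = z)).card = 2 := by
      have : Uf.filter (fun u => u = 1 ∨ u = z) = {1, z} := by
        ext u
        simp only [Finset.mem_filter, Finset.mem_insert, Finset.mem_singleton]
        constructor
        · exact fun hh => hh.2
        · intro hh
          refine ⟨?_, hh⟩
          rcases hh with rfl | rfl
          · exact (memU _).mpr (one_mem _)
          · exact (memU _).mpr hz
      rw [this, Finset.card_pair (Ne.symm h.z1)]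
    rw [this]
  have hsumR : 2 * ∑ q ∈ Qf, (Uf.filter (fun u => q * u = u * q)).card =
      Qf.card * Uf.card + (Qf.filter (fun q => q ∈ centralizer (U : Set G))).card * Uf.card := by
    rw [Finset.mul_sum, Finset.sum_congr rfl hR, Finset.sum_add_distrib, Finset.sum_const,
      smul_eq_mul, ← Finset.sum_filter, Finset.sum_const, smul_eq_mul]
  rw [hCc, hUc, hQc]
  have hdc' : ∑ u ∈ Uf, (Qf.filter (fun q => q * u = u * q)).card =
      ∑ q ∈ Qf, (Uf.filter (fun u => q * u = u * q)).card := hdc
  rw [hdc'] at hsumL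
  nlinarith [hsumL, hsumR]

end Cfsg.Agent.Lib.Helper5.ES
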