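import Mathlib
import Cfsg.Agent.Lib.Helper5.ESB

set_option autoImplicit false
set_option linter.unusedSectionVars false
set_option linter.unusedVariables false

namespace Cfsg.Agent.Lib.Helper5.ES

open Subgroup

variable {G : Type*} [Group G] {Q : Subgroup G} {z α : G}

/-- an involution `α` normalizing `Q`, fixing `z`, not centralizing `Q`. -/
structure InvAct (Q : Subgroup G) (z α : G) : Prop where
  αα : α * α = 1
  norm : ∀ q ∈ Q, α * q * α⁻¹ ∈ Q
  αz : α * z = z * α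
  nc : ∃ q ∈ Q, α * q ≠ q * α

/-- the commutator map `q ↦ [α, q]`. -/
def kap (α q : G) : G := α * q * α⁻¹ * q⁻¹

theorem InvAct.αinv (a : InvAct Q z α) : α⁻¹ = α := inv_eq_of_mul_eq_one_left a.αα

theorem InvAct.kap_mem (a : InvAct Q z α) {q : G} (hq : q ∈ Q) : kap α q ∈ Q :=
  Q.mul_mem (a.norm q hq) (Q.inv_mem hq)

theorem kap_mul (α w q : G) : kap α (w * q) = kap α w * (w * kap α q * w⁻¹) := by
  unfold kap; group

theorem kap_eq_one_iff {α q : G} : kap α q = 1 ↔ α * q = q * α := comm_eq_one_iff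

theorem InvAct.conj_kap (a : InvAct Q z α) (q : G) : α * kap α q * α⁻¹ = (kap α q)⁻¹ := by
  unfold kap
  have e := a.αinv
  calc α * (α * q * α⁻¹ * q⁻¹) * α⁻¹ = (α * α) * q * α⁻¹ * q⁻¹ * α⁻¹ := by group
    _ = q * α⁻¹ * q⁻¹ * α⁻¹ := by rw [a.αα, one_mul]
    _ = q * α * q⁻¹ * α⁻¹ := by rw [e]
    _ = (α * q * α⁻¹ * q⁻¹)⁻¹ := by group

theorem InvAct.kap_kap (a : InvAct Q z α) (q : G) : kap α (kap α q) = ((kap α q) * (kap α q))⁻¹ := by
  have := a.conj_kap q
  calc kap α (kap α q) = (α * kap α q * α⁻¹) * (kap α q)⁻¹ := by unfold kap; group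
    _ = (kap α q)⁻¹ * (kap α q)⁻¹ := by rw [this]
    _ = ((kap α q) * (kap α q))⁻¹ := by group

/-- conjugation by `α` preserves commuting. -/
theorem InvAct.conj_commute (a : InvAct Q z α) {x y : G} :
    (α * x * α⁻¹) * y = y * (α * x * α⁻¹) ↔ x * (α * y * α⁻¹) = (α * y * α⁻¹) * x := by
  have e := a.αinv
  constructor
  · intro h1
    have h2 : α⁻¹ * ((α * x * α⁻¹) * y) * α = α⁻¹ * (y * (α * x * α⁻¹)) * α := by rw [h1]
    have h3 : x * (α⁻¹ * y * α) = (α⁻¹ * y * α) * x := by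
      calc x * (α⁻¹ * y * α) = α⁻¹ * ((α * x * α⁻¹) * y) * α := by group
        _ = α⁻¹ * (y * (α * x * α⁻¹)) * α := h2
        _ = (α⁻¹ * y * α) * x := by group
    rw [e] at h3
    rw [e]
    exact h3
  · intro h1
    have h2 : α * (x * (α * y * α⁻¹)) * α⁻¹ = α * ((α * y * α⁻¹) * x) * α⁻¹ := by rw [h1]
    have h3 : (α * x * α⁻¹) * ((α * α) * y * (α * α)⁻¹) = ((α * α) * y * (α * α)⁻¹) * (α * x * α⁻¹) := by
      calc (α * x * α⁻¹) * ((α * α) * y * (α * α)⁻¹) = α * (x * (α * y * α⁻¹)) * α⁻¹ := by group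
        _ = α * ((α * y * α⁻¹) * x) * α⁻¹ := h2
        _ = ((α * α) * y * (α * α)⁻¹) * (α * x * α⁻¹) := by group
    rw [a.αα] at h3
    simpa using h3

/-- the adjoint identity. -/
theorem InvAct.adjoint (h : ESData Q z) (a : InvAct Q z α) {q w : G} (hq : q ∈ Q) (hw : w ∈ Q) :
    kap α q * w = w * kap α q ↔ kap α w * q = q * kap α w := by
  have h1 : kap α q * w = w * kap α q ↔
      ((α * q * α⁻¹) * w = w * (α * q * α⁻¹) ↔ q * w = w * q) := by
    unfold kap
    rw [h.commute_mul_iff (a.norm q hq) (Q.inv_mem hq) hw, h.commute_inv_iff]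
  have h2 : kap α w * q = q * kap α w ↔
      ((α * w * α⁻¹) * q = q * (α * w * α⁻¹) ↔ w * q = q * w) := by
    unfold kap
    rw [h.commute_mul_iff (a.norm w hw) (Q.inv_mem hw) hq, h.commute_inv_iff]
  rw [h1, h2, a.conj_commute]
  constructor
  · intro hh
    constructor
    · intro h3; exact (hh.mp h3.symm).symm
    · intro h3; exact (hh.mpr h3.symm).symm
  · intro hh
    constructor
    · intro h3; exact (hh.mp h3.symm).symm
    · intro h3; exact (hh.mpr h3.symm).symm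

theorem mem_centralizer_closure_iff (S : Set G) (w : G) :
    w ∈ centralizer (closure S : Set G) ↔ ∀ s ∈ S, s * w = w * s := by
  constructor
  · intro hw s hs
    exact (mem_centralizer_iff.mp hw) s (Subgroup.subset_closure hs)
  · intro hw
    rw [mem_centralizer_iff]
    intro k hk
    have hle : closure S ≤ centralizer ({w} : Set G) := by
      rw [closure_le]
      intro s hs
      rw [SetLike.mem_coe, mem_centralizer_singleton_iff]
      exact (hw s hs)
    have := hle hk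
    rw [mem_centralizer_singleton_iff] at this
    exact this

/-- `C_Q(K) = Q₀`. -/
theorem InvAct.cent_iff (h : ESData Q z) (a : InvAct Q z α) {w : G} (hw : w ∈ Q) :
    (∀ q ∈ Q, kap α q * w = w * kap α q) ↔ (kap α w = 1 ∨ kap α w = z) := by
  constructor
  · intro hh
    apply h.cen _ (a.kap_mem hw)
    intro q hq
    exact (a.adjoint h hq hw).mp (hh q hq)
  · intro hh q hq
    rw [a.adjoint h hq hw]
    rcases hh with h1 | h1
    · rw [h1]; simp
    · rw [h1]; exact h.zc q hq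

theorem InvAct.main [Finite G] (h : ESData Q z) (a : InvAct Q z α) (Q₀ : Subgroup G)
    (hQ₀ : ∀ q, q ∈ Q₀ ↔ q ∈ Q ∧ (kap α q = 1 ∨ kap α q = z)) :
    closure (kap α '' (Q : Set G)) = Q₀ ⊓ centralizer (Q₀ : Set G) := by
  set K := closure (kap α '' (Q : Set G)) with hK
  have hKQ : K ≤ Q := by
    rw [hK, closure_le]
    rintro _ ⟨q, hq, rfl⟩
    exact a.kap_mem hq
  have hgen : ∀ q ∈ Q, kap α q ∈ K := fun q hq => Subgroup.subset_closure ⟨q, hq, rfl⟩
  -- Q normalizes K on generators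
  have hconj : ∀ w ∈ Q, ∀ q ∈ Q, w * kap α q * w⁻¹ ∈ K := by
    intro w hw q hq
    have e : w * kap α q * w⁻¹ = (kap α w)⁻¹ * kap α (w * q) := by rw [kap_mul]; group
    rw [e]
    exact K.mul_mem (K.inv_mem (hgen w hw)) (hgen _ (Q.mul_mem hw hq))
  -- z ∈ K
  have hzK : z ∈ K := by
    obtain ⟨q, hq, hne⟩ := a.nc
    have hk1 : kap α q ≠ 1 := fun hh => hne (kap_eq_one_iff.mp hh)
    by_cases hkz : kap α q = z
    · rw [← hkz]; exact hgen q hq
    · have hnc : ¬ ∀ y ∈ Q, kap α q * y = y * kap α q := by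
        intro hh
        rcases h.cen _ (a.kap_mem hq) hh with h1 | h1
        · exact hk1 h1
        · exact hkz h1
      push Not at hnc
      obtain ⟨w, hw, hwne⟩ := hnc
      have hc := h.comm w hw (kap α q) (a.kap_mem hq)
      rcases hc with h1 | h1
      · exact absurd (comm_eq_one_iff.mp h1).symm hwne
      · rw [← h1]
        exact K.mul_mem (hconj w hw q hq) (K.inv_mem (hgen q hq))
  -- centralizer of K in Q is Q₀
  have hcent : Q ⊓ centralizer (K : Set G) = Q₀ := by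
    ext w
    rw [Subgroup.mem_inf, hQ₀, hK, mem_centralizer_closure_iff]
    constructor
    · rintro ⟨hw, hh⟩
      refine ⟨hw, (a.cent_iff h hw).mp ?_⟩
      intro q hq
      exact hh _ ⟨q, hq, rfl⟩
    · rintro ⟨hw, hh⟩
      refine ⟨hw, ?_⟩
      rintro _ ⟨q, hq, rfl⟩
      exact (a.cent_iff h hw).mpr hh q hq
  have hQ₀Q : Q₀ ≤ Q := fun q hq => ((hQ₀ q).mp hq).1
  have hzQ₀ : z ∈ Q₀ := by
    rw [hQ₀]
    refine ⟨h.zQ, Or.inl ?_⟩
    rw [kap_eq_one_iff]; exact a.αz
  -- K ≤ Q₀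
  have hKQ₀ : K ≤ Q₀ := by
    rw [hK, closure_le]
    rintro _ ⟨q, hq, rfl⟩
    rw [SetLike.mem_coe, hQ₀]
    refine ⟨a.kap_mem hq, ?_⟩
    rw [a.kap_kap]
    rcases h.sq _ (a.kap_mem hq) with h1 | h1
    · left; rw [h1, inv_one]
    · right; rw [h1, h.zinv]
  -- K ≤ C(Q₀)
  have hKc : K ≤ centralizer (Q₀ : Set G) := by
    rw [Subgroup.le_centralizer_iff]
    rw [← hcent]
    exact inf_le_right
  have hKle : K ≤ Q ⊓ centralizer (Q₀ : Set G) := le_inf hKQ hKc
  have c1 := h.card_centralizer_mul K hKQ hzK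
  have c2 := h.card_centralizer_mul Q₀ hQ₀Q hzQ₀
  rw [hcent] at c1
  have hpos : 0 < Nat.card Q₀ := Nat.card_pos
  have hcard : Nat.card K = Nat.card (Q ⊓ centralizer (Q₀ : Set G) : Subgroup G) := by
    have : Nat.card Q₀ * Nat.card K = Nat.card Q₀ * Nat.card (Q ⊓ centralizer (Q₀ : Set G) : Subgroup G) := by
      rw [c1, ← c2, mul_comm]
    exact Nat.eq_of_mul_eq_mul_left hpos this
  have hKeq : K = Q ⊓ centralizer (Q₀ : Set G) := by
    apply Subgroup.eq_of_le_of_card_ge hKle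
    rw [hcard]
  apply le_antisymm
  · exact le_inf hKQ₀ hKc
  · rw [hKeq]
    exact inf_le_inf_right _ hQ₀Q

end Cfsg.Agent.Lib.Helper5.ES
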