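import Mathlib
import Cfsg.Prelude.Def_Transfer
import Cfsg.Agent.Lib.Helper5.ESC
import Cfsg.Agent.Lib.Helper2.PGroupFrattini

set_option autoImplicit false
set_option linter.unusedSectionVars false
set_option linter.unusedVariables false

namespace Cfsg.Agent.Lib.Helper5.ES

open Subgroup

/-- transport of `ESData` along an injective homomorphism. -/
theorem ESData.map {P G : Type*} [Group P] [Group G] {Q : Subgroup P} {z : P} (h : ESData Q z)
    (f : P →* G) (hf : Function.Injective f) : ESData (Q.map f) (f z) where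
  zQ := ⟨z, h.zQ, rfl⟩
  z1 := fun hh => h.z1 (hf (by rw [hh, map_one]))
  zz := by rw [← map_mul, h.zz, map_one]
  comm := by
    rintro _ ⟨x, hx, rfl⟩ _ ⟨y, hy, rfl⟩
    rcases h.comm x hx y hy with h1 | h1
    · left; rw [← map_inv, ← map_inv, ← map_mul, ← map_mul, ← map_mul, h1, map_one]
    · right; rw [← map_inv, ← map_inv, ← map_mul, ← map_mul, ← map_mul, h1]
  zc := by
    rintro _ ⟨x, hx, rfl⟩
    rw [← map_mul, ← map_mul, h.zc x hx]
  cen := by
    rintro _ ⟨x, hx, rfl⟩ hh
    have : x = 1 ∨ x = z := by
      apply h.cen x hx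
      intro y hy
      apply hf
      rw [map_mul, map_mul]
      exact hh _ ⟨y, hy, rfl⟩
    rcases this with h1 | h1
    · left; rw [h1, map_one]
    · right; rw [h1]
  sq := by
    rintro _ ⟨x, hx, rfl⟩
    rcases h.sq x hx with h1 | h1
    · left; rw [← map_mul, h1, map_one]
    · right; rw [← map_mul, h1]

/-- an extraspecial 2-group gives `ESData`. -/
theorem ESData.ofExtraspecial {P : Type*} [Group P] [Finite P] (hE : Cfsg.IsExtraspecial 2 P)
    (z : P) (hz : z ∈ center P) (hz1 : z ≠ 1) : ESData (⊤ : Subgroup P) z := by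
  obtain ⟨⟨hP, hfr, hcm⟩, hcard⟩ := hE
  have hcen : ∀ c ∈ center P, c = 1 ∨ c = z := by
    intro c hc
    by_cases hc1 : c = 1
    · exact Or.inl hc1
    · right
      have h2 := (Nat.card_eq_two_iff' (1 : center P)).mp hcard
      obtain ⟨y, hy, hyu⟩ := h2
      have e1 : (⟨c, hc⟩ : center P) = y := hyu _ (fun hh => hc1 (by simpa using congrArg Subtype.val hh))
      have e2 : (⟨z, hz⟩ : center P) = y := hyu _ (fun hh => hz1 (by simpa using congrArg Subtype.val hh))
      have := e1.trans e2.symm
      simpa using congrArg Subtype.val this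
  refine ⟨mem_top _, hz1, ?_, ?_, ?_, ?_, ?_⟩
  · rcases hcen (z * z) ((center P).mul_mem hz hz) with h1 | h1
    · exact h1
    · exfalso; apply hz1
      calc z = z⁻¹ * (z * z) := by group
        _ = z⁻¹ * z := by rw [h1]
        _ = 1 := by group
  · intro x _ y _
    apply hcen
    rw [← hcm, ← commutatorElement_def, commutator_def]
    exact commutator_mem_commutator (mem_top x) (mem_top y)
  · intro x _
    exact ((mem_center_iff.mp hz) x).symm
  · intro x _ hh
    apply hcen
    rw [mem_center_iff]
    intro y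
    exact (hh y (mem_top y)).symm
  · intro x _
    apply hcen
    rw [← hfr, ← pow_two]
    exact Cfsg.Agent.Lib.Helper2.pow_mem_frattini_of_isPGroup hP x

end Cfsg.Agent.Lib.Helper5.ES
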