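import Mathlib
import Cfsg.Agent.Lib.Helper5.ESC

set_option autoImplicit false
set_option linter.unusedSectionVars false
set_option linter.unusedVariables false

namespace Cfsg.Agent.Lib.Helper5.ES

open Subgroup

variable {G : Type*} [Group G] {Q : Subgroup G} {z α : G}

theorem InvAct.full [Finite G] (h : ESData Q z) (a : InvAct Q z α) (Q₀ : Subgroup G)
    (hQ₀ : ∀ q, q ∈ Q₀ ↔ q ∈ Q ∧ (kap α q = 1 ∨ kap α q = z)) :
    closure (kap α '' (Q : Set G)) = Q ⊓ centralizer (Q₀ : Set G) ∧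
      closure (kap α '' (Q : Set G)) ≤ Q₀ ∧
      Q ⊓ centralizer ((closure (kap α '' (Q : Set G)) : Subgroup G) : Set G) = Q₀ := by
  set K := closure (kap α '' (Q : Set G)) with hK
  have hKQ : K ≤ Q := by
    rw [hK, closure_le]
    rintro _ ⟨q, hq, rfl⟩
    exact a.kap_mem hq
  have hgen : ∀ q ∈ Q, kap α q ∈ K := fun q hq => Subgroup.subset_closure ⟨q, hq, rfl⟩
  -- Q normalizes K on generators
  have hconj : ∀ w ∈ Q, ∀ q ∈ Q, w * kap α q * w⁻¹ ∈ K := by
    intro w hw q hq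
    have e : w * kap α q * w⁻¹ = (kap α w)⁻¹ * kap α (w * q) := by rw [kap_mul]; group
    rw [e]
    exact K.mul_mem (K.inv_mem (hgen w hw)) (hgen _ (Q.mul_mem hw hq))
  -- z ∈ K
  have hzK : z ∈ K := by
    obtain ⟨q, hq, hne⟩ := a.nc
    have hk1 : kap α q ≠ 1 := fun hh => hne (kap_eq_one_iff.mp hh)
    by_cases hkz : kap α q = z
    · rw [← hkz]; exact hgen q hq
    · have hnc : ¬ ∀ y ∈ Q, kap α q * y = y * kap α q := by
        intro hh
        rcases h.cen _ (a.kap_mem hq) hh with h1 | h1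
        · exact hk1 h1
        · exact hkz h1
      push Not at hnc
      obtain ⟨w, hw, hwne⟩ := hnc
      have hc := h.comm w hw (kap α q) (a.kap_mem hq)
      rcases hc with h1 | h1
      · exact absurd (comm_eq_one_iff.mp h1).symm hwne
      · rw [← h1]
        exact K.mul_mem (hconj w hw q hq) (K.inv_mem (hgen q hq))
  -- centralizer of K in Q is Q₀
  have hcent : Q ⊓ centralizer (K : Set G) = Q₀ := by
    ext w
    rw [Subgroup.mem_inf, hQ₀, hK, mem_centralizer_closure_iff]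
    constructor
    · rintro ⟨hw, hh⟩
      refine ⟨hw, (a.cent_iff h hw).mp ?_⟩
      intro q hq
      exact hh _ ⟨q, hq, rfl⟩
    · rintro ⟨hw, hh⟩
      refine ⟨hw, ?_⟩
      rintro _ ⟨q, hq, rfl⟩
      exact (a.cent_iff h hw).mpr hh q hq
  have hQ₀Q : Q₀ ≤ Q := fun q hq => ((hQ₀ q).mp hq).1
  have hzQ₀ : z ∈ Q₀ := by
    rw [hQ₀]
    refine ⟨h.zQ, Or.inl ?_⟩
    rw [kap_eq_one_iff]; exact a.αz
  -- K ≤ Q₀
  have hKQ₀ : K ≤ Q₀ := by
    rw [hK, closure_le]
    rintro _ ⟨q, hq, rfl⟩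
    rw [SetLike.mem_coe, hQ₀]
    refine ⟨a.kap_mem hq, ?_⟩
    rw [a.kap_kap]
    rcases h.sq _ (a.kap_mem hq) with h1 | h1
    · left; rw [h1, inv_one]
    · right; rw [h1, h.zinv]
  -- K ≤ C(Q₀)
  have hKc : K ≤ centralizer (Q₀ : Set G) := by
    rw [Subgroup.le_centralizer_iff]
    rw [← hcent]
    exact inf_le_right
  have hKle : K ≤ Q ⊓ centralizer (Q₀ : Set G) := le_inf hKQ hKc
  have c1 := h.card_centralizer_mul K hKQ hzK
  have c2 := h.card_centralizer_mul Q₀ hQ₀Q hzQ₀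
  rw [hcent] at c1
  have hpos : 0 < Nat.card Q₀ := Nat.card_pos
  have hcard : Nat.card K = Nat.card (Q ⊓ centralizer (Q₀ : Set G) : Subgroup G) := by
    have : Nat.card Q₀ * Nat.card K = Nat.card Q₀ * Nat.card (Q ⊓ centralizer (Q₀ : Set G) : Subgroup G) := by
      rw [c1, ← c2, mul_comm]
    exact Nat.eq_of_mul_eq_mul_left hpos this
  have hKeq : K = Q ⊓ centralizer (Q₀ : Set G) := by
    apply Subgroup.eq_of_le_of_card_ge hKle
    rw [hcard]
  exact ⟨hKeq, hKQ₀, hcent⟩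

end Cfsg.Agent.Lib.Helper5.ES
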