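import Mathlib
import Cfsg.Agent.Lib.Helper5.ESE

set_option autoImplicit false
set_option linter.unusedSectionVars false
set_option linter.unusedVariables false

namespace Cfsg.Agent.Lib.Helper5.ES

open Subgroup

variable {G : Type*} [Group G] {Q : Subgroup G} {z : G}

/-- an element commuting with `C_Q(x)` and with some `y ∉ C_Q(x)` is central. -/
theorem ESData.central_of (h : ESData Q z) {x u y : G} (hx : x ∈ Q) (hu : u ∈ Q) (hy : y ∈ Q)
    (hyx : y * x ≠ x * y) (huy : u * y = y * u)
    (hcomm : ∀ a ∈ Q, a * x = x * a → u * a = a * u) : u = 1 ∨ u = z := by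
  apply h.cen u hu
  intro q hq
  by_cases hqx : q * x = x * q
  · exact hcomm q hq hqx
  · have h1 : (q * y) * x = x * (q * y) := by
      rw [h.commute_mul_iff hq hy hx]
      exact ⟨fun hh => absurd hh hqx, fun hh => absurd hh hyx⟩
    have h2 := hcomm (q * y) (Q.mul_mem hq hy) h1
    have h3 : (q * y) * u = u * (q * y) := h2.symm
    rw [h.commute_mul_iff hq hy hu] at h3
    exact (h3.mpr huy.symm).symm

/-- `C_Q(C_Q(x)) ⊆ {1, z, x, xz}`. -/
theorem ESData.double_centralizer (h : ESData Q z) {x u : G} (hx : x ∈ Q) (hxx : x * x = 1)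
    (hu : u ∈ Q) (hcomm : ∀ a ∈ Q, a * x = x * a → u * a = a * u) :
    u = 1 ∨ u = z ∨ u = x ∨ u = x * z := by
  by_cases hxc : ∀ y ∈ Q, y * x = x * y
  · have : u = 1 ∨ u = z := h.cen u hu (fun q hq => hcomm q hq (hxc q hq))
    rcases this with h1 | h1
    · exact Or.inl h1
    · exact Or.inr (Or.inl h1)
  · push Not at hxc
    obtain ⟨y, hy, hyx⟩ := hxc
    by_cases huy : u * y = y * u
    · rcases h.central_of hx hu hy hyx huy hcomm with h1 | h1
      · exact Or.inl h1
      · exact Or.inr (Or.inl h1)
    · have hux : (u * x) ∈ Q := Q.mul_mem hu hx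
      have h1 : (u * x) * y = y * (u * x) := by
        rw [h.commute_mul_iff hu hx hy]
        exact ⟨fun hh => absurd hh huy, fun hh => absurd hh.symm hyx⟩
      have h2 : ∀ a ∈ Q, a * x = x * a → (u * x) * a = a * (u * x) := by
        intro a ha hax
        rw [h.commute_mul_iff hu hx ha]
        exact ⟨fun _ => hax.symm, fun _ => hcomm a ha hax⟩
      have hxi : x⁻¹ = x := inv_eq_of_mul_eq_one_left hxx
      rcases h.central_of hx hux hy hyx h1 h2 with h3 | h3
      · right; right; left
        calc u = (u * x) * x⁻¹ := by group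
          _ = x := by rw [h3, one_mul, hxi]
      · right; right; right
        calc u = (u * x) * x⁻¹ := by group
          _ = z * x := by rw [h3, hxi]
          _ = x * z := h.zc x hx

end Cfsg.Agent.Lib.Helper5.ES
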