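import Mathlib
import Cfsg.Agent.Lib.Helper5.ESF

set_option autoImplicit false
set_option linter.unusedSectionVars false
set_option linter.unusedVariables false

namespace Cfsg.Agent.Lib.Helper5.ES

open Subgroup

variable {G : Type*} [Group G] {Q R : Subgroup G} {z x : G}

/-- hypotheses for the symmetry lemma: `x ∈ Q = Q_z`, `R = Q_x`. -/
structure SymHyp (Q R : Subgroup G) (z x : G) : Prop where
  hQ : ESData Q z
  hR : ESData R x
  xQ : x ∈ Q
  zR_norm : ∀ r ∈ R, z * r * z⁻¹ ∈ R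
  A_norm : ∀ a ∈ Q, a * x = x * a → ∀ r ∈ R, a * r * a⁻¹ ∈ R
  B_norm : ∀ b ∈ R, b * z = z * b → ∀ q ∈ Q, b * q * b⁻¹ ∈ Q
  cent : (∀ r ∈ R, z * r = r * z) → z ∈ R
  conj : ∀ h : G, h * z * h⁻¹ = x → ∀ q ∈ Q, h * q * h⁻¹ ∈ R
  card : Nat.card Q = Nat.card R

theorem SymHyp.inter (S : SymHyp Q R z x) (hzR : z ∉ R) {u : G} (huQ : u ∈ Q) (huR : u ∈ R) :
    u = 1 ∨ u = x := by
  have hxx : x * x = 1 := S.hR.zz
  have hc : ∀ a ∈ Q, a * x = x * a → u * a = a * u := by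
    intro a ha hax
    rcases S.hQ.comm u huQ a ha with h1 | h1
    · exact comm_eq_one_iff.mp h1
    · exfalso; apply hzR
      rw [← h1, show u * a * u⁻¹ * a⁻¹ = u * (a * u⁻¹ * a⁻¹) by group]
      exact R.mul_mem huR (S.A_norm a ha hax u⁻¹ (R.inv_mem huR))
  rcases S.hQ.double_centralizer S.xQ hxx huQ hc with h | h | h | h
  · exact Or.inl h
  · exact absurd (h ▸ huR) hzR
  · exact Or.inr h
  · exfalso; apply hzR
    have : z = x⁻¹ * u := by rw [h]; group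
    rw [this]
    exact R.mul_mem (R.inv_mem S.hR.zQ) huR

theorem SymHyp.comm_AB (S : SymHyp Q R z x) (hzR : z ∉ R) {a b : G} (ha : a ∈ Q)
    (hax : a * x = x * a) (hb : b ∈ R) (hbz : b * z = z * b) :
    a * b * a⁻¹ * b⁻¹ = 1 ∨ a * b * a⁻¹ * b⁻¹ = x := by
  apply S.inter hzR
  · rw [show a * b * a⁻¹ * b⁻¹ = a * (b * a⁻¹ * b⁻¹) by group]
    exact Q.mul_mem ha (S.B_norm b hb hbz a⁻¹ (Q.inv_mem ha))
  · exact R.mul_mem (S.A_norm a ha hax b hb) (R.inv_mem hb)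

/-- case (i): some `r ∈ R` has `[z, r] = x`. -/
theorem SymHyp.case_one (S : SymHyp Q R z x) (hzR : z ∉ R) {r : G} (hr : r ∈ R)
    (hk : z * r * z⁻¹ * r⁻¹ = x) : False := by
  have hxx : x * x = 1 := S.hR.zz
  have hzz : z * z = 1 := S.hQ.zz
  have hxi : x⁻¹ = x := inv_eq_of_mul_eq_one_left hxx
  have hzi : z⁻¹ = z := S.hQ.zinv
  have hzx : z * x = x * z := S.hQ.zc x S.xQ
  have hxz : x ≠ z := fun h => hzR (h ▸ S.hR.zQ)
  -- x is not central in Q
  have hnc : ¬ ∀ y ∈ Q, x * y = y * x := by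
    intro hh
    rcases S.hQ.cen x S.xQ hh with h1 | h1
    · exact S.hR.z1 h1
    · exact hxz h1
  push Not at hnc
  obtain ⟨y, hy, hyx⟩ := hnc
  -- basic identities
  have e1 : r * z * r⁻¹ = x * z := by
    have : r * z * r⁻¹ * z⁻¹ = x := by
      have h2 : (z * r * z⁻¹ * r⁻¹)⁻¹ = x⁻¹ := by rw [hk]
      rw [hxi] at h2
      rw [← h2]; group
    calc r * z * r⁻¹ = (r * z * r⁻¹ * z⁻¹) * z := by group
      _ = x * z := by rw [this]
  have e2 : r * x * r⁻¹ = x := by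
    have := S.hR.zc r hr
    calc r * x * r⁻¹ = (x * r) * r⁻¹ := by rw [this]
      _ = x := by group
  have e3 : y * z * y⁻¹ = z := by
    have := S.hQ.zc y hy
    calc y * z * y⁻¹ = (z * y) * y⁻¹ := by rw [this]
      _ = z := by group
  have e3' : y⁻¹ * z * y = z := by
    have := S.hQ.zc y hy
    calc y⁻¹ * z * y = y⁻¹ * (z * y) := by group
      _ = y⁻¹ * (y * z) := by rw [this]
      _ = z := by group
  have e4 : y * x * y⁻¹ = z * x := by
    rcases S.hQ.comm y hy x S.xQ with h1 | h1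
    · exact absurd (comm_eq_one_iff.mp h1).symm hyx
    · calc y * x * y⁻¹ = (y * x * y⁻¹ * x⁻¹) * x := by group
        _ = z * x := by rw [h1]
  have e5 : y⁻¹ * x * y = z * x := by
    rcases S.hQ.comm y⁻¹ (Q.inv_mem hy) x S.xQ with h1 | h1
    · exfalso
      have h2 := comm_eq_one_iff.mp h1
      apply hyx
      calc x * y = y * (y⁻¹ * x) * y := by group
        _ = y * (x * y⁻¹) * y := by rw [h2]
        _ = y * x := by group
    · calc y⁻¹ * x * y = (y⁻¹ * x * y⁻¹⁻¹ * x⁻¹) * x := by group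
        _ = z * x := by rw [h1]
  set h := y * r * y⁻¹ with hh
  have hz' : h * z * h⁻¹ = x := by
    calc h * z * h⁻¹ = y * (r * (y⁻¹ * z * y) * r⁻¹) * y⁻¹ := by rw [hh]; group
      _ = y * (r * z * r⁻¹) * y⁻¹ := by rw [e3']
      _ = y * (x * z) * y⁻¹ := by rw [e1]
      _ = (y * x * y⁻¹) * (y * z * y⁻¹) := by group
      _ = z * x * z := by rw [e4, e3]
      _ = x := by rw [hzx, mul_assoc, hzz, mul_one]
  have hx' : h * x * h⁻¹ = z := by
    calc h * x * h⁻¹ = y * (r * (y⁻¹ * x * y) * r⁻¹) * y⁻¹ := by rw [hh]; group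
      _ = y * (r * (z * x) * r⁻¹) * y⁻¹ := by rw [e5]
      _ = y * ((r * z * r⁻¹) * (r * x * r⁻¹)) * y⁻¹ := by group
      _ = y * ((x * z) * x) * y⁻¹ := by rw [e1, e2]
      _ = y * z * y⁻¹ := by
          have : (x * z) * x = z := by rw [← hzx, mul_assoc, hxx, mul_one]
          rw [this]
      _ = z := e3
  apply hzR
  rw [← hx']
  exact S.conj h hz' x S.xQ

end Cfsg.Agent.Lib.Helper5.ES
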