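import Mathlib
import Cfsg.Agent.Lib.Helper5.ESG

set_option autoImplicit false
set_option linter.unusedSectionVars false
set_option linter.unusedVariables false

namespace Cfsg.Agent.Lib.Helper5.ES

open Subgroup

variable {G : Type*} [Group G] {Q R : Subgroup G} {z x : G}

theorem SymHyp.invAct (S : SymHyp Q R z x) (hzR : z ∉ R) : InvAct R x z := by
  refine ⟨S.hQ.zz, S.zR_norm, S.hQ.zc x S.xQ, ?_⟩
  by_contra hcon
  push Not at hcon
  exact hzR (S.cent hcon)

/-- In case (ii), `[a, r]` lies in `K` for `a ∈ C_Q(x)`, `r ∈ R`. -/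
theorem SymHyp.comm_mem (S : SymHyp Q R z x) (hzR : z ∉ R) {a r : G} (ha : a ∈ Q)
    (hax : a * x = x * a) (hr : r ∈ R) :
    a * r * a⁻¹ * r⁻¹ ∈ R ⊓ centralizer ((R ⊓ centralizer ({z} : Set G) : Subgroup G) : Set G) := by
  rw [Subgroup.mem_inf]
  have hr' : a * r * a⁻¹ ∈ R := S.A_norm a ha hax r hr
  refine ⟨R.mul_mem hr' (R.inv_mem hr), ?_⟩
  rw [mem_centralizer_iff]
  intro b hb
  rw [SetLike.mem_coe, Subgroup.mem_inf, mem_centralizer_singleton_iff] at hb
  obtain ⟨hbR, hbz⟩ := hb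
  symm
  rw [S.hR.commute_mul_iff hr' (R.inv_mem hr) hbR, S.hR.commute_inv_iff]
  -- a⁻¹ ∈ A
  have hai : a⁻¹ ∈ Q := Q.inv_mem ha
  have haix : a⁻¹ * x = x * a⁻¹ := by
    calc a⁻¹ * x = a⁻¹ * (x * a) * a⁻¹ := by group
      _ = a⁻¹ * (a * x) * a⁻¹ := by rw [hax]
      _ = x * a⁻¹ := by group
  set b' := a⁻¹ * b * a with hb'
  have hb'R : b' ∈ R := by
    have := S.A_norm a⁻¹ hai haix b hbR
    simpa using this
  have hcases : b' = b ∨ b' = x * b := by
    rcases S.comm_AB hzR hai haix hbR hbz with h1 | h1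
    · left
      calc b' = (a⁻¹ * b * a⁻¹⁻¹ * b⁻¹) * b := by rw [hb']; group
        _ = b := by rw [h1, one_mul]
    · right
      calc b' = (a⁻¹ * b * a⁻¹⁻¹ * b⁻¹) * b := by rw [hb']; group
        _ = x * b := by rw [h1]
  have e1 : a * r * a⁻¹ * b = a * (r * b') * a⁻¹ := by rw [hb']; group
  have e2 : b * (a * r * a⁻¹) = a * (b' * r) * a⁻¹ := by rw [hb']; group
  have hiff : a * r * a⁻¹ * b = b * (a * r * a⁻¹) ↔ r * b' = b' * r := by
    rw [e1, e2]
    constructor
    · intro hh
      have := mul_left_cancel (mul_right_cancel hh)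
      exact this
    · intro hh; rw [hh]
  rw [hiff]
  rcases hcases with h1 | h1
  · rw [h1]
  · rw [h1]
    have hxr := S.hR.zc r hr
    constructor
    · intro hh
      have : x * (r * b) = x * (b * r) := by
        calc x * (r * b) = r * (x * b) := by rw [← mul_assoc, hxr, mul_assoc]
          _ = x * b * r := hh
          _ = x * (b * r) := by group
      exact mul_left_cancel this
    · intro hh
      calc r * (x * b) = x * (r * b) := by rw [← mul_assoc, ← hxr, mul_assoc]
        _ = x * (b * r) := by rw [hh]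
        _ = x * b * r := by group

end Cfsg.Agent.Lib.Helper5.ES
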