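import Mathlib
import Cfsg.Agent.Lib.Helper5.ESH

set_option autoImplicit false
set_option linter.unusedSectionVars false
set_option linter.unusedVariables false

namespace Cfsg.Agent.Lib.Helper5.ES

open Subgroup

variable {G : Type*} [Group G] {Q R : Subgroup G} {z x : G}

/-- In case (ii), `C_Q(x)` is abelian. -/
theorem SymHyp.A_comm [Finite G] (S : SymHyp Q R z x) (hzR : z ∉ R)
    (hcase : ∀ r ∈ R, kap z r ≠ x) {a a' : G} (ha : a ∈ Q) (hax : a * x = x * a)
    (ha' : a' ∈ Q) (hax' : a' * x = x * a') : a * a' = a' * a := by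
  have hact := S.invAct hzR
  set R₀ : Subgroup G := R ⊓ centralizer ({z} : Set G) with hR₀def
  have hR₀ : ∀ r, r ∈ R₀ ↔ r ∈ R ∧ (kap z r = 1 ∨ kap z r = x) := by
    intro r
    rw [hR₀def, Subgroup.mem_inf, mem_centralizer_singleton_iff]
    constructor
    · rintro ⟨hr, hrz⟩
      exact ⟨hr, Or.inl (kap_eq_one_iff.mpr hrz.symm)⟩
    · rintro ⟨hr, h1 | h1⟩
      · exact ⟨hr, (kap_eq_one_iff.mp h1).symm⟩
      · exact absurd h1 (hcase r hr)
  obtain ⟨hK1, hK2, hK3⟩ := hact.full S.hR R₀ hR₀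
  set K := closure (kap z '' (R : Set G)) with hK
  have hKR : K ≤ R := by rw [hK1]; exact inf_le_left
  have hKz : ∀ m ∈ K, m * z = z * m := by
    intro m hm
    have := hK2 hm
    rw [hR₀def, Subgroup.mem_inf, mem_centralizer_singleton_iff] at this
    exact this.2
  have hKab : ∀ m ∈ K, ∀ m' ∈ K, m * m' = m' * m := by
    intro m hm m' hm'
    have h1 : m ∈ centralizer (R₀ : Set G) := by
      have : m ∈ R ⊓ centralizer (R₀ : Set G) := hK1 ▸ hm
      exact this.2
    exact ((mem_centralizer_iff.mp h1) m' (hK2 hm')).symm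
  have hmemK : ∀ b ∈ Q, b * x = x * b → ∀ r ∈ R, b * r * b⁻¹ * r⁻¹ ∈ K := by
    intro b hb hbx r hr
    rw [hK1]
    exact S.comm_mem hzR hb hbx hr
  rcases S.hQ.comm a ha a' ha' with hc | hc
  · exact comm_eq_one_iff.mp hc
  · exfalso
    apply hzR
    apply S.cent
    intro r₁ hr₁
    have haa' : a * a' = z * (a' * a) := by
      calc a * a' = (a * a' * a⁻¹ * a'⁻¹) * (a' * a) := by group
        _ = z * (a' * a) := by rw [hc]
    -- r with (a'a) r (a'a)⁻¹ = r₁
    have hg₀ : (a' * a)⁻¹ ∈ Q := Q.inv_mem (Q.mul_mem ha' ha)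
    have hg₀x : (a' * a)⁻¹ * x = x * (a' * a)⁻¹ := by
      have h1 : (a' * a) * x = x * (a' * a) := by
        calc (a' * a) * x = a' * (a * x) := by group
          _ = a' * (x * a) := by rw [hax]
          _ = (a' * x) * a := by group
          _ = (x * a') * a := by rw [hax']
          _ = x * (a' * a) := by group
      calc (a' * a)⁻¹ * x = (a' * a)⁻¹ * (x * (a' * a)) * (a' * a)⁻¹ := by group
        _ = (a' * a)⁻¹ * ((a' * a) * x) * (a' * a)⁻¹ := by rw [h1]
        _ = x * (a' * a)⁻¹ := by group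
    set r := (a' * a)⁻¹ * r₁ * (a' * a) with hr
    have hrR : r ∈ R := by
      have := S.A_norm _ hg₀ hg₀x r₁ hr₁
      rw [inv_inv] at this
      exact this
    set m := a * r * a⁻¹ * r⁻¹ with hm
    set m' := a' * r * a'⁻¹ * r⁻¹ with hm'
    have hmK : m ∈ K := hmemK a ha hax r hrR
    have hm'K : m' ∈ K := hmemK a' ha' hax' r hrR
    set ε₁ := a * m' * a⁻¹ * m'⁻¹ with hε₁
    set ε₂ := a' * m * a'⁻¹ * m⁻¹ with hε₂
    have hε₁c : ε₁ = 1 ∨ ε₁ = x :=
      S.comm_AB hzR ha hax (hKR hm'K) (hKz m' hm'K)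
    have hε₂c : ε₂ = 1 ∨ ε₂ = x :=
      S.comm_AB hzR ha' hax' (hKR hmK) (hKz m hmK)
    have f1 : (a * a') * r * (a * a')⁻¹ = ε₁ * m' * m * r := by
      rw [hε₁, hm', hm]; group
    have f2 : r₁ = ε₂ * m * m' * r := by
      rw [hε₂, hm', hm, hr]; group
    have f3 : z * r₁ * z⁻¹ = (a * a') * r * (a * a')⁻¹ := by
      rw [haa', hr]; group
    have hkap : z * r₁ * z⁻¹ * r₁⁻¹ = ε₁ * ε₂⁻¹ := by
      rw [f3, f1]
      have : ε₁ * m' * m * r = ε₁ * (m * m') * r := by
        rw [mul_assoc ε₁ m' m, hKab m' hm'K m hmK]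
      rw [this]
      have f2' : r₁⁻¹ = (ε₂ * m * m' * r)⁻¹ := by rw [← f2]
      rw [f2']
      group
    have hxx : x * x = 1 := S.hR.zz
    have hxi : x⁻¹ = x := inv_eq_of_mul_eq_one_left hxx
    have hval : z * r₁ * z⁻¹ * r₁⁻¹ = 1 ∨ z * r₁ * z⁻¹ * r₁⁻¹ = x := by
      rw [hkap]
      rcases hε₁c with h1 | h1 <;> rcases hε₂c with h2 | h2 <;> rw [h1, h2]
      · left; simp
      · right; simp [hxi]
      · right; simp
      · left; rw [hxi, hxx]
    rcases hval with h1 | h1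
    · exact comm_eq_one_iff.mp h1
    · exact absurd h1 (hcase r₁ hr₁)

end Cfsg.Agent.Lib.Helper5.ES
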