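import Mathlib
import Cfsg.Agent.Lib.Helper5.ESI

set_option autoImplicit false
set_option linter.unusedSectionVars false
set_option linter.unusedVariables false

namespace Cfsg.Agent.Lib.Helper5.ES

open Subgroup

variable {G : Type*} [Group G] {Q R : Subgroup G} {z x : G}

theorem card_le_four_of_subset [Finite G] (H : Subgroup G) (a b c d : G)
    (h : ∀ u ∈ H, u = a ∨ u = b ∨ u = c ∨ u = d) : Nat.card H ≤ 4 := by
  classical
  have hsub : (H : Set G) ⊆ (({a, b, c, d} : Finset G) : Set G) := by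
    intro u hu
    rcases h u hu with h1 | h1 | h1 | h1 <;> simp [h1]
  calc Nat.card H = (H : Set G).ncard := Nat.card_coe_set_eq (H : Set G)
    _ ≤ ((({a, b, c, d} : Finset G) : Set G)).ncard := Set.ncard_le_ncard hsub (Set.toFinite _)
    _ = ({a, b, c, d} : Finset G).card := Set.ncard_coe_finset _
    _ ≤ 4 := Finset.card_le_four

/-- In case (ii), `|Q| ≤ 8`. -/
theorem SymHyp.card_le [Finite G] (S : SymHyp Q R z x) (hzR : z ∉ R)
    (hcase : ∀ r ∈ R, kap z r ≠ x) : Nat.card Q ≤ 8 := by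
  set A : Subgroup G := Q ⊓ centralizer ({x} : Set G) with hA
  have hAQ : A ≤ Q := inf_le_left
  have hzA : z ∈ A := by
    rw [hA, Subgroup.mem_inf, mem_centralizer_singleton_iff]
    exact ⟨S.hQ.zQ, S.hQ.zc x S.xQ⟩
  have hperp := S.hQ.card_centralizer_mul A hAQ hzA
  have hmemA : ∀ a, a ∈ A ↔ a ∈ Q ∧ a * x = x * a := by
    intro a; rw [hA, Subgroup.mem_inf, mem_centralizer_singleton_iff]
  have hxx : x * x = 1 := S.hR.zz
  have hC4 : Nat.card (Q ⊓ centralizer (A : Set G) : Subgroup G) ≤ 4 := by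
    apply card_le_four_of_subset _ 1 z x (x * z)
    intro u hu
    rw [Subgroup.mem_inf, mem_centralizer_iff] at hu
    apply S.hQ.double_centralizer S.xQ hxx hu.1
    intro a ha hax
    exact (hu.2 a ((hmemA a).mpr ⟨ha, hax⟩)).symm
  have hAle : A ≤ Q ⊓ centralizer (A : Set G) := by
    intro a ha
    rw [Subgroup.mem_inf, mem_centralizer_iff]
    refine ⟨hAQ ha, ?_⟩
    intro a' ha'
    have h1 := (hmemA a).mp ha
    have h2 := (hmemA a').mp ha'
    exact S.A_comm hzR hcase h2.1 h2.2 h1.1 h1.2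
  have hA4 : Nat.card A ≤ 4 := le_trans (Subgroup.card_le_of_le hAle) hC4
  nlinarith

end Cfsg.Agent.Lib.Helper5.ES
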