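import Mathlib
import Cfsg.Agent.Lib.Helper5.ESJ

set_option autoImplicit false
set_option linter.unusedSectionVars false
set_option linter.unusedVariables false

namespace Cfsg.Agent.Lib.Helper5.ES

open Subgroup

variable {G : Type*} [Group G] {Q R : Subgroup G} {z x : G}

theorem SymHyp.case_two [Finite G] (S : SymHyp Q R z x) (hzR : z ∉ R)
    (hcase : ∀ r ∈ R, kap z r ≠ x) : False := by
  have hact := S.invAct hzR
  set R₀ : Subgroup G := R ⊓ centralizer ({z} : Set G) with hR₀def
  have hR₀ : ∀ r, r ∈ R₀ ↔ r ∈ R ∧ (kap z r = 1 ∨ kap z r = x) := by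
    intro r
    rw [hR₀def, Subgroup.mem_inf, mem_centralizer_singleton_iff]
    constructor
    · rintro ⟨hr, hrz⟩
      exact ⟨hr, Or.inl (kap_eq_one_iff.mpr hrz.symm)⟩
    · rintro ⟨hr, h1 | h1⟩
      · exact ⟨hr, (kap_eq_one_iff.mp h1).symm⟩
      · exact absurd h1 (hcase r hr)
  obtain ⟨hK1, hK2, hK3⟩ := hact.full S.hR R₀ hR₀
  set K := closure (kap z '' (R : Set G)) with hK
  have hR₀R : R₀ ≤ R := inf_le_left
  have hxR₀ : x ∈ R₀ := by
    rw [hR₀def, Subgroup.mem_inf, mem_centralizer_singleton_iff]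
    exact ⟨S.hR.zQ, (S.hQ.zc x S.xQ).symm⟩
  have hperp := S.hR.card_centralizer_mul R₀ hR₀R hxR₀
  rw [← hK1] at hperp
  have hQ8 := S.card_le hzR hcase
  rw [S.card] at hQ8
  have hKle : Nat.card K ≤ Nat.card R₀ := Subgroup.card_le_of_le hK2
  have hdvd : Nat.card R₀ ∣ Nat.card R := Subgroup.card_dvd_of_le hR₀R
  obtain ⟨r, hr, hrz⟩ := hact.nc
  have hrR₀ : r ∉ R₀ := by
    intro h
    rw [hR₀def, Subgroup.mem_inf, mem_centralizer_singleton_iff] at h
    exact hrz h.2.symm
  have hne : Nat.card R₀ ≠ Nat.card R := by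
    intro h
    have := Subgroup.eq_of_le_of_card_ge hR₀R (le_of_eq h.symm)
    exact hrR₀ (this ▸ hr)
  have hpos : 0 < Nat.card R₀ := Nat.card_pos
  have hposR : 0 < Nat.card R := Nat.card_pos
  have h2le : 2 * Nat.card R₀ ≤ Nat.card R := by
    obtain ⟨k, hk⟩ := hdvd
    have hk2 : 2 ≤ k := by
      rcases Nat.lt_or_ge k 2 with h | h
      · interval_cases k
        · omega
        · omega
      · exact h
    rw [hk]; nlinarith
  -- deduce cards
  have hb4 : Nat.card R₀ = 4 := by
    have h1 : Nat.card R₀ ≤ 4 := by omega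
    have h2 : 4 * Nat.card R₀ ≤ Nat.card K * Nat.card R₀ := by rw [hperp]; omega
    have h3 : 4 ≤ Nat.card K := Nat.le_of_mul_le_mul_right h2 hpos
    omega
  have hk4 : Nat.card K = 4 := by
    have h2 : 4 * Nat.card R₀ ≤ Nat.card K * Nat.card R₀ := by rw [hperp]; omega
    have h3 : 4 ≤ Nat.card K := Nat.le_of_mul_le_mul_right h2 hpos
    omega
  have hR8 : Nat.card R = 8 := by
    rw [hk4, hb4] at hperp; omega
  have hKR₀ : K = R₀ := Subgroup.eq_of_le_of_card_ge hK2 (by rw [hk4, hb4])
  -- the element m = κ(r)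
  set m := kap z r with hm
  have hmK : m ∈ K := Subgroup.subset_closure ⟨r, hr, rfl⟩
  have hmR : m ∈ R := hR₀R (hK2 hmK)
  have hmz : z * m = m * z := by
    have := hK2 hmK
    rw [hR₀def, Subgroup.mem_inf, mem_centralizer_singleton_iff] at this
    exact this.2.symm
  have hmm : m * m = 1 := by
    have h1 := hact.kap_kap r
    rw [← hm, kap_eq_one_iff.mpr hmz] at h1
    have : (m * m)⁻¹ = 1 := h1.symm
    exact inv_eq_one.mp this
  have hmi : m⁻¹ = m := inv_eq_of_mul_eq_one_left hmm
  have hzr : z * r * z⁻¹ = m * r := by rw [hm]; unfold kap; group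
  have hmr : m * r = r * m := by
    have hsq : (m * r) * (m * r) = r * r := by
      rw [← hzr]
      have hzrr : z * (r * r) = (r * r) * z := by
        rcases S.hR.sq r hr with h1 | h1
        · rw [h1]; simp
        · rw [h1]; exact S.hQ.zc x S.xQ
      calc z * r * z⁻¹ * (z * r * z⁻¹) = (z * (r * r)) * z⁻¹ := by group
        _ = (r * r) * z * z⁻¹ := by rw [hzrr]
        _ = r * r := by group
    have h1 : m * r * m = r := by
      have : (m * r * m) * r = r * r := by rw [← hsq]; group
      exact mul_right_cancel this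
    calc m * r = (m * r * m) * m⁻¹ := by group
      _ = r * m := by rw [h1, hmi]
  -- centralizer of m in R
  set C : Subgroup G := R ⊓ centralizer ({m} : Set G) with hC
  have hCR : C ≤ R := inf_le_left
  have hR₀C : R₀ ≤ C := by
    intro b hb
    rw [hC, Subgroup.mem_inf, mem_centralizer_singleton_iff]
    refine ⟨hR₀R hb, ?_⟩
    have h1 : m ∈ centralizer (R₀ : Set G) := by
      have : m ∈ R ⊓ centralizer (R₀ : Set G) := hK1 ▸ hmK
      exact this.2
    exact ((mem_centralizer_iff.mp h1) b hb)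
  have hrC : r ∈ C := by
    rw [hC, Subgroup.mem_inf, mem_centralizer_singleton_iff]
    exact ⟨hr, hmr.symm⟩
  have hCcard : Nat.card C = 8 := by
    have d1 : Nat.card R₀ ∣ Nat.card C := Subgroup.card_dvd_of_le hR₀C
    have d2 : Nat.card C ∣ Nat.card R := Subgroup.card_dvd_of_le hCR
    rw [hb4] at d1
    rw [hR8] at d2
    have hle : Nat.card C ≤ 8 := Nat.le_of_dvd (by norm_num) d2
    have hne4 : Nat.card C ≠ 4 := by
      intro h
      have := Subgroup.eq_of_le_of_card_ge hR₀C (by rw [h, hb4])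
      exact hrR₀ (this ▸ hrC)
    have hpos : 0 < Nat.card C := Nat.card_pos
    obtain ⟨k, hk⟩ := d1
    have : k ≤ 2 := by omega
    interval_cases k <;> omega
  have hCeq : C = R := Subgroup.eq_of_le_of_card_ge hCR (by rw [hCcard, hR8])
  have hcen : ∀ y ∈ R, m * y = y * m := by
    intro y hy
    have : y ∈ C := hCeq ▸ hy
    rw [hC, Subgroup.mem_inf, mem_centralizer_singleton_iff] at this
    exact this.2.symm
  rcases S.hR.cen m hmR hcen with h1 | h1
  · exact hrz (kap_eq_one_iff.mp h1)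
  · exact hcase r hr h1

theorem SymHyp.main [Finite G] (S : SymHyp Q R z x) : z ∈ R := by
  by_contra hzR
  by_cases hcase : ∃ r ∈ R, kap z r = x
  · obtain ⟨r, hr, hk⟩ := hcase
    exact S.case_one hzR hr hk
  · push Not at hcase
    exact S.case_two hzR hcase

end Cfsg.Agent.Lib.Helper5.ES
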