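import Mathlib

set_option autoImplicit false
set_option linter.unusedSectionVars false
set_option linter.unusedVariables false

namespace Cfsg.Agent.Lib.Helper5.FourS3

open Subgroup

variable {G : Type*} [Group G]

/-- pairs, carrying the simultaneous conjugation action. -/
@[ext] structure ConjPair (G : Type*) where
  fst : G
  snd : G

/-- simultaneous conjugation action of a subgroup on pairs. -/
instance pairAct (N : Subgroup G) : MulAction ↥N (ConjPair G) where
  smul n p := ⟨(n : G) * p.fst * (n : G)⁻¹, (n : G) * p.snd * (n : G)⁻¹⟩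
  one_smul p := by
    show (⟨((1 : ↥N) : G) * p.fst * ((1 : ↥N) : G)⁻¹, ((1 : ↥N) : G) * p.snd * ((1 : ↥N) : G)⁻¹⟩ : ConjPair G) = p
    ext <;> simp
  mul_smul m n p := by
    show (⟨((m * n : ↥N) : G) * p.fst * ((m * n : ↥N) : G)⁻¹, ((m * n : ↥N) : G) * p.snd * ((m * n : ↥N) : G)⁻¹⟩ : ConjPair G)
      = ⟨(m : G) * ((n : G) * p.fst * (n : G)⁻¹) * (m : G)⁻¹, (m : G) * ((n : G) * p.snd * (n : G)⁻¹) * (m : G)⁻¹⟩
    simp only [Subgroup.coe_mul, mul_inv_rev, mul_assoc]

theorem pairAct_smul (N : Subgroup G) (n : ↥N) (p : ConjPair G) :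
    n • p = ⟨(n : G) * p.fst * (n : G)⁻¹, (n : G) * p.snd * (n : G)⁻¹⟩ := rfl

theorem cinj (n u v : G) (h : n * u * n⁻¹ = n * v * n⁻¹) : u = v := by
  simpa using h

theorem norm_aux (V : Subgroup G) (a b : G)
    (hV : ∀ v, v ∈ V ↔ v = 1 ∨ v = a ∨ v = b ∨ v = a * b)
    (n a' b' c' : G) (h1 : n * a * n⁻¹ = a') (h2 : n * b * n⁻¹ = b') (h3 : n * (a * b) * n⁻¹ = c')
    (ha' : a' ∈ V) (hb' : b' ∈ V) (hc' : c' ∈ V)
    (hsurj : ∀ v ∈ V, v = 1 ∨ v = a' ∨ v = b' ∨ v = c') : n ∈ normalizer (V : Set G) := by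
  rw [mem_normalizer_iff]
  intro h
  constructor
  · intro hh
    rcases (hV h).mp hh with rfl | rfl | rfl | rfl
    · simp
    · rw [h1]; exact ha'
    · rw [h2]; exact hb'
    · rw [h3]; exact hc'
  · intro hh
    rcases hsurj _ hh with h0 | h0 | h0 | h0
    · have : h = 1 := by
        apply cinj n
        rw [h0]; group
      rw [this]; exact V.one_mem
    · rw [← h1] at h0
      rw [cinj n _ _ h0, hV]; exact Or.inr (Or.inl rfl)
    · rw [← h2] at h0
      rw [cinj n _ _ h0, hV]; exact Or.inr (Or.inr (Or.inl rfl))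
    · rw [← h3] at h0
      rw [cinj n _ _ h0, hV]; exact Or.inr (Or.inr (Or.inr rfl))

/-- If the four-group `V = {1,a,b,ab}` admits `q` fixing `a` and moving `b ↦ ab`, and `r` fixing `b`
and moving `a ↦ ab`, then `|N(V) : C(V)| = 6`. -/
theorem relIndex_eq_six (V : Subgroup G) (a b : G) (haa : a * a = 1) (hbb : b * b = 1)
    (hab : a * b = b * a) (ha1 : a ≠ 1) (hb1 : b ≠ 1) (hne : a ≠ b)
    (hV : ∀ v, v ∈ V ↔ v = 1 ∨ v = a ∨ v = b ∨ v = a * b)
    (q r : G) (hqa : q * a * q⁻¹ = a) (hqb : q * b * q⁻¹ = a * b)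
    (hrb : r * b * r⁻¹ = b) (hra : r * a * r⁻¹ = a * b) :
    (centralizer (V : Set G)).relIndex (normalizer (V : Set G)) = 6 := by
  classical
  have hsmul : ∀ (n : ↥(normalizer (V : Set G))) (p : ConjPair G),
      n • p = ⟨(n : G) * p.fst * (n : G)⁻¹, (n : G) * p.snd * (n : G)⁻¹⟩ := fun n p => rfl
  have haV : a ∈ V := (hV a).mpr (Or.inr (Or.inl rfl))
  have hbV : b ∈ V := (hV b).mpr (Or.inr (Or.inr (Or.inl rfl)))
  have habV : a * b ∈ V := V.mul_mem haV hbV
  have hab1 : a * b ≠ 1 := by
    intro h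
    apply hne
    calc a = a * b * b := by rw [mul_assoc, hbb, mul_one]
      _ = b := by rw [h, one_mul]
  have ha_ab : a ≠ a * b := by
    intro h
    apply hb1
    calc b = a * (a * b) := by rw [← mul_assoc, haa, one_mul]
      _ = 1 := by rw [← h, haa]
  have hb_ab : b ≠ a * b := by
    intro h
    apply ha1
    calc a = a * b * b := by rw [mul_assoc, hbb, mul_one]
      _ = 1 := by rw [← h, hbb]
  -- stabilizer
  have hstab : MulAction.stabilizer ↥(normalizer (V : Set G)) (⟨a, b⟩ : ConjPair G)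
      = (centralizer (V : Set G)).subgroupOf (normalizer (V : Set G)) := by
    ext n
    rw [MulAction.mem_stabilizer_iff, mem_subgroupOf, hsmul, ConjPair.mk.injEq, mem_centralizer_iff]
    constructor
    · rintro ⟨h1, h2⟩ v hv
      have h1' : (n : G) * a = a * n := by
        calc (n : G) * a = ((n : G) * a * (n : G)⁻¹) * n := by group
          _ = a * n := by rw [h1]
      have h2' : (n : G) * b = b * n := by
        calc (n : G) * b = ((n : G) * b * (n : G)⁻¹) * n := by group
          _ = b * n := by rw [h2]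
      rcases (hV v).mp hv with rfl | rfl | rfl | rfl
      · simp
      · exact h1'.symm
      · exact h2'.symm
      · rw [mul_assoc, ← h2', ← mul_assoc, ← h1', mul_assoc]
    · intro h
      constructor
      · have := h a haV
        calc (n : G) * a * (n : G)⁻¹ = (a * n) * (n : G)⁻¹ := by rw [this]
          _ = a := by group
      · have := h b hbV
        calc (n : G) * b * (n : G)⁻¹ = (b * n) * (n : G)⁻¹ := by rw [this]
          _ = b := by group
  -- the orbit
  let T : Finset G := {a, b, a * b}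
  have hT : T.card = 3 := by
    show ({a, b, a * b} : Finset G).card = 3
    rw [Finset.card_insert_of_notMem, Finset.card_insert_of_notMem, Finset.card_singleton]
    · simpa using hb_ab
    · simp only [Finset.mem_insert, Finset.mem_singleton, not_or]
      exact ⟨hne, ha_ab⟩
  have hTmem : ∀ v, v ∈ T ↔ v ∈ V ∧ v ≠ 1 := by
    intro v
    show v ∈ ({a, b, a * b} : Finset G) ↔ _
    simp only [Finset.mem_insert, Finset.mem_singleton]
    rw [hV v]
    constructor
    · rintro (rfl | rfl | rfl)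
      · exact ⟨Or.inr (Or.inl rfl), ha1⟩
      · exact ⟨Or.inr (Or.inr (Or.inl rfl)), hb1⟩
      · exact ⟨Or.inr (Or.inr (Or.inr rfl)), hab1⟩
    · rintro ⟨h1 | h1 | h1 | h1, h2⟩
      · exact absurd h1 h2
      · exact Or.inl h1
      · exact Or.inr (Or.inl h1)
      · exact Or.inr (Or.inr h1)
  have hq_ab : q * (a * b) * q⁻¹ = b := by
    calc q * (a * b) * q⁻¹ = (q * a * q⁻¹) * (q * b * q⁻¹) := by group
      _ = a * (a * b) := by rw [hqa, hqb]
      _ = b := by rw [← mul_assoc, haa, one_mul]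
  have hr_ab : r * (a * b) * r⁻¹ = a := by
    calc r * (a * b) * r⁻¹ = (r * a * r⁻¹) * (r * b * r⁻¹) := by group
      _ = a * b * b := by rw [hra, hrb]
      _ = a := by rw [mul_assoc, hbb, mul_one]
  have hqN : q ∈ normalizer (V : Set G) := by
    refine norm_aux V a b hV q a (a * b) b hqa hqb hq_ab haV habV hbV ?_
    intro v hv
    rcases (hV v).mp hv with h | h | h | h
    · exact Or.inl h
    · exact Or.inr (Or.inl h)
    · exact Or.inr (Or.inr (Or.inr h))
    · exact Or.inr (Or.inr (Or.inl h))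
  have hrN : r ∈ normalizer (V : Set G) := by
    refine norm_aux V a b hV r (a * b) b a hra hrb hr_ab habV hbV haV ?_
    intro v hv
    rcases (hV v).mp hv with h | h | h | h
    · exact Or.inl h
    · exact Or.inr (Or.inr (Or.inr h))
    · exact Or.inr (Or.inr (Or.inl h))
    · exact Or.inr (Or.inl h)
  let f : ConjPair G → G × G := fun p => (p.fst, p.snd)
  have hf : Function.Injective f := by
    intro p1 p2 h
    have h' : (p1.fst, p1.snd) = (p2.fst, p2.snd) := h
    rw [Prod.mk.injEq] at h'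
    exact ConjPair.ext h'.1 h'.2
  have e2 : ∀ m n u : G, (m * n) * u * (m * n)⁻¹ = m * (n * u * n⁻¹) * m⁻¹ := by
    intros; group
  have horb : f '' (MulAction.orbit ↥(normalizer (V : Set G)) (⟨a, b⟩ : ConjPair G)) = ↑(T.offDiag) := by
    ext p
    rw [Set.mem_image, Finset.mem_coe, Finset.mem_offDiag]
    constructor
    · rintro ⟨p', hp', rfl⟩
      rw [MulAction.mem_orbit_iff] at hp'
      obtain ⟨n, rfl⟩ := hp'
      rw [hsmul]
      have hn := mem_normalizer_iff.mp n.2
      show (n : G) * a * (n : G)⁻¹ ∈ T ∧ (n : G) * b * (n : G)⁻¹ ∈ T ∧ (n : G) * a * (n : G)⁻¹ ≠ (n : G) * b * (n : G)⁻¹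
      refine ⟨?_, ?_, ?_⟩
      · rw [hTmem]
        refine ⟨(hn a).mp haV, ?_⟩
        intro h
        apply ha1
        calc a = (n : G)⁻¹ * ((n : G) * a * (n : G)⁻¹) * n := by group
          _ = 1 := by rw [h]; group
      · rw [hTmem]
        refine ⟨(hn b).mp hbV, ?_⟩
        intro h
        apply hb1
        calc b = (n : G)⁻¹ * ((n : G) * b * (n : G)⁻¹) * n := by group
          _ = 1 := by rw [h]; group
      · intro h
        exact hne (cinj _ _ _ h)
    · rintro ⟨h1, h2, h3⟩
      have key : ∀ n ∈ normalizer (V : Set G), n * a * n⁻¹ = p.1 → n * b * n⁻¹ = p.2 →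
          ∃ x ∈ MulAction.orbit ↥(normalizer (V : Set G)) (⟨a, b⟩ : ConjPair G), f x = p := by
        intro n hn e1 e3
        refine ⟨(⟨n, hn⟩ : ↥(normalizer (V : Set G))) • (⟨a, b⟩ : ConjPair G), MulAction.mem_orbit _ _, ?_⟩
        rw [hsmul]
        show (n * a * n⁻¹, n * b * n⁻¹) = p
        rw [e1, e3]
      have h1' : p.1 = a ∨ p.1 = b ∨ p.1 = a * b := by
        have : p.1 ∈ ({a, b, a * b} : Finset G) := h1
        simpa using this
      have h2' : p.2 = a ∨ p.2 = b ∨ p.2 = a * b := by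
        have : p.2 ∈ ({a, b, a * b} : Finset G) := h2
        simpa using this
      rcases h1' with e1 | e1 | e1 <;> rcases h2' with e3 | e3 | e3
      · exact absurd (e1.trans e3.symm) h3
      · -- (a, b)
        refine key 1 (Subgroup.one_mem _) ?_ ?_
        · rw [e1]; group
        · rw [e3]; group
      · -- (a, ab)
        refine key q hqN ?_ ?_
        · rw [e1, hqa]
        · rw [e3, hqb]
      · -- (b, a)
        refine key (q * r * q) (Subgroup.mul_mem _ (Subgroup.mul_mem _ hqN hrN) hqN) ?_ ?_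
        · rw [e1, e2, e2, hqa, hra, hq_ab]
        · rw [e3, e2, e2, hqb, hr_ab, hqa]
      · exact absurd (e1.trans e3.symm) h3
      · -- (b, ab)
        refine key (q * r) (Subgroup.mul_mem _ hqN hrN) ?_ ?_
        · rw [e1, e2, hra, hq_ab]
        · rw [e3, e2, hrb, hqb]
      · -- (ab, a)
        refine key (r * q) (Subgroup.mul_mem _ hrN hqN) ?_ ?_
        · rw [e1, e2, hqa, hra]
        · rw [e3, e2, hqb, hr_ab]
      · -- (ab, b)
        refine key r hrN ?_ ?_
        · rw [e1, hra]
        · rw [e3, hrb]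
      · exact absurd (e1.trans e3.symm) h3
  show ((centralizer (V : Set G)).subgroupOf (normalizer (V : Set G))).index = 6
  rw [← hstab, MulAction.index_stabilizer, ← Set.ncard_image_of_injective _ hf, horb,
    Set.ncard_coe_finset, Finset.offDiag_card, hT]

end Cfsg.Agent.Lib.Helper5.FourS3
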