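import Mathlib

set_option autoImplicit false
set_option linter.unusedSectionVars false
set_option linter.unusedVariables false

namespace Cfsg.Agent.Lib.Helper5.FourSup

open Subgroup

variable {G : Type*} [Group G]

/-- the four-group generated by two commuting involutions. -/
def fourSubgroup (a b : G) (haa : a * a = 1) (hbb : b * b = 1) (hab : a * b = b * a) :
    Subgroup G where
  carrier := {v | v = 1 ∨ v = a ∨ v = b ∨ v = a * b}
  one_mem' := Or.inl rfl
  mul_mem' := by
    intro u v hu hv
    have haa' : ∀ w, a * (a * w) = w := fun w => by rw [← mul_assoc, haa, one_mul]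
    have hbb' : ∀ w, b * (b * w) = w := fun w => by rw [← mul_assoc, hbb, one_mul]
    have hba : b * a = a * b := hab.symm
    have hba' : ∀ w, b * (a * w) = a * (b * w) := fun w => by
      rw [← mul_assoc, hba, mul_assoc]
    simp only [Set.mem_ofPred_eq] at hu hv ⊢
    rcases hu with rfl | rfl | rfl | rfl <;> rcases hv with rfl | rfl | rfl | rfl <;>
      simp [mul_assoc, haa, hbb, haa', hbb', hba, hba']
  inv_mem' := by
    intro u hu
    have hainv : a⁻¹ = a := inv_eq_of_mul_eq_one_left haa
    have hbinv : b⁻¹ = b := inv_eq_of_mul_eq_one_left hbb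
    simp only [Set.mem_ofPred_eq] at hu ⊢
    rcases hu with rfl | rfl | rfl | rfl
    · simp
    · rw [hainv]; exact Or.inr (Or.inl rfl)
    · rw [hbinv]; exact Or.inr (Or.inr (Or.inl rfl))
    · rw [mul_inv_rev, hainv, hbinv, ← hab]; exact Or.inr (Or.inr (Or.inr rfl))

theorem mem_fourSubgroup (a b : G) (haa : a * a = 1) (hbb : b * b = 1) (hab : a * b = b * a)
    (v : G) : v ∈ fourSubgroup a b haa hbb hab ↔ v = 1 ∨ v = a ∨ v = b ∨ v = a * b := Iff.rfl

theorem mem_sup_four (H K : Subgroup G) (a b : G) (haa : a * a = 1) (hbb : b * b = 1)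
    (hab : a * b = b * a) (hH : ∀ v, v ∈ H ↔ v = 1 ∨ v = a) (hK : ∀ v, v ∈ K ↔ v = 1 ∨ v = b)
    (v : G) : v ∈ H ⊔ K ↔ v = 1 ∨ v = a ∨ v = b ∨ v = a * b := by
  have haH : a ∈ H := (hH a).mpr (Or.inr rfl)
  have hbK : b ∈ K := (hK b).mpr (Or.inr rfl)
  constructor
  · intro hv
    have hle : H ⊔ K ≤ fourSubgroup a b haa hbb hab := by
      apply sup_le
      · intro u hu
        rcases (hH u).mp hu with rfl | rfl
        · exact Or.inl rfl
        · exact Or.inr (Or.inl rfl)
      · intro u hu
        rcases (hK u).mp hu with rfl | rfl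
        · exact Or.inl rfl
        · exact Or.inr (Or.inr (Or.inl rfl))
    exact hle hv
  · rintro (rfl | rfl | rfl | rfl)
    · exact Subgroup.one_mem _
    · exact (le_sup_left : H ≤ H ⊔ K) haH
    · exact (le_sup_right : K ≤ H ⊔ K) hbK
    · exact Subgroup.mul_mem _ ((le_sup_left : H ≤ H ⊔ K) haH) ((le_sup_right : K ≤ H ⊔ K) hbK)

end Cfsg.Agent.Lib.Helper5.FourSup
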