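import Mathlib

set_option autoImplicit false
set_option linter.unusedSectionVars false
set_option linter.unusedVariables false

namespace Cfsg.Agent.Lib.Helper5.KleinFpf

open Subgroup

variable {G : Type*} [Group G]

/-- a fixed-point-free involution normalizing a finite subgroup inverts it. -/
theorem inverts_of_fpf (K : Subgroup G) [Finite ↥K] (e : G) (hee : e * e = 1)
    (hnorm : ∀ k ∈ K, e * k * e⁻¹ ∈ K)
    (hfpf : ∀ k ∈ K, k * e = e * k → k = 1) :
    ∀ n ∈ K, e * n * e⁻¹ = n⁻¹ := by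
  have heinv : e⁻¹ = e := inv_eq_of_mul_eq_one_left hee
  let φ : ↥K → ↥K := fun m => ⟨(m : G)⁻¹ * (e * m * e⁻¹), K.mul_mem (K.inv_mem m.2) (hnorm m m.2)⟩
  have hφinj : Function.Injective φ := by
    intro m1 m2 h12
    have h12' : (m1 : G)⁻¹ * (e * m1 * e⁻¹) = (m2 : G)⁻¹ * (e * m2 * e⁻¹) := congrArg Subtype.val h12
    have hcm : ((m2 : G) * (m1 : G)⁻¹) * e = e * ((m2 : G) * (m1 : G)⁻¹) := by
      have e1 : (m2 : G) * ((m1 : G)⁻¹ * (e * m1 * e⁻¹)) * e * (m1 : G)⁻¹ = (m2 : G) * (m1 : G)⁻¹ * e := by group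
      have e2 : (m2 : G) * ((m2 : G)⁻¹ * (e * m2 * e⁻¹)) * e * (m1 : G)⁻¹ = e * ((m2 : G) * (m1 : G)⁻¹) := by group
      rw [← e1, h12', e2]
    have := hfpf _ (K.mul_mem m2.2 (K.inv_mem m1.2)) hcm
    have h3 : (m2 : G) = m1 := mul_inv_eq_one.mp this
    exact Subtype.ext h3.symm
  have hφsurj : Function.Surjective φ := Finite.surjective_of_injective hφinj
  intro n hn
  obtain ⟨m, hm⟩ := hφsurj ⟨n, hn⟩
  have hm' : (m : G)⁻¹ * (e * m * e⁻¹) = n := congrArg Subtype.val hm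
  rw [← hm', heinv]
  have : e * ((m : G)⁻¹ * (e * m * e)) * e = e * (m : G)⁻¹ * e * m * (e * e) := by group
  rw [this, hee]
  have : ((m : G)⁻¹ * (e * m * e))⁻¹ = e⁻¹ * (m : G)⁻¹ * e⁻¹ * m := by group
  rw [this, heinv]; group

/-- a finite subgroup normalized by a four-group all of whose involutions act fixed-point-freely
is trivial. -/
theorem eq_bot_of_klein_fpf (K : Subgroup G) [Finite ↥K] (a b : G) (haa : a * a = 1)
    (hbb : b * b = 1)
    (hna : ∀ k ∈ K, a * k * a⁻¹ ∈ K) (hnb : ∀ k ∈ K, b * k * b⁻¹ ∈ K)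
    (hfa : ∀ k ∈ K, k * a = a * k → k = 1) (hfb : ∀ k ∈ K, k * b = b * k → k = 1)
    (hfab : ∀ k ∈ K, k * (a * b) = (a * b) * k → k = 1) : K = ⊥ := by
  have ia := inverts_of_fpf K a haa hna hfa
  have ib := inverts_of_fpf K b hbb hnb hfb
  rw [eq_bot_iff]
  intro n hn
  rw [mem_bot]
  apply hfab n hn
  have i1 := ia (b * n * b⁻¹) (hnb n hn)
  have i2 := ib n hn
  rw [i2, inv_inv] at i1
  have i3 : a * (b * n * b⁻¹) * a⁻¹ = n := by rw [i2]; exact i1
  calc n * (a * b) = (a * (b * n * b⁻¹) * a⁻¹) * (a * b) := by rw [i3]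
    _ = a * b * n := by group

end Cfsg.Agent.Lib.Helper5.KleinFpf
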