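import Mathlib
import Cfsg.Prelude.Def_Transfer
import Cfsg.Agent.Lib.Helper5.ESA
import Cfsg.Agent.Lib.Helper2.PGroupFrattini
import Cfsg.Agent.Lib.Helper16.Frattini2

set_option autoImplicit false
set_option linter.unusedSectionVars false
set_option linter.unusedVariables false

namespace Cfsg.Agent.Lib.Helper5.ES

open Subgroup
open scoped commutatorElement

variable {G : Type*} [Group G]

/-- converse of `ESData.ofExtraspecial`: a finite 2-subgroup with `ESData` in which `z` is a
commutator is extraspecial. -/
theorem ESData.toExtraspecial [Finite G] (D : Subgroup G) (z : G) (h : ESData D z)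
    (hP : IsPGroup 2 ↥D) (hna : ∃ u ∈ D, ∃ v ∈ D, u * v * u⁻¹ * v⁻¹ = z) :
    Cfsg.IsExtraspecial 2 ↥D := by
  have h2 : Fact (Nat.Prime 2) := ⟨Nat.prime_two⟩
  obtain ⟨u, hu, v, hv, huv⟩ := hna
  let z' : ↥D := ⟨z, h.zQ⟩
  have hz'1 : z' ≠ 1 := fun hh => h.z1 (congrArg Subtype.val hh)
  have hcen : ∀ c : ↥D, c ∈ center ↥D ↔ c = 1 ∨ c = z' := by
    intro c
    constructor
    · intro hc
      have hc' : ∀ y ∈ D, (c : G) * y = y * c := by
        intro y hy
        have := mem_center_iff.mp hc ⟨y, hy⟩
        exact (congrArg Subtype.val this).symm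
      rcases h.cen c c.2 hc' with h1 | h1
      · left; exact Subtype.ext h1
      · right; exact Subtype.ext h1
    · rintro (rfl | rfl)
      · exact Subgroup.one_mem _
      · rw [mem_center_iff]
        intro g
        apply Subtype.ext
        exact (h.zc g g.2).symm
  have hz'c : z' ∈ center ↥D := (hcen z').mpr (Or.inr rfl)
  have hcomm_mem : ∀ a b : ↥D, ⁅a, b⁆ ∈ center ↥D := by
    intro a b
    rw [hcen]
    rcases h.comm a a.2 b b.2 with h1 | h1
    · left; apply Subtype.ext; rw [commutatorElement_def]; exact h1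
    · right; apply Subtype.ext; rw [commutatorElement_def]; exact h1
  have hsq_mem : ∀ a : ↥D, a ^ 2 ∈ center ↥D := by
    intro a
    rw [hcen, pow_two]
    rcases h.sq a a.2 with h1 | h1
    · left; exact Subtype.ext h1
    · right; exact Subtype.ext h1
  have hcomm_eq : commutator ↥D = center ↥D := by
    apply le_antisymm
    · rw [commutator_def, Subgroup.commutator_le]
      intro a _ b _
      exact hcomm_mem a b
    · intro c hc
      rcases (hcen c).mp hc with rfl | rfl
      · exact Subgroup.one_mem _
      · have : z' = ⁅(⟨u, hu⟩ : ↥D), (⟨v, hv⟩ : ↥D)⁆ := by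
          apply Subtype.ext
          rw [commutatorElement_def]
          exact huv.symm
        rw [this, commutator_def]
        exact Subgroup.commutator_mem_commutator (mem_top _) (mem_top _)
  refine ⟨⟨hP, ?_, hcomm_eq⟩, ?_⟩
  · apply le_antisymm
    · exact Cfsg.Agent.Lib.Helper16.frattini_le_of_forall (p := 2) (center ↥D) hcomm_mem hsq_mem
    · rw [← hcomm_eq]
      exact Cfsg.Agent.Lib.Helper2.commutator_le_frattini_of_isPGroup hP
  · rw [Nat.card_eq_two_iff' (1 : center ↥D)]
    refine ⟨⟨z', hz'c⟩, ?_, ?_⟩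
    · intro hh
      exact hz'1 (congrArg Subtype.val hh)
    · intro y hy
      rcases (hcen y.1).mp y.2 with h1 | h1
      · exfalso; exact hy (Subtype.ext h1)
      · exact Subtype.ext h1

end Cfsg.Agent.Lib.Helper5.ES
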