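import Mathlib
import Cfsg.Agent.Lib.Helper5.FourSup

set_option autoImplicit false
set_option linter.unusedSectionVars false
set_option linter.unusedVariables false

namespace Cfsg.Agent.Lib.Helper5.FourSup

open Subgroup

variable {G : Type*} [Group G]

theorem mem_closure_pair (a b : G) (haa : a * a = 1) (hbb : b * b = 1)
    (hab : a * b = b * a) (v : G) :
    v ∈ closure ({a, b} : Set G) ↔ v = 1 ∨ v = a ∨ v = b ∨ v = a * b := by
  have haC : a ∈ closure ({a, b} : Set G) := subset_closure (by simp)
  have hbC : b ∈ closure ({a, b} : Set G) := subset_closure (by simp)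
  constructor
  · intro hv
    have hle : closure ({a, b} : Set G) ≤ fourSubgroup a b haa hbb hab := by
      rw [closure_le]
      intro u hu
      rcases hu with rfl | hu
      · exact Or.inr (Or.inl rfl)
      · rw [Set.mem_singleton_iff] at hu
        rw [hu]
        exact Or.inr (Or.inr (Or.inl rfl))
    exact hle hv
  · rintro (rfl | rfl | rfl | rfl)
    · exact Subgroup.one_mem _
    · exact haC
    · exact hbC
    · exact Subgroup.mul_mem _ haC hbC

end Cfsg.Agent.Lib.Helper5.FourSup
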