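import Mathlib
import Cfsg.Prelude.Def_MonsterType
import Cfsg.Agent.Lib.Helper5.ESK
import Cfsg.Agent.Lib.Helper5.ESD

set_option autoImplicit false
set_option linter.unusedSectionVars false
set_option linter.unusedVariables false

namespace Cfsg.Agent.Lib.Helper5.ES

open Subgroup

variable {G : Type*} [Group G]

/-- the symmetric "orthogonal pair" setting: `Q = Q_z`, `P = Q_x`, `x ∈ Q`, `z ∈ P`. -/
structure LE (Q P : Subgroup G) (z x : G) : Prop where
  hQ : ESData Q z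
  hP : ESData P x
  xQ : x ∈ Q
  zP : z ∈ P
  ne : x ≠ z
  nQ : ∀ c, c * z = z * c → ∀ q ∈ Q, c * q * c⁻¹ ∈ Q
  nP : ∀ c, c * x = x * c → ∀ p ∈ P, c * p * c⁻¹ ∈ P
  cQ : ∀ c, (∀ q ∈ Q, c * q = q * c) → c = 1 ∨ c = z
  cP : ∀ c, (∀ p ∈ P, c * p = p * c) → c = 1 ∨ c = x
  conjQ : ∀ h, h * z * h⁻¹ = x → ∀ q ∈ Q, h * q * h⁻¹ ∈ P
  conjP : ∀ h, h * x * h⁻¹ = z → ∀ p ∈ P, h * p * h⁻¹ ∈ Q

variable {Q P : Subgroup G} {z x : G}

theorem LE.symm (L : LE Q P z x) : LE P Q x z :=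
  ⟨L.hP, L.hQ, L.zP, L.xQ, L.ne.symm, L.nP, L.nQ, L.cP, L.cQ, L.conjP, L.conjQ⟩

/-- the setting arises from a large extraspecial subgroup and a conjugate of `z` in `Q`. -/
theorem LE.of_large [Finite G] (Q : Subgroup G) (hL1 : Cfsg.IsExtraspecial 2 ↥Q)
    (hL2 : Subgroup.centralizer (Q : Set G) = ((Subgroup.center ↥Q).map Q.subtype))
    (hL3 : Subgroup.centralizer (((Subgroup.center ↥Q).map Q.subtype : Subgroup G) : Set G)
      ≤ Subgroup.normalizer (Q : Set G))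
    (z : G) (hzZ : z ∈ (Subgroup.center ↥Q).map Q.subtype) (hz1 : z ≠ 1)
    (g : G) (hgz : g * z * g⁻¹ ≠ z) (hgQ : g * z * g⁻¹ ∈ Q) :
    LE Q (Q.map (MulAut.conj g).toMonoidHom) z (g * z * g⁻¹) := by
  classical
  obtain ⟨zq, hzq, hzqz⟩ := hzZ
  have hzq1 : zq ≠ 1 := by
    intro hh; apply hz1; rw [← hzqz, hh, map_one]
  have hES0 := ESData.ofExtraspecial hL1 zq hzq hzq1
  have hES1 := hES0.map Q.subtype (Subgroup.subtype_injective _)
  have htop : (⊤ : Subgroup ↥Q).map Q.subtype = Q := by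
    rw [← MonoidHom.range_eq_map, Subgroup.range_subtype]
  rw [htop, hzqz] at hES1
  have hESQ : ESData Q z := hES1
  have hzz : z * z = 1 := hESQ.zz
  have hzQ : z ∈ Q := hESQ.zQ
  have hZmem : ∀ v, v ∈ (Subgroup.center ↥Q).map Q.subtype ↔ v = 1 ∨ v = z := by
    intro v
    constructor
    · rintro ⟨c, hc, rfl⟩
      apply hESQ.cen _ c.2
      intro y hy
      have := (Subgroup.mem_center_iff.mp hc) ⟨y, hy⟩
      exact (congrArg Subtype.val this).symm
    · rintro (rfl | rfl)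
      · exact Subgroup.one_mem _
      · exact ⟨zq, hzq, hzqz⟩
  obtain ⟨x, hxdef⟩ : ∃ x : G, x = g * z * g⁻¹ := ⟨_, rfl⟩
  rw [← hxdef] at hgz hgQ ⊢
  have hxQ : x ∈ Q := hgQ
  have hzx : z * x = x * z := hESQ.zc x hxQ
  obtain ⟨R, hRdef⟩ : ∃ R : Subgroup G, R = Q.map (MulAut.conj g).toMonoidHom := ⟨_, rfl⟩
  rw [← hRdef]
  have hRmem : ∀ r, r ∈ R ↔ ∃ q ∈ Q, g * q * g⁻¹ = r := by
    intro r; rw [hRdef]; exact Iff.rfl
  have hESR : ESData R x := by
    rw [hRdef, hxdef]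
    exact hESQ.map (MulAut.conj g).toMonoidHom (MulAut.conj g).injective
  have hcentZ : ∀ c, c * z = z * c →
      c ∈ Subgroup.centralizer (((Subgroup.center ↥Q).map Q.subtype : Subgroup G) : Set G) := by
    intro c hc
    rw [Subgroup.mem_centralizer_iff]
    intro h hh
    rcases (hZmem h).mp hh with rfl | rfl
    · simp
    · exact hc.symm
  have hnormz : ∀ c, c * z = z * c → ∀ q, q ∈ Q ↔ c * q * c⁻¹ ∈ Q := fun c hc =>
    Subgroup.mem_normalizer_iff.mp (hL3 (hcentZ c hc))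
  have hnormx : ∀ c, c * x = x * c → ∀ r ∈ R, c * r * c⁻¹ ∈ R := by
    intro c hc r hr
    obtain ⟨q, hq, rfl⟩ := (hRmem r).mp hr
    have hc' : (g⁻¹ * c * g) * z = z * (g⁻¹ * c * g) := by
      calc (g⁻¹ * c * g) * z = g⁻¹ * (c * (g * z * g⁻¹)) * g := by group
        _ = g⁻¹ * ((g * z * g⁻¹) * c) * g := by rw [← hxdef, hc]
        _ = z * (g⁻¹ * c * g) := by group
    have := (hnormz _ hc' q).mp hq
    rw [hRmem]
    refine ⟨_, this, ?_⟩
    group
  have hcQ : ∀ c, (∀ q ∈ Q, c * q = q * c) → c = 1 ∨ c = z := by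
    intro c hc
    have hmem : c ∈ Subgroup.centralizer (Q : Set G) := by
      rw [Subgroup.mem_centralizer_iff]
      intro q hq
      exact (hc q hq).symm
    rw [hL2] at hmem
    exact (hZmem c).mp hmem
  have hconjQ : ∀ h, h * z * h⁻¹ = x → ∀ q ∈ Q, h * q * h⁻¹ ∈ R := by
    intro h hh q hq
    have hc' : (g⁻¹ * h) * z = z * (g⁻¹ * h) := by
      calc (g⁻¹ * h) * z = g⁻¹ * (h * z * h⁻¹) * h := by group
        _ = g⁻¹ * (g * z * g⁻¹) * h := by rw [hh, hxdef]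
        _ = z * (g⁻¹ * h) := by group
    have := (hnormz _ hc' q).mp hq
    rw [hRmem]
    refine ⟨_, this, ?_⟩
    group
  have hS : SymHyp Q R z x := by
    refine ⟨hESQ, hESR, hxQ, ?_, ?_, ?_, ?_, hconjQ, ?_⟩
    · exact hnormx z hzx
    · intro a _ hax
      exact hnormx a hax
    · intro b _ hbz q hq
      exact (hnormz b hbz q).mp hq
    · intro hcen
      rw [hRmem]
      refine ⟨g⁻¹ * z * g, ?_, by group⟩
      have hc : ∀ q ∈ Q, (g⁻¹ * z * g) * q = q * (g⁻¹ * z * g) := by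
        intro q hq
        have hgq : g * q * g⁻¹ ∈ R := (hRmem _).mpr ⟨q, hq, rfl⟩
        have := hcen _ hgq
        calc (g⁻¹ * z * g) * q = g⁻¹ * (z * (g * q * g⁻¹)) * g := by group
          _ = g⁻¹ * ((g * q * g⁻¹) * z) * g := by rw [this]
          _ = q * (g⁻¹ * z * g) := by group
      rcases hcQ _ hc with h1 | h1
      · rw [h1]; exact Q.one_mem
      · rw [h1]; exact hzQ
    · rw [hRdef]
      exact (Nat.card_congr (Q.equivMapOfInjective _ (MulAut.conj g).injective).toEquiv)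
  have hzR : z ∈ R := hS.main
  refine ⟨hESQ, hESR, hxQ, hzR, hgz, ?_, hnormx, hcQ, ?_, hconjQ, ?_⟩
  · intro c hc q hq
    exact (hnormz c hc q).mp hq
  · intro c hc
    have hc' : ∀ q ∈ Q, (g⁻¹ * c * g) * q = q * (g⁻¹ * c * g) := by
      intro q hq
      have hgq : g * q * g⁻¹ ∈ R := (hRmem _).mpr ⟨q, hq, rfl⟩
      have := hc _ hgq
      calc (g⁻¹ * c * g) * q = g⁻¹ * (c * (g * q * g⁻¹)) * g := by group
        _ = g⁻¹ * ((g * q * g⁻¹) * c) * g := by rw [this]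
        _ = q * (g⁻¹ * c * g) := by group
    rcases hcQ _ hc' with h1 | h1
    · left
      calc c = g * (g⁻¹ * c * g) * g⁻¹ := by group
        _ = 1 := by rw [h1]; group
    · right
      calc c = g * (g⁻¹ * c * g) * g⁻¹ := by group
        _ = x := by rw [h1, hxdef]
  · intro h hh p hp
    obtain ⟨q, hq, rfl⟩ := (hRmem p).mp hp
    have hc' : (h * g) * z = z * (h * g) := by
      calc (h * g) * z = (h * (g * z * g⁻¹) * h⁻¹) * (h * g) := by group
        _ = z * (h * g) := by rw [← hxdef, hh]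
    have := (hnormz _ hc' q).mp hq
    have e : h * (g * q * g⁻¹) * h⁻¹ = h * g * q * (h * g)⁻¹ := by group
    rw [e]; exact this

end Cfsg.Agent.Lib.Helper5.ES
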