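import Mathlib
import Cfsg.Agent.Lib.Helper5.LEA
import Cfsg.Agent.Lib.Helper5.ESF

set_option autoImplicit false
set_option linter.unusedSectionVars false
set_option linter.unusedVariables false

namespace Cfsg.Agent.Lib.Helper5.ES

open Subgroup

variable {G : Type*} [Group G] {Q P : Subgroup G} {z x : G}

theorem LE.zz (L : LE Q P z x) : z * z = 1 := L.hQ.zz
theorem LE.xx (L : LE Q P z x) : x * x = 1 := L.hP.zz
theorem LE.zx (L : LE Q P z x) : z * x = x * z := L.hQ.zc x L.xQ
theorem LE.zinv (L : LE Q P z x) : z⁻¹ = z := inv_eq_of_mul_eq_one_left L.zz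
theorem LE.xinv (L : LE Q P z x) : x⁻¹ = x := inv_eq_of_mul_eq_one_left L.xx
theorem LE.zQ (L : LE Q P z x) : z ∈ Q := L.hQ.zQ
theorem LE.xP (L : LE Q P z x) : x ∈ P := L.hP.zQ

/-- `Q ∩ P` is abelian. -/
theorem LE.E_comm (L : LE Q P z x) {u v : G} (huQ : u ∈ Q) (huP : u ∈ P) (hvQ : v ∈ Q)
    (hvP : v ∈ P) : u * v = v * u := by
  rw [← comm_eq_one_iff]
  rcases L.hQ.comm u huQ v hvQ with h1 | h1
  · exact h1
  · rcases L.hP.comm u huP v hvP with h2 | h2
    · exact h2
    · exact absurd (h2.symm.trans h1) L.ne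

/-- `Q ∩ P` has exponent 2. -/
theorem LE.E_sq (L : LE Q P z x) {u : G} (huQ : u ∈ Q) (huP : u ∈ P) : u * u = 1 := by
  rcases L.hQ.sq u huQ with h1 | h1
  · exact h1
  · rcases L.hP.sq u huP with h2 | h2
    · exact h2
    · exact absurd (h2.symm.trans h1) L.ne

/-- an element of `Q` moving `x`. -/
theorem LE.exists_q (L : LE Q P z x) : ∃ q ∈ Q, q * z * q⁻¹ = z ∧ q * x * q⁻¹ = z * x := by
  by_contra hcon
  push Not at hcon
  have hcen : ∀ y ∈ Q, x * y = y * x := by
    intro y hy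
    have hyz : y * z * y⁻¹ = z := by
      rw [← L.hQ.zc y hy]; group
    have hne := hcon y hy hyz
    rcases L.hQ.comm y hy x L.xQ with h1 | h1
    · exact (comm_eq_one_iff.mp h1).symm
    · exfalso; apply hne
      calc y * x * y⁻¹ = (y * x * y⁻¹ * x⁻¹) * x := by group
        _ = z * x := by rw [h1]
  rcases L.hQ.cen x L.xQ hcen with h1 | h1
  · exact L.hP.z1 h1
  · exact L.ne h1

/-- commutators between `C_Q(x)` and `C_P(z)` lie in `Q ∩ P`. -/
theorem LE.comm_AB (L : LE Q P z x) {a b : G} (ha : a ∈ Q) (hax : a * x = x * a)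
    (hb : b ∈ P) (hbz : b * z = z * b) :
    a * b * a⁻¹ * b⁻¹ ∈ Q ∧ a * b * a⁻¹ * b⁻¹ ∈ P := by
  constructor
  · have h1 : b * a⁻¹ * b⁻¹ ∈ Q := L.nQ b hbz _ (Q.inv_mem ha)
    have := Q.mul_mem ha h1
    have e : a * (b * a⁻¹ * b⁻¹) = a * b * a⁻¹ * b⁻¹ := by group
    rwa [e] at this
  · have h1 : a * b * a⁻¹ ∈ P := L.nP a hax _ hb
    exact P.mul_mem h1 (P.inv_mem hb)

/-- an element centralizing `C_Q(x)` and some `q0 ∈ Q` moving `x` centralizes `Q`. -/
theorem LE.cent_all (L : LE Q P z x) {c q0 : G}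
    (hcA : ∀ a ∈ Q, a * x = x * a → c * a = a * c) (hq0 : q0 ∈ Q) (hq0x : q0 * x ≠ x * q0)
    (hcq0 : c * q0 = q0 * c) : c = 1 ∨ c = z := by
  apply L.cQ
  intro q hq
  by_cases hqx : q * x = x * q
  · exact hcA q hq hqx
  · have h1 : (q * q0) * x = x * (q * q0) := by
      rw [L.hQ.commute_mul_iff hq hq0 L.xQ]
      exact ⟨fun hh => absurd hh hqx, fun hh => absurd hh hq0x⟩
    have h2 := hcA (q * q0) (Q.mul_mem hq hq0) h1
    calc c * q = (c * (q * q0)) * q0⁻¹ := by group
      _ = (q * q0 * c) * q0⁻¹ := by rw [h2]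
      _ = q * (q0 * c) * q0⁻¹ := by group
      _ = q * (c * q0) * q0⁻¹ := by rw [hcq0]
      _ = q * c := by group

/-- an element of `C(z) ∩ C(x)` centralizing `C_Q(x)` lies in `⟨z, x⟩`. -/
theorem LE.central_A (L : LE Q P z x) {c : G} (hcz : c * z = z * c) (hcx : c * x = x * c)
    (hcA : ∀ a ∈ Q, a * x = x * a → c * a = a * c) :
    c = 1 ∨ c = z ∨ c = x ∨ c = x * z := by
  obtain ⟨q0, hq0, hq0z, hq0x⟩ := L.exists_q
  have hzz := L.zz
  have hxx := L.xx
  have hzx := L.zx
  have hz1 : z ≠ 1 := L.hQ.z1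
  have hq0x' : q0 * x ≠ x * q0 := by
    intro h
    apply hz1
    have : q0 * x * q0⁻¹ = x := by rw [h]; group
    rw [this] at hq0x
    calc z = (z * x) * x⁻¹ := by group
      _ = 1 := by rw [← hq0x]; group
  have hq0x2 : q0 * x = z * x * q0 := by
    calc q0 * x = (q0 * x * q0⁻¹) * q0 := by group
      _ = z * x * q0 := by rw [hq0x]
  have hq0z2 : q0 * z = z * q0 := (L.hQ.zc q0 hq0).symm
  obtain ⟨v, hvdef⟩ : ∃ v : G, v = c * q0 * c⁻¹ * q0⁻¹ := ⟨_, rfl⟩
  have hvQ : v ∈ Q := by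
    rw [hvdef]
    exact Q.mul_mem (L.nQ c hcz q0 hq0) (Q.inv_mem hq0)
  have hcq0 : c * q0 * c⁻¹ = v * q0 := by rw [hvdef]; group
  have hcinv : ∀ w : G, c * w = w * c → c⁻¹ * w = w * c⁻¹ := by
    intro w hw
    calc c⁻¹ * w = c⁻¹ * (w * c) * c⁻¹ := by group
      _ = c⁻¹ * (c * w) * c⁻¹ := by rw [hw]
      _ = w * c⁻¹ := by group
  have hv_comm : ∀ a ∈ Q, a * x = x * a → v * a = a * v := by
    intro a ha hax
    have hca := hcA a ha hax
    have hca' := hcinv a hca
    rcases L.hQ.comm a ha q0 hq0 with h1 | h1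
    · have haq : a * q0 = q0 * a := comm_eq_one_iff.mp h1
      have haq' : q0⁻¹ * a = a * q0⁻¹ := by
        calc q0⁻¹ * a = q0⁻¹ * (a * q0) * q0⁻¹ := by group
          _ = q0⁻¹ * (q0 * a) * q0⁻¹ := by rw [haq]
          _ = a * q0⁻¹ := by group
      rw [hvdef]
      calc c * q0 * c⁻¹ * q0⁻¹ * a = c * q0 * c⁻¹ * (q0⁻¹ * a) := by group
        _ = c * q0 * (c⁻¹ * a) * q0⁻¹ := by rw [haq']; group
        _ = c * (q0 * a) * c⁻¹ * q0⁻¹ := by rw [hca']; group
        _ = (c * a) * q0 * c⁻¹ * q0⁻¹ := by rw [← haq]; group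
        _ = a * (c * q0 * c⁻¹ * q0⁻¹) := by rw [hca]; group
    · have haq : a * q0 * a⁻¹ = z * q0 := by
        calc a * q0 * a⁻¹ = (a * q0 * a⁻¹ * q0⁻¹) * q0 := by group
          _ = z * q0 := by rw [h1]
      have hac : a * c * a⁻¹ = c := by
        calc a * c * a⁻¹ = (c * a) * a⁻¹ := by rw [hca]
          _ = c := by group
      have hzv : z * v = v * z := L.hQ.zc v hvQ
      have key : a * v * a⁻¹ = v := by
        calc a * v * a⁻¹ = (a * c * a⁻¹) * (a * q0 * a⁻¹) * (a * c * a⁻¹)⁻¹ * (a * q0 * a⁻¹)⁻¹ := by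
              rw [hvdef]; group
          _ = c * (z * q0) * c⁻¹ * (z * q0)⁻¹ := by rw [hac, haq]
          _ = (c * z) * q0 * c⁻¹ * q0⁻¹ * z⁻¹ := by group
          _ = z * (c * q0 * c⁻¹ * q0⁻¹) * z⁻¹ := by rw [hcz]; group
          _ = (z * v) * z⁻¹ := by rw [hvdef]
          _ = v := by rw [hzv]; group
      calc v * a = (a * v * a⁻¹) * a := by rw [key]
        _ = a * v := by group
  have hsq : (v * q0) * (v * q0) = q0 * q0 := by
    rw [← hcq0]
    have hcqq : c * (q0 * q0) = (q0 * q0) * c := by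
      rcases L.hQ.sq q0 hq0 with h1 | h1
      · rw [h1]; simp
      · rw [h1]; exact hcz
    calc c * q0 * c⁻¹ * (c * q0 * c⁻¹) = (c * (q0 * q0)) * c⁻¹ := by group
      _ = q0 * q0 * c * c⁻¹ := by rw [hcqq]
      _ = q0 * q0 := by group
  rcases L.hQ.double_centralizer L.xQ hxx hvQ hv_comm with h1 | h1 | h1 | h1
  · -- v = 1
    have hc0 : c * q0 = q0 * c := by
      calc c * q0 = (c * q0 * c⁻¹) * c := by group
        _ = q0 * c := by rw [hcq0, h1, one_mul]
    rcases L.cent_all hcA hq0 hq0x' hc0 with h2 | h2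
    · exact Or.inl h2
    · exact Or.inr (Or.inl h2)
  · -- v = z
    have hc0 : (x * c) * q0 = q0 * (x * c) := by
      have e1 : x * q0 = z * q0 * x := by
        calc x * q0 = z * (z * x * q0) := by rw [← mul_assoc, ← mul_assoc, hzz, one_mul]
          _ = z * (q0 * x) := by rw [hq0x2]
          _ = z * q0 * x := by group
      calc (x * c) * q0 = x * (c * q0 * c⁻¹) * c := by group
        _ = x * (z * q0) * c := by rw [hcq0, h1]
        _ = (x * z) * q0 * c := by group
        _ = z * (x * q0) * c := by rw [← hzx]; group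
        _ = z * (z * q0 * x) * c := by rw [e1]
        _ = (z * z) * q0 * x * c := by group
        _ = q0 * (x * c) := by rw [hzz]; group
    have hcA' : ∀ a ∈ Q, a * x = x * a → (x * c) * a = a * (x * c) := by
      intro a ha hax
      calc (x * c) * a = x * (c * a) := by group
        _ = x * (a * c) := by rw [hcA a ha hax]
        _ = (x * a) * c := by group
        _ = a * (x * c) := by rw [← hax]; group
    rcases L.cent_all hcA' hq0 hq0x' hc0 with h2 | h2
    · right; right; left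
      calc c = x * x * c := by rw [hxx, one_mul]
        _ = x * (x * c) := by group
        _ = x := by rw [h2, mul_one]
    · right; right; right
      calc c = x * x * c := by rw [hxx, one_mul]
        _ = x * (x * c) := by group
        _ = x * z := by rw [h2]
  · -- v = x : impossible
    exfalso
    apply hz1
    rw [h1] at hsq
    have : x * q0 * (x * q0) = z * (q0 * q0) := by
      calc x * q0 * (x * q0) = x * (q0 * x) * q0 := by group
        _ = x * (z * x * q0) * q0 := by rw [hq0x2]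
        _ = (x * z) * x * q0 * q0 := by group
        _ = z * (x * x) * q0 * q0 := by rw [← hzx]; group
        _ = z * (q0 * q0) := by rw [hxx]; group
    rw [this] at hsq
    calc z = z * (q0 * q0) * (q0 * q0)⁻¹ := by group
      _ = 1 := by rw [hsq]; group
  · -- v = x * z : impossible
    exfalso
    apply hz1
    rw [h1] at hsq
    have : x * z * q0 * (x * z * q0) = z * (q0 * q0) := by
      calc x * z * q0 * (x * z * q0) = x * z * (q0 * x) * z * q0 := by group
        _ = x * z * (z * x * q0) * z * q0 := by rw [hq0x2]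
        _ = x * (z * z) * x * (q0 * z) * q0 := by group
        _ = x * x * (z * q0) * q0 := by rw [hzz, hq0z2]; group
        _ = z * (q0 * q0) := by rw [hxx]; group
    rw [this] at hsq
    calc z = z * (q0 * q0) * (q0 * q0)⁻¹ := by group
      _ = 1 := by rw [hsq]; group

end Cfsg.Agent.Lib.Helper5.ES
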