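import Mathlib

set_option autoImplicit false
set_option linter.unusedSectionVars false
set_option linter.unusedVariables false

namespace Cfsg.Agent.Lib.Helper5.ES

open Subgroup

variable {G : Type*} [Group G]

/-- `{y ∈ N(E0) | ∀ s ∈ S, [y,s] ∈ E0}` as a subgroup. -/
def commLeft (E0 : Subgroup G) (S : Set G) : Subgroup G where
  carrier := {y | (∀ e ∈ E0, y * e * y⁻¹ ∈ E0) ∧ (∀ e ∈ E0, y⁻¹ * e * y ∈ E0) ∧
    ∀ s ∈ S, y * s * y⁻¹ * s⁻¹ ∈ E0}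
  one_mem' := by
    refine ⟨?_, ?_, ?_⟩
    · intro e he; simpa using he
    · intro e he; simpa using he
    · intro s _; simp
  mul_mem' := by
    rintro y y' ⟨h1, h2, h3⟩ ⟨h1', h2', h3'⟩
    refine ⟨?_, ?_, ?_⟩
    · intro e he
      have := h1 _ (h1' e he)
      have e1 : y * (y' * e * y'⁻¹) * y⁻¹ = y * y' * e * (y * y')⁻¹ := by group
      rwa [e1] at this
    · intro e he
      have := h2' _ (h2 e he)
      have e1 : y'⁻¹ * (y⁻¹ * e * y) * y' = (y * y')⁻¹ * e * (y * y') := by group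
      rwa [e1] at this
    · intro s hs
      have := E0.mul_mem (h1 _ (h3' s hs)) (h3 s hs)
      have e1 : y * (y' * s * y'⁻¹ * s⁻¹) * y⁻¹ * (y * s * y⁻¹ * s⁻¹)
          = y * y' * s * (y * y')⁻¹ * s⁻¹ := by group
      rwa [e1] at this
  inv_mem' := by
    rintro y ⟨h1, h2, h3⟩
    refine ⟨?_, ?_, ?_⟩
    · intro e he
      have := h2 e he
      rwa [inv_inv]
    · intro e he
      have := h1 e he
      rwa [inv_inv]
    · intro s hs
      have := h2 _ (E0.inv_mem (h3 s hs))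
      have e1 : y⁻¹ * (y * s * y⁻¹ * s⁻¹)⁻¹ * y = y⁻¹ * s * y⁻¹⁻¹ * s⁻¹ := by group
      rwa [e1] at this

theorem mem_commLeft (E0 : Subgroup G) (S : Set G) (y : G) :
    y ∈ commLeft E0 S ↔ (∀ e ∈ E0, y * e * y⁻¹ ∈ E0) ∧ (∀ e ∈ E0, y⁻¹ * e * y ∈ E0) ∧
    ∀ s ∈ S, y * s * y⁻¹ * s⁻¹ ∈ E0 := Iff.rfl

/-- if all commutators of `R` lie in `E0` and generators have squares in `E0`, so do all elements. -/
theorem sq_mem_of_sup (E0 H K : Subgroup G)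
    (hcomm : ∀ r ∈ H ⊔ K, ∀ s ∈ H ⊔ K, r * s * r⁻¹ * s⁻¹ ∈ E0)
    (hH : ∀ h ∈ H, h * h ∈ E0) (hK : ∀ k ∈ K, k * k ∈ E0) :
    ∀ r ∈ H ⊔ K, r * r ∈ E0 := by
  let T : Subgroup G :=
    { carrier := {r | r ∈ H ⊔ K ∧ r * r ∈ E0}
      one_mem' := ⟨Subgroup.one_mem _, by simp⟩
      mul_mem' := by
        rintro r s ⟨hr, hr2⟩ ⟨hs, hs2⟩
        refine ⟨Subgroup.mul_mem _ hr hs, ?_⟩
        have h1 := hcomm r⁻¹ (Subgroup.inv_mem _ hr) s hs
        have := E0.mul_mem (E0.mul_mem hr2 h1) hs2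
        have e1 : r * r * (r⁻¹ * s * r⁻¹⁻¹ * s⁻¹) * (s * s) = r * s * (r * s) := by group
        rwa [e1] at this
      inv_mem' := by
        rintro r ⟨hr, hr2⟩
        refine ⟨Subgroup.inv_mem _ hr, ?_⟩
        have := E0.inv_mem hr2
        have e1 : (r * r)⁻¹ = r⁻¹ * r⁻¹ := by group
        rwa [e1] at this }
  have hHT : H ≤ T := fun h hh => ⟨(le_sup_left : H ≤ H ⊔ K) hh, hH h hh⟩
  have hKT : K ≤ T := fun k hk => ⟨(le_sup_right : K ≤ H ⊔ K) hk, hK k hk⟩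
  intro r hr
  exact ((sup_le hHT hKT) hr).2

end Cfsg.Agent.Lib.Helper5.ES
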