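import Mathlib
import Cfsg.Agent.Lib.Helper5.LEB
import Cfsg.Agent.Lib.Helper5.LEC
import Cfsg.Agent.Lib.Helper5.FourClosure

set_option autoImplicit false
set_option linter.unusedSectionVars false
set_option linter.unusedVariables false

namespace Cfsg.Agent.Lib.Helper5.ES

open Subgroup

variable {G : Type*} [Group G] {Q P : Subgroup G} {z x : G}

theorem mem_inf_cent {H : Subgroup G} {k a : G} :
    a ∈ H ⊓ centralizer ({k} : Set G) ↔ a ∈ H ∧ a * k = k * a := by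
  rw [mem_inf, mem_centralizer_singleton_iff]

/-- `C_Q(x)` normalizes `Q ∩ P`. -/
theorem LE.A_norm_E (L : LE Q P z x) {a : G} (ha : a ∈ Q) (hax : a * x = x * a) :
    (∀ e ∈ Q ⊓ P, a * e * a⁻¹ ∈ Q ⊓ P) ∧ (∀ e ∈ Q ⊓ P, a⁻¹ * e * a ∈ Q ⊓ P) := by
  have hax' : a⁻¹ * x = x * a⁻¹ := by
    calc a⁻¹ * x = a⁻¹ * (x * a) * a⁻¹ := by group
      _ = a⁻¹ * (a * x) * a⁻¹ := by rw [hax]
      _ = x * a⁻¹ := by group
  constructor
  · intro e he
    exact ⟨Q.mul_mem (Q.mul_mem ha he.1) (Q.inv_mem ha), L.nP a hax e he.2⟩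
  · intro e he
    refine ⟨Q.mul_mem (Q.mul_mem (Q.inv_mem ha) he.1) ha, ?_⟩
    have := L.nP a⁻¹ hax' e he.2
    rwa [inv_inv] at this

theorem LE.z_mem_E (L : LE Q P z x) : z ∈ Q ⊓ P := ⟨L.zQ, L.zP⟩
theorem LE.x_mem_E (L : LE Q P z x) : x ∈ Q ⊓ P := ⟨L.xQ, L.xP⟩

/-- `C_Q(x) ≤ commLeft E (A ∪ B)`. -/
theorem LE.A_le_commLeft (L : LE Q P z x) :
    Q ⊓ centralizer ({x} : Set G) ≤ commLeft (Q ⊓ P)
      (((Q ⊓ centralizer ({x} : Set G) : Subgroup G) : Set G) ∪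
        ((P ⊓ centralizer ({z} : Set G) : Subgroup G) : Set G)) := by
  intro a ha
  rw [mem_inf_cent] at ha
  obtain ⟨haQ, hax⟩ := ha
  rw [mem_commLeft]
  refine ⟨(L.A_norm_E haQ hax).1, (L.A_norm_E haQ hax).2, ?_⟩
  rintro s (hs | hs)
  · rw [SetLike.mem_coe, mem_inf_cent] at hs
    rcases L.hQ.comm a haQ s hs.1 with h1 | h1
    · rw [h1]; exact Subgroup.one_mem _
    · rw [h1]; exact L.z_mem_E
  · rw [SetLike.mem_coe, mem_inf_cent] at hs
    exact L.comm_AB haQ hax hs.1 hs.2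

/-- `R ≤ commLeft E (A ∪ B)`. -/
theorem LE.R_le_commLeft (L : LE Q P z x) :
    (P ⊓ centralizer ({z} : Set G)) ⊔ (Q ⊓ centralizer ({x} : Set G)) ≤ commLeft (Q ⊓ P)
      (((Q ⊓ centralizer ({x} : Set G) : Subgroup G) : Set G) ∪
        ((P ⊓ centralizer ({z} : Set G) : Subgroup G) : Set G)) := by
  apply sup_le
  · have := L.symm.A_le_commLeft
    rw [inf_comm P Q, Set.union_comm] at this
    exact this
  · exact L.A_le_commLeft

/-- all commutators of `R` lie in `E`. -/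
theorem LE.R_comm (L : LE Q P z x) :
    ∀ r ∈ (P ⊓ centralizer ({z} : Set G)) ⊔ (Q ⊓ centralizer ({x} : Set G)),
    ∀ s ∈ (P ⊓ centralizer ({z} : Set G)) ⊔ (Q ⊓ centralizer ({x} : Set G)),
      r * s * r⁻¹ * s⁻¹ ∈ Q ⊓ P := by
  have h1 := L.R_le_commLeft
  have hgen : ∀ s ∈ (((Q ⊓ centralizer ({x} : Set G) : Subgroup G) : Set G) ∪
        ((P ⊓ centralizer ({z} : Set G) : Subgroup G) : Set G)),
      s ∈ commLeft (Q ⊓ P)
        (((P ⊓ centralizer ({z} : Set G)) ⊔ (Q ⊓ centralizer ({x} : Set G)) : Subgroup G) : Set G) := by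
    intro s hs
    have hsR : s ∈ (P ⊓ centralizer ({z} : Set G)) ⊔ (Q ⊓ centralizer ({x} : Set G)) := by
      rcases hs with hs | hs
      · exact (le_sup_right : _ ≤ (P ⊓ centralizer ({z} : Set G)) ⊔ (Q ⊓ centralizer ({x} : Set G))) hs
      · exact (le_sup_left : _ ≤ (P ⊓ centralizer ({z} : Set G)) ⊔ (Q ⊓ centralizer ({x} : Set G))) hs
    have hs1 := (mem_commLeft _ _ _).mp (h1 hsR)
    rw [mem_commLeft]
    refine ⟨hs1.1, hs1.2.1, ?_⟩
    intro r hr
    have := (Q ⊓ P).inv_mem (((mem_commLeft _ _ _).mp (h1 hr)).2.2 s hs)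
    have e1 : (r * s * r⁻¹ * s⁻¹)⁻¹ = s * r * s⁻¹ * r⁻¹ := by group
    rwa [e1] at this
  have h2 : (P ⊓ centralizer ({z} : Set G)) ⊔ (Q ⊓ centralizer ({x} : Set G)) ≤ commLeft (Q ⊓ P)
        (((P ⊓ centralizer ({z} : Set G)) ⊔ (Q ⊓ centralizer ({x} : Set G)) : Subgroup G) : Set G) := by
    apply sup_le
    · intro b hb; exact hgen b (Or.inr hb)
    · intro a ha; exact hgen a (Or.inl ha)
  intro r hr s hs
  exact ((mem_commLeft _ _ _).mp (h2 hr)).2.2 s hs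

/-- all squares of `R` lie in `E`. -/
theorem LE.R_sq (L : LE Q P z x) :
    ∀ r ∈ (P ⊓ centralizer ({z} : Set G)) ⊔ (Q ⊓ centralizer ({x} : Set G)),
      r * r ∈ Q ⊓ P := by
  apply sq_mem_of_sup _ _ _ L.R_comm
  · intro b hb
    rcases L.hP.sq b hb.1 with h1 | h1
    · rw [h1]; exact Subgroup.one_mem _
    · rw [h1]; exact L.x_mem_E
  · intro a ha
    rcases L.hQ.sq a ha.1 with h1 | h1
    · rw [h1]; exact Subgroup.one_mem _
    · rw [h1]; exact L.z_mem_E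

/-- `R ≤ C(z) ∩ C(x)`. -/
theorem LE.R_le_cent (L : LE Q P z x) :
    (P ⊓ centralizer ({z} : Set G)) ⊔ (Q ⊓ centralizer ({x} : Set G))
      ≤ centralizer ({z} : Set G) ⊓ centralizer ({x} : Set G) := by
  apply sup_le
  · intro b hb
    rw [mem_inf_cent] at hb
    rw [mem_inf, mem_centralizer_singleton_iff, mem_centralizer_singleton_iff]
    exact ⟨hb.2, (L.hP.zc b hb.1).symm⟩
  · intro a ha
    rw [mem_inf_cent] at ha
    rw [mem_inf, mem_centralizer_singleton_iff, mem_centralizer_singleton_iff]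
    exact ⟨(L.hQ.zc a ha.1).symm, ha.2⟩

theorem LE.V_mem (L : LE Q P z x) (v : G) :
    v ∈ closure ({z, x} : Set G) ↔ v = 1 ∨ v = z ∨ v = x ∨ v = z * x :=
  Cfsg.Agent.Lib.Helper5.FourSup.mem_closure_pair z x L.zz L.xx L.zx v

/-- `Q` normalizes `V`. -/
theorem LE.Q_norm_V (L : LE Q P z x) {q : G} (hq : q ∈ Q) :
    ∀ v ∈ closure ({z, x} : Set G), q * v * q⁻¹ ∈ closure ({z, x} : Set G) := by
  have hqz : q * z * q⁻¹ = z := by rw [← L.hQ.zc q hq]; group
  have hqx : q * x * q⁻¹ = x ∨ q * x * q⁻¹ = z * x := by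
    rcases L.hQ.comm q hq x L.xQ with h1 | h1
    · left
      calc q * x * q⁻¹ = (q * x * q⁻¹ * x⁻¹) * x := by group
        _ = x := by rw [h1, one_mul]
    · right
      calc q * x * q⁻¹ = (q * x * q⁻¹ * x⁻¹) * x := by group
        _ = z * x := by rw [h1]
  intro v hv
  rw [L.V_mem] at hv ⊢
  rcases hv with rfl | rfl | rfl | rfl
  · left; group
  · right; left; exact hqz
  · rcases hqx with h | h
    · right; right; left; exact h
    · right; right; right; exact h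
  · have e : q * (z * x) * q⁻¹ = (q * z * q⁻¹) * (q * x * q⁻¹) := by group
    rw [e, hqz]
    rcases hqx with h | h
    · right; right; right; rw [h]
    · right; right; left; rw [h, ← mul_assoc, L.zz, one_mul]

/-- `Q ≤ commLeft V E`. -/
theorem LE.Q_le_commLeftV (L : LE Q P z x) :
    Q ≤ commLeft (closure ({z, x} : Set G)) ((Q ⊓ P : Subgroup G) : Set G) := by
  intro q hq
  rw [mem_commLeft]
  refine ⟨L.Q_norm_V hq, ?_, ?_⟩
  · intro e he
    have := L.Q_norm_V (Q.inv_mem hq) e he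
    rwa [inv_inv] at this
  · intro u hu
    rw [L.V_mem]
    rcases L.hQ.comm q hq u hu.1 with h1 | h1
    · left; exact h1
    · right; left; exact h1

/-- `X ≤ commLeft V E`. -/
theorem LE.X_le_commLeftV (L : LE Q P z x) :
    Q ⊔ P ≤ commLeft (closure ({z, x} : Set G)) ((Q ⊓ P : Subgroup G) : Set G) := by
  apply sup_le
  · exact L.Q_le_commLeftV
  · have := L.symm.Q_le_commLeftV
    rw [inf_comm P Q, Set.pair_comm] at this
    exact this

theorem LE.R_le_X (L : LE Q P z x) :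
    (P ⊓ centralizer ({z} : Set G)) ⊔ (Q ⊓ centralizer ({x} : Set G)) ≤ Q ⊔ P := by
  apply sup_le
  · exact inf_le_left.trans le_sup_right
  · exact inf_le_left.trans le_sup_left

end Cfsg.Agent.Lib.Helper5.ES
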