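import Mathlib
import Cfsg.Agent.Lib.Helper5.LED

set_option autoImplicit false
set_option linter.unusedSectionVars false
set_option linter.unusedVariables false

namespace Cfsg.Agent.Lib.Helper5.ES

open Subgroup
open scoped commutatorElement

variable {G : Type*} [Group G] {Q P : Subgroup G} {z x : G}

/-- `Z(R) = V`. -/
theorem LE.center_R (L : LE Q P z x) :
    (center ↥((P ⊓ centralizer ({z} : Set G)) ⊔ (Q ⊓ centralizer ({x} : Set G)))).map
      ((P ⊓ centralizer ({z} : Set G)) ⊔ (Q ⊓ centralizer ({x} : Set G))).subtype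
      = closure ({z, x} : Set G) := by
  obtain ⟨R, hR⟩ : ∃ R : Subgroup G,
    R = (P ⊓ centralizer ({z} : Set G)) ⊔ (Q ⊓ centralizer ({x} : Set G)) := ⟨_, rfl⟩
  have hRc : R ≤ centralizer ({z} : Set G) ⊓ centralizer ({x} : Set G) := by
    rw [hR]; exact L.R_le_cent
  have hAR : ∀ a ∈ Q, a * x = x * a → a ∈ R := by
    intro a ha hax
    rw [hR]
    exact (le_sup_right : _ ≤ (P ⊓ centralizer ({z} : Set G)) ⊔ (Q ⊓ centralizer ({x} : Set G)))
      (mem_inf_cent.mpr ⟨ha, hax⟩)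
  have hBR : ∀ b ∈ P, b * z = z * b → b ∈ R := by
    intro b hb hbz
    rw [hR]
    exact (le_sup_left : _ ≤ (P ⊓ centralizer ({z} : Set G)) ⊔ (Q ⊓ centralizer ({x} : Set G)))
      (mem_inf_cent.mpr ⟨hb, hbz⟩)
  rw [← hR]
  apply le_antisymm
  · rintro c ⟨c', hc', rfl⟩
    have hcc := hRc c'.2
    rw [mem_inf, mem_centralizer_singleton_iff, mem_centralizer_singleton_iff] at hcc
    have hcA : ∀ a ∈ Q, a * x = x * a → (c' : G) * a = a * c' := by
      intro a ha hax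
      have := mem_center_iff.mp hc' ⟨a, hAR a ha hax⟩
      exact (congrArg Subtype.val this).symm
    show (c' : G) ∈ closure ({z, x} : Set G)
    rw [L.V_mem]
    rcases L.central_A hcc.1 hcc.2 hcA with h | h | h | h
    · exact Or.inl h
    · exact Or.inr (Or.inl h)
    · exact Or.inr (Or.inr (Or.inl h))
    · right; right; right; rw [h, L.zx]
  · rw [closure_le]
    have key : ∀ v : G, v ∈ R → (∀ r ∈ R, r * v = v * r) → v ∈ (center ↥R).map R.subtype := by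
      intro v hv hvc
      refine ⟨⟨v, hv⟩, ?_, rfl⟩
      rw [SetLike.mem_coe, mem_center_iff]
      intro r
      exact Subtype.ext (hvc r r.2)
    intro v hv
    rcases hv with rfl | hv
    · apply key v (hBR v L.zP rfl)
      intro r hr
      have := hRc hr
      rw [mem_inf, mem_centralizer_singleton_iff] at this
      exact this.1
    · rw [Set.mem_singleton_iff] at hv
      rw [hv]
      apply key x (hAR x L.xQ rfl)
      intro r hr
      have := hRc hr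
      rw [mem_inf, mem_centralizer_singleton_iff, mem_centralizer_singleton_iff] at this
      exact this.2

/-- `E ≤ R`. -/
theorem LE.E_le_R (L : LE Q P z x) :
    Q ⊓ P ≤ (P ⊓ centralizer ({z} : Set G)) ⊔ (Q ⊓ centralizer ({x} : Set G)) := by
  intro u hu
  exact (le_sup_right : _ ≤ (P ⊓ centralizer ({z} : Set G)) ⊔ (Q ⊓ centralizer ({x} : Set G)))
      (mem_inf_cent.mpr ⟨hu.1, (L.hP.zc u hu.2).symm⟩)

/-- `E ≤ Z₂(R)`. -/
theorem LE.E_le_Z2 (L : LE Q P z x) :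
    Q ⊓ P ≤ (Subgroup.upperCentralSeries
      ↥((P ⊓ centralizer ({z} : Set G)) ⊔ (Q ⊓ centralizer ({x} : Set G))) 2).map
      ((P ⊓ centralizer ({z} : Set G)) ⊔ (Q ⊓ centralizer ({x} : Set G))).subtype := by
  have hcen := L.center_R
  have hER := L.E_le_R
  have hRX := L.R_le_X
  have hXV := L.X_le_commLeftV
  obtain ⟨R, hR⟩ : ∃ R : Subgroup G,
    R = (P ⊓ centralizer ({z} : Set G)) ⊔ (Q ⊓ centralizer ({x} : Set G)) := ⟨_, rfl⟩
  rw [← hR] at hcen hER hRX ⊢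
  intro u hu
  refine ⟨⟨u, hER hu⟩, ?_, rfl⟩
  show (⟨u, hER hu⟩ : ↥R) ∈ Subgroup.upperCentralSeries ↥R (1 + 1)
  rw [Subgroup.mem_upperCentralSeries_succ_iff, Subgroup.upperCentralSeries_one]
  intro y
  have h1 := ((mem_commLeft _ _ _).mp (hXV (hRX y.2))).2.2 u hu
  have h2 := (closure ({z, x} : Set G)).inv_mem h1
  have e1 : ((y : G) * u * (y : G)⁻¹ * u⁻¹)⁻¹ = u * y * u⁻¹ * (y : G)⁻¹ := by group
  rw [e1, ← hcen] at h2
  obtain ⟨c, hc, hceq⟩ := h2
  have : c = ⁅(⟨u, hER hu⟩ : ↥R), y⁆ := by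
    apply Subtype.ext
    rw [commutatorElement_def]
    exact hceq
  rw [← this]; exact hc

/-- `Z₃(R) = R`. -/
theorem LE.Z3_top (L : LE Q P z x) :
    Subgroup.upperCentralSeries
      ↥((P ⊓ centralizer ({z} : Set G)) ⊔ (Q ⊓ centralizer ({x} : Set G))) 3 = ⊤ := by
  have hZ2 := L.E_le_Z2
  have hcomm := L.R_comm
  obtain ⟨R, hR⟩ : ∃ R : Subgroup G,
    R = (P ⊓ centralizer ({z} : Set G)) ⊔ (Q ⊓ centralizer ({x} : Set G)) := ⟨_, rfl⟩
  rw [← hR] at hZ2 hcomm ⊢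
  rw [eq_top_iff]
  intro r _
  show r ∈ Subgroup.upperCentralSeries ↥R (2 + 1)
  rw [Subgroup.mem_upperCentralSeries_succ_iff]
  intro y
  have h1 := hZ2 (hcomm r r.2 y y.2)
  obtain ⟨c, hc, hceq⟩ := h1
  have : c = ⁅r, y⁆ := by
    apply Subtype.ext
    rw [commutatorElement_def]
    exact hceq
  rw [← this]; exact hc

/-- `Q ∩ P` is elementary abelian. -/
theorem LE.E_elem (L : LE Q P z x) : Cfsg.IsElementaryAbelian 2 (Q ⊓ P) := by
  constructor
  · rw [isMulCommutative_iff]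
    rintro ⟨u, hu⟩ ⟨v, hv⟩
    exact Subtype.ext (L.E_comm hu.1 hu.2 hv.1 hv.2)
  · intro a ha
    rw [pow_two]
    exact L.E_sq ha.1 ha.2

/-- `C_P(z) ∩ C_Q(x) = Q ∩ P`. -/
theorem LE.B_inf_A (L : LE Q P z x) :
    (P ⊓ centralizer ({z} : Set G)) ⊓ (Q ⊓ centralizer ({x} : Set G)) = Q ⊓ P := by
  ext u
  constructor
  · rintro ⟨hb, ha⟩
    exact ⟨ha.1, hb.1⟩
  · intro hu
    refine ⟨mem_inf_cent.mpr ⟨hu.2, (L.hQ.zc u hu.1).symm⟩,
      mem_inf_cent.mpr ⟨hu.1, (L.hP.zc u hu.2).symm⟩⟩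

/-- `[X, E] ≤ V`. -/
theorem LE.comm_X_E (L : LE Q P z x) : ⁅Q ⊔ P, Q ⊓ P⁆ ≤ closure ({z, x} : Set G) := by
  rw [commutator_le]
  intro y hy u hu
  rw [commutatorElement_def]
  exact ((mem_commLeft _ _ _).mp (L.X_le_commLeftV hy)).2.2 u hu

end Cfsg.Agent.Lib.Helper5.ES
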