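import Mathlib
import Cfsg.Agent.Lib.Helper5.LEE

set_option autoImplicit false
set_option linter.unusedSectionVars false
set_option linter.unusedVariables false

namespace Cfsg.Agent.Lib.Helper5.ES

open Subgroup

variable {G : Type*} [Group G] {Q P : Subgroup G} {z x : G}

theorem conj_commute_iff {c u k : G} (hck : c * k = k * c) :
    (c * u * c⁻¹) * k = k * (c * u * c⁻¹) ↔ u * k = k * u := by
  have hck' : c⁻¹ * k = k * c⁻¹ := by
    calc c⁻¹ * k = c⁻¹ * (k * c) * c⁻¹ := by group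
      _ = c⁻¹ * (c * k) * c⁻¹ := by rw [hck]
      _ = k * c⁻¹ := by group
  constructor
  · intro h
    calc u * k = u * (k * c⁻¹) * c := by group
      _ = u * (c⁻¹ * k) * c := by rw [hck']
      _ = c⁻¹ * ((c * u * c⁻¹) * k) * c := by group
      _ = c⁻¹ * (k * (c * u * c⁻¹)) * c := by rw [h]
      _ = (c⁻¹ * k) * c * u := by group
      _ = k * u := by rw [hck']; group
  · intro h
    calc (c * u * c⁻¹) * k = c * u * (c⁻¹ * k) := by group
      _ = c * (u * k) * c⁻¹ := by rw [hck']; group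
      _ = (c * k) * u * c⁻¹ := by rw [h]; group
      _ = k * (c * u * c⁻¹) := by rw [hck]; group

/-- `[Q, C(V)] ≤ C_Q(x)`. -/
theorem LE.comm_Q_CV (L : LE Q P z x) {q c : G} (hq : q ∈ Q) (hcz : c * z = z * c)
    (hcx : c * x = x * c) :
    q * c * q⁻¹ * c⁻¹ ∈ Q ⊓ centralizer ({x} : Set G) := by
  have hq' : c * q⁻¹ * c⁻¹ ∈ Q := L.nQ c hcz _ (Q.inv_mem hq)
  have e : q * c * q⁻¹ * c⁻¹ = q * (c * q⁻¹ * c⁻¹) := by group
  rw [e, mem_inf_cent]
  refine ⟨Q.mul_mem hq hq', ?_⟩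
  rw [L.hQ.commute_mul_iff hq hq' L.xQ]
  have h1 : (c * q⁻¹ * c⁻¹) * x = x * (c * q⁻¹ * c⁻¹) ↔ q⁻¹ * x = x * q⁻¹ := conj_commute_iff hcx
  have h2 : q⁻¹ * x = x * q⁻¹ ↔ q * x = x * q := L.hQ.commute_inv_iff
  constructor
  · intro h; exact h1.mpr (h2.mpr h)
  · intro h; exact h2.mp (h1.mp h)

/-- `Q` normalizes `R`. -/
theorem LE.Q_norm_R (L : LE Q P z x) {q : G} (hq : q ∈ Q) :
    ∀ ρ ∈ (P ⊓ centralizer ({z} : Set G)) ⊔ (Q ⊓ centralizer ({x} : Set G)),
      q * ρ * q⁻¹ ∈ (P ⊓ centralizer ({z} : Set G)) ⊔ (Q ⊓ centralizer ({x} : Set G)) := by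
  obtain ⟨R, hR⟩ : ∃ R : Subgroup G,
    R = (P ⊓ centralizer ({z} : Set G)) ⊔ (Q ⊓ centralizer ({x} : Set G)) := ⟨_, rfl⟩
  have hAR : Q ⊓ centralizer ({x} : Set G) ≤ R := by rw [hR]; exact le_sup_right
  have hBR : P ⊓ centralizer ({z} : Set G) ≤ R := by rw [hR]; exact le_sup_left
  have hle : R ≤ R.comap (MulAut.conj q).toMonoidHom := by
    conv_lhs => rw [hR]
    apply sup_le
    · intro b hb
      rw [mem_comap]
      show q * b * q⁻¹ ∈ R
      have hb' := mem_inf_cent.mp hb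
      have h1 := L.comm_Q_CV hq hb'.2 (L.hP.zc b hb'.1).symm
      have := R.mul_mem (hAR h1) (hBR hb)
      have e : q * b * q⁻¹ * b⁻¹ * b = q * b * q⁻¹ := by group
      rwa [e] at this
    · intro a ha
      rw [mem_comap]
      show q * a * q⁻¹ ∈ R
      apply hAR
      have ha' := mem_inf_cent.mp ha
      rw [mem_inf_cent]
      refine ⟨Q.mul_mem (Q.mul_mem hq ha'.1) (Q.inv_mem hq), ?_⟩
      have e : q * a * q⁻¹ = (q * a * q⁻¹ * a⁻¹) * a := by group
      rw [e]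
      rcases L.hQ.comm q hq a ha'.1 with h1 | h1
      · rw [h1, one_mul]; exact ha'.2
      · rw [h1]
        calc z * a * x = z * (a * x) := by group
          _ = z * (x * a) := by rw [ha'.2]
          _ = (z * x) * a := by group
          _ = x * (z * a) := by rw [L.zx]; group
  rw [← hR]
  intro ρ hρ
  exact hle hρ

/-- `Q ≤ N(R)`. -/
theorem LE.Q_le_normalizer_R (L : LE Q P z x) :
    Q ≤ normalizer
      (((P ⊓ centralizer ({z} : Set G)) ⊔ (Q ⊓ centralizer ({x} : Set G)) : Subgroup G) : Set G) := by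
  intro q hq
  rw [mem_normalizer_iff]
  intro h
  constructor
  · exact L.Q_norm_R hq h
  · intro hh
    have := L.Q_norm_R (Q.inv_mem hq) _ hh
    have e : q⁻¹ * (q * h * q⁻¹) * q⁻¹⁻¹ = h := by group
    rwa [e] at this

/-- `X ≤ N(R)`. -/
theorem LE.X_le_normalizer_R (L : LE Q P z x) :
    Q ⊔ P ≤ normalizer
      (((P ⊓ centralizer ({z} : Set G)) ⊔ (Q ⊓ centralizer ({x} : Set G)) : Subgroup G) : Set G) := by
  apply sup_le
  · exact L.Q_le_normalizer_R
  · have h := L.symm.Q_le_normalizer_R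
    rw [sup_comm] at h
    exact h

theorem LE.X_norm_R (L : LE Q P z x) {s : G} (hs : s ∈ Q ⊔ P) :
    ∀ ρ ∈ (P ⊓ centralizer ({z} : Set G)) ⊔ (Q ⊓ centralizer ({x} : Set G)),
      s * ρ * s⁻¹ ∈ (P ⊓ centralizer ({z} : Set G)) ⊔ (Q ⊓ centralizer ({x} : Set G)) := by
  intro ρ hρ
  exact (mem_normalizer_iff.mp (L.X_le_normalizer_R hs) ρ).mp hρ

/-- `Q ≤ commLeft R C(V)`. -/
theorem LE.Q_le_commLeftR (L : LE Q P z x) :
    Q ≤ commLeft ((P ⊓ centralizer ({z} : Set G)) ⊔ (Q ⊓ centralizer ({x} : Set G)))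
      ((centralizer ({z} : Set G) ⊓ centralizer ({x} : Set G) : Subgroup G) : Set G) := by
  intro q hq
  rw [mem_commLeft]
  refine ⟨L.Q_norm_R hq, ?_, ?_⟩
  · intro e he
    have := L.Q_norm_R (Q.inv_mem hq) e he
    rwa [inv_inv] at this
  · intro c hc
    rw [SetLike.mem_coe, mem_inf, mem_centralizer_singleton_iff, mem_centralizer_singleton_iff] at hc
    exact (le_sup_right : _ ≤ (P ⊓ centralizer ({z} : Set G)) ⊔ (Q ⊓ centralizer ({x} : Set G)))
      (L.comm_Q_CV hq hc.1 hc.2)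

/-- `[X, C(V)] ≤ R`. -/
theorem LE.comm_X_CV (L : LE Q P z x) {s c : G} (hs : s ∈ Q ⊔ P) (hcz : c * z = z * c)
    (hcx : c * x = x * c) :
    s * c * s⁻¹ * c⁻¹ ∈ (P ⊓ centralizer ({z} : Set G)) ⊔ (Q ⊓ centralizer ({x} : Set G)) := by
  have hle : Q ⊔ P ≤ commLeft ((P ⊓ centralizer ({z} : Set G)) ⊔ (Q ⊓ centralizer ({x} : Set G)))
      ((centralizer ({z} : Set G) ⊓ centralizer ({x} : Set G) : Subgroup G) : Set G) := by
    apply sup_le
    · exact L.Q_le_commLeftR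
    · have h := L.symm.Q_le_commLeftR
      rw [sup_comm, inf_comm (centralizer ({x} : Set G))] at h
      exact h
  refine ((mem_commLeft _ _ _).mp (hle hs)).2.2 c ?_
  rw [SetLike.mem_coe, mem_inf, mem_centralizer_singleton_iff, mem_centralizer_singleton_iff]
  exact ⟨hcz, hcx⟩

/-- `C(V)` normalizes `X`. -/
theorem LE.CV_norm_X (L : LE Q P z x) {c : G} (hcz : c * z = z * c) (hcx : c * x = x * c) :
    ∀ s ∈ Q ⊔ P, c * s * c⁻¹ ∈ Q ⊔ P := by
  have hle : Q ⊔ P ≤ (Q ⊔ P).comap (MulAut.conj c).toMonoidHom := by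
    apply sup_le
    · intro q hq
      rw [mem_comap]
      exact (le_sup_left : Q ≤ Q ⊔ P) (L.nQ c hcz q hq)
    · intro p hp
      rw [mem_comap]
      exact (le_sup_right : P ≤ Q ⊔ P) (L.nP c hcx p hp)
  intro s hs
  exact hle hs

end Cfsg.Agent.Lib.Helper5.ES
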