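import Mathlib

namespace Cfsg.Agent.Lib.Helper5.AGL

open Matrix

abbrev V := Fin 2 → ZMod 3
abbrev M2 := Matrix (Fin 2) (Fin 2) (ZMod 3)
abbrev GL2 := Matrix.GeneralLinearGroup (Fin 2) (ZMod 3)
abbrev MV := Multiplicative V

def aM : M2 := !![1, 0; 0, -1]
def e1 : V := ![1, 0]
def e2 : V := ![0, 1]

set_option maxRecDepth 100000 in
theorem stab_decide : ∀ M : M2, M.mulVec e1 = e1 → M.det ≠ 0 →
    (M ^ 3 = 1 ∨ (aM * M) ^ 3 = 1) := by
  decide

theorem aM_sq : aM * aM = 1 := by decide

/-- the reflection as an element of GL2 -/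
def aG : GL2 := ⟨aM, aM, aM_sq, aM_sq⟩

theorem aG_val : (aG : M2) = aM := rfl

theorem aG_sq : aG * aG = 1 := by
  apply Units.ext
  simp [aG_val, aM_sq]

theorem aG_ne_one : aG ≠ 1 := by
  intro h
  have := congrArg (fun M : GL2 => (M : M2) 1 1) h
  simp [aG_val, aM] at this
  revert this; decide

/-- action of GL2 on the multiplicative copy of V -/
def act (M : GL2) : MulAut MV where
  toFun v := Multiplicative.ofAdd ((M : M2).mulVec (Multiplicative.toAdd v))
  invFun v := Multiplicative.ofAdd (((M⁻¹ : GL2) : M2).mulVec (Multiplicative.toAdd v))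
  left_inv v := by
    simp only [toAdd_ofAdd, Matrix.mulVec_mulVec]
    rw [← Matrix.GeneralLinearGroup.coe_mul, inv_mul_cancel]
    simp
  right_inv v := by
    simp only [toAdd_ofAdd, Matrix.mulVec_mulVec]
    rw [← Matrix.GeneralLinearGroup.coe_mul, mul_inv_cancel]
    simp
  map_mul' v w := by
    simp only [toAdd_mul, Matrix.mulVec_add, ofAdd_add]

def actHom : GL2 →* MulAut MV where
  toFun := act
  map_one' := by
    ext v
    simp [act]
  map_mul' M N := by
    refine MulEquiv.ext fun v => ?_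
    show Multiplicative.ofAdd (((M * N : GL2) : M2).mulVec (Multiplicative.toAdd v)) = _
    rw [Matrix.GeneralLinearGroup.coe_mul, ← Matrix.mulVec_mulVec]
    rfl

theorem actHom_apply (M : GL2) (v : MV) :
    actHom M v = Multiplicative.ofAdd ((M : M2).mulVec (Multiplicative.toAdd v)) := rfl

end Cfsg.Agent.Lib.Helper5.AGL
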