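import Mathlib
import Cfsg.Agent.Lib.Helper5.AGLA

namespace Cfsg.Agent.Lib.Helper5.AGL

open Matrix

/-- an element of a 2-subgroup of GL2 whose matrix cubes to one is trivial -/
theorem eq_one_of_cube {P : Subgroup GL2} (hP : IsPGroup 2 P) {M : GL2} (hM : M ∈ P)
    (h3 : (M : M2) ^ 3 = 1) : M = 1 := by
  have h3' : M ^ 3 = 1 := by
    apply Units.ext
    simpa using h3
  obtain ⟨k, hk⟩ := hP ⟨M, hM⟩
  have hk' : M ^ (2 ^ k) = 1 := by
    have := congrArg Subtype.val hk
    simpa using this
  have hcop : Nat.Coprime (2 ^ k) 3 := by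
    apply Nat.Coprime.pow_left; decide
  have := (pow_gcd_eq_one (a := M) (m := 2 ^ k) (n := 3)).mpr ⟨hk', h3'⟩
  rw [hcop] at this
  simpa using this

/-- stabilizer of e1 in a 2-subgroup containing the reflection -/
theorem stab_e1 {P : Subgroup GL2} (hP : IsPGroup 2 P) (ha : aG ∈ P) {M : GL2} (hM : M ∈ P)
    (hfix : (M : M2).mulVec e1 = e1) : M = 1 ∨ M = aG := by
  have hdet : (M : M2).det ≠ 0 := by
    have := Matrix.GeneralLinearGroup.det_ne_zero M
    exact this
  rcases stab_decide (M : M2) hfix hdet with h | h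
  · left; exact eq_one_of_cube hP hM h
  · right
    have hmem : aG * M ∈ P := P.mul_mem ha hM
    have h1 : aG * M = 1 := by
      apply eq_one_of_cube hP hmem
      simpa [aG_val] using h
    have hM' : M = aG⁻¹ := eq_inv_of_mul_eq_one_right h1
    rw [hM']
    exact inv_eq_of_mul_eq_one_right aG_sq

end Cfsg.Agent.Lib.Helper5.AGL
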