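import Mathlib
import Cfsg.Agent.Lib.Helper5.AGLB

namespace Cfsg.Agent.Lib.Helper5.AGL

open Matrix

theorem card_nonzero : (Finset.univ.filter (fun v : V => v ≠ 0)).card = 8 := by decide

theorem e1_ne_zero : e1 ≠ 0 := by decide

theorem mulVec_inv_mulVec (q : GL2) (v : V) : ((q⁻¹ : GL2) : M2).mulVec ((q : M2).mulVec v) = v := by
  rw [Matrix.mulVec_mulVec, ← Matrix.GeneralLinearGroup.coe_mul, inv_mul_cancel]
  simp

theorem mulVec_mulVec_inv (q : GL2) (v : V) : (q : M2).mulVec (((q⁻¹ : GL2) : M2).mulVec v) = v := by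
  rw [Matrix.mulVec_mulVec, ← Matrix.GeneralLinearGroup.coe_mul, mul_inv_cancel]
  simp

/-- a Sylow 2-subgroup containing the reflection is transitive on nonzero vectors -/
theorem orbit_e1 {P : Subgroup GL2} (hP : IsPGroup 2 P) (ha : aG ∈ P) (hcard : Nat.card P = 16)
    (n : V) (hn : n ≠ 0) : ∃ q : GL2, q ∈ P ∧ (q : M2).mulVec n = e1 := by
  classical
  haveI : Fintype P := Fintype.ofFinite P
  let f : P → V := fun q => ((q : GL2) : M2).mulVec e1
  have hfib : ∀ v ∈ (Finset.univ.image f),
      ((Finset.univ : Finset P).filter (fun q => f q = v)).card ≤ 2 := by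
    intro v hv
    obtain ⟨q0, -, rfl⟩ := Finset.mem_image.mp hv
    have hsub : (Finset.univ : Finset P).filter (fun q => f q = f q0) ⊆
        {q0, q0 * ⟨aG, ha⟩} := by
      intro q hq
      rw [Finset.mem_filter] at hq
      have hq' : ((q : GL2) : M2).mulVec e1 = ((q0 : GL2) : M2).mulVec e1 := hq.2
      have hfix : (((q0 : GL2)⁻¹ * (q : GL2) : GL2) : M2).mulVec e1 = e1 := by
        rw [Matrix.GeneralLinearGroup.coe_mul, ← Matrix.mulVec_mulVec, hq', mulVec_inv_mulVec]
      have hmem : (q0 : GL2)⁻¹ * (q : GL2) ∈ P := P.mul_mem (P.inv_mem q0.2) q.2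
      rcases stab_e1 hP ha hmem hfix with h | h
      · rw [Finset.mem_insert]; left
        apply Subtype.ext
        have : (q : GL2) = (q0 : GL2) := by
          rw [inv_mul_eq_one] at h; exact h.symm
        exact this
      · rw [Finset.mem_insert, Finset.mem_singleton]; right
        apply Subtype.ext
        show (q : GL2) = (q0 : GL2) * aG
        rw [← h]; group
    exact le_trans (Finset.card_le_card hsub) Finset.card_le_two
  have h1 := Finset.card_le_mul_card_image (Finset.univ : Finset P) 2 hfib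
  have hc16 : (Finset.univ : Finset P).card = 16 := by
    rw [Finset.card_univ, ← Nat.card_eq_fintype_card, hcard]
  have hsub2 : Finset.univ.image f ⊆ Finset.univ.filter (fun v : V => v ≠ 0) := by
    intro v hv
    obtain ⟨q, -, rfl⟩ := Finset.mem_image.mp hv
    rw [Finset.mem_filter]
    refine ⟨Finset.mem_univ _, ?_⟩
    intro h0
    apply e1_ne_zero
    have := mulVec_inv_mulVec (q : GL2) e1
    rw [← this]
    show ((q : GL2)⁻¹ : GL2).1.mulVec (f q) = 0
    rw [h0, Matrix.mulVec_zero]
  have heq : Finset.univ.image f = Finset.univ.filter (fun v : V => v ≠ 0) := by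
    apply Finset.eq_of_subset_of_card_le hsub2
    rw [card_nonzero]; omega
  have hn' : n ∈ Finset.univ.image f := by
    rw [heq, Finset.mem_filter]; exact ⟨Finset.mem_univ _, hn⟩
  obtain ⟨q, -, hq⟩ := Finset.mem_image.mp hn'
  refine ⟨(q : GL2)⁻¹, P.inv_mem q.2, ?_⟩
  rw [← hq]
  exact mulVec_inv_mulVec (q : GL2) e1

end Cfsg.Agent.Lib.Helper5.AGL
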