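import Mathlib
import Cfsg.Agent.Lib.Helper5.AGLC

namespace Cfsg.Agent.Lib.Helper5.AGL

open Matrix

/-- Every subgroup of a finite `p`-group is subnormal. -/
theorem isSubnormal_of_isPGroup' {G : Type*} [Group G] [Finite G] {p : ℕ} [Fact p.Prime]
    (hG : IsPGroup p G) (B : Subgroup G) : B.IsSubnormal := by
  have hnil : Group.IsNilpotent G := hG.isNilpotent
  have hnc : NormalizerCondition G := Group.normalizerCondition_of_isNilpotent
  induction B using WellFoundedGT.induction with
  | ind B ih =>
    by_cases hB : B = ⊤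
    · rw [hB]; exact Subgroup.IsSubnormal.top
    · have hlt : B < Subgroup.normalizer (B : Set G) := hnc B (lt_top_iff_ne_top.mpr hB)
      exact Subgroup.IsSubnormal.step B _ Subgroup.le_normalizer (ih _ hlt)
        Subgroup.normal_in_normalizer

theorem subnormal_of_commute' {G : Type*} [Group G] (a g : G) (hc : Commute g a) :
    ((Subgroup.zpowers a).subgroupOf (Subgroup.zpowers a ⊔ Subgroup.zpowers g)).IsSubnormal := by
  apply Subgroup.Normal.isSubnormal
  apply Subgroup.normal_subgroupOf_of_le_normalizer
  have hZ : Subgroup.centralizer ({a} : Set G) ≤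
      Subgroup.normalizer (Subgroup.zpowers a : Set G) := by
    intro k hk
    rw [Subgroup.mem_centralizer_iff] at hk
    have hk' : Commute a k := hk a rfl
    rw [Subgroup.mem_normalizer_iff]
    intro x
    constructor
    · intro hx
      obtain ⟨j, rfl⟩ := Subgroup.mem_zpowers_iff.mp hx
      have : k * a ^ j * k⁻¹ = a ^ j := by
        have := (hk'.zpow_left j).eq
        rw [← this, mul_assoc, mul_inv_cancel, mul_one]
      rw [this]; exact hx
    · intro hx
      obtain ⟨j, hj⟩ := Subgroup.mem_zpowers_iff.mp hx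
      have hxe : x = k⁻¹ * a ^ j * k := by
        rw [hj]; group
      have : k⁻¹ * a ^ j * k = a ^ j := by
        have := (hk'.zpow_left j).eq
        rw [mul_assoc, this, ← mul_assoc, inv_mul_cancel, one_mul]
      rw [hxe, this]
      exact Subgroup.zpow_mem_zpowers a j
  refine le_trans ?_ hZ
  apply sup_le
  · rw [Subgroup.zpowers_le, Subgroup.mem_centralizer_iff]
    intro h hh
    rw [Set.mem_singleton_iff] at hh
    rw [hh]
  · rw [Subgroup.zpowers_le, Subgroup.mem_centralizer_iff]
    intro h hh
    rw [Set.mem_singleton_iff] at hh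
    rw [hh]
    exact hc.eq.symm

/-- the group `3^2 : P` -/
abbrev Grp (P : Subgroup GL2) := MV ⋊[actHom.comp P.subtype] P

variable {P : Subgroup GL2}

theorem conj_inl (w n : MV) (p : P) :
    (SemidirectProduct.inl w : Grp P) * ⟨n, p⟩ * (SemidirectProduct.inl w)⁻¹
      = ⟨w * n * (actHom (p : GL2)) w⁻¹, p⟩ := by
  ext
  · simp [SemidirectProduct.mul_left, SemidirectProduct.inv_left]
  · simp

theorem conj_inr (q : P) (n : MV) (p : P) :
    (SemidirectProduct.inr q : Grp P) * ⟨n, p⟩ * (SemidirectProduct.inr q)⁻¹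
      = ⟨(actHom (q : GL2)) n, q * p * q⁻¹⟩ := by
  ext
  · simp [SemidirectProduct.mul_left, SemidirectProduct.inv_left]
  · simp

end Cfsg.Agent.Lib.Helper5.AGL
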