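import Mathlib
import Cfsg.Agent.Lib.Helper5.AGLD

namespace Cfsg.Agent.Lib.Helper5.AGL

open Matrix

variable {P : Subgroup GL2}

/-- the involution `a` inside the semidirect product -/
def aHat (ha : aG ∈ P) : Grp P := SemidirectProduct.inr ⟨aG, ha⟩

theorem aM_mulVec_x0 : ∀ x : ZMod 3, aM.mulVec ![x, 0] = ![x, 0] := by decide

theorem kill_second : ∀ x y : ZMod 3,
    (![0, y] : V) + ![x, y] + -(aM.mulVec ![0, y]) = ![x, 0] := by decide

theorem commute_x0 (ha : aG ∈ P) (x : ZMod 3) (s : P) (h : Commute s ⟨aG, ha⟩) :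
    Commute (⟨Multiplicative.ofAdd ![x, 0], s⟩ : Grp P) (aHat ha) := by
  unfold aHat
  show _ = _
  apply SemidirectProduct.ext
  · simp only [SemidirectProduct.mul_left, SemidirectProduct.left_inr, map_one, mul_one,
      SemidirectProduct.right_inr, one_mul, MonoidHom.comp_apply, Subgroup.coe_subtype]
    rw [actHom_apply, aG_val, toAdd_ofAdd, aM_mulVec_x0]
  · simp only [SemidirectProduct.mul_right, SemidirectProduct.right_inr]
    exact h.eq

end Cfsg.Agent.Lib.Helper5.AGL
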