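import Mathlib
import Cfsg.Agent.Lib.Helper5.AGLE

namespace Cfsg.Agent.Lib.Helper5.AGL

open Matrix

variable {P : Subgroup GL2}

instance : Finite (Grp P) := Finite.of_equiv _ SemidirectProduct.equivProd.symm

theorem vec_eta (v : V) : v = ![v 0, v 1] := by
  ext i; fin_cases i <;> rfl

theorem actHom_inv_ofAdd (p : GL2) (w : V) :
    actHom p (Multiplicative.ofAdd w)⁻¹ = Multiplicative.ofAdd (-((p : M2).mulVec w)) := by
  rw [actHom_apply]
  congr 1
  rw [toAdd_inv, toAdd_ofAdd, Matrix.mulVec_neg]

theorem class_condition (hP : IsPGroup 2 P) (ha : aG ∈ P) (hcard : Nat.card P = 16) (c : Grp P) :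
    ∃ g : Grp P, IsConj c g ∧
      ((Subgroup.zpowers (aHat ha)).subgroupOf
        (Subgroup.zpowers (aHat ha) ⊔ Subgroup.zpowers g)).IsSubnormal := by
  obtain ⟨n, p⟩ := c
  by_cases hfix : ∃ w : V, w ≠ 0 ∧ ((p : GL2) : M2).mulVec w = w
  · obtain ⟨w, hw0, hw⟩ := hfix
    obtain ⟨q, hqP, hq⟩ := orbit_e1 hP ha hcard w hw0
    set qq : P := ⟨q, hqP⟩ with hqq
    set p' : P := qq * p * qq⁻¹ with hp'
    have hp'fix : ((p' : GL2) : M2).mulVec e1 = e1 := by
      have h1 : (p' : GL2) = q * (p : GL2) * q⁻¹ := rfl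
      rw [h1, Matrix.GeneralLinearGroup.coe_mul, Matrix.GeneralLinearGroup.coe_mul,
        ← Matrix.mulVec_mulVec, ← Matrix.mulVec_mulVec]
      have h2 : ((q⁻¹ : GL2) : M2).mulVec e1 = w := by
        rw [← hq]; exact mulVec_inv_mulVec q w
      rw [h2, hw, hq]
    have hc1 : (SemidirectProduct.inr qq : Grp P) * ⟨n, p⟩ * (SemidirectProduct.inr qq)⁻¹
        = ⟨actHom q n, p'⟩ := conj_inr qq n p
    set n1 : MV := actHom q n with hn1
    rcases stab_e1 hP ha p'.2 hp'fix with h1 | h1
    · have hp'1 : p' = 1 := Subtype.ext h1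
      by_cases hz : Multiplicative.toAdd n1 = 0
      · refine ⟨⟨n1, p'⟩, isConj_iff.mpr ⟨SemidirectProduct.inr qq, hc1⟩, ?_⟩
        apply subnormal_of_commute'
        have : (⟨n1, p'⟩ : Grp P) = 1 := by
          apply SemidirectProduct.ext
          · show n1 = 1
            exact hz
          · exact hp'1
        rw [this]; exact Commute.one_left _
      · obtain ⟨r, hrP, hr⟩ := orbit_e1 hP ha hcard _ hz
        set rr : P := ⟨r, hrP⟩ with hrr
        have hc2 : (SemidirectProduct.inr rr : Grp P) * ⟨n1, p'⟩ * (SemidirectProduct.inr rr)⁻¹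
            = ⟨actHom r n1, rr * p' * rr⁻¹⟩ := conj_inr rr n1 p'
        refine ⟨⟨actHom r n1, rr * p' * rr⁻¹⟩, ?_, ?_⟩
        · rw [isConj_iff]
          refine ⟨SemidirectProduct.inr rr * SemidirectProduct.inr qq, ?_⟩
          rw [← hc2, ← hc1]; group
        · apply subnormal_of_commute'
          have e : actHom r n1 = Multiplicative.ofAdd ![1, 0] := by
            rw [actHom_apply, hr]; rfl
          have e2 : rr * p' * rr⁻¹ = 1 := by rw [hp'1]; group
          rw [e, e2]; exact commute_x0 ha 1 1 (Commute.one_left _)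
    · have hp'a : p' = ⟨aG, ha⟩ := Subtype.ext h1
      set x : ZMod 3 := (Multiplicative.toAdd n1) 0 with hx
      set y : ZMod 3 := (Multiplicative.toAdd n1) 1 with hy
      set w' : MV := Multiplicative.ofAdd ![0, y] with hw'
      have hc2 := conj_inl (P := P) w' n1 p'
      have e : w' * n1 * (actHom (p' : GL2)) w'⁻¹ = Multiplicative.ofAdd ![x, 0] := by
        rw [hw', actHom_inv_ofAdd, h1, aG_val]
        have hn1' : n1 = Multiplicative.ofAdd ![x, y] := by
          have := vec_eta (Multiplicative.toAdd n1)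
          rw [← hx, ← hy] at this
          exact this
        rw [hn1', ← ofAdd_add, ← ofAdd_add, kill_second]
      rw [e] at hc2
      refine ⟨⟨Multiplicative.ofAdd ![x, 0], p'⟩, ?_, ?_⟩
      · rw [isConj_iff]
        refine ⟨SemidirectProduct.inl w' * SemidirectProduct.inr qq, ?_⟩
        rw [← hc2, ← hc1]; group
      · apply subnormal_of_commute'
        apply commute_x0
        rw [hp'a]
  · push Not at hfix
    -- no nonzero fixed vector: conjugate into the complement
    set L : V → V := fun w => w - ((p : GL2) : M2).mulVec w with hL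
    have hinj : Function.Injective L := by
      intro w1 w2 h
      by_contra hne
      have hd : w1 - w2 ≠ 0 := sub_ne_zero.mpr hne
      apply hfix (w1 - w2) hd
      rw [Matrix.mulVec_sub]
      simp only [hL] at h
      have : w1 - w2 = ((p : GL2) : M2).mulVec w1 - ((p : GL2) : M2).mulVec w2 := by
        linear_combination h
      exact this.symm
    have hsurj : Function.Surjective L := Finite.injective_iff_surjective.mp hinj
    obtain ⟨w, hw⟩ := hsurj (-(Multiplicative.toAdd n))
    have hc2 := conj_inl (P := P) (Multiplicative.ofAdd w) n p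
    have e : Multiplicative.ofAdd w * n * (actHom (p : GL2)) (Multiplicative.ofAdd w)⁻¹ = 1 := by
      rw [actHom_inv_ofAdd]
      have hn : n = Multiplicative.ofAdd (Multiplicative.toAdd n) := rfl
      rw [hn, ← ofAdd_add, ← ofAdd_add]
      show Multiplicative.ofAdd _ = Multiplicative.ofAdd 0
      congr 1
      simp only [hL] at hw
      have : w + Multiplicative.toAdd n + -(((p : GL2) : M2).mulVec w)
          = (w - ((p : GL2) : M2).mulVec w) + Multiplicative.toAdd n := by abel
      rw [this, hw]; simp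
    rw [e] at hc2
    refine ⟨⟨1, p⟩, isConj_iff.mpr ⟨_, hc2⟩, ?_⟩
    set K : Subgroup (Grp P) := Subgroup.zpowers (aHat ha) ⊔ Subgroup.zpowers ⟨1, p⟩ with hK
    have hrange : IsPGroup 2 (SemidirectProduct.inr : P →* Grp P).range :=
      hP.of_surjective (SemidirectProduct.inr : P →* Grp P).rangeRestrict
        (MonoidHom.rangeRestrict_surjective _)
    have hKle : K ≤ (SemidirectProduct.inr : P →* Grp P).range := by
      apply sup_le
      · rw [Subgroup.zpowers_le]; exact ⟨⟨aG, ha⟩, rfl⟩
      · rw [Subgroup.zpowers_le]; exact ⟨p, rfl⟩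
    have hKp : IsPGroup 2 K := hrange.to_le hKle
    exact isSubnormal_of_isPGroup' hKp _

end Cfsg.Agent.Lib.Helper5.AGL
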