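import Mathlib
import Cfsg.Agent.Lib.Helper5.AGLF
import Cfsg.Agent.Lib.Helper16.PCore

namespace Cfsg.Agent.Lib.Helper5.AGL

open Matrix

theorem card_GL2 : Nat.card GL2 = 48 := by
  rw [Matrix.card_GL_field]
  simp [Fin.prod_univ_two]

theorem fact48 : (48 : ℕ).factorization 2 = 4 := by
  rw [Nat.factorization_def _ Nat.prime_two]
  have : (48 : ℕ) = 2 ^ 4 * 3 := by norm_num
  rw [this, padicValNat.mul (by norm_num) (by norm_num), padicValNat.prime_pow]
  have : padicValNat 2 3 = 0 := padicValNat.eq_zero_of_not_dvd (by norm_num)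
  rw [this]

theorem exists_sylow : ∃ P : Subgroup GL2, IsPGroup 2 P ∧ aG ∈ P ∧ Nat.card P = 16 := by
  have hA : IsPGroup 2 (Subgroup.zpowers aG) := by
    intro g
    refine ⟨1, ?_⟩
    obtain ⟨k, hk⟩ := Subgroup.mem_zpowers_iff.mp g.2
    apply Subtype.ext
    have h2 : aG ^ (2 : ℕ) = 1 := by rw [pow_two]; exact aG_sq
    show (g : GL2) ^ (2 ^ 1) = 1
    rw [← hk, pow_one, ← zpow_natCast, ← _root_.zpow_mul, mul_comm, _root_.zpow_mul, zpow_natCast, h2, _root_.one_zpow]
  obtain ⟨S, hS⟩ := hA.exists_le_sylow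
  refine ⟨S, S.isPGroup', hS (Subgroup.mem_zpowers aG), ?_⟩
  have := S.card_eq_multiplicity
  rw [card_GL2, fact48] at this
  rw [this]; norm_num

variable {P : Subgroup GL2}

theorem solvable (hP : IsPGroup 2 P) : Group.IsSolvable (Grp P) := by
  have : Group.IsNilpotent P := hP.isNilpotent
  have : Group.IsSolvable P := inferInstance
  have : Group.IsSolvable MV := inferInstance
  exact Group.isSolvable_of_ker_le_range (SemidirectProduct.inl : MV →* Grp P)
    (SemidirectProduct.rightHom : Grp P →* P)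
    (le_of_eq SemidirectProduct.range_inl_eq_ker_rightHom.symm)

theorem aHat_sq (ha : aG ∈ P) : aHat ha ^ 2 = 1 := by
  unfold aHat
  rw [← map_pow]
  have : (⟨aG, ha⟩ : P) ^ 2 = 1 := by
    apply Subtype.ext
    show aG ^ 2 = 1
    rw [pow_two]; exact aG_sq
  rw [this, map_one]

theorem aHat_ne_one (ha : aG ∈ P) : aHat ha ≠ 1 := by
  unfold aHat
  intro h
  have := congrArg SemidirectProduct.right h
  simp only [SemidirectProduct.right_inr, SemidirectProduct.one_right] at this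
  exact aG_ne_one (congrArg Subtype.val this)

theorem card_A (ha : aG ∈ P) : Nat.card (Subgroup.zpowers (aHat ha)) = 2 := by
  rw [Nat.card_zpowers]
  exact orderOf_eq_prime (aHat_sq ha) (aHat_ne_one ha)

theorem e2_calc : aM.mulVec e2 + -e2 = ![0, 1] := by decide

theorem not_le_pCore (ha : aG ∈ P) :
    ¬ Subgroup.zpowers (aHat ha) ≤ Cfsg.pCore 2 (Grp P) := by
  intro hle
  have hN : (Cfsg.pCore 2 (Grp P)).Normal := Cfsg.Agent.Lib.Helper16.pCore_normal 2 _
  have hQ : IsPGroup 2 (Cfsg.pCore 2 (Grp P)) := Cfsg.Agent.Lib.Helper16.pCore_isPGroup 2 _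
  have haQ : aHat ha ∈ Cfsg.pCore 2 (Grp P) := hle (Subgroup.mem_zpowers _)
  set v : Grp P := SemidirectProduct.inl (Multiplicative.ofAdd e2) with hv
  set k : Grp P := aHat ha * v * (aHat ha)⁻¹ * v⁻¹ with hk
  have hkQ : k ∈ Cfsg.pCore 2 (Grp P) := by
    have h1 : v * (aHat ha)⁻¹ * v⁻¹ ∈ Cfsg.pCore 2 (Grp P) :=
      hN.conj_mem _ ((Cfsg.pCore 2 (Grp P)).inv_mem haQ) v
    have : k = aHat ha * (v * (aHat ha)⁻¹ * v⁻¹) := by rw [hk]; group
    rw [this]
    exact (Cfsg.pCore 2 (Grp P)).mul_mem haQ h1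
  have hkv : k = SemidirectProduct.inl (Multiplicative.ofAdd ![0, 1]) := by
    have h1 : aHat ha * v * (aHat ha)⁻¹ =
        SemidirectProduct.inl ((actHom aG) (Multiplicative.ofAdd e2)) := by
      unfold aHat
      rw [hv, ← map_inv, ← SemidirectProduct.inl_aut]
      rfl
    rw [hk, h1, hv, ← map_inv, ← map_mul, actHom_apply, aG_val, toAdd_ofAdd, ← ofAdd_neg,
      ← ofAdd_add, e2_calc]
  have hk3 : k ^ 3 = 1 := by
    rw [hkv, ← map_pow, ← ofAdd_nsmul]
    have : (3 : ℕ) • (![0, 1] : V) = 0 := by decide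
    rw [this]; rfl
  obtain ⟨j, hj⟩ := hQ ⟨k, hkQ⟩
  have hj' : k ^ (2 ^ j) = 1 := by
    have := congrArg Subtype.val hj
    simpa using this
  have hcop : Nat.Coprime (2 ^ j) 3 := by
    apply Nat.Coprime.pow_left; decide
  have h1 := (pow_gcd_eq_one (a := k) (m := 2 ^ j) (n := 3)).mpr ⟨hj', hk3⟩
  rw [hcop, pow_one] at h1
  rw [hkv] at h1
  have h2 := SemidirectProduct.inl_injective (h1.trans (map_one _).symm)
  have h3 : (![0, 1] : V) = 0 := h2
  revert h3; decide

end Cfsg.Agent.Lib.Helper5.AGL
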