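import Mathlib
import Cfsg.Agent.Lib.Helper24.AbelianPerm

set_option autoImplicit false

namespace Cfsg.Agent.Lib.Helper5.AbAlt

open Cfsg.Agent.Lib.Helper24

/-- the largest order of a transposition-free abelian permutation group of degree `n` -/
def gFun : ℕ → ℕ
  | 0 => 1
  | 1 => 1
  | 2 => 1
  | 3 => 3
  | 4 => 4
  | 5 => 5
  | 6 => 9
  | 7 => 12
  | 8 => 16
  | (n + 9) => 3 * gFun (n + 6)

theorem gFun_add_three (n : ℕ) (hn : 6 ≤ n) : gFun (n + 3) = 3 * gFun n := by
  obtain ⟨m, rfl⟩ : ∃ m, n = m + 6 := ⟨n - 6, by omega⟩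
  show gFun (m + 9) = 3 * gFun (m + 6)
  rw [gFun]

/-- induction principle with period 3 -/
theorem period_induction (P : ℕ → Prop) (hbase : ∀ s, s < 9 → P s)
    (hstep : ∀ s, 6 ≤ s → P s → P (s + 3)) : ∀ s, P s := by
  intro s
  induction s using Nat.strong_induction_on with
  | _ s ih =>
    rcases Nat.lt_or_ge s 9 with h | h
    · exact hbase s h
    · obtain ⟨t, rfl⟩ : ∃ t, s = t + 3 := ⟨s - 3, by omega⟩
      exact hstep t (by omega) (ih t (by omega))

theorem maxProd_add_three' (n : ℕ) (hn : 2 ≤ n) : maxProd (n + 3) = 3 * maxProd n :=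
  maxProd_add_three n hn

theorem gFun_mono_step : ∀ s, gFun s ≤ gFun (s + 1) := by
  apply period_induction
  · intro s hs
    interval_cases s <;> simp [gFun]
  · intro s hs h
    have e1 : gFun (s + 3) = 3 * gFun s := gFun_add_three s hs
    have e2 : gFun (s + 3 + 1) = 3 * gFun (s + 1) := by
      have := gFun_add_three (s + 1) (by omega)
      rw [← this]
    rw [e1, e2]; omega

theorem maxProd_le_gFun_add_two : ∀ s, maxProd s ≤ gFun (s + 2) := by
  apply period_induction
  · intro s hs
    interval_cases s <;> simp [gFun, maxProd]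
  · intro s hs h
    have e1 : maxProd (s + 3) = 3 * maxProd s := maxProd_add_three s (by omega)
    have e2 : gFun (s + 3 + 2) = 3 * gFun (s + 2) := by
      have := gFun_add_three (s + 2) (by omega)
      rw [← this]
    rw [e1, e2]; omega

theorem three_mul_gFun_le : ∀ s, 3 * gFun s ≤ gFun (s + 3) := by
  apply period_induction
  · intro s hs
    interval_cases s <;> simp [gFun]
  · intro s hs h
    have e1 : gFun (s + 3) = 3 * gFun s := gFun_add_three s hs
    have e2 : gFun (s + 3 + 3) = 3 * gFun (s + 3) := gFun_add_three (s + 3) (by omega)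
    rw [e2]

theorem small_mul_maxProd_le (m : ℕ) (hm4 : 4 ≤ m) (hm6 : m ≤ 6) :
    ∀ s, m * maxProd s ≤ gFun (m + s) := by
  apply period_induction
  · intro s hs
    interval_cases m <;> interval_cases s <;> simp [gFun, maxProd]
  · intro s hs h
    have e1 : maxProd (s + 3) = 3 * maxProd s := maxProd_add_three s (by omega)
    have e2 : gFun (m + (s + 3)) = 3 * gFun (m + s) := by
      have := gFun_add_three (m + s) (by omega)
      rw [← this]; rfl
    rw [e1, e2]
    calc m * (3 * maxProd s) = 3 * (m * maxProd s) := by ring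
      _ ≤ 3 * gFun (m + s) := Nat.mul_le_mul_left _ h

theorem mul_maxProd_le_gFun (m : ℕ) (hm : 4 ≤ m) (s : ℕ) : m * maxProd s ≤ gFun (m + s) := by
  induction m using Nat.strong_induction_on with
  | _ m ih =>
    rcases Nat.lt_or_ge m 7 with h | h
    · exact small_mul_maxProd_le m hm (by omega) s
    · have ih' := ih (m - 3) (by omega) (by omega)
      have e : m + s = (m - 3 + s) + 3 := by omega
      calc m * maxProd s ≤ (3 * (m - 3)) * maxProd s := Nat.mul_le_mul_right _ (by omega)
        _ = 3 * ((m - 3) * maxProd s) := by ring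
        _ ≤ 3 * gFun (m - 3 + s) := Nat.mul_le_mul_left _ ih'
        _ ≤ gFun ((m - 3 + s) + 3) := three_mul_gFun_le _
        _ = gFun (m + s) := by rw [e]

theorem gFun_three_mul_add_two (k : ℕ) (hk : 2 ≤ k) : gFun (3 * k + 2) = 16 * 3 ^ (k - 2) := by
  obtain ⟨j, rfl⟩ : ∃ j, k = j + 2 := ⟨k - 2, by omega⟩
  simp only [Nat.add_sub_cancel]
  induction j with
  | zero => simp [gFun]
  | succ j ih =>
    have e : 3 * (j + 1 + 2) + 2 = (3 * (j + 2) + 2) + 3 := by ring
    rw [e, gFun_add_three _ (by omega), ih (by omega), pow_succ]; ring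

end Cfsg.Agent.Lib.Helper5.AbAlt
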