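import Mathlib
import Cfsg.Agent.Lib.Helper5.AbAltNum

set_option autoImplicit false
set_option linter.style.haveILetI false

namespace Cfsg.Agent.Lib.Helper5.AbAlt

open Cfsg.Agent.Lib.Helper24 Equiv

/-- In an abelian permutation group, the `|O|`-th power of every element fixes the orbit `O`
pointwise. -/
theorem pow_card_orbit_fix {Ω : Type*} [Fintype Ω] [DecidableEq Ω] (A : Subgroup (Perm Ω))
    (hA : ∀ a ∈ A, ∀ b ∈ A, a * b = b * a) (x : Ω) (O : Set Ω)
    (hO : ∀ y, y ∈ O ↔ ∃ a ∈ A, a x = y) (a : Perm Ω) (ha : a ∈ A) (y : Ω) (hy : y ∈ O) :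
    (a ^ Nat.card O) y = y := by
  classical
  have hOeq : O = MulAction.orbit A x := by
    ext z
    rw [hO, MulAction.mem_orbit_iff]
    constructor
    · rintro ⟨b, hb, rfl⟩
      exact ⟨⟨b, hb⟩, rfl⟩
    · rintro ⟨⟨b, hb⟩, rfl⟩
      exact ⟨b, hb, rfl⟩
  haveI : (MulAction.stabilizer A x).Normal := by
    constructor
    intro n hn g
    have : g * n * g⁻¹ = n := by
      have hc : g * n = n * g := Subtype.ext (hA _ g.2 _ n.2)
      rw [hc, mul_inv_cancel_right]
    rw [this]
    exact hn
  have hidx : (MulAction.stabilizer A x).index = Nat.card O := by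
    rw [MulAction.index_stabilizer, hOeq, Nat.card_coe_set_eq]
  have hmem : (⟨a, ha⟩ : A) ^ Nat.card O ∈ MulAction.stabilizer A x := by
    rw [← hidx]
    exact Subgroup.pow_index_mem _ _
  have hfix : (a ^ Nat.card O) x = x := by
    have := MulAction.mem_stabilizer_iff.1 hmem
    exact this
  obtain ⟨b, hb, rfl⟩ := (hO y).1 hy
  have hc : a ^ Nat.card O * b = b * a ^ Nat.card O :=
    hA _ (A.pow_mem ha _) _ hb
  rw [← Perm.mul_apply, hc, Perm.mul_apply, hfix]

/-- a transposition-free abelian permutation group of degree `n` has order at most `gFun n` -/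
theorem card_le_gFun_aux : ∀ (n : ℕ) (Ω : Type) [Fintype Ω] [DecidableEq Ω],
    Fintype.card Ω = n → ∀ A : Subgroup (Perm Ω),
    (∀ a ∈ A, ∀ b ∈ A, a * b = b * a) → (∀ a ∈ A, ¬ a.IsSwap) → Nat.card A ≤ gFun n := by
  intro n
  induction n using Nat.strong_induction_on with
  | _ n ih =>
    intro Ω _ _ hcard A hA hns
    classical
    by_cases hΩ : IsEmpty Ω
    · haveI := hΩ
      haveI : Subsingleton (Perm Ω) := inferInstance
      have h1 : Nat.card A ≤ 1 := Finite.card_le_one_iff_subsingleton.mpr inferInstance
      have h0 : n = 0 := by rw [← hcard]; exact Fintype.card_eq_zero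
      subst h0
      simpa [gFun] using h1
    · rw [not_isEmpty_iff] at hΩ
      obtain ⟨x⟩ := hΩ
      obtain ⟨O, hO⟩ : ∃ O : Set Ω, O = {y | ∃ a ∈ A, a x = y} := ⟨_, rfl⟩
      have hOmem : ∀ y, y ∈ O ↔ ∃ a ∈ A, a x = y := by
        intro y; rw [hO]; rfl
      have hxO : x ∈ O := (hOmem x).mpr ⟨1, A.one_mem, rfl⟩
      have hinv : ∀ a ∈ A, ∀ y, a y ∈ O ↔ y ∈ O := by
        intro a ha y
        rw [hOmem, hOmem]
        constructor
        · rintro ⟨b, hb, hby⟩
          refine ⟨a⁻¹ * b, A.mul_mem (A.inv_mem ha) hb, ?_⟩
          rw [Perm.mul_apply, hby]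
          simp
        · rintro ⟨b, hb, hby⟩
          refine ⟨a * b, A.mul_mem ha hb, ?_⟩
          rw [Perm.mul_apply, hby]
      -- restriction to the complement
      let ρ : A →* Perm {y // y ∉ O} :=
        { toFun := fun a => (a : Perm Ω).subtypePerm (fun y => not_congr (hinv a a.2 y))
          map_one' := by ext y; rfl
          map_mul' := fun a b => by ext y; rfl }
      have hρ : ∀ (a : A) (y : {y // y ∉ O}), ((ρ a) y : Ω) = (a : Perm Ω) y := fun a y => rfl
      have hsplit : Nat.card A = Nat.card ρ.ker * Nat.card ρ.range := by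
        rw [← Subgroup.card_mul_index ρ.ker, Subgroup.index_ker]
      -- elements of the kernel fixing x are trivial
      have hker_fix : ∀ k : A, ρ k = 1 → (k : Perm Ω) x = x → k = 1 := by
        intro k hk hkx
        apply Subtype.ext
        ext y
        by_cases hy : y ∈ O
        · obtain ⟨b, hb, rfl⟩ := (hOmem y).mp hy
          have e1 : (k : Perm Ω) (b x) = b ((k : Perm Ω) x) := by
            rw [← Perm.mul_apply, ← Perm.mul_apply, hA _ k.2 _ hb]
          rw [e1, hkx]; rfl
        · have e1 := hρ k ⟨y, hy⟩
          rw [hk] at e1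
          simp only [Perm.coe_one, id_eq] at e1
          rw [← e1]; rfl
      -- the kernel injects into the orbit
      have hker : Nat.card ρ.ker ≤ Nat.card O := by
        have hmem : ∀ k : ρ.ker, ((k : A) : Perm Ω) x ∈ O := by
          intro k; exact (hOmem _).mpr ⟨_, (k : A).2, rfl⟩
        apply Nat.card_le_card_of_injective (fun k : ρ.ker => (⟨((k : A) : Perm Ω) x, hmem k⟩ : O))
        intro k k' hkk
        have hkx : ((k : A) : Perm Ω) x = ((k' : A) : Perm Ω) x := congrArg Subtype.val hkk
        have h1 : (k : A)⁻¹ * (k' : A) = 1 := by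
          apply hker_fix
          · rw [map_mul, map_inv, (show ρ (k : A) = 1 from k.2), (show ρ (k' : A) = 1 from k'.2)]
            simp
          · show ((k : A) : Perm Ω)⁻¹ (((k' : A) : Perm Ω) x) = x
            rw [← hkx]; simp
        apply Subtype.ext
        rw [inv_mul_eq_one] at h1
        exact h1
      -- cardinalities
      have hOcard : Nat.card O + Fintype.card {y // y ∉ O} = n := by
        have h1 : Fintype.card {y // y ∉ O} = Fintype.card Ω - Fintype.card {y // y ∈ O} :=
          Fintype.card_subtype_compl _
        have h2 : Fintype.card {y // y ∈ O} ≤ Fintype.card Ω := Fintype.card_subtype_le _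
        have h3 : Nat.card O = Fintype.card {y // y ∈ O} := Nat.card_eq_fintype_card
        omega
      have hOpos : 1 ≤ Nat.card O := by
        haveI : Nonempty O := ⟨⟨x, hxO⟩⟩
        exact Nat.card_pos
      have hrange_comm : ∀ a ∈ ρ.range, ∀ b ∈ ρ.range, a * b = b * a := by
        rintro _ ⟨a, rfl⟩ _ ⟨b, rfl⟩
        rw [← map_mul, ← map_mul]
        congr 1
        exact Subtype.ext (hA _ a.2 _ b.2)
      have hrange : Nat.card ρ.range ≤ maxProd (Fintype.card {y // y ∉ O}) :=
        card_le_maxProd_aux _ {y // y ∉ O} rfl ρ.range hrange_comm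
      -- odd orbit: the range has no transposition
      have hodd : Odd (Nat.card O) → ∀ r ∈ ρ.range, ¬ r.IsSwap := by
        rintro hodd _ ⟨a, rfl⟩ ⟨u, v, huv, hsw⟩
        apply hns ((a : Perm Ω) ^ Nat.card O) (A.pow_mem a.2 _)
        refine ⟨u.1, v.1, fun h => huv (Subtype.ext h), ?_⟩
        have hpow : ρ (a ^ Nat.card O) = swap u v := by
          rw [map_pow, hsw]
          obtain ⟨j, hj⟩ := hodd
          have hsq : swap u v ^ 2 = 1 := by rw [pow_two, swap_mul_self]
          rw [hj, pow_succ, pow_mul, hsq, one_pow, one_mul]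
        ext y
        by_cases hy : y ∈ O
        · rw [pow_card_orbit_fix A hA x O hOmem a a.2 y hy]
          have h1 : y ≠ u.1 := fun h => u.2 (h ▸ hy)
          have h2 : y ≠ v.1 := fun h => v.2 (h ▸ hy)
          rw [swap_apply_of_ne_of_ne h1 h2]
        · have e1 := hρ (a ^ Nat.card O) ⟨y, hy⟩
          rw [hpow] at e1
          have e3 : ((a : Perm Ω) ^ Nat.card O) y = ((swap u v) ⟨y, hy⟩ : {y // y ∉ O}).1 :=
            e1.symm
          rw [e3]
          by_cases h1 : y = u.1
          · have hu : (⟨y, hy⟩ : {y // y ∉ O}) = u := Subtype.ext h1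
            rw [hu, swap_apply_left, h1, swap_apply_left]
          · by_cases h2 : y = v.1
            · have hv : (⟨y, hy⟩ : {y // y ∉ O}) = v := Subtype.ext h2
              rw [hv, swap_apply_right, h2, swap_apply_right]
            · have h1' : (⟨y, hy⟩ : {y // y ∉ O}) ≠ u := fun h => h1 (congrArg Subtype.val h)
              have h2' : (⟨y, hy⟩ : {y // y ∉ O}) ≠ v := fun h => h2 (congrArg Subtype.val h)
              rw [swap_apply_of_ne_of_ne h1' h2', swap_apply_of_ne_of_ne h1 h2]
      -- case split on the size of the orbit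
      obtain ⟨m, hm⟩ : ∃ m, Nat.card O = m := ⟨_, rfl⟩
      obtain ⟨s, hs⟩ : ∃ s, Fintype.card {y // y ∉ O} = s := ⟨_, rfl⟩
      rw [hm, hs] at hOcard
      rw [hs] at hrange
      rw [hm] at hker hOpos
      have hmain : Nat.card A ≤ m * Nat.card ρ.range := by
        rw [hsplit]; exact Nat.mul_le_mul_right _ hker
      subst hOcard
      rcases Nat.lt_or_ge m 4 with h4 | h4
      · interval_cases m
        · -- m = 1
          have h1 := ih s (by omega) {y // y ∉ O} hs ρ.range hrange_comm
            (hodd (by rw [hm]; decide))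
          calc Nat.card A ≤ 1 * Nat.card ρ.range := hmain
            _ = Nat.card ρ.range := one_mul _
            _ ≤ gFun s := h1
            _ ≤ gFun (s + 1) := gFun_mono_step s
            _ = gFun (1 + s) := by rw [add_comm]
        · -- m = 2 : the kernel is trivial
          have hktriv : ∀ k : A, ρ k = 1 → k = 1 := by
            intro k hk
            by_contra hk1
            have hkx : (k : Perm Ω) x ≠ x := fun h => hk1 (hker_fix k hk h)
            apply hns (k : Perm Ω) k.2
            have hx' : (k : Perm Ω) x ∈ O := (hOmem _).mpr ⟨_, k.2, rfl⟩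
            have hO2 : O.ncard = 2 := by rw [← Nat.card_coe_set_eq]; exact hm
            obtain ⟨p, q, hpq, hOpq⟩ := Set.ncard_eq_two.1 hO2
            have hall : ∀ y ∈ O, y = x ∨ y = (k : Perm Ω) x := by
              intro y hy
              rw [hOpq] at hy hxO hx'
              simp only [Set.mem_insert_iff, Set.mem_singleton_iff] at hy hxO hx'
              rcases hy with rfl | rfl <;> rcases hxO with h1 | h1 <;> rcases hx' with h2 | h2
              all_goals first
                | (left; exact h1.symm)
                | (right; exact h2.symm)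
                | (exfalso; apply hkx; rw [h2, ← h1])
            have hkk : (k : Perm Ω) ((k : Perm Ω) x) = x := by
              have h1 : (k : Perm Ω) ((k : Perm Ω) x) ∈ O := (hinv _ k.2 _).2 hx'
              rcases hall _ h1 with h | h
              · exact h
              · exfalso
                exact hkx ((k : Perm Ω).injective h)
            refine ⟨x, (k : Perm Ω) x, fun h => hkx h.symm, ?_⟩
            ext y
            by_cases hy : y ∈ O
            · rcases hall y hy with rfl | rfl
              · rw [swap_apply_left]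
              · rw [swap_apply_right, hkk]
            · have e1 := hρ k ⟨y, hy⟩
              rw [hk] at e1
              simp only [Perm.coe_one, id_eq] at e1
              rw [← e1]
              have h1 : y ≠ x := fun h => hy (h ▸ hxO)
              have h2 : y ≠ (k : Perm Ω) x := fun h => hy (h ▸ hx')
              rw [swap_apply_of_ne_of_ne h1 h2]
          have hkerbot : ρ.ker = ⊥ := by
            rw [eq_bot_iff]
            intro k hk
            rw [Subgroup.mem_bot]
            exact hktriv k hk
          have : Nat.card A = Nat.card ρ.range := by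
            rw [hsplit, hkerbot, Subgroup.card_bot, one_mul]
          rw [this]
          calc Nat.card ρ.range ≤ maxProd s := hrange
            _ ≤ gFun (s + 2) := maxProd_le_gFun_add_two s
            _ = gFun (2 + s) := by rw [add_comm]
        · -- m = 3
          have h1 := ih s (by omega) {y // y ∉ O} hs ρ.range hrange_comm
            (hodd (by rw [hm]; decide))
          calc Nat.card A ≤ 3 * Nat.card ρ.range := hmain
            _ ≤ 3 * gFun s := Nat.mul_le_mul_left _ h1
            _ ≤ gFun (s + 3) := three_mul_gFun_le s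
            _ = gFun (3 + s) := by rw [add_comm]
      · calc Nat.card A ≤ m * Nat.card ρ.range := hmain
          _ ≤ m * maxProd s := Nat.mul_le_mul_left _ hrange
          _ ≤ gFun (m + s) := mul_maxProd_le_gFun m h4 s

end Cfsg.Agent.Lib.Helper5.AbAlt
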