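import Mathlib
import Cfsg.Agent.Lib.Helper5.AbAltMain

set_option autoImplicit false
set_option linter.style.haveILetI false

namespace Cfsg.Agent.Lib.Helper5.AbAlt

open Cfsg.Agent.Lib.Helper24 Equiv

/-! ### upper bounds in the alternating group -/

theorem alt_map_facts (n : ℕ) (A : Subgroup (alternatingGroup (Fin n))) (hA : IsMulCommutative A) :
    Nat.card (A.map (alternatingGroup (Fin n)).subtype) = Nat.card A ∧
    (∀ a ∈ A.map (alternatingGroup (Fin n)).subtype, ∀ b ∈ A.map (alternatingGroup (Fin n)).subtype,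
      a * b = b * a) ∧
    (∀ a ∈ A.map (alternatingGroup (Fin n)).subtype, ¬ a.IsSwap) := by
  refine ⟨Subgroup.card_map_of_injective (Subgroup.subtype_injective _), ?_, ?_⟩
  · rintro _ ⟨a, ha, rfl⟩ _ ⟨b, hb, rfl⟩
    rw [← map_mul, ← map_mul, mul_comm_of_isMulCommutative A hA ha hb]
  · rintro _ ⟨a, ha, rfl⟩ ⟨u, v, huv, hsw⟩
    have h1 : Perm.sign (a : Perm (Fin n)) = 1 := Perm.mem_alternatingGroup.1 a.2
    have h2 : Perm.sign (a : Perm (Fin n)) = -1 := by
      have : ((alternatingGroup (Fin n)).subtype a) = swap u v := hsw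
      rw [show (a : Perm (Fin n)) = swap u v from this, Perm.sign_swap huv]
    rw [h1] at h2
    exact absurd h2 (by decide)

theorem card_le_gFun (n : ℕ) (A : Subgroup (alternatingGroup (Fin n))) (hA : IsMulCommutative A) :
    Nat.card A ≤ gFun n := by
  obtain ⟨h1, h2, h3⟩ := alt_map_facts n A hA
  rw [← h1]
  exact card_le_gFun_aux n (Fin n) (Fintype.card_fin n) _ h2 h3

theorem card_le_maxProd_alt (n : ℕ) (A : Subgroup (alternatingGroup (Fin n)))
    (hA : IsMulCommutative A) : Nat.card A ≤ maxProd n := by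
  obtain ⟨h1, h2, -⟩ := alt_map_facts n A hA
  rw [← h1]
  exact card_le_maxProd_aux n (Fin n) (Fintype.card_fin n) _ h2

/-! ### existence -/

/-- there is an abelian subgroup of order `c` consisting of even permutations of `Fin n` -/
def HasEvenAbelian (n c : ℕ) : Prop :=
  ∃ A : Subgroup (Perm (Fin n)), A ≤ alternatingGroup (Fin n) ∧
    (∀ a ∈ A, ∀ b ∈ A, a * b = b * a) ∧ Nat.card A = c

theorem HasEvenAbelian.toAlt {n c : ℕ} (h : HasEvenAbelian n c) :
    ∃ A : Subgroup (alternatingGroup (Fin n)), IsMulCommutative A ∧ Nat.card A = c := by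
  obtain ⟨A, hle, hcomm, hcard⟩ := h
  refine ⟨A.subgroupOf (alternatingGroup (Fin n)), ?_, ?_⟩
  · apply isMulCommutative_of_forall_mem
    intro x hx y hy
    apply Subtype.ext
    exact hcomm _ hx _ hy
  · rw [← hcard]
    exact Nat.card_congr (Subgroup.subgroupOfEquivOfLe hle).toEquiv

theorem hasEvenAbelian_zero : HasEvenAbelian 0 1 := by
  refine ⟨⊥, bot_le, ?_, Subgroup.card_bot⟩
  intro x hx y hy
  rw [Subgroup.mem_bot] at hx hy
  rw [hx, hy]

theorem hasEvenAbelian_three : HasEvenAbelian 3 3 := by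
  refine ⟨Subgroup.zpowers (finRotate 3), ?_, ?_, ?_⟩
  · rw [Subgroup.zpowers_le, Perm.mem_alternatingGroup]
    decide
  · rintro _ ⟨i, rfl⟩ _ ⟨j, rfl⟩
    exact (Commute.zpow_zpow_self _ i j).eq
  · rw [Nat.card_zpowers]
    rw [(isCycle_finRotate_of_le (by norm_num : 2 ≤ 3)).orderOf,
      support_finRotate_of_le (by norm_num : 2 ≤ 3), Finset.card_univ, Fintype.card_fin]

/-- the four-group as a set of permutations -/
def v4set : Finset (Perm (Fin 4)) :=
  {1, swap 0 1 * swap 2 3, swap 0 2 * swap 1 3, swap 0 3 * swap 1 2}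

def v4 : Subgroup (Perm (Fin 4)) where
  carrier := v4set
  one_mem' := by decide
  mul_mem' {x y} hx hy := by
    have h : ∀ x ∈ v4set, ∀ y ∈ v4set, x * y ∈ v4set := by decide
    exact h x hx y hy
  inv_mem' {x} hx := by
    have h : ∀ x ∈ v4set, x⁻¹ ∈ v4set := by decide
    exact h x hx

theorem hasEvenAbelian_four : HasEvenAbelian 4 4 := by
  refine ⟨v4, ?_, ?_, ?_⟩
  · intro x hx
    have h : ∀ x ∈ v4set, Perm.sign x = 1 := by decide
    exact Perm.mem_alternatingGroup.2 (h x hx)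
  · intro x hx y hy
    have h : ∀ x ∈ v4set, ∀ y ∈ v4set, x * y = y * x := by decide
    exact h x hx y hy
  · have : Nat.card v4 = Nat.card (v4set : Set (Perm (Fin 4))) := rfl
    rw [this, Nat.card_coe_set_eq, Set.ncard_coe_finset]
    decide

theorem hasEvenAbelian_add {n m c d : ℕ} (h1 : HasEvenAbelian n c)
    (h2 : HasEvenAbelian m d) : HasEvenAbelian (n + m) (c * d) := by
  obtain ⟨A, hAle, hA, hAc⟩ := h1
  obtain ⟨B, hBle, hB, hBc⟩ := h2
  let e : Perm (Fin n ⊕ Fin m) ≃* Perm (Fin (n + m)) := finSumFinEquiv.permCongrHom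
  let φ : Perm (Fin n) × Perm (Fin m) →* Perm (Fin (n + m)) :=
    e.toMonoidHom.comp (Perm.sumCongrHom (Fin n) (Fin m))
  have hφ : Function.Injective φ := e.injective.comp Perm.sumCongrHom_injective
  have hsign : ∀ a b, Perm.sign (φ (a, b)) = Perm.sign a * Perm.sign b := by
    intro a b
    have : φ (a, b) = finSumFinEquiv.permCongr (Perm.sumCongr a b) := rfl
    rw [this, Perm.sign_permCongr, Perm.sign_sumCongr]
  refine ⟨(A.prod B).map φ, ?_, ?_, ?_⟩
  · rintro _ ⟨⟨a, b⟩, ⟨ha, hb⟩, rfl⟩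
    rw [Perm.mem_alternatingGroup, hsign, Perm.mem_alternatingGroup.1 (hAle ha),
      Perm.mem_alternatingGroup.1 (hBle hb), one_mul]
  · rintro _ ⟨⟨a, b⟩, ⟨ha, hb⟩, rfl⟩ _ ⟨⟨a', b'⟩, ⟨ha', hb'⟩, rfl⟩
    rw [← map_mul, ← map_mul]
    congr 1
    exact Prod.ext (hA _ ha _ ha') (hB _ hb _ hb')
  · rw [Subgroup.card_map_of_injective hφ, ← hAc, ← hBc]
    rw [Nat.card_congr (Subgroup.prodEquiv A B).toEquiv, Nat.card_prod]

theorem hasEvenAbelian_three_mul (k : ℕ) : HasEvenAbelian (3 * k) (3 ^ k) := by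
  induction k with
  | zero => exact hasEvenAbelian_zero
  | succ k ih =>
    have h := hasEvenAbelian_add ih hasEvenAbelian_three
    have e1 : 3 * k + 3 = 3 * (k + 1) := by ring
    have e2 : 3 ^ k * 3 = 3 ^ (k + 1) := by rw [pow_succ]
    rw [e1, e2] at h
    exact h

theorem hasEvenAbelian_three_mul_add_one (k : ℕ) (hk : 1 ≤ k) :
    HasEvenAbelian (3 * k + 1) (4 * 3 ^ (k - 1)) := by
  obtain ⟨j, rfl⟩ : ∃ j, k = j + 1 := ⟨k - 1, by omega⟩
  have h := hasEvenAbelian_add hasEvenAbelian_four (hasEvenAbelian_three_mul j)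
  have e1 : 4 + 3 * j = 3 * (j + 1) + 1 := by ring
  rw [e1] at h
  simpa using h

theorem hasEvenAbelian_three_mul_add_two (k : ℕ) (hk : 2 ≤ k) :
    HasEvenAbelian (3 * k + 2) (16 * 3 ^ (k - 2)) := by
  obtain ⟨j, rfl⟩ : ∃ j, k = j + 2 := ⟨k - 2, by omega⟩
  have h := hasEvenAbelian_add (hasEvenAbelian_add hasEvenAbelian_four hasEvenAbelian_four)
    (hasEvenAbelian_three_mul j)
  have e1 : 4 + 4 + 3 * j = 3 * (j + 2) + 2 := by ring
  rw [e1] at h
  simpa using h

end Cfsg.Agent.Lib.Helper5.AbAlt
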