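import Mathlib
import Cfsg.Agent.Lib.Helper5.AbAltNum

set_option autoImplicit false

namespace Cfsg.Agent.Lib.Helper5.AbAlt

open Cfsg.Agent.Lib.Helper24

theorem gFun_pos : ∀ s, 0 < gFun s := by
  apply period_induction
  · intro s hs
    interval_cases s <;> simp [gFun]
  · intro s hs h
    rw [gFun_add_three s hs]; omega

theorem gFun_strict_step : ∀ s, 2 ≤ s → gFun s < gFun (s + 1) := by
  apply period_induction (P := fun s => 2 ≤ s → gFun s < gFun (s + 1))
  · intro s hs h2
    interval_cases s <;> simp [gFun]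
  · intro s hs h _
    have e1 : gFun (s + 3) = 3 * gFun s := gFun_add_three s hs
    have e2 : gFun (s + 3 + 1) = 3 * gFun (s + 1) := by
      have := gFun_add_three (s + 1) (by omega)
      rw [← this]
    rw [e1, e2]
    have := h (by omega)
    omega

theorem maxProd_lt_gFun_add_two : ∀ s, 1 ≤ s → maxProd s < gFun (s + 2) := by
  apply period_induction (P := fun s => 1 ≤ s → maxProd s < gFun (s + 2))
  · intro s hs h1
    interval_cases s <;> simp [gFun, maxProd]
  · intro s hs h _
    have e1 : maxProd (s + 3) = 3 * maxProd s := maxProd_add_three s (by omega)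
    have e2 : gFun (s + 3 + 2) = 3 * gFun (s + 2) := by
      have := gFun_add_three (s + 2) (by omega)
      rw [← this]
    rw [e1, e2]
    have := h (by omega)
    omega

/-- equality `3 * gFun s = gFun (s + 3)` fails exactly for `s = 1, 2, 5` -/
theorem three_mul_gFun_eq : ∀ s, 3 * gFun s = gFun (s + 3) → s ≠ 1 ∧ s ≠ 2 ∧ s ≠ 5 := by
  intro s h
  refine ⟨?_, ?_, ?_⟩ <;> rintro rfl <;> simp [gFun] at h

theorem four_mul_maxProd_eq : ∀ s, 4 * maxProd s = gFun (s + 4) →
    s % 3 ≠ 2 ∧ maxProd s = gFun s := by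
  apply period_induction
  · intro s hs h
    interval_cases s <;> simp [gFun, maxProd] at h ⊢
  · intro s hs ih h
    have e1 : maxProd (s + 3) = 3 * maxProd s := maxProd_add_three s (by omega)
    have e2 : gFun (s + 3 + 4) = 3 * gFun (s + 4) := by
      have := gFun_add_three (s + 4) (by omega)
      rw [← this]
    have e3 : gFun (s + 3) = 3 * gFun s := gFun_add_three s hs
    rw [e1, e2] at h
    have h' : 4 * maxProd s = gFun (s + 4) := by omega
    obtain ⟨h1, h2⟩ := ih h'
    refine ⟨by omega, ?_⟩
    rw [e1, e3, h2]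

theorem small_mul_maxProd_lt (m : ℕ) (hm5 : 5 ≤ m) (hm7 : m ≤ 7) :
    ∀ s, (m = 5 → 1 ≤ s) → m * maxProd s < gFun (m + s) := by
  apply period_induction (P := fun s => (m = 5 → 1 ≤ s) → m * maxProd s < gFun (m + s))
  · intro s hs h
    interval_cases m <;> interval_cases s <;> simp [gFun, maxProd] at h ⊢
  · intro s hs ih _
    have e1 : maxProd (s + 3) = 3 * maxProd s := maxProd_add_three s (by omega)
    have e2 : gFun (m + (s + 3)) = 3 * gFun (m + s) := by
      have := gFun_add_three (m + s) (by omega)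
      rw [← this]; rfl
    rw [e1, e2]
    have := ih (by omega)
    calc m * (3 * maxProd s) = 3 * (m * maxProd s) := by ring
      _ < 3 * gFun (m + s) := by omega

theorem mul_maxProd_lt_gFun (m : ℕ) (hm : 5 ≤ m) (s : ℕ) (h5 : m = 5 → 1 ≤ s) :
    m * maxProd s < gFun (m + s) := by
  induction m using Nat.strong_induction_on with
  | _ m ih =>
    rcases Nat.lt_or_ge m 8 with h | h
    · exact small_mul_maxProd_lt m hm (by omega) s h5
    · have ih' : (m - 3) * maxProd s ≤ gFun (m - 3 + s) :=
        mul_maxProd_le_gFun (m - 3) (by omega) s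
      have e : m + s = (m - 3 + s) + 3 := by omega
      have hpos := maxProd_pos s
      calc m * maxProd s < (3 * (m - 3)) * maxProd s :=
            Nat.mul_lt_mul_of_pos_right (by omega) hpos
        _ = 3 * ((m - 3) * maxProd s) := by ring
        _ ≤ 3 * gFun (m - 3 + s) := Nat.mul_le_mul_left _ ih'
        _ ≤ gFun ((m - 3 + s) + 3) := three_mul_gFun_le _
        _ = gFun (m + s) := by rw [e]

/-- for `n ≡ 0 mod 3` one has `gFun n = maxProd n`; in particular no room for a 4-orbit -/
theorem four_mul_maxProd_lt_of_mod (s : ℕ) (h : (s + 4) % 3 = 0) : 4 * maxProd s < gFun (s + 4) := by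
  have h1 := mul_maxProd_le_gFun 4 (le_refl 4) s
  rw [add_comm] at h1
  rcases Nat.lt_or_ge (4 * maxProd s) (gFun (s + 4)) with h2 | h2
  · exact h2
  · exfalso
    have h3 : 4 * maxProd s = gFun (s + 4) := le_antisymm h1 h2
    have := (four_mul_maxProd_eq s h3).1
    omega

end Cfsg.Agent.Lib.Helper5.AbAlt
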