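import Mathlib
import Cfsg.Agent.Lib.Helper5.AbConjNum
import Cfsg.Agent.Lib.Helper5.AbAltMain

set_option autoImplicit false
set_option linter.style.haveILetI false
set_option linter.unusedSectionVars false

namespace Cfsg.Agent.Lib.Helper5.AbAlt

open Cfsg.Agent.Lib.Helper24 Equiv

section peel

variable {Ω : Type} [Fintype Ω] [DecidableEq Ω]

/-- the orbit of `x` under `A` -/
def orb (A : Subgroup (Perm Ω)) (x : Ω) : Set Ω := {y | ∃ a ∈ A, a x = y}

theorem mem_orb (A : Subgroup (Perm Ω)) (x y : Ω) : y ∈ orb A x ↔ ∃ a ∈ A, a x = y := Iff.rfl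

theorem self_mem_orb (A : Subgroup (Perm Ω)) (x : Ω) : x ∈ orb A x := ⟨1, A.one_mem, rfl⟩

theorem orb_inv (A : Subgroup (Perm Ω)) (x : Ω) (a : Perm Ω) (ha : a ∈ A) (y : Ω) :
    a y ∈ orb A x ↔ y ∈ orb A x := by
  rw [mem_orb, mem_orb]
  constructor
  · rintro ⟨b, hb, hby⟩
    refine ⟨a⁻¹ * b, A.mul_mem (A.inv_mem ha) hb, ?_⟩
    rw [Perm.mul_apply, hby]
    simp
  · rintro ⟨b, hb, hby⟩
    refine ⟨a * b, A.mul_mem ha hb, ?_⟩
    rw [Perm.mul_apply, hby]

open Classical in
/-- restriction to the orbit -/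
noncomputable def rIn (A : Subgroup (Perm Ω)) (x : Ω) : A →* Perm {y // y ∈ orb A x} where
  toFun a := (a : Perm Ω).subtypePerm (fun y => orb_inv A x a a.2 y)
  map_one' := by ext y; rfl
  map_mul' a b := by ext y; rfl

open Classical in
/-- restriction to the complement of the orbit -/
noncomputable def rOut (A : Subgroup (Perm Ω)) (x : Ω) : A →* Perm {y // y ∉ orb A x} where
  toFun a := (a : Perm Ω).subtypePerm (fun y => not_congr (orb_inv A x a a.2 y))
  map_one' := by ext y; rfl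
  map_mul' a b := by ext y; rfl

theorem rIn_apply (A : Subgroup (Perm Ω)) (x : Ω) (a : A) (y : {y // y ∈ orb A x}) :
    ((rIn A x a) y : Ω) = (a : Perm Ω) y := rfl

theorem rOut_apply (A : Subgroup (Perm Ω)) (x : Ω) (a : A) (y : {y // y ∉ orb A x}) :
    ((rOut A x a) y : Ω) = (a : Perm Ω) y := rfl

variable (A : Subgroup (Perm Ω)) (hA : ∀ a ∈ A, ∀ b ∈ A, a * b = b * a) (x : Ω)

include hA in
/-- an element of an abelian group fixing a point of an orbit fixes the orbit pointwise -/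
theorem fix_orb (a : Perm Ω) (ha : a ∈ A) (y : Ω) (hy : y ∈ orb A x) (hay : a y = y)
    (z : Ω) (hz : z ∈ orb A x) : a z = z := by
  obtain ⟨b, hb, rfl⟩ := hy
  obtain ⟨c, hc, rfl⟩ := hz
  have h1 : a (c x) = (c * b⁻¹) (a (b x)) := by
    have e : a * (c * b⁻¹) = (c * b⁻¹) * a := hA _ ha _ (A.mul_mem hc (A.inv_mem hb))
    have : a (c x) = (a * (c * b⁻¹)) (b x) := by simp
    rw [this, e]; rfl
  rw [h1, hay]; simp

open Classical in
theorem eq_subtypeCongr (a : A) :
    (a : Perm Ω) = Perm.subtypeCongr (rIn A x a) (rOut A x a) := by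
  ext y
  by_cases hy : y ∈ orb A x
  · rw [Perm.subtypeCongr.left_apply _ _ hy]; rfl
  · rw [Perm.subtypeCongr.right_apply _ _ hy]; rfl

include hA in
theorem ker_rOut_inj (k : A) (hk : rOut A x k = 1) (hkx : (k : Perm Ω) x = x) : k = 1 := by
  apply Subtype.ext
  ext y
  by_cases hy : y ∈ orb A x
  · exact fix_orb A hA x k k.2 x (self_mem_orb A x) hkx y hy
  · have e1 := rOut_apply A x k ⟨y, hy⟩
    rw [hk] at e1
    simp only [Perm.coe_one, id_eq] at e1
    rw [← e1]; rfl

include hA in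
theorem card_ker_rOut_le : Nat.card (rOut A x).ker ≤ Nat.card (orb A x) := by
  have hmem : ∀ k : (rOut A x).ker, ((k : A) : Perm Ω) x ∈ orb A x := by
    intro k; exact ⟨_, (k : A).2, rfl⟩
  apply Nat.card_le_card_of_injective
    (fun k : (rOut A x).ker => (⟨((k : A) : Perm Ω) x, hmem k⟩ : orb A x))
  intro k k' hkk
  have hkx : ((k : A) : Perm Ω) x = ((k' : A) : Perm Ω) x := congrArg Subtype.val hkk
  have h1 : (k : A)⁻¹ * (k' : A) = 1 := by
    apply ker_rOut_inj A hA x
    · rw [map_mul, map_inv, (show rOut A x (k : A) = 1 from k.2),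
        (show rOut A x (k' : A) = 1 from k'.2)]
      simp
    · show ((k : A) : Perm Ω)⁻¹ (((k' : A) : Perm Ω) x) = x
      rw [← hkx]; simp
  apply Subtype.ext
  rw [inv_mul_eq_one] at h1
  exact h1

theorem card_split : Nat.card A = Nat.card (rOut A x).ker * Nat.card (rOut A x).range := by
  rw [← Subgroup.card_mul_index (rOut A x).ker, Subgroup.index_ker]

open Classical in
theorem card_orb_add : Nat.card (orb A x) + Fintype.card {y // y ∉ orb A x} = Fintype.card Ω := by
  have h1 : Fintype.card {y // y ∉ orb A x} = Fintype.card Ω - Fintype.card {y // y ∈ orb A x} :=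
    Fintype.card_subtype_compl _
  have h2 : Fintype.card {y // y ∈ orb A x} ≤ Fintype.card Ω := Fintype.card_subtype_le _
  have h3 : Nat.card (orb A x) = Fintype.card {y // y ∈ orb A x} := Nat.card_eq_fintype_card
  omega

theorem card_orb_pos : 1 ≤ Nat.card (orb A x) := by
  haveI : Nonempty (orb A x) := ⟨⟨x, self_mem_orb A x⟩⟩
  exact Nat.card_pos

include hA in
theorem range_rOut_comm : ∀ a ∈ (rOut A x).range, ∀ b ∈ (rOut A x).range, a * b = b * a := by
  rintro _ ⟨a, rfl⟩ _ ⟨b, rfl⟩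
  rw [← map_mul, ← map_mul]
  congr 1
  exact Subtype.ext (hA _ a.2 _ b.2)

include hA in
/-- the restriction of `A` to the orbit has at most `|O|` elements -/
theorem card_range_rIn_le : Nat.card (rIn A x).range ≤ Nat.card (orb A x) := by
  apply Nat.card_le_card_of_injective
    (fun σ : (rIn A x).range => (σ : Perm {y // y ∈ orb A x}) ⟨x, self_mem_orb A x⟩)
  rintro ⟨_, ⟨a, rfl⟩⟩ ⟨_, ⟨b, rfl⟩⟩ hab
  apply Subtype.ext
  have hx : (a : Perm Ω) x = (b : Perm Ω) x := congrArg Subtype.val hab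
  ext y
  show (a : Perm Ω) y = (b : Perm Ω) y
  have h1 : ((a : Perm Ω)⁻¹ * (b : Perm Ω)) y = y := by
    apply fix_orb A hA x _ (A.mul_mem (A.inv_mem a.2) b.2) x (self_mem_orb A x) _ y y.2
    rw [Perm.mul_apply, ← hx]; simp
  rw [Perm.mul_apply] at h1
  have := congrArg (a : Perm Ω) h1
  simpa using this.symm

include hA in
/-- when the kernel is as large as the orbit, it surjects onto the restriction to the orbit -/
theorem exists_ker_rIn_eq (hK : Nat.card (rOut A x).ker = Nat.card (orb A x)) (a : A) :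
    ∃ k : A, rOut A x k = 1 ∧ rIn A x k = rIn A x a := by
  have hle : (rOut A x).ker.map (rIn A x) ≤ (rIn A x).range := by
    rintro _ ⟨k, -, rfl⟩; exact ⟨k, rfl⟩
  have hinj : Function.Injective ((rIn A x).comp (rOut A x).ker.subtype) := by
    rw [injective_iff_map_eq_one]
    intro k hk
    have hk' : rIn A x (k : A) = 1 := hk
    have : (k : A) = 1 := by
      apply ker_rOut_inj A hA x _ k.2
      have := rIn_apply A x (k : A) ⟨x, self_mem_orb A x⟩
      rw [hk'] at this
      exact this.symm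
    exact Subtype.ext this
  have hcard : Nat.card ((rOut A x).ker.map (rIn A x)) = Nat.card (rOut A x).ker := by
    have : (rOut A x).ker.map (rIn A x) = ((rIn A x).comp (rOut A x).ker.subtype).range := by
      ext σ
      constructor
      · rintro ⟨k, hk, rfl⟩; exact ⟨⟨k, hk⟩, rfl⟩
      · rintro ⟨⟨k, hk⟩, rfl⟩; exact ⟨k, hk, rfl⟩
    rw [this]
    exact Nat.card_congr (MonoidHom.ofInjective hinj).symm.toEquiv
  have heq : (rOut A x).ker.map (rIn A x) = (rIn A x).range := by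
    apply Subgroup.eq_of_le_of_card_ge hle
    rw [hcard, hK]
    exact card_range_rIn_le A hA x
  have : rIn A x a ∈ (rOut A x).ker.map (rIn A x) := by rw [heq]; exact ⟨a, rfl⟩
  obtain ⟨k, hk, hka⟩ := this
  exact ⟨k, hk, hka⟩

open Classical in
include hA in
/-- decomposition of `A` as a product over the orbit and its complement -/
theorem mem_iff_subtypeCongr (hK : Nat.card (rOut A x).ker = Nat.card (orb A x)) (b : Perm Ω) :
    b ∈ A ↔ ∃ σ ∈ (rIn A x).range, ∃ τ ∈ (rOut A x).range, b = Perm.subtypeCongr σ τ := by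
  constructor
  · intro hb
    exact ⟨_, ⟨⟨b, hb⟩, rfl⟩, _, ⟨⟨b, hb⟩, rfl⟩, eq_subtypeCongr A x ⟨b, hb⟩⟩
  · rintro ⟨_, ⟨a₁, rfl⟩, _, ⟨a₂, rfl⟩, rfl⟩
    obtain ⟨k₁, hk₁, hk₁'⟩ := exists_ker_rIn_eq A hA x hK a₁
    obtain ⟨k₂, hk₂, hk₂'⟩ := exists_ker_rIn_eq A hA x hK a₂
    have h1 : Perm.subtypeCongr (rIn A x a₁) (rOut A x a₂)
        = ((k₁ * (a₂ * k₂⁻¹) : A) : Perm Ω) := by
      rw [eq_subtypeCongr A x (k₁ * (a₂ * k₂⁻¹))]
      congr 1
      · rw [map_mul, map_mul, map_inv, hk₁', hk₂']; simp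
      · rw [map_mul, map_mul, map_inv, hk₁, hk₂]; simp
    rw [h1]
    exact (k₁ * (a₂ * k₂⁻¹)).2

end peel

end Cfsg.Agent.Lib.Helper5.AbAlt
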