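import Mathlib
import Cfsg.Agent.Lib.Helper5.AbConjPeel

set_option autoImplicit false
set_option linter.style.haveILetI false
set_option linter.unusedSectionVars false

namespace Cfsg.Agent.Lib.Helper5.AbAlt

open Cfsg.Agent.Lib.Helper24 Equiv

section peel2

variable {Ω : Type} [Fintype Ω] [DecidableEq Ω]
variable (A : Subgroup (Perm Ω)) (hA : ∀ a ∈ A, ∀ b ∈ A, a * b = b * a) (x : Ω)

include hA in
theorem range_noswap_of_odd (hns : ∀ a ∈ A, ¬ a.IsSwap) (hodd : Odd (Nat.card (orb A x))) :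
    ∀ r ∈ (rOut A x).range, ¬ r.IsSwap := by
  rintro _ ⟨a, rfl⟩ ⟨u, v, huv, hsw⟩
  apply hns ((a : Perm Ω) ^ Nat.card (orb A x)) (A.pow_mem a.2 _)
  refine ⟨u.1, v.1, fun h => huv (Subtype.ext h), ?_⟩
  have hpow : rOut A x (a ^ Nat.card (orb A x)) = swap u v := by
    rw [map_pow, hsw]
    obtain ⟨j, hj⟩ := hodd
    have hsq : swap u v ^ 2 = 1 := by rw [pow_two, swap_mul_self]
    rw [hj, pow_succ, pow_mul, hsq, one_pow, one_mul]
  ext y
  by_cases hy : y ∈ orb A x
  · rw [pow_card_orbit_fix A hA x (orb A x) (mem_orb A x) a a.2 y hy]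
    have h1 : y ≠ u.1 := fun h => u.2 (h ▸ hy)
    have h2 : y ≠ v.1 := fun h => v.2 (h ▸ hy)
    rw [swap_apply_of_ne_of_ne h1 h2]
  · have e1 := rOut_apply A x (a ^ Nat.card (orb A x)) ⟨y, hy⟩
    rw [hpow] at e1
    have e3 : ((a : Perm Ω) ^ Nat.card (orb A x)) y
        = ((swap u v) ⟨y, hy⟩ : {y // y ∉ orb A x}).1 := e1.symm
    rw [e3]
    by_cases h1 : y = u.1
    · have hu : (⟨y, hy⟩ : {y // y ∉ orb A x}) = u := Subtype.ext h1
      rw [hu, swap_apply_left, h1, swap_apply_left]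
    · by_cases h2 : y = v.1
      · have hv : (⟨y, hy⟩ : {y // y ∉ orb A x}) = v := Subtype.ext h2
        rw [hv, swap_apply_right, h2, swap_apply_right]
      · have h1' : (⟨y, hy⟩ : {y // y ∉ orb A x}) ≠ u := fun h => h1 (congrArg Subtype.val h)
        have h2' : (⟨y, hy⟩ : {y // y ∉ orb A x}) ≠ v := fun h => h2 (congrArg Subtype.val h)
        rw [swap_apply_of_ne_of_ne h1' h2', swap_apply_of_ne_of_ne h1 h2]

include hA in
theorem ker_eq_bot_of_card_two (hns : ∀ a ∈ A, ¬ a.IsSwap) (hm : Nat.card (orb A x) = 2) :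
    (rOut A x).ker = ⊥ := by
  rw [eq_bot_iff]
  intro k hk
  rw [Subgroup.mem_bot]
  rw [MonoidHom.mem_ker] at hk
  by_contra hk1
  have hxO := self_mem_orb A x
  have hkx : (k : Perm Ω) x ≠ x := fun h => hk1 (ker_rOut_inj A hA x k hk h)
  apply hns (k : Perm Ω) k.2
  have hx' : (k : Perm Ω) x ∈ orb A x := ⟨_, k.2, rfl⟩
  have hO2 : (orb A x).ncard = 2 := by rw [← Nat.card_coe_set_eq]; exact hm
  obtain ⟨p, q, hpq, hOpq⟩ := Set.ncard_eq_two.1 hO2
  have hall : ∀ y ∈ orb A x, y = x ∨ y = (k : Perm Ω) x := by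
    intro y hy
    rw [hOpq] at hy hxO hx'
    simp only [Set.mem_insert_iff, Set.mem_singleton_iff] at hy hxO hx'
    rcases hy with rfl | rfl <;> rcases hxO with h1 | h1 <;> rcases hx' with h2 | h2
    all_goals first
      | (left; exact h1.symm)
      | (right; exact h2.symm)
      | (exfalso; apply hkx; rw [h2, ← h1])
  have hkk : (k : Perm Ω) ((k : Perm Ω) x) = x := by
    have h1 : (k : Perm Ω) ((k : Perm Ω) x) ∈ orb A x := (orb_inv A x _ k.2 _).2 hx'
    rcases hall _ h1 with h | h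
    · exact h
    · exfalso
      exact hkx ((k : Perm Ω).injective h)
  refine ⟨x, (k : Perm Ω) x, fun h => hkx h.symm, ?_⟩
  ext y
  by_cases hy : y ∈ orb A x
  · rcases hall y hy with rfl | rfl
    · rw [swap_apply_left]
    · rw [swap_apply_right, hkk]
  · have e1 := rOut_apply A x k ⟨y, hy⟩
    rw [hk] at e1
    simp only [Perm.coe_one, id_eq] at e1
    rw [← e1]
    have h1 : y ≠ x := fun h => hy (h ▸ hxO)
    have h2 : y ≠ (k : Perm Ω) x := fun h => hy (h ▸ hx')
    rw [swap_apply_of_ne_of_ne h1 h2]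

open Classical in
include hA in
theorem range_even (heven : ∀ a ∈ A, Perm.sign a = 1)
    (hK : Nat.card (rOut A x).ker = Nat.card (orb A x)) :
    ∀ r ∈ (rOut A x).range, Perm.sign r = 1 := by
  rintro _ ⟨a, rfl⟩
  obtain ⟨k, hk, hk'⟩ := exists_ker_rIn_eq A hA x hK a
  have h1 := heven _ (a * k⁻¹).2
  rw [eq_subtypeCongr A x (a * k⁻¹), Perm.sign_subtypeCongr] at h1
  simp only [map_mul, map_inv, hk, hk'] at h1
  simpa using h1

end peel2

/-- extremal even abelian permutation groups -/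
structure Ext {Ω : Type} [Fintype Ω] [DecidableEq Ω] (A : Subgroup (Perm Ω)) : Prop where
  comm : ∀ a ∈ A, ∀ b ∈ A, a * b = b * a
  even : ∀ a ∈ A, Perm.sign a = 1
  card : Nat.card A = gFun (Fintype.card Ω)

theorem Ext.noswap {Ω : Type} [Fintype Ω] [DecidableEq Ω] {A : Subgroup (Perm Ω)} (h : Ext A) :
    ∀ a ∈ A, ¬ a.IsSwap := by
  rintro a ha ⟨u, v, huv, rfl⟩
  have := h.even _ ha
  rw [Perm.sign_swap huv] at this
  exact absurd this (by decide)

open Classical in
/-- the structure of an extremal group relative to the orbit of a point -/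
theorem Ext.peel {Ω : Type} [Fintype Ω] [DecidableEq Ω] {A : Subgroup (Perm Ω)} (h : Ext A)
    (hn3 : 3 ≤ Fintype.card Ω) (hn5 : Fintype.card Ω ≠ 5) (x : Ω) :
    (Nat.card (orb A x) = 3 ∨ Nat.card (orb A x) = 4) ∧
    Nat.card (rOut A x).ker = Nat.card (orb A x) ∧
    Ext (rOut A x).range ∧
    (Nat.card (orb A x) = 4 → Fintype.card Ω % 3 ≠ 0) ∧
    (Nat.card (orb A x) = 3 → Fintype.card {y // y ∉ orb A x} ≠ 1 ∧
      Fintype.card {y // y ∉ orb A x} ≠ 2 ∧ Fintype.card {y // y ∉ orb A x} ≠ 5) := by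
  have hA := h.comm
  have hsplit := card_split A x
  have hker := card_ker_rOut_le A hA x
  have hadd := card_orb_add A x
  have hpos := card_orb_pos A x
  have hcomm := range_rOut_comm A hA x
  have hRmax : Nat.card (rOut A x).range ≤ maxProd (Fintype.card {y // y ∉ orb A x}) :=
    card_le_maxProd_aux _ {y // y ∉ orb A x} rfl _ hcomm
  have hRpos : 0 < Nat.card (rOut A x).range := Nat.card_pos
  have hcardA := h.card
  obtain ⟨m, hm⟩ : ∃ m, Nat.card (orb A x) = m := ⟨_, rfl⟩
  obtain ⟨s, hs⟩ : ∃ s, Fintype.card {y // y ∉ orb A x} = s := ⟨_, rfl⟩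
  obtain ⟨K, hK⟩ : ∃ K, Nat.card (rOut A x).ker = K := ⟨_, rfl⟩
  obtain ⟨R, hR⟩ : ∃ R, Nat.card (rOut A x).range = R := ⟨_, rfl⟩
  rw [hm, hs] at hadd
  rw [hK, hR] at hsplit
  rw [hK, hm] at hker
  rw [hm] at hpos
  rw [hR, hs] at hRmax
  rw [hR] at hRpos
  rw [← hadd, hsplit] at hcardA
  -- the transposition-free bound for odd orbits
  have hRodd : Odd m → R ≤ gFun s := by
    intro hodd
    rw [← hR, ← hs]
    exact card_le_gFun_aux _ {y // y ∉ orb A x} rfl _ hcomm
      (range_noswap_of_odd A hA x h.noswap (by rw [hm]; exact hodd))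
  have hKR : K * R ≤ m * R := Nat.mul_le_mul_right _ hker
  -- main case analysis
  have hcases : (m = 3 ∧ K = 3 ∧ R = gFun s ∧ 3 * gFun s = gFun (3 + s)) ∨
      (m = 4 ∧ K = 4 ∧ R = maxProd s ∧ 4 * maxProd s = gFun (4 + s)) := by
    rcases Nat.lt_or_ge m 5 with h5 | h5
    · interval_cases m
      · -- m = 1
        exfalso
        have h1 := hRodd (by decide)
        have h2 := gFun_strict_step s (by omega)
        rw [add_comm] at h2
        have : K * R ≤ R := by simpa using hKR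
        omega
      · -- m = 2
        exfalso
        have hbot := ker_eq_bot_of_card_two A hA x h.noswap hm
        have hK1 : K = 1 := by rw [← hK, hbot, Subgroup.card_bot]
        have h2 := maxProd_lt_gFun_add_two s (by omega)
        rw [add_comm] at h2
        rw [hK1, one_mul] at hcardA
        omega
      · -- m = 3
        left
        have h1 := hRodd (by decide)
        have h2 := three_mul_gFun_le s
        rw [add_comm] at h2
        have h3 : 3 * R ≤ 3 * gFun s := Nat.mul_le_mul_left _ h1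
        have hKe : K * R = 3 * R := by omega
        have hK3 : K = 3 := Nat.eq_of_mul_eq_mul_right hRpos hKe
        refine ⟨rfl, hK3, by omega, by omega⟩
      · -- m = 4
        right
        have h2 := mul_maxProd_le_gFun 4 (le_refl 4) s
        have h3 : 4 * R ≤ 4 * maxProd s := Nat.mul_le_mul_left _ hRmax
        have hKe : K * R = 4 * R := by omega
        have hK4 : K = 4 := Nat.eq_of_mul_eq_mul_right hRpos hKe
        refine ⟨rfl, hK4, by omega, by omega⟩
    · exfalso
      have h2 := mul_maxProd_lt_gFun m h5 s (by omega)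
      have h3 : m * R ≤ m * maxProd s := Nat.mul_le_mul_left _ hRmax
      omega
  rcases hcases with ⟨hm3, hK3, hRg, heq⟩ | ⟨hm4, hK4, hRg, heq⟩
  · have hKm : Nat.card (rOut A x).ker = Nat.card (orb A x) := by rw [hK, hm, hK3, hm3]
    refine ⟨Or.inl (hm.trans hm3), hKm, ⟨hcomm, range_even A hA x h.even hKm, ?_⟩, ?_, ?_⟩
    · rw [hR, hRg, hs]
    · intro h4; omega
    · intro _
      rw [add_comm] at heq
      rw [hs]
      exact three_mul_gFun_eq s heq
  · have hKm : Nat.card (rOut A x).ker = Nat.card (orb A x) := by rw [hK, hm, hK4, hm4]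
    rw [add_comm] at heq
    obtain ⟨hmod, hmg⟩ := four_mul_maxProd_eq s heq
    refine ⟨Or.inr (hm.trans hm4), hKm, ⟨hcomm, range_even A hA x h.even hKm, ?_⟩, ?_, ?_⟩
    · rw [hR, hRg, hs, hmg]
    · intro _; omega
    · intro h3; omega

end Cfsg.Agent.Lib.Helper5.AbAlt
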