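import Mathlib
import Cfsg.Agent.Lib.Helper5.AbConjExt

set_option autoImplicit false
set_option linter.style.haveILetI false
set_option linter.unusedSectionVars false

namespace Cfsg.Agent.Lib.Helper5.AbAlt

open Cfsg.Agent.Lib.Helper24 Equiv

/-- orbits of the restricted group on the complement are orbits of the group -/
theorem card_orb_rOut {Ω : Type} [Fintype Ω] [DecidableEq Ω] (A : Subgroup (Perm Ω)) (x : Ω)
    (y : Ω) (hy : y ∉ orb A x) :
    Nat.card (orb (rOut A x).range (⟨y, hy⟩ : {y // y ∉ orb A x})) = Nat.card (orb A y) := by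
  have hmem : ∀ z' : orb (rOut A x).range (⟨y, hy⟩ : {y // y ∉ orb A x}),
      ((z' : {y // y ∉ orb A x}) : Ω) ∈ orb A y := by
    rintro ⟨z', ⟨_, ⟨a, rfl⟩, rfl⟩⟩
    exact ⟨a, a.2, rfl⟩
  apply Nat.card_eq_of_bijective
    (fun z' : orb (rOut A x).range (⟨y, hy⟩ : {y // y ∉ orb A x}) =>
      (⟨((z' : {y // y ∉ orb A x}) : Ω), hmem z'⟩ : orb A y))
  constructor
  · intro z₁ z₂ h
    apply Subtype.ext
    apply Subtype.ext
    have := congrArg Subtype.val h
    exact this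
  · rintro ⟨z, ⟨a, ha, rfl⟩⟩
    have hz : a y ∉ orb A x := fun h => hy ((orb_inv A x a ha y).1 h)
    refine ⟨⟨⟨a y, hz⟩, ⟨rOut A x ⟨a, ha⟩, ⟨⟨a, ha⟩, rfl⟩, ?_⟩⟩, rfl⟩
    apply Subtype.ext
    rfl

/-- an extremal group of degree not divisible by three has an orbit of size four -/
theorem exists_orb_four : ∀ (n : ℕ) (Ω : Type) [Fintype Ω] [DecidableEq Ω],
    Fintype.card Ω = n → ∀ A : Subgroup (Perm Ω), Ext A → 3 ≤ n → n ≠ 5 → n % 3 ≠ 0 →
    ∃ x : Ω, Nat.card (orb A x) = 4 := by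
  intro n
  induction n using Nat.strong_induction_on with
  | _ n ih =>
    intro Ω _ _ hcard A hExt hn3 hn5 hmod
    classical
    have hne : Nonempty Ω := by
      rw [← Fintype.card_pos_iff, hcard]; omega
    obtain ⟨x⟩ := hne
    obtain ⟨h34, hK, hExt', h4, h3⟩ := hExt.peel (by omega) (by omega) x
    rcases h34 with hm3 | hm4
    · obtain ⟨hs1, hs2, hs5⟩ := h3 hm3
      have hadd := card_orb_add A x
      rw [hm3, hcard] at hadd
      obtain ⟨⟨y, hy⟩, hy4⟩ := ih (Fintype.card {y // y ∉ orb A x}) (by omega)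
        {y // y ∉ orb A x} rfl _ hExt' (by omega) hs5 (by omega)
      rw [card_orb_rOut] at hy4
      exact ⟨y, hy4⟩
    · exact ⟨x, hm4⟩

theorem orb_three_of_mod {Ω : Type} [Fintype Ω] [DecidableEq Ω] {A : Subgroup (Perm Ω)}
    (h : Ext A) (hn3 : 3 ≤ Fintype.card Ω) (hmod : Fintype.card Ω % 3 = 0) (x : Ω) :
    Nat.card (orb A x) = 3 := by
  obtain ⟨h34, -, -, h4, -⟩ := h.peel hn3 (by omega) x
  rcases h34 with h3 | h4'
  · exact h3
  · exact absurd hmod (h4 h4')

end Cfsg.Agent.Lib.Helper5.AbAlt
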