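import Mathlib
import Cfsg.Agent.Lib.Helper5.AbConjOrb

set_option autoImplicit false
set_option linter.style.haveILetI false
set_option linter.unusedSectionVars false

namespace Cfsg.Agent.Lib.Helper5.AbAlt

open Cfsg.Agent.Lib.Helper24 Equiv

/-- the canonical regular even group: even permutations that are trivial or fixed-point-free -/
def canSet (α : Type) [Fintype α] [DecidableEq α] : Finset (Perm α) :=
  Finset.univ.filter (fun σ => Perm.sign σ = 1 ∧ (σ = 1 ∨ ∀ y, σ y ≠ y))

theorem mem_canSet {α : Type} [Fintype α] [DecidableEq α] (σ : Perm α) :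
    σ ∈ canSet α ↔ Perm.sign σ = 1 ∧ (σ = 1 ∨ ∀ y, σ y ≠ y) := by
  simp [canSet]

theorem card_canSet_fin3 : (canSet (Fin 3)).card = 3 := by decide
theorem card_canSet_fin4 : (canSet (Fin 4)).card = 4 := by decide

theorem mem_canSet_congr {α β : Type} [Fintype α] [DecidableEq α] [Fintype β] [DecidableEq β]
    (e : α ≃ β) (σ : Perm α) : e.permCongr σ ∈ canSet β ↔ σ ∈ canSet α := by
  rw [mem_canSet, mem_canSet, Perm.sign_permCongr]
  apply and_congr Iff.rfl
  apply or_congr
  · constructor
    · intro h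
      ext y
      have := congrArg (fun τ : Perm β => τ (e y)) h
      simp only [Equiv.permCongr_apply, Equiv.symm_apply_apply, Perm.coe_one, id_eq] at this
      exact e.injective this
    · rintro rfl
      ext z
      simp [Equiv.permCongr_apply]
  · constructor
    · intro h y hy
      apply h (e y)
      rw [Equiv.permCongr_apply, Equiv.symm_apply_apply, hy]
    · intro h z hz
      apply h (e.symm z)
      rw [Equiv.permCongr_apply] at hz
      exact e.injective (by rw [hz, Equiv.apply_symm_apply])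

theorem card_canSet_congr {α β : Type} [Fintype α] [DecidableEq α] [Fintype β] [DecidableEq β]
    (e : α ≃ β) : (canSet α).card = (canSet β).card := by
  apply Finset.card_bij (fun σ _ => e.permCongr σ)
  · intro σ hσ; exact (mem_canSet_congr e σ).2 hσ
  · intro σ _ τ _ h; exact e.permCongr.injective h
  · intro τ hτ
    refine ⟨e.symm.permCongr τ, ?_, ?_⟩
    · rw [← mem_canSet_congr e]
      convert hτ using 1
      ext z; simp [Equiv.permCongr_apply]
    · ext z; simp [Equiv.permCongr_apply]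

theorem card_canSet {α : Type} [Fintype α] [DecidableEq α]
    (h : Fintype.card α = 3 ∨ Fintype.card α = 4) : (canSet α).card = Fintype.card α := by
  rcases h with h | h
  · rw [card_canSet_congr (Fintype.equivFinOfCardEq h), card_canSet_fin3, h]
  · rw [card_canSet_congr (Fintype.equivFinOfCardEq h), card_canSet_fin4, h]

section glue

variable {Ω Ω' : Type} (p : Ω → Prop) (q : Ω' → Prop) [DecidablePred p] [DecidablePred q]
  (f₁ : {a // p a} ≃ {b // q b}) (f₀ : {a // ¬ p a} ≃ {b // ¬ q b})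

/-- glue two bijections along complementary subtypes -/
def glue : Ω ≃ Ω' :=
  (Equiv.sumCompl p).symm.trans ((Equiv.sumCongr f₁ f₀).trans (Equiv.sumCompl q))

theorem glue_apply_pos (y : Ω) (h : p y) : glue p q f₁ f₀ y = (f₁ ⟨y, h⟩ : Ω') := by
  simp [glue, Equiv.sumCompl_symm_apply_of_pos h]

theorem glue_apply_neg (y : Ω) (h : ¬ p y) : glue p q f₁ f₀ y = (f₀ ⟨y, h⟩ : Ω') := by
  simp [glue, Equiv.sumCompl_symm_apply_of_neg h]

theorem glue_symm_apply_pos (z : Ω') (h : q z) :
    (glue p q f₁ f₀).symm z = (f₁.symm ⟨z, h⟩ : Ω) := by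
  simp [glue, Equiv.sumCompl_symm_apply_of_pos h]

theorem glue_symm_apply_neg (z : Ω') (h : ¬ q z) :
    (glue p q f₁ f₀).symm z = (f₀.symm ⟨z, h⟩ : Ω) := by
  simp [glue, Equiv.sumCompl_symm_apply_of_neg h]

theorem glue_conj (σ : Perm {a // p a}) (τ : Perm {a // ¬ p a}) :
    (glue p q f₁ f₀).permCongr (Perm.subtypeCongr σ τ)
      = Perm.subtypeCongr (f₁.permCongr σ) (f₀.permCongr τ) := by
  ext z
  rw [Equiv.permCongr_apply]
  by_cases hz : q z
  · rw [glue_symm_apply_pos p q f₁ f₀ z hz, Perm.subtypeCongr.left_apply _ _ hz,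
      Perm.subtypeCongr.left_apply _ _ (f₁.symm ⟨z, hz⟩).2,
      glue_apply_pos p q f₁ f₀ _ (σ ⟨_, (f₁.symm ⟨z, hz⟩).2⟩).2]
    rfl
  · rw [glue_symm_apply_neg p q f₁ f₀ z hz, Perm.subtypeCongr.right_apply _ _ hz,
      Perm.subtypeCongr.right_apply _ _ (f₀.symm ⟨z, hz⟩).2,
      glue_apply_neg p q f₁ f₀ _ (τ ⟨_, (f₀.symm ⟨z, hz⟩).2⟩).2]
    rfl

end glue

end Cfsg.Agent.Lib.Helper5.AbAlt
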