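import Mathlib
import Cfsg.Agent.Lib.Helper5.AbConjGlue

set_option autoImplicit false
set_option linter.style.haveILetI false
set_option linter.unusedSectionVars false

namespace Cfsg.Agent.Lib.Helper5.AbAlt

open Cfsg.Agent.Lib.Helper24 Equiv

open Classical in
/-- the restriction of an extremal group to an orbit (of size 3 or 4) is the canonical group -/
theorem mem_range_rIn_iff {Ω : Type} [Fintype Ω] [DecidableEq Ω] {A : Subgroup (Perm Ω)}
    (h : Ext A) (x : Ω) (hK : Nat.card (rOut A x).ker = Nat.card (orb A x))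
    (h34 : Nat.card (orb A x) = 3 ∨ Nat.card (orb A x) = 4)
    (σ : Perm {y // y ∈ orb A x}) :
    σ ∈ (rIn A x).range ↔ σ ∈ canSet {y // y ∈ orb A x} := by
  have hA := h.comm
  have hsub : ∀ τ ∈ (rIn A x).range, τ ∈ canSet {y // y ∈ orb A x} := by
    rintro _ ⟨a, rfl⟩
    obtain ⟨k, hk, hk'⟩ := exists_ker_rIn_eq A hA x hK a
    rw [← hk', mem_canSet]
    constructor
    · have h1 := h.even _ k.2
      rw [eq_subtypeCongr A x k, Perm.sign_subtypeCongr, hk] at h1
      simpa using h1
    · by_cases h1 : rIn A x k = 1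
      · left; exact h1
      · right
        intro y hy
        apply h1
        have hfix : (k : Perm Ω) y.1 = y.1 := congrArg Subtype.val hy
        ext z
        exact fix_orb A hA x k k.2 y.1 y.2 hfix z.1 z.2
  have hcardO : Fintype.card {y // y ∈ orb A x} = Nat.card (orb A x) :=
    Nat.card_eq_fintype_card.symm
  have hcan : (canSet {y // y ∈ orb A x}).card = Nat.card (orb A x) := by
    rw [card_canSet (by rw [hcardO]; exact h34), hcardO]
  -- the range has at least `|O|` elements
  have hge : Nat.card (orb A x) ≤ Nat.card (rIn A x).range := by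
    rw [← hK]
    apply Nat.card_le_card_of_injective
      (fun k : (rOut A x).ker => (⟨rIn A x (k : A), ⟨(k : A), rfl⟩⟩ : (rIn A x).range))
    intro k k' hkk
    have h1 : rIn A x (k : A) = rIn A x (k' : A) := congrArg Subtype.val hkk
    have h2 : (k : A)⁻¹ * (k' : A) = 1 := by
      apply ker_rOut_inj A hA x
      · rw [map_mul, map_inv, (show rOut A x (k : A) = 1 from k.2),
          (show rOut A x (k' : A) = 1 from k'.2)]
        simp
      · have h3 : rIn A x ((k : A)⁻¹ * (k' : A)) = 1 := by
          rw [map_mul, map_inv, h1]; simp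
        have := rIn_apply A x ((k : A)⁻¹ * (k' : A)) ⟨x, self_mem_orb A x⟩
        rw [h3] at this
        exact this.symm
    apply Subtype.ext
    rw [inv_mul_eq_one] at h2
    exact h2
  let S : Finset (Perm {y // y ∈ orb A x}) := Finset.univ.filter (fun τ => τ ∈ (rIn A x).range)
  have hS : S ⊆ canSet {y // y ∈ orb A x} := by
    intro τ hτ
    exact hsub τ (by simpa [S] using hτ)
  have hScard : Nat.card (rIn A x).range = S.card := by
    rw [Nat.card_eq_fintype_card, Fintype.card_subtype]
  have hSeq : S = canSet {y // y ∈ orb A x} :=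
    Finset.eq_of_subset_of_card_le hS (by rw [hcan, ← hScard]; exact hge)
  rw [← hSeq]
  simp [S]

/-- conjugacy by a bijection -/
def ConjTo {Ω Ω' : Type} (A : Subgroup (Perm Ω)) (B : Subgroup (Perm Ω')) : Prop :=
  ∃ f : Ω ≃ Ω', ∀ σ, σ ∈ A ↔ f.permCongr σ ∈ B

theorem permCongr_eq_one_iff {Ω Ω' : Type} (f : Ω ≃ Ω') (σ : Perm Ω) :
    f.permCongr σ = 1 ↔ σ = 1 := by
  constructor
  · intro h
    apply f.permCongr.injective
    rw [h]
    ext z; simp [Equiv.permCongr_apply]
  · rintro rfl
    ext z; simp [Equiv.permCongr_apply]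

open Classical in
/-- the common step: matching orbits of the same size 3 or 4 -/
theorem conj_step {Ω Ω' : Type} [Fintype Ω] [DecidableEq Ω] [Fintype Ω'] [DecidableEq Ω']
    {A : Subgroup (Perm Ω)} {B : Subgroup (Perm Ω')} (hA : Ext A) (hB : Ext B)
    (x : Ω) (x' : Ω')
    (hKA : Nat.card (rOut A x).ker = Nat.card (orb A x))
    (hKB : Nat.card (rOut B x').ker = Nat.card (orb B x'))
    (h34 : Nat.card (orb A x) = 3 ∨ Nat.card (orb A x) = 4)
    (hsame : Nat.card (orb A x) = Nat.card (orb B x'))
    (hrec : ConjTo (rOut A x).range (rOut B x').range) : ConjTo A B := by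
  obtain ⟨f₀, hf₀⟩ := hrec
  have hcard : Fintype.card {y // y ∈ orb A x} = Fintype.card {y // y ∈ orb B x'} := by
    rw [← Nat.card_eq_fintype_card, ← Nat.card_eq_fintype_card]
    exact hsame
  let f₁ : {y // y ∈ orb A x} ≃ {y // y ∈ orb B x'} := Fintype.equivOfCardEq hcard
  refine ⟨glue (· ∈ orb A x) (· ∈ orb B x') f₁ f₀, ?_⟩
  intro σ
  rw [mem_iff_subtypeCongr A hA.comm x hKA]
  rw [mem_iff_subtypeCongr B hB.comm x' hKB]
  have h34' : Nat.card (orb B x') = 3 ∨ Nat.card (orb B x') = 4 := by rw [← hsame]; exact h34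
  constructor
  · rintro ⟨σ₁, hσ₁, τ, hτ, rfl⟩
    refine ⟨f₁.permCongr σ₁, ?_, f₀.permCongr τ, (hf₀ τ).1 hτ, glue_conj _ _ f₁ f₀ σ₁ τ⟩
    rw [mem_range_rIn_iff hB x' hKB h34', mem_canSet_congr]
    exact (mem_range_rIn_iff hA x hKA h34 σ₁).1 hσ₁
  · rintro ⟨σ₁', hσ₁', τ', hτ', hστ⟩
    have e1 : f₁.permCongr (f₁.symm.permCongr σ₁') = σ₁' := by
      ext z; simp [Equiv.permCongr_apply]
    have e0 : f₀.permCongr (f₀.symm.permCongr τ') = τ' := by
      ext z; simp [Equiv.permCongr_apply]
    refine ⟨f₁.symm.permCongr σ₁', ?_, f₀.symm.permCongr τ', ?_, ?_⟩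
    · rw [mem_range_rIn_iff hA x hKA h34, ← mem_canSet_congr f₁, e1]
      exact (mem_range_rIn_iff hB x' hKB h34' σ₁').1 hσ₁'
    · rw [hf₀, e0]; exact hτ'
    · apply (glue (· ∈ orb A x) (· ∈ orb B x') f₁ f₀).permCongr.injective
      rw [hστ, glue_conj, e1, e0]

/-- two extremal groups of the same degree `≠ 5` are conjugate by a bijection -/
theorem conj_ext : ∀ (n : ℕ) (Ω Ω' : Type) [Fintype Ω] [DecidableEq Ω] [Fintype Ω']
    [DecidableEq Ω'], Fintype.card Ω = n → Fintype.card Ω' = n → n ≠ 5 →
    ∀ (A : Subgroup (Perm Ω)) (B : Subgroup (Perm Ω')), Ext A → Ext B → ConjTo A B := by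
  intro n
  induction n using Nat.strong_induction_on with
  | _ n ih =>
    intro Ω Ω' _ _ _ _ hc hc' hn5 A B hA hB
    classical
    rcases Nat.lt_or_ge n 3 with hlt | hge
    · -- trivial groups
      have hA1 : Nat.card A = 1 := by
        rw [hA.card, hc]; interval_cases n <;> simp [gFun]
      have hB1 : Nat.card B = 1 := by
        rw [hB.card, hc']; interval_cases n <;> simp [gFun]
      have hAbot : A = ⊥ := Subgroup.card_eq_one.1 hA1
      have hBbot : B = ⊥ := Subgroup.card_eq_one.1 hB1
      refine ⟨Fintype.equivOfCardEq (hc.trans hc'.symm), ?_⟩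
      intro σ
      rw [hAbot, hBbot, Subgroup.mem_bot, Subgroup.mem_bot, permCongr_eq_one_iff]
    · have hne : Nonempty Ω := by rw [← Fintype.card_pos_iff, hc]; omega
      have hne' : Nonempty Ω' := by rw [← Fintype.card_pos_iff, hc']; omega
      -- choose matching points
      obtain ⟨x, x', hsame⟩ : ∃ (x : Ω) (x' : Ω'), Nat.card (orb A x) = Nat.card (orb B x') := by
        by_cases hmod : n % 3 = 0
        · obtain ⟨x⟩ := hne
          obtain ⟨x'⟩ := hne'
          refine ⟨x, x', ?_⟩
          rw [orb_three_of_mod hA (by omega) (by omega) x,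
            orb_three_of_mod hB (by omega) (by omega) x']
        · obtain ⟨x, hx⟩ := exists_orb_four n Ω hc A hA hge hn5 hmod
          obtain ⟨x', hx'⟩ := exists_orb_four n Ω' hc' B hB hge hn5 hmod
          exact ⟨x, x', by rw [hx, hx']⟩
      obtain ⟨h34, hKA, hExtA, h4A, h3A⟩ := hA.peel (by omega) (by omega) x
      obtain ⟨-, hKB, hExtB, -, -⟩ := hB.peel (by omega) (by omega) x'
      have haddA := card_orb_add A x
      have haddB := card_orb_add B x'
      apply conj_step hA hB x x' hKA hKB h34 hsame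
      apply ih (Fintype.card {y // y ∉ orb A x}) _ _ _ rfl _ _ _ _ hExtA hExtB
      · have := card_orb_pos A x
        omega
      · omega
      · rcases h34 with h3 | h4
        · exact (h3A h3).2.2
        · have := h4A h4
          omega

end Cfsg.Agent.Lib.Helper5.AbAlt
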