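import Mathlib
import Cfsg.Agent.Lib.Helper5.AbConjMain
import Cfsg.Agent.Lib.Helper5.AbAltExist

set_option autoImplicit false
set_option linter.style.haveILetI false
set_option linter.unusedSectionVars false

namespace Cfsg.Agent.Lib.Helper5.AbAlt

open Cfsg.Agent.Lib.Helper24 Equiv

theorem hasEvenAbelian_bot (n : ℕ) : HasEvenAbelian n 1 := by
  refine ⟨⊥, bot_le, ?_, Subgroup.card_bot⟩
  intro x hx y hy
  rw [Subgroup.mem_bot] at hx hy
  rw [hx, hy]

theorem hasEvenAbelian_five : HasEvenAbelian 5 5 := by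
  refine ⟨Subgroup.zpowers (finRotate 5), ?_, ?_, ?_⟩
  · rw [Subgroup.zpowers_le, Perm.mem_alternatingGroup]
    decide
  · rintro _ ⟨i, rfl⟩ _ ⟨j, rfl⟩
    exact (Commute.zpow_zpow_self _ i j).eq
  · rw [Nat.card_zpowers]
    rw [(isCycle_finRotate_of_le (by norm_num : 2 ≤ 5)).orderOf,
      support_finRotate_of_le (by norm_num : 2 ≤ 5), Finset.card_univ, Fintype.card_fin]

theorem hasEvenAbelian_gFun : ∀ n, HasEvenAbelian n (gFun n) := by
  apply period_induction
  · intro s hs
    interval_cases s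
    · exact hasEvenAbelian_bot 0
    · exact hasEvenAbelian_bot 1
    · exact hasEvenAbelian_bot 2
    · exact hasEvenAbelian_three
    · exact hasEvenAbelian_four
    · exact hasEvenAbelian_five
    · exact hasEvenAbelian_add hasEvenAbelian_three hasEvenAbelian_three
    · exact hasEvenAbelian_add hasEvenAbelian_four hasEvenAbelian_three
    · exact hasEvenAbelian_add hasEvenAbelian_four hasEvenAbelian_four
  · intro s hs h
    have := hasEvenAbelian_add h hasEvenAbelian_three
    rw [gFun_add_three s hs, mul_comm]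
    exact this

/-- an abelian subgroup of maximal order in the alternating group has order `gFun n` -/
theorem card_eq_gFun_of_max (n : ℕ) (A : Subgroup (alternatingGroup (Fin n)))
    (hA : IsMulCommutative A)
    (hAmax : ∀ C : Subgroup (alternatingGroup (Fin n)), IsMulCommutative C →
      Nat.card C ≤ Nat.card A) : Nat.card A = gFun n := by
  apply le_antisymm (card_le_gFun n A hA)
  obtain ⟨C, hC, hCc⟩ := (hasEvenAbelian_gFun n).toAlt
  rw [← hCc]
  exact hAmax C hC

theorem ext_of_max (n : ℕ) (A : Subgroup (alternatingGroup (Fin n)))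
    (hA : IsMulCommutative A)
    (hAmax : ∀ C : Subgroup (alternatingGroup (Fin n)), IsMulCommutative C →
      Nat.card C ≤ Nat.card A) : Ext (A.map (alternatingGroup (Fin n)).subtype) := by
  obtain ⟨h1, h2, -⟩ := alt_map_facts n A hA
  refine ⟨h2, ?_, ?_⟩
  · rintro _ ⟨a, -, rfl⟩
    exact Perm.mem_alternatingGroup.1 a.2
  · rw [h1, Fintype.card_fin]
    exact card_eq_gFun_of_max n A hA hAmax

open Classical in
/-- an odd permutation normalizing an extremal group -/
theorem exists_odd_normalizer {Ω : Type} [Fintype Ω] [DecidableEq Ω] {A : Subgroup (Perm Ω)}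
    (h : Ext A) (hn3 : 3 ≤ Fintype.card Ω) (hn5 : Fintype.card Ω ≠ 5) :
    ∃ T : Perm Ω, Perm.sign T = -1 ∧ ∀ σ, σ ∈ A ↔ T * σ * T⁻¹ ∈ A := by
  have hne : Nonempty Ω := by rw [← Fintype.card_pos_iff]; omega
  obtain ⟨x⟩ := hne
  obtain ⟨h34, hK, -, -, -⟩ := h.peel hn3 hn5 x
  have hcard : 1 < Fintype.card {y // y ∈ orb A x} := by
    rw [← Nat.card_eq_fintype_card]
    have : Nat.card {y // y ∈ orb A x} = Nat.card (orb A x) := rfl
    rw [this]
    omega
  obtain ⟨u, v, huv⟩ := Fintype.exists_pair_of_one_lt_card hcard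
  let s : Perm {y // y ∈ orb A x} := swap u v
  let T : Perm Ω := Perm.subtypeCongr s 1
  have hTT : T * T = 1 := by
    show Perm.subtypeCongr s 1 * Perm.subtypeCongr s 1 = 1
    rw [Perm.mul_def, Perm.subtypeCongr.trans]
    have : s.trans s = Equiv.refl _ := by
      ext z
      simp [s]
    rw [this]
    ext z
    simp [Perm.subtypeCongr.apply]
  have hTinv : T⁻¹ = T := by
    rw [inv_eq_iff_mul_eq_one]; exact hTT
  have hfwd : ∀ σ, σ ∈ A → T * σ * T⁻¹ ∈ A := by
    intro σ hσ
    rw [mem_iff_subtypeCongr A h.comm x hK] at hσ ⊢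
    obtain ⟨σ₁, hσ₁, τ, hτ, rfl⟩ := hσ
    refine ⟨s.permCongr σ₁, ?_, τ, hτ, ?_⟩
    · rw [mem_range_rIn_iff h x hK h34, mem_canSet_congr]
      exact (mem_range_rIn_iff h x hK h34 σ₁).1 hσ₁
    · rw [hTinv]
      ext z
      by_cases hz : z ∈ orb A x
      · simp [T, hz, s]
      · simp [T, hz, s]
  refine ⟨T, ?_, ?_⟩
  · show Perm.sign (Perm.subtypeCongr s 1) = -1
    rw [Perm.sign_subtypeCongr, Perm.sign_swap huv, map_one, mul_one]
  · intro σ
    refine ⟨hfwd σ, ?_⟩
    intro hσ
    have := hfwd _ hσ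
    rw [hTinv] at this
    have e : T * (T * σ * T) * T = σ := by
      calc T * (T * σ * T) * T = (T * T) * σ * (T * T) := by group
        _ = σ := by rw [hTT, one_mul, mul_one]
    rw [e] at this
    exact this

end Cfsg.Agent.Lib.Helper5.AbAlt
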