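import Mathlib
import Cfsg.Agent.Lib.Helper5.AbConjNorm

set_option autoImplicit false
set_option linter.style.haveILetI false
set_option linter.unusedSectionVars false

namespace Cfsg.Agent.Lib.Helper5.AbAlt

open Cfsg.Agent.Lib.Helper24 Equiv
open scoped Pointwise

theorem fact60 : (60 : ℕ).factorization 5 = 1 := by
  have h : (60 : ℕ) = 5 ^ 1 * 12 := by norm_num
  rw [h, Nat.factorization_mul (by norm_num) (by norm_num), Nat.Prime.factorization_pow (by norm_num)]
  simp
  apply Nat.factorization_eq_zero_of_not_dvd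
  norm_num

theorem conj_five (A B : Subgroup (alternatingGroup (Fin 5)))
    (hA : Nat.card A = 5) (hB : Nat.card B = 5) :
    ∃ g : alternatingGroup (Fin 5), B = MulAut.conj g • A := by
  have hcardG : Nat.card (alternatingGroup (Fin 5)) = 60 := by
    rw [nat_card_alternatingGroup]
    simp [Nat.factorial]
  haveI : Fact (Nat.Prime 5) := ⟨by norm_num⟩
  have hfac : (Nat.card (alternatingGroup (Fin 5))).factorization 5 = 1 := by
    rw [hcardG]; exact fact60
  let PA : Sylow 5 (alternatingGroup (Fin 5)) := Sylow.ofCard A (by rw [hfac, pow_one]; exact hA)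
  let PB : Sylow 5 (alternatingGroup (Fin 5)) := Sylow.ofCard B (by rw [hfac, pow_one]; exact hB)
  obtain ⟨g, hg⟩ := MulAction.exists_smul_eq (alternatingGroup (Fin 5)) PA PB
  refine ⟨g, ?_⟩
  have h2 : (g • PA).toSubgroup = PB.toSubgroup := by rw [hg]
  rw [Sylow.coe_subgroup_smul] at h2
  exact h2.symm

/-- existence of an even conjugating permutation -/
theorem exists_even_conj (n : ℕ) (hn3 : 3 ≤ n) (hn5 : n ≠ 5) (A B : Subgroup (Perm (Fin n)))
    (hA : Ext A) (hB : Ext B) :
    ∃ f : Perm (Fin n), Perm.sign f = 1 ∧ ∀ σ, σ ∈ A ↔ f * σ * f⁻¹ ∈ B := by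
  obtain ⟨f, hf⟩ := conj_ext n (Fin n) (Fin n) (Fintype.card_fin n) (Fintype.card_fin n) hn5 A B hA hB
  have hpc : ∀ (f : Perm (Fin n)) (σ : Perm (Fin n)), f.permCongr σ = f * σ * f⁻¹ := by
    intro f σ
    ext z
    simp [Perm.inv_def]
  rcases Int.units_eq_one_or (Perm.sign f) with h1 | h1
  · exact ⟨f, h1, fun σ => by rw [← hpc]; exact hf σ⟩
  · obtain ⟨T, hT, hTn⟩ := exists_odd_normalizer hA (by rw [Fintype.card_fin]; exact hn3)
      (by rw [Fintype.card_fin]; exact hn5)
    refine ⟨f * T, by rw [map_mul, h1, hT]; decide, ?_⟩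
    intro σ
    rw [hTn σ, hf, hpc]
    have : f * (T * σ * T⁻¹) * f⁻¹ = f * T * σ * (f * T)⁻¹ := by group
    rw [this]

theorem conj_in_alt (n : ℕ)
    (A B : Subgroup (alternatingGroup (Fin n))) (hA : IsMulCommutative A) (hB : IsMulCommutative B)
    (hAmax : ∀ C : Subgroup (alternatingGroup (Fin n)), IsMulCommutative C → Nat.card C ≤ Nat.card A)
    (hBmax : ∀ C : Subgroup (alternatingGroup (Fin n)), IsMulCommutative C → Nat.card C ≤ Nat.card B) :
    ∃ g : alternatingGroup (Fin n), B = MulAut.conj g • A := by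
  have hcA := card_eq_gFun_of_max n A hA hAmax
  have hcB := card_eq_gFun_of_max n B hB hBmax
  rcases Nat.lt_or_ge n 3 with hlt | hge
  · have h1 : gFun n = 1 := by interval_cases n <;> simp [gFun]
    rw [h1] at hcA hcB
    rw [Subgroup.card_eq_one] at hcA hcB
    refine ⟨1, ?_⟩
    rw [hcA, hcB, map_one, one_smul]
  · by_cases hn5 : n = 5
    · subst hn5
      exact conj_five A B hcA hcB
    · have hEA := ext_of_max n A hA hAmax
      have hEB := ext_of_max n B hB hBmax
      obtain ⟨f, hf1, hf⟩ := exists_even_conj n hge hn5 _ _ hEA hEB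
      refine ⟨⟨f, Perm.mem_alternatingGroup.2 hf1⟩, ?_⟩
      ext b
      rw [Subgroup.mem_pointwise_smul_iff_inv_smul_mem]
      have key := hf ((alternatingGroup (Fin n)).subtype ((MulAut.conj (⟨f, Perm.mem_alternatingGroup.2 hf1⟩ : alternatingGroup (Fin n)))⁻¹ • b))
      rw [Subgroup.mem_map_iff_mem (Subgroup.subtype_injective _)] at key
      rw [key]
      have e : f * (alternatingGroup (Fin n)).subtype ((MulAut.conj (⟨f, Perm.mem_alternatingGroup.2 hf1⟩ : alternatingGroup (Fin n)))⁻¹ • b) * f⁻¹ = (alternatingGroup (Fin n)).subtype b := by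
        simp [MulAut.smul_def]
        group
      rw [e, Subgroup.mem_map_iff_mem (Subgroup.subtype_injective _)]

end Cfsg.Agent.Lib.Helper5.AbAlt
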