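import Mathlib
import Cfsg.Prelude.Def_ChevAutomorphisms
import Cfsg.Prelude.Def_ChevG2
import Cfsg.Prelude.Def_ChevB2
import Cfsg.Prelude.Def_ChevD4
import Cfsg.Prelude.Def_ChevF4
import Cfsg.Prelude.Def_ChevE6
import Cfsg.Prelude.Def_ChevE7
import Cfsg.Prelude.Def_ChevE8

set_option autoImplicit false
set_option linter.style.haveILetI false
set_option linter.unusedSectionVars false

namespace Cfsg.Agent.Lib.Helper5.ChevChar

open Cfsg.Lie

/-- table property: chain keys strictly increasing, entries in range, consecutive chain targets are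
linked by `chainRoot · · 1` -/
def CharOK (D : ChevalleyDatum) : Prop :=
  ∀ r, r < D.nroots →
    (((D.chain.getD r #[]).toList.map (fun e => e.1)).IsChain (fun a b => a < b)) ∧
    ∀ e ∈ (D.chain.getD r #[]).toList, e.1 < D.nroots ∧ (∀ q ∈ e.2.toList, q.1 < D.nroots) ∧
      e.2.toList.IsChain (fun a b => D.chainRoot r a.1 1 = some b.1)

instance (D : ChevalleyDatum) : Decidable (CharOK D) := by
  unfold CharOK
  infer_instance

theorem char_G2 : CharOK chevG2 := by decide +kernel
theorem char_B2 : CharOK chevB2 := by decide +kernel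
theorem char_D4 : CharOK chevD4 := by decide +kernel
theorem char_F4 : CharOK chevF4 := by decide +kernel
theorem char_E6 : CharOK chevE6 := by decide +kernel
theorem char_E7 : CharOK chevE7 := by decide +kernel
theorem char_E8 : CharOK chevE8 := by decide +kernel

theorem charOK_of_mem (D : ChevalleyDatum)
    (hD : D ∈ [chevG2, chevB2, chevD4, chevF4, chevE6, chevE7, chevE8]) : CharOK D := by
  simp only [List.mem_cons, List.not_mem_nil, or_false] at hD
  rcases hD with rfl | rfl | rfl | rfl | rfl | rfl | rfl
  · exact char_G2
  · exact char_B2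
  · exact char_D4
  · exact char_F4
  · exact char_E6
  · exact char_E7
  · exact char_E8

end Cfsg.Agent.Lib.Helper5.ChevChar
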