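import Mathlib
import Cfsg.Agent.Lib.Helper5.ChevCharA

set_option autoImplicit false
set_option linter.style.haveILetI false
set_option linter.unusedSectionVars false

namespace Cfsg.Agent.Lib.Helper5.ChevChar

open Cfsg.Lie

theorem find_of_sorted {α : Type*} (L : List (ℕ × α))
    (h : (L.map (fun e => e.1)).IsChain (fun a b => a < b)) (e : ℕ × α) (he : e ∈ L) :
    L.find? (fun x => decide (x.1 = e.1)) = some e := by
  have hp : (L.map (fun e => e.1)).Pairwise (fun a b => a < b) := h.pairwise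
  rw [List.pairwise_map] at hp
  clear h
  induction L with
  | nil => simp at he
  | cons a L ih =>
    rw [List.pairwise_cons] at hp
    rcases List.mem_cons.mp he with rfl | he'
    · simp
    · have hlt := hp.1 e he'
      have hne : ¬ a.1 = e.1 := by omega
      rw [List.find?_cons_of_neg (by simpa using hne)]
      exact ih he' hp.2

theorem chainRoot_one_of_mem (D : ChevalleyDatum) (hok : CharOK D) (r : ℕ) (hr : r < D.nroots)
    (e : ℕ × Array (ℕ × ℤ)) (he : e ∈ (D.chain.getD r #[]).toList) :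
    D.chainRoot r e.1 1 = (e.2.toList[0]?).map Prod.fst := by
  unfold ChevalleyDatum.chainRoot ChevalleyDatum.chainEntry
  rw [find_of_sorted _ (hok r hr).1 e he]

theorem char_chain {F : Type*} [Field F] (D : ChevalleyDatum) (hok : CharOK D) (χ : ℕ → Fˣ)
    (hχ : D.IsRootCharacter χ) (r : ℕ) (hr : r < D.nroots)
    (e : ℕ × Array (ℕ × ℤ)) (he : e ∈ (D.chain.getD r #[]).toList) (idx : ℕ)
    (hidx : idx < e.2.toList.length) :
    χ (e.2.toList[idx]).1 = χ r ^ (idx + 1) * χ e.1 := by
  obtain ⟨hb1, hb2, hch⟩ := (hok r hr).2 e he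
  induction idx with
  | zero =>
    have h1 := chainRoot_one_of_mem D hok r hr e he
    rw [List.getElem?_eq_getElem hidx] at h1
    have := hχ.2 r e.1 _ hr hb1 h1
    rw [this]
    simp
  | succ k ih =>
    have hk : k < e.2.toList.length := by omega
    have h1 := hch.getElem k hidx
    have hb := hb2 _ (List.getElem_mem hk)
    have := hχ.2 r _ _ hr hb h1
    rw [this, ih hk]
    rw [pow_succ (χ r) (k + 1)]
    rw [mul_assoc]
    exact mul_left_comm (χ r) (χ r ^ (k + 1)) (χ e.1)

theorem char_chainCoeff {F : Type*} [Field F] (D : ChevalleyDatum) (hok : CharOK D) (χ : ℕ → Fˣ)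
    (hχ : D.IsRootCharacter χ) (r : ℕ) (hr : r < D.nroots) (s u : ℕ) (km : ℕ × ℤ)
    (hkm : km ∈ D.chainCoeff r s u) : χ u = χ r ^ km.1 * χ s := by
  unfold ChevalleyDatum.chainCoeff at hkm
  rw [List.mem_flatMap] at hkm
  obtain ⟨e, he, hx⟩ := hkm
  rw [List.mem_filter] at he
  rw [List.mem_map] at hx
  obtain ⟨q, hq, rfl⟩ := hx
  rw [List.mem_filter] at hq
  obtain ⟨hq1, hq2⟩ := hq
  have hs : e.1 = s := by simpa using he.2
  have hu : q.1.1 = u := by simpa using hq2
  obtain ⟨q1, idx⟩ := q
  rw [List.mk_mem_zipIdx_iff_getElem?] at hq1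
  obtain ⟨hlt, hget⟩ := List.getElem?_eq_some_iff.mp hq1
  have := char_chain D hok χ hχ r hr e he.1 idx hlt
  rw [hget] at this
  simp only at hu
  rw [← hu, ← hs]
  exact this

end Cfsg.Agent.Lib.Helper5.ChevChar
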