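import Mathlib
import Cfsg.Prelude.Def_ChevStructure

set_option autoImplicit false
set_option linter.style.haveILetI false
set_option linter.unusedSectionVars false

/-!
Symbolic sparse column calculus for words in the root elements `x_r(z t^k)` of a Chevalley datum
(one variable `t`, monomial parameters).  A symbolic vector is a list of terms
`(code, z, k)` meaning `z t^k e_code`, where the coroot vector `h_j` has code `j` and the root vector
`e_s` has code `rank + s`.
-/

namespace Cfsg.Agent.Lib.Helper5.ChevSym

open Cfsg.Lie

/-- symbolic terms `(code, z, k)` -/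
abbrev Term := ℕ × ℤ × ℤ

/-- integer power by structural recursion (kernel friendly) -/
def ipow (z : ℤ) : ℕ → ℤ
  | 0 => 1
  | n + 1 => ipow z n * z

/-- the column with code `c` of `x_r(z0 t^k0)` -/
def colList (D : ChevalleyDatum) (r : ℕ) (z0 k0 : ℤ) (c : ℕ) : List Term :=
  if c < D.rank then
    [(c, 1, 0), (D.rank + r, - ((D.cartanSR.getD c #[]).getD r 0) * z0, k0)]
  else if c < D.rank + D.nroots then
    if c - D.rank = r then [(c, 1, 0)]
    else if c - D.rank = D.negIdx.getD r 0 then
      (c, 1, 0) :: (D.rank + r, -(z0 * z0), 2 * k0) ::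
        ((List.range D.rank).map fun j => (j, (D.coroot.getD r #[]).getD j 0 * z0, k0))
    else
      (c, 1, 0) :: (((D.chain.getD r #[]).toList.filter (fun e => e.1 = c - D.rank)).flatMap fun e =>
        e.2.toList.zipIdx.map fun q =>
          (D.rank + q.1.1, q.1.2 * ipow z0 (q.2 + 1), ((q.2 + 1 : ℕ) : ℤ) * k0))
  else []

/-- scale a term by `z t^k` -/
def scale (z k : ℤ) (τ : Term) : Term := (τ.1, τ.2.1 * z, τ.2.2 + k)

/-- insert a term into a normalised list (merging equal code and exponent) -/
def insertTerm (τ : Term) : List Term → List Term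
  | [] => [τ]
  | σ :: l => if σ.1 = τ.1 ∧ σ.2.2 = τ.2.2 then (σ.1, σ.2.1 + τ.2.1, σ.2.2) :: l
              else σ :: insertTerm τ l

/-- normalise: merge like terms -/
def norm (v : List Term) : List Term := v.foldr insertTerm []

/-- apply `x_r(z0 t^k0)` to a symbolic vector -/
def applyX (D : ChevalleyDatum) (r : ℕ) (z0 k0 : ℤ) (v : List Term) : List Term :=
  norm (v.flatMap fun τ => if τ.2.1 = 0 then [] else (colList D r z0 k0 τ.1).map (scale τ.2.1 τ.2.2))

/-- symbolic words: list of `(r, z0, k0)`; the product `x_{r1}(..) x_{r2}(..) ⋯` applied to `v` -/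
def applyW (D : ChevalleyDatum) : List (ℕ × ℤ × ℤ) → List Term → List Term
  | [], v => v
  | p :: w, v => applyX D p.1 p.2.1 p.2.2 (applyW D w v)

/-- all coefficients of the normalised difference vanish -/
def isZero (v : List Term) : Bool := (norm v).all fun τ => τ.2.1 = 0

/-- negate a symbolic vector -/
def negV (v : List Term) : List Term := v.map fun τ => (τ.1, -τ.2.1, τ.2.2)

/-- two symbolic vectors agree -/
def eqV (v w : List Term) : Bool := isZero (v ++ negV w)

end Cfsg.Agent.Lib.Helper5.ChevSym
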