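import Mathlib
import Cfsg.Agent.Lib.Helper5.ChevSymA

set_option autoImplicit false
set_option linter.style.haveILetI false
set_option linter.unusedSectionVars false

namespace Cfsg.Agent.Lib.Helper5.ChevSym

open Cfsg.Lie

variable {F : Type*} [Field F]

/-- code of a coordinate index -/
def code (D : ChevalleyDatum) : D.Idx → ℕ
  | Sum.inl j => j.val
  | Sum.inr s => D.rank + s.val

theorem code_injective (D : ChevalleyDatum) : Function.Injective (code D) := by
  intro a b h
  rcases a with a | a <;> rcases b with b | b
  · simp only [code] at h
    exact congrArg Sum.inl (Fin.ext h)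
  · simp only [code] at h
    have := a.2
    omega
  · simp only [code] at h
    have := b.2
    omega
  · simp only [code] at h
    exact congrArg Sum.inr (Fin.ext (by omega))

theorem code_lt (D : ChevalleyDatum) (i : D.Idx) : code D i < D.rank + D.nroots := by
  rcases i with j | s
  · have := j.2
    simp only [code]
    omega
  · have := s.2
    simp only [code]
    omega

theorem exists_code (D : ChevalleyDatum) (c : ℕ) (hc : c < D.rank + D.nroots) :
    ∃ i : D.Idx, code D i = c := by
  by_cases h : c < D.rank
  · exact ⟨Sum.inl ⟨c, h⟩, rfl⟩
  · refine ⟨Sum.inr ⟨c - D.rank, by omega⟩, ?_⟩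
    simp only [code]
    omega

/-- value of a term -/
def tval (t : F) (τ : Term) : F := (τ.2.1 : F) * t ^ τ.2.2

/-- realization of a symbolic vector -/
def real (D : ChevalleyDatum) (t : F) (v : List Term) : D.Idx → F :=
  fun i => (v.map fun τ => if τ.1 = code D i then tval t τ else 0).sum

theorem real_nil (D : ChevalleyDatum) (t : F) : real D t [] = 0 := by
  funext i
  simp [real]

theorem real_cons (D : ChevalleyDatum) (t : F) (τ : Term) (v : List Term) :
    real D t (τ :: v) = real D t [τ] + real D t v := by
  funext i
  simp [real]

theorem real_append (D : ChevalleyDatum) (t : F) (v w : List Term) :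
    real D t (v ++ w) = real D t v + real D t w := by
  funext i
  simp [real]

theorem real_single (D : ChevalleyDatum) (t : F) (τ : Term) (i : D.Idx) :
    real D t [τ] i = if τ.1 = code D i then tval t τ else 0 := by
  simp [real]

theorem real_insertTerm (D : ChevalleyDatum) (t : F) (τ : Term) (l : List Term) :
    real D t (insertTerm τ l) = real D t [τ] + real D t l := by
  induction l with
  | nil => simp [insertTerm, real_nil]
  | cons σ l ih =>
    unfold insertTerm
    split_ifs with h
    · rw [real_cons, real_cons D t σ l, ← add_assoc]
      congr 1
      funext i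
      rw [Pi.add_apply, real_single, real_single, real_single]
      simp only [tval]
      rw [← h.1]
      split_ifs
      · rw [h.2]; push_cast; ring
      · simp
    · rw [real_cons, ih, real_cons D t σ l]
      abel

theorem real_norm (D : ChevalleyDatum) (t : F) (v : List Term) :
    real D t (norm v) = real D t v := by
  induction v with
  | nil => rfl
  | cons τ v ih =>
    show real D t (insertTerm τ (norm v)) = _
    rw [real_insertTerm, ih, ← real_cons]

theorem real_map_scale (D : ChevalleyDatum) (t : F) (ht : t ≠ 0) (z k : ℤ) (l : List Term) :
    real D t (l.map (scale z k)) = ((z : F) * t ^ k) • real D t l := by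
  induction l with
  | nil => simp [real_nil]
  | cons τ l ih =>
    rw [List.map_cons, real_cons, ih, real_cons D t τ l, smul_add]
    congr 1
    funext i
    rw [Pi.smul_apply, real_single, real_single]
    have h1 : (scale z k τ).1 = τ.1 := rfl
    rw [h1]
    by_cases h : τ.1 = code D i
    · rw [if_pos h, if_pos h]
      simp only [scale, tval]
      rw [zpow_add₀ ht]; push_cast; rw [smul_eq_mul]; ring
    · rw [if_neg h, if_neg h]; simp

theorem real_flatMap (D : ChevalleyDatum) (t : F) (v : List Term) (f : Term → List Term) :
    real D t (v.flatMap f) = (v.map fun τ => real D t (f τ)).sum := by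
  induction v with
  | nil => simp [real_nil]
  | cons τ v ih =>
    rw [List.flatMap_cons, real_append, ih]
    simp

theorem real_isZero (D : ChevalleyDatum) (t : F) (v : List Term) (h : isZero v = true) :
    real D t v = 0 := by
  rw [← real_norm]
  unfold isZero at h
  rw [List.all_eq_true] at h
  funext i
  simp only [real, Pi.zero_apply]
  apply List.sum_eq_zero
  intro x hx
  rw [List.mem_map] at hx
  obtain ⟨τ, hτ, rfl⟩ := hx
  have := h τ hτ
  simp only [decide_eq_true_eq] at this
  simp [tval, this]

theorem real_negV (D : ChevalleyDatum) (t : F) (v : List Term) :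
    real D t (negV v) = - real D t v := by
  induction v with
  | nil => simp [negV, real_nil]
  | cons τ v ih =>
    have : negV (τ :: v) = (τ.1, -τ.2.1, τ.2.2) :: negV v := rfl
    rw [this, real_cons, ih, real_cons D t τ v, neg_add]
    congr 1
    funext i
    rw [Pi.neg_apply, real_single, real_single]
    simp only [tval]
    split_ifs
    · push_cast; ring
    · simp

theorem real_eqV (D : ChevalleyDatum) (t : F) (v w : List Term) (h : eqV v w = true) :
    real D t v = real D t w := by
  have := real_isZero D t _ h
  rw [real_append, real_negV] at this
  exact add_neg_eq_zero.mp this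

theorem real_basis (D : ChevalleyDatum) (t : F) (i : D.Idx) :
    real D t [(code D i, 1, 0)] = Pi.single i 1 := by
  funext j
  rw [real_single]
  simp only [tval]
  by_cases h : i = j
  · subst h
    simp
  · rw [if_neg (fun hc => h (code_injective D hc))]
    simp [Ne.symm h]

end Cfsg.Agent.Lib.Helper5.ChevSym
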