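import Mathlib
import Cfsg.Agent.Lib.Helper5.ChevSymB

set_option autoImplicit false
set_option linter.style.haveILetI false
set_option linter.unusedSectionVars false

namespace Cfsg.Agent.Lib.Helper5.ChevSym

open Cfsg.Lie

variable {F : Type*} [Field F]

theorem ipow_eq (z : ℤ) (n : ℕ) : ipow z n = z ^ n := by
  induction n with
  | zero => simp [ipow]
  | succ n ih => rw [ipow, ih, pow_succ]

theorem sum_filter_map {α : Type*} (l : List α) (p : α → Bool) (f : α → F) :
    ((l.filter p).map f).sum = (l.map fun x => if p x then f x else 0).sum := by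
  induction l with
  | nil => rfl
  | cons a l ih =>
    by_cases h : p a
    · rw [List.filter_cons_of_pos h, List.map_cons, List.sum_cons, ih, List.map_cons, List.sum_cons,
        if_pos h]
    · rw [List.filter_cons_of_neg h, ih, List.map_cons, List.sum_cons, if_neg h, zero_add]

theorem sum_flatMap_map {α β : Type*} (l : List α) (g : α → List β) (f : β → F) :
    ((l.flatMap g).map f).sum = (l.map fun x => ((g x).map f).sum).sum := by
  induction l with
  | nil => rfl
  | cons a l ih =>
    rw [List.flatMap_cons, List.map_append, List.sum_append, ih, List.map_cons, List.sum_cons]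

/-- the sum over `List.range n` of an indicator -/
theorem sum_range_ite (n : ℕ) (j : ℕ) (hj : j < n) (f : ℕ → F) :
    ((List.range n).map fun k => if k = j then f k else 0).sum = f j := by
  induction n with
  | zero => omega
  | succ n ih =>
    rw [List.range_succ, List.map_append, List.sum_append]
    by_cases h : j = n
    · subst h
      have : ((List.range j).map fun k => if k = j then f k else 0).sum = 0 := by
        apply List.sum_eq_zero
        intro x hx
        rw [List.mem_map] at hx
        obtain ⟨k, hk, rfl⟩ := hx
        rw [List.mem_range] at hk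
        rw [if_neg (by omega)]
      rw [this]
      simp
    · rw [ih (by omega)]
      simp [Ne.symm h]

theorem sum_range_ite_none (n : ℕ) (j : ℕ) (hj : n ≤ j) (f : ℕ → F) :
    ((List.range n).map fun k => if k = j then f k else 0).sum = 0 := by
  apply List.sum_eq_zero
  intro x hx
  rw [List.mem_map] at hx
  obtain ⟨k, hk, rfl⟩ := hx
  rw [List.mem_range] at hk
  rw [if_neg (by omega)]

/-- the chain part of a column -/
theorem chain_sum (D : ChevalleyDatum) (t : F) (r s u : ℕ) (z0 k0 : ℤ) :
    ((D.chainCoeff r s u).map fun km => ((km.2 : ℤ) : F) * (((z0 : ℤ) : F) * t ^ k0) ^ km.1).sum =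
    (((((D.chain.getD r #[]).toList.filter (fun e => e.1 = s)).flatMap fun e =>
        e.2.toList.zipIdx.map fun q =>
          ((D.rank + q.1.1, q.1.2 * ipow z0 (q.2 + 1), ((q.2 + 1 : ℕ) : ℤ) * k0) : Term))).map
      fun τ => if τ.1 = D.rank + u then tval t τ else 0).sum := by
  unfold ChevalleyDatum.chainCoeff
  rw [sum_flatMap_map, sum_flatMap_map]
  congr 1
  apply List.map_congr_left
  intro e _
  rw [List.map_map, List.map_map, sum_filter_map]
  congr 1
  apply List.map_congr_left
  intro q _
  simp only [Function.comp, tval, decide_eq_true_eq]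
  by_cases h : q.1.1 = u
  · rw [if_pos h, if_pos (by rw [h])]
    rw [ipow_eq, mul_pow, ← zpow_natCast (t ^ k0), ← zpow_mul]
    push_cast
    rw [mul_comm k0]
    ring
  · rw [if_neg h, if_neg (by omega)]

end Cfsg.Agent.Lib.Helper5.ChevSym
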