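import Mathlib
import Cfsg.Agent.Lib.Helper5.ChevSymC

set_option autoImplicit false
set_option linter.style.haveILetI false
set_option linter.unusedSectionVars false

namespace Cfsg.Agent.Lib.Helper5.ChevSym

open Cfsg.Lie

variable {F : Type*} [Field F]

theorem real_cons_apply (D : ChevalleyDatum) (t : F) (τ : Term) (v : List Term) (j : D.Idx) :
    real D t (τ :: v) j = (if τ.1 = code D j then tval t τ else 0) + real D t v j := by
  rw [real_cons, Pi.add_apply, real_single]

theorem real_nil_apply (D : ChevalleyDatum) (t : F) (j : D.Idx) : real D t [] j = 0 := by
  rw [real_nil]; rfl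

theorem xMat_inl (D : ChevalleyDatum) (r : Fin D.nroots) (a : F) (i0 : Fin D.rank) (j : D.Idx) :
    D.xMat F r a j (Sum.inl i0) =
      (match j with
       | Sum.inl i' => if i' = i0 then 1 else 0
       | Sum.inr u => if u = r then - (((D.cartanSR.getD i0.val #[]).getD r.val 0 : ℤ) : F) * a else 0) := rfl

theorem xMat_inr (D : ChevalleyDatum) (r : Fin D.nroots) (a : F) (s : Fin D.nroots) (j : D.Idx) :
    D.xMat F r a j (Sum.inr s) =
      if s = r then (match j with | Sum.inr u => if u = r then 1 else 0 | Sum.inl _ => 0)
      else if s.val = D.negIdx.getD r.val 0 then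
        (match j with
         | Sum.inl i => (((D.coroot.getD r.val #[]).getD i.val 0 : ℤ) : F) * a
         | Sum.inr u => if u = s then 1 else if u = r then -(a ^ 2) else 0)
      else
        (match j with
         | Sum.inl _ => 0
         | Sum.inr u => (if u = s then 1 else 0) +
             ((D.chainCoeff r.val s.val u.val).map fun km => ((km.2 : ℤ) : F) * a ^ km.1).sum) := rfl

theorem colList_inl (D : ChevalleyDatum) (r : ℕ) (z0 k0 : ℤ) (i0 : Fin D.rank) :
    colList D r z0 k0 (code D (Sum.inl i0)) =
      [(i0.val, 1, 0), (D.rank + r, - ((D.cartanSR.getD i0.val #[]).getD r 0) * z0, k0)] := by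
  unfold colList
  rw [if_pos (show code D (Sum.inl i0) < D.rank from i0.2)]
  rfl

theorem colList_inr (D : ChevalleyDatum) (r : ℕ) (z0 k0 : ℤ) (s : Fin D.nroots) :
    colList D r z0 k0 (code D (Sum.inr s)) =
      if s.val = r then [(D.rank + s.val, 1, 0)]
      else if s.val = D.negIdx.getD r 0 then
        (D.rank + s.val, 1, 0) :: (D.rank + r, -(z0 * z0), 2 * k0) ::
          ((List.range D.rank).map fun j => (j, (D.coroot.getD r #[]).getD j 0 * z0, k0))
      else
        (D.rank + s.val, 1, 0) :: (((D.chain.getD r #[]).toList.filter (fun e => e.1 = s.val)).flatMap fun e =>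
          e.2.toList.zipIdx.map fun q =>
            (D.rank + q.1.1, q.1.2 * ipow z0 (q.2 + 1), ((q.2 + 1 : ℕ) : ℤ) * k0)) := by
  have hs := s.2
  have hc : code D (Sum.inr s) = D.rank + s.val := rfl
  unfold colList
  rw [hc, if_neg (by omega), if_pos (by omega)]
  have h3 : D.rank + s.val - D.rank = s.val := by omega
  rw [h3]

/-- the column lemma: the column `i` of `x_r(z0 t^k0)` is the realization of `colList` -/
theorem col_eq (D : ChevalleyDatum) (t : F) (r : ℕ) (hr : r < D.nroots) (z0 k0 : ℤ) (i j : D.Idx) :
    D.xMat F ⟨r, hr⟩ (((z0 : ℤ) : F) * t ^ k0) j i = real D t (colList D r z0 k0 (code D i)) j := by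
  rcases i with i0 | s
  · -- coroot column
    rw [xMat_inl, colList_inl, real_cons_apply, real_cons_apply, real_nil_apply, add_zero]
    have hlt : i0.val < D.rank := i0.2
    rcases j with j0 | u
    · have hj := j0.2
      have e2 : ¬ ((D.rank + r, - ((D.cartanSR.getD i0.val #[]).getD r 0) * z0, k0) : Term).1 =
          code D (Sum.inl j0) := by
        show ¬ D.rank + r = j0.val
        omega
      rw [if_neg e2, add_zero]
      by_cases h : j0 = i0
      · subst h
        have e1 : ((j0.val, 1, 0) : Term).1 = code D (Sum.inl j0) := rfl
        rw [if_pos e1]
        simp [tval]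
      · have e1 : ¬ ((i0.val, 1, 0) : Term).1 = code D (Sum.inl j0) := by
          show ¬ i0.val = j0.val
          intro hh
          exact h (Fin.ext hh.symm)
        rw [if_neg e1]
        simp [h]
    · have e1 : ¬ ((i0.val, 1, 0) : Term).1 = code D (Sum.inr u) := by
        show ¬ i0.val = D.rank + u.val
        omega
      rw [if_neg e1, zero_add]
      by_cases h : u = ⟨r, hr⟩
      · subst h
        have e2 : ((D.rank + r, - ((D.cartanSR.getD i0.val #[]).getD r 0) * z0, k0) : Term).1 =
            code D (Sum.inr ⟨r, hr⟩) := rfl
        rw [if_pos e2]
        simp only [tval, if_true]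
        push_cast
        ring
      · have e2 : ¬ ((D.rank + r, - ((D.cartanSR.getD i0.val #[]).getD r 0) * z0, k0) : Term).1 =
            code D (Sum.inr u) := by
          show ¬ D.rank + r = D.rank + u.val
          intro hh
          apply h
          apply Fin.ext
          simp only
          omega
        rw [if_neg e2]
        simp [h]
  · -- root column
    have hs := s.2
    rw [xMat_inr, colList_inr]
    by_cases hsr : s = ⟨r, hr⟩
    · have hsr' : s.val = r := by rw [hsr]
      rw [if_pos hsr, if_pos hsr', real_cons_apply, real_nil_apply, add_zero]
      rcases j with j0 | u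
      · have hj := j0.2
        have e1 : ¬ ((D.rank + s.val, 1, 0) : Term).1 = code D (Sum.inl j0) := by
          show ¬ D.rank + s.val = j0.val
          omega
        rw [if_neg e1]
      · by_cases h : u = ⟨r, hr⟩
        · have e1 : ((D.rank + s.val, 1, 0) : Term).1 = code D (Sum.inr u) := by
            show D.rank + s.val = D.rank + u.val
            rw [h, hsr]
          rw [if_pos e1]
          simp [h, tval]
        · have e1 : ¬ ((D.rank + s.val, 1, 0) : Term).1 = code D (Sum.inr u) := by
            show ¬ D.rank + s.val = D.rank + u.val
            intro hh
            apply h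
            rw [← hsr]
            apply Fin.ext
            omega
          rw [if_neg e1]
          simp [h]
    · have hsr' : ¬ s.val = r := fun hh => hsr (Fin.ext hh)
      rw [if_neg hsr, if_neg hsr']
      by_cases hsn : s.val = D.negIdx.getD r 0
      · rw [if_pos hsn, if_pos hsn, real_cons_apply, real_cons_apply]
        rcases j with j0 | u
        · have hj := j0.2
          have e1 : ¬ ((D.rank + s.val, 1, 0) : Term).1 = code D (Sum.inl j0) := by
            show ¬ D.rank + s.val = j0.val
            omega
          have e2 : ¬ ((D.rank + r, -(z0 * z0), 2 * k0) : Term).1 = code D (Sum.inl j0) := by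
            show ¬ D.rank + r = j0.val
            omega
          rw [if_neg e1, if_neg e2, zero_add, zero_add]
          have e3 : real D t ((List.range D.rank).map fun j =>
              ((j, (D.coroot.getD r #[]).getD j 0 * z0, k0) : Term)) (Sum.inl j0) =
              (((D.coroot.getD r #[]).getD j0.val 0 * z0 : ℤ) : F) * t ^ k0 := by
            have := sum_range_ite D.rank j0.val hj
              (fun k => (((D.coroot.getD r #[]).getD k 0 * z0 : ℤ) : F) * t ^ k0)
            rw [← this]
            simp only [real, List.map_map]
            rfl
          rw [e3]
          push_cast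
          ring
        · have hu := u.2
          have e3 : real D t ((List.range D.rank).map fun j =>
              ((j, (D.coroot.getD r #[]).getD j 0 * z0, k0) : Term)) (Sum.inr u) = 0 := by
            have := sum_range_ite_none D.rank (D.rank + u.val) (by omega)
              (fun k => (((D.coroot.getD r #[]).getD k 0 * z0 : ℤ) : F) * t ^ k0)
            rw [← this]
            simp only [real, List.map_map]
            rfl
          rw [e3, add_zero]
          by_cases hus : u = s
          · subst hus
            have e1 : ((D.rank + u.val, 1, 0) : Term).1 = code D (Sum.inr u) := rfl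
            have e2 : ¬ ((D.rank + r, -(z0 * z0), 2 * k0) : Term).1 = code D (Sum.inr u) := by
              show ¬ D.rank + r = D.rank + u.val
              omega
            rw [if_pos e1, if_neg e2]
            simp [tval]
          · have e1 : ¬ ((D.rank + s.val, 1, 0) : Term).1 = code D (Sum.inr u) := by
              show ¬ D.rank + s.val = D.rank + u.val
              intro hh; apply hus; apply Fin.ext; omega
            rw [if_neg e1, zero_add]
            simp only [if_neg hus]
            by_cases hur : u = ⟨r, hr⟩
            · subst hur
              have e2 : ((D.rank + r, -(z0 * z0), 2 * k0) : Term).1 = code D (Sum.inr ⟨r, hr⟩) := rfl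
              rw [if_pos e2]
              simp only [if_true, tval]
              push_cast
              rw [mul_pow, ← zpow_natCast (t ^ k0), ← zpow_mul]
              push_cast
              ring_nf
            · have e2 : ¬ ((D.rank + r, -(z0 * z0), 2 * k0) : Term).1 = code D (Sum.inr u) := by
                show ¬ D.rank + r = D.rank + u.val
                intro hh; apply hur; apply Fin.ext; simp only; omega
              rw [if_neg e2]
              simp [hur]
      · rw [if_neg hsn, if_neg hsn, real_cons_apply]
        rcases j with j0 | u
        · have hj := j0.2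
          have e1 : ¬ ((D.rank + s.val, 1, 0) : Term).1 = code D (Sum.inl j0) := by
            show ¬ D.rank + s.val = j0.val
            omega
          rw [if_neg e1, zero_add]
          simp only [real]
          symm
          apply List.sum_eq_zero
          intro x hx
          rw [List.mem_map] at hx
          obtain ⟨τ, hτ, rfl⟩ := hx
          rw [List.mem_flatMap] at hτ
          obtain ⟨e, _, hτ⟩ := hτ
          rw [List.mem_map] at hτ
          obtain ⟨q, _, rfl⟩ := hτ
          have : ¬ D.rank + q.1.1 = code D (Sum.inl j0) := by
            show ¬ D.rank + q.1.1 = j0.val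
            omega
          simp only [if_neg this]
        · show (if u = s then (1 : F) else 0) + ((D.chainCoeff r s.val u.val).map fun km =>
              ((km.2 : ℤ) : F) * (((z0 : ℤ) : F) * t ^ k0) ^ km.1).sum = _
          congr 1
          · by_cases hus : u = s
            · subst hus
              have e1 : ((D.rank + u.val, 1, 0) : Term).1 = code D (Sum.inr u) := rfl
              rw [if_pos e1]
              simp [tval]
            · have e1 : ¬ ((D.rank + s.val, 1, 0) : Term).1 = code D (Sum.inr u) := by
                show ¬ D.rank + s.val = D.rank + u.val
                intro hh; apply hus; apply Fin.ext; omega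
              rw [if_neg e1, if_neg hus]
          · rw [chain_sum D t r s.val u.val z0 k0]
            rfl

end Cfsg.Agent.Lib.Helper5.ChevSym
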