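import Mathlib
import Cfsg.Agent.Lib.Helper5.ChevSymD

set_option autoImplicit false
set_option linter.style.haveILetI false
set_option linter.unusedSectionVars false

namespace Cfsg.Agent.Lib.Helper5.ChevSym

open Cfsg.Lie

variable {F : Type*} [Field F]

theorem real_single_eq (D : ChevalleyDatum) (t : F) (τ : Term) (i : D.Idx) (h : τ.1 = code D i) :
    real D t [τ] = tval t τ • Pi.single i 1 := by
  funext j
  rw [real_single, Pi.smul_apply]
  by_cases hj : i = j
  · subst hj
    rw [if_pos h]
    simp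
  · rw [if_neg (fun hc => hj (code_injective D (h.symm.trans hc)))]
    simp [Pi.single_apply, Ne.symm hj]

theorem real_single_out (D : ChevalleyDatum) (t : F) (τ : Term) (h : ¬ τ.1 < D.rank + D.nroots) :
    real D t [τ] = 0 := by
  funext j
  rw [real_single]
  have := code_lt D j
  rw [if_neg (by omega)]
  rfl

theorem colList_out (D : ChevalleyDatum) (r : ℕ) (z0 k0 : ℤ) (c : ℕ) (h : ¬ c < D.rank + D.nroots) :
    colList D r z0 k0 c = [] := by
  unfold colList
  rw [if_neg (by omega), if_neg h]

theorem mulVec_real_single (D : ChevalleyDatum) (t : F) (ht : t ≠ 0) (r : ℕ) (hr : r < D.nroots)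
    (z0 k0 : ℤ) (τ : Term) :
    (D.xMat F ⟨r, hr⟩ (((z0 : ℤ) : F) * t ^ k0)).mulVec (real D t [τ]) =
      real D t (if τ.2.1 = 0 then [] else (colList D r z0 k0 τ.1).map (scale τ.2.1 τ.2.2)) := by
  by_cases hz : τ.2.1 = 0
  · rw [if_pos hz, real_nil]
    have : real D t [τ] = 0 := by
      funext j
      rw [real_single]
      simp [tval, hz]
    rw [this, Matrix.mulVec_zero]
  · rw [if_neg hz]
    by_cases hc : τ.1 < D.rank + D.nroots
    · obtain ⟨i, hi⟩ := exists_code D τ.1 hc
      rw [real_single_eq D t τ i hi.symm, Matrix.mulVec_smul, Matrix.mulVec_single_one,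
        real_map_scale D t ht]
      congr 1
      funext j
      rw [← hi]
      exact col_eq D t r hr z0 k0 i j
    · rw [real_single_out D t τ hc, colList_out D r z0 k0 τ.1 hc, Matrix.mulVec_zero]
      simp [real_nil]

theorem real_applyX (D : ChevalleyDatum) (t : F) (ht : t ≠ 0) (r : ℕ) (hr : r < D.nroots)
    (z0 k0 : ℤ) (v : List Term) :
    (D.xMat F ⟨r, hr⟩ (((z0 : ℤ) : F) * t ^ k0)).mulVec (real D t v) =
      real D t (applyX D r z0 k0 v) := by
  unfold applyX
  rw [real_norm, real_flatMap]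
  induction v with
  | nil => simp [real_nil]
  | cons τ v ih =>
    rw [real_cons, Matrix.mulVec_add, ih, mulVec_real_single D t ht r hr, List.map_cons,
      List.sum_cons]

/-- the value of a symbolic word at `t` -/
def wordVal (t : F) (w : List (ℕ × ℤ × ℤ)) : List (ℕ × F) :=
  w.map fun p => (p.1, ((p.2.1 : ℤ) : F) * t ^ p.2.2)

theorem real_applyW (D : ChevalleyDatum) (t : F) (ht : t ≠ 0) (w : List (ℕ × ℤ × ℤ))
    (hw : ∀ p ∈ w, p.1 < D.nroots) (v : List Term) :
    (D.wordMat F (wordVal t w)).mulVec (real D t v) = real D t (applyW D w v) := by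
  induction w with
  | nil =>
    simp [wordVal, ChevalleyDatum.wordMat, applyW]
  | cons p w ih =>
    have hp : p.1 < D.nroots := hw p (List.mem_cons_self)
    have hw' : ∀ q ∈ w, q.1 < D.nroots := fun q hq => hw q (List.mem_cons_of_mem _ hq)
    have h1 : D.wordMat F (wordVal t (p :: w)) =
        D.xMat F ⟨p.1, hp⟩ (((p.2.1 : ℤ) : F) * t ^ p.2.2) * D.wordMat F (wordVal t w) := by
      simp only [wordVal, ChevalleyDatum.wordMat, List.map_cons, List.prod_cons]
      congr 1
      unfold ChevalleyDatum.x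
      rw [dif_pos hp]
    rw [h1, ← Matrix.mulVec_mulVec, ih hw']
    exact real_applyX D t ht p.1 hp p.2.1 p.2.2 _

/-- a matrix is determined by its action on the basis vectors -/
theorem matrix_ext_cols (D : ChevalleyDatum) (M N : Matrix D.Idx D.Idx F)
    (h : ∀ i, M.mulVec (Pi.single i 1) = N.mulVec (Pi.single i 1)) : M = N := by
  ext j i
  have := congrFun (h i) j
  rw [Matrix.mulVec_single_one, Matrix.mulVec_single_one] at this
  exact this

/-- word identity from the column checks -/
theorem wordMat_eq_of_check (D : ChevalleyDatum) (t : F) (ht : t ≠ 0) (w₁ w₂ : List (ℕ × ℤ × ℤ))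
    (hw₁ : ∀ p ∈ w₁, p.1 < D.nroots) (hw₂ : ∀ p ∈ w₂, p.1 < D.nroots)
    (hcheck : ∀ c, c < D.rank + D.nroots →
      eqV (applyW D w₁ [(c, 1, 0)]) (applyW D w₂ [(c, 1, 0)]) = true) :
    D.wordMat F (wordVal t w₁) = D.wordMat F (wordVal t w₂) := by
  apply matrix_ext_cols
  intro i
  rw [← real_basis D t i, real_applyW D t ht w₁ hw₁, real_applyW D t ht w₂ hw₂]
  exact real_eqV D t _ _ (hcheck _ (code_lt D i))

/-- a word equals an explicit matrix with symbolic columns -/
theorem wordMat_eq_of_cols (D : ChevalleyDatum) (t : F) (ht : t ≠ 0) (w : List (ℕ × ℤ × ℤ))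
    (hw : ∀ p ∈ w, p.1 < D.nroots) (M : Matrix D.Idx D.Idx F) (S : ℕ → List Term)
    (hM : ∀ i j, M j i = real D t (S (code D i)) j)
    (hcheck : ∀ c, c < D.rank + D.nroots → eqV (applyW D w [(c, 1, 0)]) (S c) = true) :
    D.wordMat F (wordVal t w) = M := by
  apply matrix_ext_cols
  intro i
  rw [← real_basis D t i, real_applyW D t ht w hw, real_basis, Matrix.mulVec_single_one]
  rw [real_eqV D t _ _ (hcheck _ (code_lt D i))]
  funext j
  exact (hM i j).symm

end Cfsg.Agent.Lib.Helper5.ChevSym
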