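import Mathlib
import Cfsg.Agent.Lib.Helper5.ChevSymE
import Cfsg.Prelude.Def_ChevG2
import Cfsg.Prelude.Def_ChevB2
import Cfsg.Prelude.Def_ChevD4
import Cfsg.Prelude.Def_ChevF4
import Cfsg.Prelude.Def_ChevE6
import Cfsg.Prelude.Def_ChevE7
import Cfsg.Prelude.Def_ChevE8

set_option autoImplicit false
set_option linter.style.haveILetI false
set_option linter.unusedSectionVars false

namespace Cfsg.Agent.Lib.Helper5.ChevSym

open Cfsg.Lie

/-- the symbolic word of `n_r(t)` -/
def nW (D : ChevalleyDatum) (r : ℕ) : List (ℕ × ℤ × ℤ) := [(r, 1, 1), (D.neg r, -1, -1), (r, 1, 1)]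

/-- the symbolic word of `n_r(-1)` -/
def nW1 (D : ChevalleyDatum) (r : ℕ) : List (ℕ × ℤ × ℤ) := [(r, -1, 0), (D.neg r, 1, 0), (r, -1, 0)]

/-- the symbolic word of `h_r(t)` -/
def hW (D : ChevalleyDatum) (r : ℕ) : List (ℕ × ℤ × ℤ) := nW D r ++ nW1 D r

/-- table check: `h_{p_i}(t)` is the expected diagonal matrix -/
def HSimpleOK (D : ChevalleyDatum) : Prop :=
  ∀ i, i < D.rank → (D.simple i < D.nroots ∧ D.neg (D.simple i) < D.nroots ∧
    ∀ c, c < D.rank + D.nroots →
      eqV (applyW D (hW D (D.simple i)) [(c, 1, 0)])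
        [(c, 1, if c < D.rank then 0 else D.cartan i (c - D.rank))] = true)

instance (D : ChevalleyDatum) : Decidable (HSimpleOK D) := by unfold HSimpleOK; infer_instance

set_option maxRecDepth 100000 in
theorem hSimple_G2 : HSimpleOK chevG2 := by decide +kernel
set_option maxRecDepth 100000 in
theorem hSimple_B2 : HSimpleOK chevB2 := by decide +kernel
set_option maxRecDepth 100000 in
theorem hSimple_D4 : HSimpleOK chevD4 := by decide +kernel
set_option maxRecDepth 100000 in
theorem hSimple_F4 : HSimpleOK chevF4 := by decide +kernel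
set_option maxRecDepth 100000 in
theorem hSimple_E6 : HSimpleOK chevE6 := by decide +kernel
set_option maxRecDepth 100000 in
theorem hSimple_E7 : HSimpleOK chevE7 := by decide +kernel

end Cfsg.Agent.Lib.Helper5.ChevSym
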