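import Mathlib
import Cfsg.Agent.Lib.Helper5.ChevSymF

set_option autoImplicit false
set_option linter.style.haveILetI false
set_option linter.unusedSectionVars false

namespace Cfsg.Agent.Lib.Helper5.ChevSym

open Cfsg.Lie

set_option maxRecDepth 100000 in
theorem hSimple_E8 : HSimpleOK chevE8 := by decide +kernel

theorem hSimpleOK_of_mem (D : ChevalleyDatum)
    (hD : D ∈ [chevG2, chevB2, chevD4, chevF4, chevE6, chevE7, chevE8]) : HSimpleOK D := by
  simp only [List.mem_cons, List.not_mem_nil, or_false] at hD
  rcases hD with rfl | rfl | rfl | rfl | rfl | rfl | rfl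
  · exact hSimple_G2
  · exact hSimple_B2
  · exact hSimple_D4
  · exact hSimple_F4
  · exact hSimple_E6
  · exact hSimple_E7
  · exact hSimple_E8

variable {F : Type*} [Field F]

theorem hWord_eq (D : ChevalleyDatum) (r : ℕ) (c : F) :
    D.hWord r c = wordVal c (hW D r) := by
  simp [ChevalleyDatum.hWord, ChevalleyDatum.nWord, wordVal, hW, nW, nW1]

/-- `h_{p_i}(c)` is diagonal -/
theorem hMat_simple (D : ChevalleyDatum)
    (hD : D ∈ [chevG2, chevB2, chevD4, chevF4, chevE6, chevE7, chevE8]) (i : ℕ) (hi : i < D.rank)
    (c : F) (hc : c ≠ 0) :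
    D.hMat F (D.simple i) c =
      Matrix.diagonal (Sum.elim (fun _ => (1 : F)) (fun s : Fin D.nroots => c ^ (D.cartan i s))) := by
  obtain ⟨h1, h2, h3⟩ := hSimpleOK_of_mem D hD i hi
  unfold ChevalleyDatum.hMat
  rw [hWord_eq]
  apply wordMat_eq_of_cols D c hc (hW D (D.simple i)) _ _
    (fun c' => [(c', 1, if c' < D.rank then 0 else D.cartan i (c' - D.rank))]) _ h3
  · intro p hp
    simp only [hW, nW, nW1, List.cons_append, List.nil_append, List.mem_cons, List.not_mem_nil,
      or_false] at hp
    rcases hp with rfl | rfl | rfl | rfl | rfl | rfl <;> assumption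
  · intro i' j
    rw [real_single, Matrix.diagonal_apply]
    by_cases h : j = i'
    · subst h
      rw [if_pos rfl, if_pos rfl]
      rcases j with j0 | s
      · have : code D (Sum.inl j0) < D.rank := j0.2
        simp [tval, this]
      · have h1 : ¬ code D (Sum.inr s) < D.rank := by simp only [code]; omega
        have h2 : code D (Sum.inr s) - D.rank = s.val := by simp only [code]; omega
        simp [tval, h1, h2]
    · rw [if_neg h, if_neg (fun hh => h (code_injective D hh).symm)]

end Cfsg.Agent.Lib.Helper5.ChevSym
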