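import Mathlib
import Cfsg.Prelude.Def_ChevAutomorphisms
import Cfsg.Prelude.Def_ChevG2
import Cfsg.Prelude.Def_ChevB2
import Cfsg.Prelude.Def_ChevD4
import Cfsg.Prelude.Def_ChevF4
import Cfsg.Prelude.Def_ChevE6
import Cfsg.Prelude.Def_ChevE7
import Cfsg.Prelude.Def_ChevE8

set_option autoImplicit false
set_option linter.style.haveILetI false
set_option linter.unusedSectionVars false

namespace Cfsg.Agent.Lib.Helper5.ChevSym

open Cfsg.Lie

/-- values of `row` (whose head has position `idx`) at the increasing positions `keys` -/
def pick : List ℤ → ℕ → List ℕ → List ℤ
  | [], _, _ => []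
  | a :: row, idx, keys =>
    match keys with
    | [] => []
    | k :: ks => if k = idx then a :: pick row (idx + 1) ks else pick row (idx + 1) (k :: ks)

theorem pick_spec (row : List ℤ) : ∀ (idx : ℕ) (keys : List ℕ),
    (pick row idx keys).length = keys.length →
    ∀ n (h : n < keys.length) (h' : n < (pick row idx keys).length),
      (pick row idx keys)[n] = row.getD (keys[n] - idx) 0 ∧ idx ≤ keys[n] := by
  induction row with
  | nil =>
    intro idx keys hl n h
    simp only [pick, List.length_nil] at hl
    omega
  | cons a row ih =>
    intro idx keys hl n h h'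
    cases keys with
    | nil => simp at h
    | cons k ks =>
      by_cases hk : k = idx
      · have hp : pick (a :: row) idx (k :: ks) = a :: pick row (idx + 1) ks := by
          simp only [pick, if_pos hk]
        simp only [hp] at hl h' ⊢
        cases n with
        | zero => simp [hk]
        | succ n =>
          simp only [List.length_cons, Nat.add_right_cancel_iff] at hl
          have h2 : n < ks.length := by simpa using h
          have h3 : n < (pick row (idx + 1) ks).length := by omega
          obtain ⟨e1, e2⟩ := ih (idx + 1) ks hl n h2 h3
          simp only [List.getElem_cons_succ]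
          refine ⟨?_, by omega⟩
          rw [e1]
          have : ks[n] - idx = (ks[n] - (idx + 1)) + 1 := by omega
          rw [this, List.getD_cons_succ]
      · have hp : pick (a :: row) idx (k :: ks) = pick row (idx + 1) (k :: ks) := by
          simp only [pick, if_neg hk]
        simp only [hp] at hl h' ⊢
        obtain ⟨e1, e2⟩ := ih (idx + 1) (k :: ks) hl n h h'
        refine ⟨?_, by omega⟩
        rw [e1]
        have : (k :: ks)[n] - idx = ((k :: ks)[n] - (idx + 1)) + 1 := by omega
        rw [this, List.getD_cons_succ]

/-- the first target of a chain entry -/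
def firstTarget (e : ℕ × Array (ℕ × ℤ)) : ℕ :=
  match e.2.toList with
  | [] => 0
  | q :: _ => q.1

/-- table check: the Cartan integers `A_{p_i, ·}` are additive on roots -/
def cartanAddB (D : ChevalleyDatum) : Bool :=
  (D.negIdx.toList == (List.range D.nroots).reverse) &&
  (List.range D.rank).all fun i =>
    (((D.cartanSR.getD i #[]).toList.reverse == (D.cartanSR.getD i #[]).toList.map (fun a => -a)) &&
     ((D.cartanSR.getD i #[]).toList.length == D.nroots)) &&
    (List.range D.nroots).all fun r =>
      ((pick (D.cartanSR.getD i #[]).toList 0 ((D.chain.getD r #[]).toList.map (fun e => e.1))).length ==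
          (D.chain.getD r #[]).toList.length) &&
      ((pick (D.cartanSR.getD i #[]).toList 0 ((D.chain.getD r #[]).toList.map firstTarget)).length ==
          (D.chain.getD r #[]).toList.length) &&
      (List.zipWith (fun a b => b == (D.cartanSR.getD i #[]).toList.getD r 0 + a)
        (pick (D.cartanSR.getD i #[]).toList 0 ((D.chain.getD r #[]).toList.map (fun e => e.1)))
        (pick (D.cartanSR.getD i #[]).toList 0 ((D.chain.getD r #[]).toList.map firstTarget))).all id

set_option maxRecDepth 100000 in
theorem cartanAdd_G2 : cartanAddB chevG2 = true := by decide +kernel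
set_option maxRecDepth 100000 in
theorem cartanAdd_B2 : cartanAddB chevB2 = true := by decide +kernel
set_option maxRecDepth 100000 in
theorem cartanAdd_D4 : cartanAddB chevD4 = true := by decide +kernel
set_option maxRecDepth 100000 in
theorem cartanAdd_F4 : cartanAddB chevF4 = true := by decide +kernel
set_option maxRecDepth 100000 in
theorem cartanAdd_E6 : cartanAddB chevE6 = true := by decide +kernel

end Cfsg.Agent.Lib.Helper5.ChevSym
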