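import Mathlib
import Cfsg.Agent.Lib.Helper5.ChevSymH

set_option autoImplicit false

namespace Cfsg.Agent.Lib.Helper5.ChevSym

open Cfsg.Lie

set_option maxRecDepth 100000 in
theorem cartanAdd_E7 : cartanAddB chevE7 = true := by decide +kernel

end Cfsg.Agent.Lib.Helper5.ChevSym
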