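import Mathlib
import Cfsg.Agent.Lib.Helper5.ChevSymH

set_option autoImplicit false
set_option linter.style.haveILetI false
set_option linter.unusedSectionVars false

namespace Cfsg.Agent.Lib.Helper5.ChevSym

open Cfsg.Lie

theorem arr_getD {α : Type*} (a : Array α) (s : ℕ) (d : α) : a.getD s d = a.toList.getD s d := by
  by_cases h : s < a.size
  · simp [Array.getD, h, List.getD]
  · simp [Array.getD, h, List.getD]

theorem cartan_eq_getD (D : ChevalleyDatum) (i s : ℕ) :
    D.cartan i s = (D.cartanSR.getD i #[]).toList.getD s 0 := by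
  unfold ChevalleyDatum.cartan
  exact arr_getD _ _ _

theorem neg_eq (D : ChevalleyDatum) (h : cartanAddB D = true) (r : ℕ) (hr : r < D.nroots) :
    D.neg r = D.nroots - 1 - r := by
  unfold cartanAddB at h
  rw [Bool.and_eq_true] at h
  have h1 : D.negIdx.toList = (List.range D.nroots).reverse := by simpa using h.1
  unfold ChevalleyDatum.neg
  rw [arr_getD, h1]
  rw [List.getD_eq_getElem _ _ (by simpa using hr)]
  simp [List.getElem_reverse]

theorem cartan_neg (D : ChevalleyDatum) (h : cartanAddB D = true) (i : ℕ) (hi : i < D.rank)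
    (r : ℕ) (hr : r < D.nroots) : D.cartan i (D.neg r) = - D.cartan i r := by
  rw [neg_eq D h r hr]
  unfold cartanAddB at h
  rw [Bool.and_eq_true] at h
  have h1 := h.2
  rw [List.all_eq_true] at h1
  have h2 := h1 i (List.mem_range.mpr hi)
  rw [Bool.and_eq_true, Bool.and_eq_true] at h2
  have h3 : (D.cartanSR.getD i #[]).toList.reverse = (D.cartanSR.getD i #[]).toList.map (fun a => -a) := by
    simpa using h2.1.1
  have h4 : (D.cartanSR.getD i #[]).toList.length = D.nroots := by simpa using h2.1.2
  rw [cartan_eq_getD, cartan_eq_getD]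
  set row := (D.cartanSR.getD i #[]).toList with hrow
  rw [List.getD_eq_getElem _ _ (by omega), List.getD_eq_getElem _ _ (by omega)]
  have h5 : row.reverse[r]'(by simp; omega) = (row.map (fun a => -a))[r]'(by simp; omega) := by
    simp only [h3]
  rw [List.getElem_reverse, List.getElem_map] at h5
  rw [← h5]
  congr 1
  omega

theorem cartan_add (D : ChevalleyDatum) (h : cartanAddB D = true) (i : ℕ) (hi : i < D.rank)
    (r s k : ℕ) (hr : r < D.nroots) (hk : D.chainRoot r s 1 = some k) :
    D.cartan i k = D.cartan i r + D.cartan i s := by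
  unfold cartanAddB at h
  rw [Bool.and_eq_true] at h
  have h1 := h.2
  rw [List.all_eq_true] at h1
  have h2 := h1 i (List.mem_range.mpr hi)
  rw [Bool.and_eq_true] at h2
  have h3 := h2.2
  rw [List.all_eq_true] at h3
  have h4 := h3 r (List.mem_range.mpr hr)
  rw [Bool.and_eq_true, Bool.and_eq_true] at h4
  obtain ⟨⟨hl1, hl2⟩, hz⟩ := h4
  rw [cartan_eq_getD, cartan_eq_getD, cartan_eq_getD]
  set row := (D.cartanSR.getD i #[]).toList with hrow
  set ents := (D.chain.getD r #[]).toList with hents
  have hl1' : (pick row 0 (ents.map (fun e => e.1))).length = (ents.map (fun e => e.1)).length := by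
    simpa using hl1
  have hl2' : (pick row 0 (ents.map firstTarget)).length =
      (ents.map firstTarget).length := by
    simpa using hl2
  rw [List.all_eq_true] at hz
  -- find the entry
  unfold ChevalleyDatum.chainRoot ChevalleyDatum.chainEntry at hk
  rw [← hents] at hk
  cases hf : ents.find? (fun e => e.1 = s) with
  | none =>
    rw [hf] at hk
    simp at hk
  | some e =>
    rw [hf] at hk
    have hmem := List.mem_of_find?_eq_some hf
    have hes : e.1 = s := by simpa using List.find?_some hf
    simp only at hk
    cases hl : e.2.toList with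
    | nil =>
      rw [hl] at hk
      simp at hk
    | cons q l =>
      rw [hl] at hk
      simp only [Nat.sub_self, List.getElem?_cons_zero, Option.map_some, Option.some.injEq] at hk
      obtain ⟨n, hn, hen⟩ := List.getElem_of_mem hmem
      have hn1 : n < (ents.map (fun e => e.1)).length := by simpa using hn
      have hn2 : n < (ents.map firstTarget).length := by
        simpa using hn
      obtain ⟨a1, _⟩ := pick_spec row 0 _ hl1' n hn1 (by omega)
      obtain ⟨a2, _⟩ := pick_spec row 0 _ hl2' n hn2 (by omega)
      simp only [List.getElem_map, hen, Nat.sub_zero] at a1 a2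
      have hft : firstTarget e = q.1 := by
        unfold firstTarget
        rw [hl]
      have hz' := hz ((pick row 0 (ents.map firstTarget))[n]'(by omega) ==
          row.getD r 0 + (pick row 0 (ents.map (fun e => e.1)))[n]'(by omega)) (by
        rw [List.mem_iff_getElem]
        refine ⟨n, by simp; omega, ?_⟩
        simp)
      simp only [id, beq_iff_eq] at hz'
      rw [a1, a2, hft] at hz'
      rw [← hk, ← hes]
      exact hz'

variable {F : Type*} [Field F]

/-- characters of the form `c ^ f(s)` with `f` additive -/
theorem isRootCharacter_zpow (D : ChevalleyDatum) (f : ℕ → ℤ)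
    (hneg : ∀ r, r < D.nroots → f (D.neg r) = - f r)
    (hadd : ∀ r s k, r < D.nroots → D.chainRoot r s 1 = some k → f k = f r + f s)
    (c : Fˣ) : D.IsRootCharacter (fun s => c ^ f s) := by
  refine ⟨fun r hr => ?_, fun r s k hr _ hk => ?_⟩
  · show c ^ f (D.neg r) = (c ^ f r)⁻¹
    rw [hneg r hr, zpow_neg]
  · show c ^ f k = c ^ f r * c ^ f s
    rw [hadd r s k hr hk, zpow_add]

end Cfsg.Agent.Lib.Helper5.ChevSym
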