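import Mathlib
import Cfsg.Agent.Lib.Helper5.ChevSymI
import Cfsg.Agent.Lib.Helper5.ChevSymH2
import Cfsg.Agent.Lib.Helper5.ChevSymH3

set_option autoImplicit false
set_option linter.style.haveILetI false
set_option linter.unusedSectionVars false

namespace Cfsg.Agent.Lib.Helper5.ChevSym

open Cfsg.Lie

theorem cartanAddB_of_mem (D : ChevalleyDatum)
    (hD : D ∈ [chevG2, chevB2, chevD4, chevF4, chevE6, chevE7, chevE8]) : cartanAddB D = true := by
  simp only [List.mem_cons, List.not_mem_nil, or_false] at hD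
  rcases hD with rfl | rfl | rfl | rfl | rfl | rfl | rfl
  · exact cartanAdd_G2
  · exact cartanAdd_B2
  · exact cartanAdd_D4
  · exact cartanAdd_F4
  · exact cartanAdd_E6
  · exact cartanAdd_E7
  · exact cartanAdd_E8

variable {F : Type*} [Field F]

/-- the character `s ↦ c ^ A_{p_i,s}` of the root lattice -/
theorem isRootCharacter_cartan (D : ChevalleyDatum)
    (hD : D ∈ [chevG2, chevB2, chevD4, chevF4, chevE6, chevE7, chevE8]) (i : ℕ) (hi : i < D.rank)
    (c : Fˣ) : D.IsRootCharacter (fun s => c ^ D.cartan i s) :=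
  isRootCharacter_zpow D (fun s => D.cartan i s)
    (fun r hr => cartan_neg D (cartanAddB_of_mem D hD) i hi r hr)
    (fun r s k hr hk => cartan_add D (cartanAddB_of_mem D hD) i hi r s k hr hk) c

theorem charDiag_mul_inv (D : ChevalleyDatum) (χ : ℕ → Fˣ) :
    D.charDiag F (fun s => (χ s)⁻¹) * D.charDiag F χ = 1 := by
  unfold ChevalleyDatum.charDiag
  rw [Matrix.diagonal_mul_diagonal, ← Matrix.diagonal_one]
  congr 1
  funext j
  rcases j with j | s <;> simp

end Cfsg.Agent.Lib.Helper5.ChevSym
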