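import Mathlib
import Cfsg.Agent.Lib.Helper5.ChevSymF
import Cfsg.Agent.Lib.Helper5.ChevSymI

set_option autoImplicit false
set_option linter.style.haveILetI false
set_option linter.unusedSectionVars false

namespace Cfsg.Agent.Lib.Helper5.ChevSym

open Cfsg.Lie

/-- integer linear combination of rows, of length `n` -/
def lincomb : List (ℤ × List ℤ) → ℕ → List ℤ
  | [], n => List.replicate n 0
  | p :: rest, n => List.zipWith (fun x y => p.1 * x + y) p.2 (lincomb rest n)

theorem lincomb_length (L : List (ℤ × List ℤ)) (n : ℕ) (hL : ∀ p ∈ L, p.2.length = n) :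
    (lincomb L n).length = n := by
  induction L with
  | nil => simp [lincomb]
  | cons p rest ih =>
    have h1 := hL p List.mem_cons_self
    have h2 := ih (fun q hq => hL q (List.mem_cons_of_mem _ hq))
    simp [lincomb, h1, h2]

theorem lincomb_getD (L : List (ℤ × List ℤ)) (n : ℕ) (hL : ∀ p ∈ L, p.2.length = n) (s : ℕ)
    (hs : s < n) :
    (lincomb L n).getD s 0 = (L.map fun p => p.1 * p.2.getD s 0).sum := by
  induction L with
  | nil => simp [lincomb, List.getD, hs]
  | cons p rest ih =>
    have h1 := hL p List.mem_cons_self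
    have hrest : ∀ q ∈ rest, q.2.length = n := fun q hq => hL q (List.mem_cons_of_mem _ hq)
    have h2 := lincomb_length rest n hrest
    have h3 := ih hrest
    rw [List.map_cons, List.sum_cons, ← h3]
    have hl : (lincomb (p :: rest) n).length = n := lincomb_length _ n hL
    rw [List.getD_eq_getElem _ _ (by omega), List.getD_eq_getElem _ _ (by omega),
      List.getD_eq_getElem _ _ (by omega)]
    simp [lincomb]

/-- the vector of exponents `⟨s, r^∨⟩` -/
def kvec (D : ChevalleyDatum) (r : ℕ) : List ℤ :=
  lincomb ((List.range D.rank).map fun i =>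
    ((D.coroot.getD r #[]).toList.getD i 0, (D.cartanSR.getD i #[]).toList)) D.nroots

theorem rows_length (D : ChevalleyDatum) (h : cartanAddB D = true) (i : ℕ) (hi : i < D.rank) :
    (D.cartanSR.getD i #[]).toList.length = D.nroots := by
  unfold cartanAddB at h
  rw [Bool.and_eq_true] at h
  have h1 := h.2
  rw [List.all_eq_true] at h1
  have h2 := h1 i (List.mem_range.mpr hi)
  rw [Bool.and_eq_true, Bool.and_eq_true] at h2
  simpa using h2.1.2

theorem kvec_length (D : ChevalleyDatum) (h : cartanAddB D = true) (r : ℕ) :
    (kvec D r).length = D.nroots := by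
  apply lincomb_length
  intro p hp
  rw [List.mem_map] at hp
  obtain ⟨i, hi, rfl⟩ := hp
  exact rows_length D h i (List.mem_range.mp hi)

theorem kvec_getD (D : ChevalleyDatum) (h : cartanAddB D = true) (r s : ℕ) (hs : s < D.nroots) :
    (kvec D r).getD s 0 = D.pairing r s := by
  unfold kvec
  rw [lincomb_getD _ _ _ s hs]
  · unfold ChevalleyDatum.pairing
    rw [List.map_map]
    congr 1
    apply List.map_congr_left
    intro i _
    simp only [Function.comp]
    rw [cartan_eq_getD, arr_getD (D.coroot.getD r #[]) i 0]
  · intro p hp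
    rw [List.mem_map] at hp
    obtain ⟨i, hi, rfl⟩ := hp
    exact rows_length D h i (List.mem_range.mp hi)

/-- table check for the root `r`: `h_r(t)` is the expected diagonal matrix -/
def HRootB (D : ChevalleyDatum) (r : ℕ) : Bool :=
  decide (D.neg r < D.nroots) &&
  ((List.range D.rank).all fun c => eqV (applyW D (hW D r) [(c, 1, 0)]) [(c, 1, 0)]) &&
  ((kvec D r).zipIdx.all fun p =>
    eqV (applyW D (hW D r) [(D.rank + p.2, 1, 0)]) [(D.rank + p.2, 1, p.1)])

/-- table check for a range of roots -/
def HRangeB (D : ChevalleyDatum) (a n : ℕ) : Bool :=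
  (List.range n).all fun k => HRootB D (a + k)

theorem HRangeB_spec (D : ChevalleyDatum) (a n : ℕ) (h : HRangeB D a n = true) (r : ℕ)
    (h1 : a ≤ r) (h2 : r < a + n) : HRootB D r = true := by
  unfold HRangeB at h
  rw [List.all_eq_true] at h
  have := h (r - a) (List.mem_range.mpr (by omega))
  rwa [Nat.add_sub_cancel' h1] at this

variable {F : Type*} [Field F]

theorem hWord_eq' (D : ChevalleyDatum) (r : ℕ) (c : F) :
    D.hWord r c = wordVal c (hW D r) := by
  simp [ChevalleyDatum.hWord, ChevalleyDatum.nWord, wordVal, hW, nW, nW1]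

/-- `h_r(c)` is diagonal, for any root `r` -/
theorem hMat_root (D : ChevalleyDatum) (hadd : cartanAddB D = true) (r : ℕ) (hr : r < D.nroots)
    (h : HRootB D r = true) (c : F) (hc : c ≠ 0) :
    D.hMat F r c =
      Matrix.diagonal (Sum.elim (fun _ => (1 : F)) (fun s : Fin D.nroots => c ^ (D.pairing r s))) := by
  unfold HRootB at h
  rw [Bool.and_eq_true, Bool.and_eq_true] at h
  obtain ⟨⟨h1, h2⟩, h3⟩ := h
  have h1' : D.neg r < D.nroots := by simpa using h1
  rw [List.all_eq_true] at h2 h3
  unfold ChevalleyDatum.hMat
  rw [hWord_eq']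
  apply wordMat_eq_of_cols D c hc (hW D r) _ _
    (fun c' => [(c', 1, if c' < D.rank then 0 else D.pairing r (c' - D.rank))])
  · intro i' j
    rw [real_single, Matrix.diagonal_apply]
    by_cases hji : j = i'
    · subst hji
      rw [if_pos rfl, if_pos rfl]
      rcases j with j0 | s
      · have : code D (Sum.inl j0) < D.rank := j0.2
        simp [tval, this]
      · have e1 : ¬ code D (Sum.inr s) < D.rank := by simp only [code]; omega
        have e2 : code D (Sum.inr s) - D.rank = s.val := by simp only [code]; omega
        simp [tval, e1, e2]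
    · rw [if_neg hji, if_neg (fun hh => hji (code_injective D hh).symm)]
  · intro c' hc'
    by_cases hlt : c' < D.rank
    · simp only [if_pos hlt]
      exact h2 c' (List.mem_range.mpr hlt)
    · simp only [if_neg hlt]
      have hs : c' - D.rank < D.nroots := by omega
      have hlen := kvec_length D hadd r
      have hmem : ((kvec D r)[c' - D.rank]'(by omega), c' - D.rank) ∈ (kvec D r).zipIdx := by
        rw [List.mk_mem_zipIdx_iff_getElem?]
        exact List.getElem?_eq_getElem (by omega)
      have := h3 _ hmem
      simp only at this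
      have e : D.rank + (c' - D.rank) = c' := by omega
      rw [e] at this
      rw [← kvec_getD D hadd r (c' - D.rank) hs, List.getD_eq_getElem _ _ (by omega)]
      exact this
  · intro p hp
    simp only [hW, nW, nW1, List.cons_append, List.nil_append, List.mem_cons, List.not_mem_nil,
      or_false] at hp
    rcases hp with rfl | rfl | rfl | rfl | rfl | rfl <;> assumption

end Cfsg.Agent.Lib.Helper5.ChevSym
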