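import Mathlib
import Cfsg.Agent.Lib.Helper5.ChevSymN

set_option autoImplicit false

namespace Cfsg.Agent.Lib.Helper5.ChevSym

open Cfsg.Lie

set_option maxRecDepth 100000 in
theorem hAll_G2 : HRangeB chevG2 0 12 = true := by decide +kernel

set_option maxRecDepth 100000 in
theorem hAll_B2 : HRangeB chevB2 0 8 = true := by decide +kernel

set_option maxRecDepth 100000 in
theorem hAll_D4 : HRangeB chevD4 0 24 = true := by decide +kernel

set_option maxRecDepth 100000 in
theorem hAll_F4_0 : HRangeB chevF4 0 12 = true := by decide +kernel

set_option maxRecDepth 100000 in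
theorem hAll_F4_1 : HRangeB chevF4 12 12 = true := by decide +kernel

set_option maxRecDepth 100000 in
theorem hAll_F4_2 : HRangeB chevF4 24 12 = true := by decide +kernel

set_option maxRecDepth 100000 in
theorem hAll_F4_3 : HRangeB chevF4 36 12 = true := by decide +kernel


end Cfsg.Agent.Lib.Helper5.ChevSym
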