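import Mathlib
import Cfsg.Agent.Lib.Helper5.ChevSymN


set_option autoImplicit false

namespace Cfsg.Agent.Lib.Helper5.ChevSym

open Cfsg.Lie

set_option maxRecDepth 100000 in
theorem hRoot_E6_0 : HRootB chevE6 0 = true := by decide +kernel

set_option maxRecDepth 100000 in
theorem hRoot_E6_1 : HRootB chevE6 1 = true := by decide +kernel

set_option maxRecDepth 100000 in
theorem hRoot_E6_2 : HRootB chevE6 2 = true := by decide +kernel

set_option maxRecDepth 100000 in
theorem hRoot_E6_3 : HRootB chevE6 3 = true := by decide +kernel

set_option maxRecDepth 100000 in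
theorem hRoot_E6_4 : HRootB chevE6 4 = true := by decide +kernel

set_option maxRecDepth 100000 in
theorem hRoot_E6_5 : HRootB chevE6 5 = true := by decide +kernel

set_option maxRecDepth 100000 in
theorem hRoot_E6_6 : HRootB chevE6 6 = true := by decide +kernel

set_option maxRecDepth 100000 in
theorem hRoot_E6_7 : HRootB chevE6 7 = true := by decide +kernel

set_option maxRecDepth 100000 in
theorem hRoot_E6_8 : HRootB chevE6 8 = true := by decide +kernel

set_option maxRecDepth 100000 in
theorem hRoot_E6_9 : HRootB chevE6 9 = true := by decide +kernel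

set_option maxRecDepth 100000 in
theorem hRoot_E6_10 : HRootB chevE6 10 = true := by decide +kernel

set_option maxRecDepth 100000 in
theorem hRoot_E6_11 : HRootB chevE6 11 = true := by decide +kernel

set_option maxRecDepth 100000 in
theorem hRoot_E6_12 : HRootB chevE6 12 = true := by decide +kernel

set_option maxRecDepth 100000 in
theorem hRoot_E6_13 : HRootB chevE6 13 = true := by decide +kernel

set_option maxRecDepth 100000 in
theorem hRoot_E6_14 : HRootB chevE6 14 = true := by decide +kernel

set_option maxRecDepth 100000 in
theorem hRoot_E6_15 : HRootB chevE6 15 = true := by decide +kernel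

set_option maxRecDepth 100000 in
theorem hRoot_E6_16 : HRootB chevE6 16 = true := by decide +kernel

set_option maxRecDepth 100000 in
theorem hRoot_E6_17 : HRootB chevE6 17 = true := by decide +kernel

set_option maxRecDepth 100000 in
theorem hRoot_E6_18 : HRootB chevE6 18 = true := by decide +kernel

set_option maxRecDepth 100000 in
theorem hRoot_E6_19 : HRootB chevE6 19 = true := by decide +kernel

set_option maxRecDepth 100000 in
theorem hRoot_E6_20 : HRootB chevE6 20 = true := by decide +kernel

set_option maxRecDepth 100000 in
theorem hRoot_E6_21 : HRootB chevE6 21 = true := by decide +kernel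

set_option maxRecDepth 100000 in
theorem hRoot_E6_22 : HRootB chevE6 22 = true := by decide +kernel

set_option maxRecDepth 100000 in
theorem hRoot_E6_23 : HRootB chevE6 23 = true := by decide +kernel

theorem hRange_E6_0 (r : ℕ) (h1 : 0 ≤ r) (h2 : r < 24) : HRootB chevE6 r = true := by
  interval_cases r
  · exact hRoot_E6_0
  · exact hRoot_E6_1
  · exact hRoot_E6_2
  · exact hRoot_E6_3
  · exact hRoot_E6_4
  · exact hRoot_E6_5
  · exact hRoot_E6_6
  · exact hRoot_E6_7
  · exact hRoot_E6_8
  · exact hRoot_E6_9
  · exact hRoot_E6_10
  · exact hRoot_E6_11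
  · exact hRoot_E6_12
  · exact hRoot_E6_13
  · exact hRoot_E6_14
  · exact hRoot_E6_15
  · exact hRoot_E6_16
  · exact hRoot_E6_17
  · exact hRoot_E6_18
  · exact hRoot_E6_19
  · exact hRoot_E6_20
  · exact hRoot_E6_21
  · exact hRoot_E6_22
  · exact hRoot_E6_23

end Cfsg.Agent.Lib.Helper5.ChevSym
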