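import Mathlib
import Cfsg.Agent.Lib.Helper5.ChevSymN
import Cfsg.Agent.Lib.Helper5.ChevSymPE6x00

set_option autoImplicit false

namespace Cfsg.Agent.Lib.Helper5.ChevSym

open Cfsg.Lie

set_option maxRecDepth 100000 in
theorem hRoot_E6_24 : HRootB chevE6 24 = true := by decide +kernel

set_option maxRecDepth 100000 in
theorem hRoot_E6_25 : HRootB chevE6 25 = true := by decide +kernel

set_option maxRecDepth 100000 in
theorem hRoot_E6_26 : HRootB chevE6 26 = true := by decide +kernel

set_option maxRecDepth 100000 in
theorem hRoot_E6_27 : HRootB chevE6 27 = true := by decide +kernel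

set_option maxRecDepth 100000 in
theorem hRoot_E6_28 : HRootB chevE6 28 = true := by decide +kernel

set_option maxRecDepth 100000 in
theorem hRoot_E6_29 : HRootB chevE6 29 = true := by decide +kernel

set_option maxRecDepth 100000 in
theorem hRoot_E6_30 : HRootB chevE6 30 = true := by decide +kernel

set_option maxRecDepth 100000 in
theorem hRoot_E6_31 : HRootB chevE6 31 = true := by decide +kernel

set_option maxRecDepth 100000 in
theorem hRoot_E6_32 : HRootB chevE6 32 = true := by decide +kernel

set_option maxRecDepth 100000 in
theorem hRoot_E6_33 : HRootB chevE6 33 = true := by decide +kernel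

set_option maxRecDepth 100000 in
theorem hRoot_E6_34 : HRootB chevE6 34 = true := by decide +kernel

set_option maxRecDepth 100000 in
theorem hRoot_E6_35 : HRootB chevE6 35 = true := by decide +kernel

set_option maxRecDepth 100000 in
theorem hRoot_E6_36 : HRootB chevE6 36 = true := by decide +kernel

set_option maxRecDepth 100000 in
theorem hRoot_E6_37 : HRootB chevE6 37 = true := by decide +kernel

set_option maxRecDepth 100000 in
theorem hRoot_E6_38 : HRootB chevE6 38 = true := by decide +kernel

set_option maxRecDepth 100000 in
theorem hRoot_E6_39 : HRootB chevE6 39 = true := by decide +kernel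

set_option maxRecDepth 100000 in
theorem hRoot_E6_40 : HRootB chevE6 40 = true := by decide +kernel

set_option maxRecDepth 100000 in
theorem hRoot_E6_41 : HRootB chevE6 41 = true := by decide +kernel

set_option maxRecDepth 100000 in
theorem hRoot_E6_42 : HRootB chevE6 42 = true := by decide +kernel

set_option maxRecDepth 100000 in
theorem hRoot_E6_43 : HRootB chevE6 43 = true := by decide +kernel

set_option maxRecDepth 100000 in
theorem hRoot_E6_44 : HRootB chevE6 44 = true := by decide +kernel

set_option maxRecDepth 100000 in
theorem hRoot_E6_45 : HRootB chevE6 45 = true := by decide +kernel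

set_option maxRecDepth 100000 in
theorem hRoot_E6_46 : HRootB chevE6 46 = true := by decide +kernel

set_option maxRecDepth 100000 in
theorem hRoot_E6_47 : HRootB chevE6 47 = true := by decide +kernel

theorem hRange_E6_1 (r : ℕ) (h1 : 24 ≤ r) (h2 : r < 48) : HRootB chevE6 r = true := by
  interval_cases r
  · exact hRoot_E6_24
  · exact hRoot_E6_25
  · exact hRoot_E6_26
  · exact hRoot_E6_27
  · exact hRoot_E6_28
  · exact hRoot_E6_29
  · exact hRoot_E6_30
  · exact hRoot_E6_31
  · exact hRoot_E6_32
  · exact hRoot_E6_33
  · exact hRoot_E6_34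
  · exact hRoot_E6_35
  · exact hRoot_E6_36
  · exact hRoot_E6_37
  · exact hRoot_E6_38
  · exact hRoot_E6_39
  · exact hRoot_E6_40
  · exact hRoot_E6_41
  · exact hRoot_E6_42
  · exact hRoot_E6_43
  · exact hRoot_E6_44
  · exact hRoot_E6_45
  · exact hRoot_E6_46
  · exact hRoot_E6_47

end Cfsg.Agent.Lib.Helper5.ChevSym
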