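import Mathlib
import Cfsg.Agent.Lib.Helper5.ChevSymN
import Cfsg.Agent.Lib.Helper5.ChevSymPE6x01

set_option autoImplicit false

namespace Cfsg.Agent.Lib.Helper5.ChevSym

open Cfsg.Lie

set_option maxRecDepth 100000 in
theorem hRoot_E6_48 : HRootB chevE6 48 = true := by decide +kernel

set_option maxRecDepth 100000 in
theorem hRoot_E6_49 : HRootB chevE6 49 = true := by decide +kernel

set_option maxRecDepth 100000 in
theorem hRoot_E6_50 : HRootB chevE6 50 = true := by decide +kernel

set_option maxRecDepth 100000 in
theorem hRoot_E6_51 : HRootB chevE6 51 = true := by decide +kernel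

set_option maxRecDepth 100000 in
theorem hRoot_E6_52 : HRootB chevE6 52 = true := by decide +kernel

set_option maxRecDepth 100000 in
theorem hRoot_E6_53 : HRootB chevE6 53 = true := by decide +kernel

set_option maxRecDepth 100000 in
theorem hRoot_E6_54 : HRootB chevE6 54 = true := by decide +kernel

set_option maxRecDepth 100000 in
theorem hRoot_E6_55 : HRootB chevE6 55 = true := by decide +kernel

set_option maxRecDepth 100000 in
theorem hRoot_E6_56 : HRootB chevE6 56 = true := by decide +kernel

set_option maxRecDepth 100000 in
theorem hRoot_E6_57 : HRootB chevE6 57 = true := by decide +kernel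

set_option maxRecDepth 100000 in
theorem hRoot_E6_58 : HRootB chevE6 58 = true := by decide +kernel

set_option maxRecDepth 100000 in
theorem hRoot_E6_59 : HRootB chevE6 59 = true := by decide +kernel

set_option maxRecDepth 100000 in
theorem hRoot_E6_60 : HRootB chevE6 60 = true := by decide +kernel

set_option maxRecDepth 100000 in
theorem hRoot_E6_61 : HRootB chevE6 61 = true := by decide +kernel

set_option maxRecDepth 100000 in
theorem hRoot_E6_62 : HRootB chevE6 62 = true := by decide +kernel

set_option maxRecDepth 100000 in
theorem hRoot_E6_63 : HRootB chevE6 63 = true := by decide +kernel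

set_option maxRecDepth 100000 in
theorem hRoot_E6_64 : HRootB chevE6 64 = true := by decide +kernel

set_option maxRecDepth 100000 in
theorem hRoot_E6_65 : HRootB chevE6 65 = true := by decide +kernel

set_option maxRecDepth 100000 in
theorem hRoot_E6_66 : HRootB chevE6 66 = true := by decide +kernel

set_option maxRecDepth 100000 in
theorem hRoot_E6_67 : HRootB chevE6 67 = true := by decide +kernel

set_option maxRecDepth 100000 in
theorem hRoot_E6_68 : HRootB chevE6 68 = true := by decide +kernel

set_option maxRecDepth 100000 in
theorem hRoot_E6_69 : HRootB chevE6 69 = true := by decide +kernel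

set_option maxRecDepth 100000 in
theorem hRoot_E6_70 : HRootB chevE6 70 = true := by decide +kernel

set_option maxRecDepth 100000 in
theorem hRoot_E6_71 : HRootB chevE6 71 = true := by decide +kernel

theorem hRange_E6_2 (r : ℕ) (h1 : 48 ≤ r) (h2 : r < 72) : HRootB chevE6 r = true := by
  interval_cases r
  · exact hRoot_E6_48
  · exact hRoot_E6_49
  · exact hRoot_E6_50
  · exact hRoot_E6_51
  · exact hRoot_E6_52
  · exact hRoot_E6_53
  · exact hRoot_E6_54
  · exact hRoot_E6_55
  · exact hRoot_E6_56
  · exact hRoot_E6_57
  · exact hRoot_E6_58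
  · exact hRoot_E6_59
  · exact hRoot_E6_60
  · exact hRoot_E6_61
  · exact hRoot_E6_62
  · exact hRoot_E6_63
  · exact hRoot_E6_64
  · exact hRoot_E6_65
  · exact hRoot_E6_66
  · exact hRoot_E6_67
  · exact hRoot_E6_68
  · exact hRoot_E6_69
  · exact hRoot_E6_70
  · exact hRoot_E6_71

end Cfsg.Agent.Lib.Helper5.ChevSym
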