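import Mathlib
import Cfsg.Agent.Lib.Helper5.ChevSymN
import Cfsg.Agent.Lib.Helper5.ChevSymPE6x00
import Cfsg.Agent.Lib.Helper5.ChevSymPE6x01
import Cfsg.Agent.Lib.Helper5.ChevSymPE6x02

set_option autoImplicit false

namespace Cfsg.Agent.Lib.Helper5.ChevSym

open Cfsg.Lie

theorem hAllRoots_E6 (r : ℕ) (hr : r < chevE6.nroots) : HRootB chevE6 r = true := by
  have hn : chevE6.nroots = 72 := rfl
  rw [hn] at hr
  by_cases h0 : r < 24
  · exact hRange_E6_0 r (by omega) h0
  by_cases h1 : r < 48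
  · exact hRange_E6_1 r (by omega) h1
  exact hRange_E6_2 r (by omega) (by omega)

end Cfsg.Agent.Lib.Helper5.ChevSym
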