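import Mathlib
import Cfsg.Agent.Lib.Helper5.ChevSymN


set_option autoImplicit false

namespace Cfsg.Agent.Lib.Helper5.ChevSym

open Cfsg.Lie

set_option maxRecDepth 100000 in
theorem hRoot_E7_0 : HRootB chevE7 0 = true := by decide +kernel

set_option maxRecDepth 100000 in
theorem hRoot_E7_1 : HRootB chevE7 1 = true := by decide +kernel

set_option maxRecDepth 100000 in
theorem hRoot_E7_2 : HRootB chevE7 2 = true := by decide +kernel

set_option maxRecDepth 100000 in
theorem hRoot_E7_3 : HRootB chevE7 3 = true := by decide +kernel

set_option maxRecDepth 100000 in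
theorem hRoot_E7_4 : HRootB chevE7 4 = true := by decide +kernel

set_option maxRecDepth 100000 in
theorem hRoot_E7_5 : HRootB chevE7 5 = true := by decide +kernel

set_option maxRecDepth 100000 in
theorem hRoot_E7_6 : HRootB chevE7 6 = true := by decide +kernel

set_option maxRecDepth 100000 in
theorem hRoot_E7_7 : HRootB chevE7 7 = true := by decide +kernel

set_option maxRecDepth 100000 in
theorem hRoot_E7_8 : HRootB chevE7 8 = true := by decide +kernel

set_option maxRecDepth 100000 in
theorem hRoot_E7_9 : HRootB chevE7 9 = true := by decide +kernel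

set_option maxRecDepth 100000 in
theorem hRoot_E7_10 : HRootB chevE7 10 = true := by decide +kernel

set_option maxRecDepth 100000 in
theorem hRoot_E7_11 : HRootB chevE7 11 = true := by decide +kernel

set_option maxRecDepth 100000 in
theorem hRoot_E7_12 : HRootB chevE7 12 = true := by decide +kernel

set_option maxRecDepth 100000 in
theorem hRoot_E7_13 : HRootB chevE7 13 = true := by decide +kernel

set_option maxRecDepth 100000 in
theorem hRoot_E7_14 : HRootB chevE7 14 = true := by decide +kernel

set_option maxRecDepth 100000 in
theorem hRoot_E7_15 : HRootB chevE7 15 = true := by decide +kernel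

set_option maxRecDepth 100000 in
theorem hRoot_E7_16 : HRootB chevE7 16 = true := by decide +kernel

set_option maxRecDepth 100000 in
theorem hRoot_E7_17 : HRootB chevE7 17 = true := by decide +kernel

set_option maxRecDepth 100000 in
theorem hRoot_E7_18 : HRootB chevE7 18 = true := by decide +kernel

set_option maxRecDepth 100000 in
theorem hRoot_E7_19 : HRootB chevE7 19 = true := by decide +kernel

set_option maxRecDepth 100000 in
theorem hRoot_E7_20 : HRootB chevE7 20 = true := by decide +kernel

theorem hRange_E7_0 (r : ℕ) (h1 : 0 ≤ r) (h2 : r < 21) : HRootB chevE7 r = true := by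
  interval_cases r
  · exact hRoot_E7_0
  · exact hRoot_E7_1
  · exact hRoot_E7_2
  · exact hRoot_E7_3
  · exact hRoot_E7_4
  · exact hRoot_E7_5
  · exact hRoot_E7_6
  · exact hRoot_E7_7
  · exact hRoot_E7_8
  · exact hRoot_E7_9
  · exact hRoot_E7_10
  · exact hRoot_E7_11
  · exact hRoot_E7_12
  · exact hRoot_E7_13
  · exact hRoot_E7_14
  · exact hRoot_E7_15
  · exact hRoot_E7_16
  · exact hRoot_E7_17
  · exact hRoot_E7_18
  · exact hRoot_E7_19
  · exact hRoot_E7_20

end Cfsg.Agent.Lib.Helper5.ChevSym
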