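import Mathlib
import Cfsg.Agent.Lib.Helper5.ChevSymN


set_option autoImplicit false

namespace Cfsg.Agent.Lib.Helper5.ChevSym

open Cfsg.Lie

set_option maxRecDepth 100000 in
theorem hRoot_E7_21 : HRootB chevE7 21 = true := by decide +kernel

set_option maxRecDepth 100000 in
theorem hRoot_E7_22 : HRootB chevE7 22 = true := by decide +kernel

set_option maxRecDepth 100000 in
theorem hRoot_E7_23 : HRootB chevE7 23 = true := by decide +kernel

set_option maxRecDepth 100000 in
theorem hRoot_E7_24 : HRootB chevE7 24 = true := by decide +kernel

set_option maxRecDepth 100000 in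
theorem hRoot_E7_25 : HRootB chevE7 25 = true := by decide +kernel

set_option maxRecDepth 100000 in
theorem hRoot_E7_26 : HRootB chevE7 26 = true := by decide +kernel

set_option maxRecDepth 100000 in
theorem hRoot_E7_27 : HRootB chevE7 27 = true := by decide +kernel

set_option maxRecDepth 100000 in
theorem hRoot_E7_28 : HRootB chevE7 28 = true := by decide +kernel

set_option maxRecDepth 100000 in
theorem hRoot_E7_29 : HRootB chevE7 29 = true := by decide +kernel

set_option maxRecDepth 100000 in
theorem hRoot_E7_30 : HRootB chevE7 30 = true := by decide +kernel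

set_option maxRecDepth 100000 in
theorem hRoot_E7_31 : HRootB chevE7 31 = true := by decide +kernel

set_option maxRecDepth 100000 in
theorem hRoot_E7_32 : HRootB chevE7 32 = true := by decide +kernel

set_option maxRecDepth 100000 in
theorem hRoot_E7_33 : HRootB chevE7 33 = true := by decide +kernel

set_option maxRecDepth 100000 in
theorem hRoot_E7_34 : HRootB chevE7 34 = true := by decide +kernel

set_option maxRecDepth 100000 in
theorem hRoot_E7_35 : HRootB chevE7 35 = true := by decide +kernel

set_option maxRecDepth 100000 in
theorem hRoot_E7_36 : HRootB chevE7 36 = true := by decide +kernel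

set_option maxRecDepth 100000 in
theorem hRoot_E7_37 : HRootB chevE7 37 = true := by decide +kernel

set_option maxRecDepth 100000 in
theorem hRoot_E7_38 : HRootB chevE7 38 = true := by decide +kernel

set_option maxRecDepth 100000 in
theorem hRoot_E7_39 : HRootB chevE7 39 = true := by decide +kernel

set_option maxRecDepth 100000 in
theorem hRoot_E7_40 : HRootB chevE7 40 = true := by decide +kernel

set_option maxRecDepth 100000 in
theorem hRoot_E7_41 : HRootB chevE7 41 = true := by decide +kernel

theorem hRange_E7_1 (r : ℕ) (h1 : 21 ≤ r) (h2 : r < 42) : HRootB chevE7 r = true := by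
  interval_cases r
  · exact hRoot_E7_21
  · exact hRoot_E7_22
  · exact hRoot_E7_23
  · exact hRoot_E7_24
  · exact hRoot_E7_25
  · exact hRoot_E7_26
  · exact hRoot_E7_27
  · exact hRoot_E7_28
  · exact hRoot_E7_29
  · exact hRoot_E7_30
  · exact hRoot_E7_31
  · exact hRoot_E7_32
  · exact hRoot_E7_33
  · exact hRoot_E7_34
  · exact hRoot_E7_35
  · exact hRoot_E7_36
  · exact hRoot_E7_37
  · exact hRoot_E7_38
  · exact hRoot_E7_39
  · exact hRoot_E7_40
  · exact hRoot_E7_41

end Cfsg.Agent.Lib.Helper5.ChevSym
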