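import Mathlib
import Cfsg.Agent.Lib.Helper5.ChevSymN
import Cfsg.Agent.Lib.Helper5.ChevSymPE7x00

set_option autoImplicit false

namespace Cfsg.Agent.Lib.Helper5.ChevSym

open Cfsg.Lie

set_option maxRecDepth 100000 in
theorem hRoot_E7_42 : HRootB chevE7 42 = true := by decide +kernel

set_option maxRecDepth 100000 in
theorem hRoot_E7_43 : HRootB chevE7 43 = true := by decide +kernel

set_option maxRecDepth 100000 in
theorem hRoot_E7_44 : HRootB chevE7 44 = true := by decide +kernel

set_option maxRecDepth 100000 in
theorem hRoot_E7_45 : HRootB chevE7 45 = true := by decide +kernel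

set_option maxRecDepth 100000 in
theorem hRoot_E7_46 : HRootB chevE7 46 = true := by decide +kernel

set_option maxRecDepth 100000 in
theorem hRoot_E7_47 : HRootB chevE7 47 = true := by decide +kernel

set_option maxRecDepth 100000 in
theorem hRoot_E7_48 : HRootB chevE7 48 = true := by decide +kernel

set_option maxRecDepth 100000 in
theorem hRoot_E7_49 : HRootB chevE7 49 = true := by decide +kernel

set_option maxRecDepth 100000 in
theorem hRoot_E7_50 : HRootB chevE7 50 = true := by decide +kernel

set_option maxRecDepth 100000 in
theorem hRoot_E7_51 : HRootB chevE7 51 = true := by decide +kernel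

set_option maxRecDepth 100000 in
theorem hRoot_E7_52 : HRootB chevE7 52 = true := by decide +kernel

set_option maxRecDepth 100000 in
theorem hRoot_E7_53 : HRootB chevE7 53 = true := by decide +kernel

set_option maxRecDepth 100000 in
theorem hRoot_E7_54 : HRootB chevE7 54 = true := by decide +kernel

set_option maxRecDepth 100000 in
theorem hRoot_E7_55 : HRootB chevE7 55 = true := by decide +kernel

set_option maxRecDepth 100000 in
theorem hRoot_E7_56 : HRootB chevE7 56 = true := by decide +kernel

set_option maxRecDepth 100000 in
theorem hRoot_E7_57 : HRootB chevE7 57 = true := by decide +kernel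

set_option maxRecDepth 100000 in
theorem hRoot_E7_58 : HRootB chevE7 58 = true := by decide +kernel

set_option maxRecDepth 100000 in
theorem hRoot_E7_59 : HRootB chevE7 59 = true := by decide +kernel

set_option maxRecDepth 100000 in
theorem hRoot_E7_60 : HRootB chevE7 60 = true := by decide +kernel

set_option maxRecDepth 100000 in
theorem hRoot_E7_61 : HRootB chevE7 61 = true := by decide +kernel

set_option maxRecDepth 100000 in
theorem hRoot_E7_62 : HRootB chevE7 62 = true := by decide +kernel

theorem hRange_E7_2 (r : ℕ) (h1 : 42 ≤ r) (h2 : r < 63) : HRootB chevE7 r = true := by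
  interval_cases r
  · exact hRoot_E7_42
  · exact hRoot_E7_43
  · exact hRoot_E7_44
  · exact hRoot_E7_45
  · exact hRoot_E7_46
  · exact hRoot_E7_47
  · exact hRoot_E7_48
  · exact hRoot_E7_49
  · exact hRoot_E7_50
  · exact hRoot_E7_51
  · exact hRoot_E7_52
  · exact hRoot_E7_53
  · exact hRoot_E7_54
  · exact hRoot_E7_55
  · exact hRoot_E7_56
  · exact hRoot_E7_57
  · exact hRoot_E7_58
  · exact hRoot_E7_59
  · exact hRoot_E7_60
  · exact hRoot_E7_61
  · exact hRoot_E7_62

end Cfsg.Agent.Lib.Helper5.ChevSym
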