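import Mathlib
import Cfsg.Agent.Lib.Helper5.ChevSymN
import Cfsg.Agent.Lib.Helper5.ChevSymPE7x01

set_option autoImplicit false

namespace Cfsg.Agent.Lib.Helper5.ChevSym

open Cfsg.Lie

set_option maxRecDepth 100000 in
theorem hRoot_E7_63 : HRootB chevE7 63 = true := by decide +kernel

set_option maxRecDepth 100000 in
theorem hRoot_E7_64 : HRootB chevE7 64 = true := by decide +kernel

set_option maxRecDepth 100000 in
theorem hRoot_E7_65 : HRootB chevE7 65 = true := by decide +kernel

set_option maxRecDepth 100000 in
theorem hRoot_E7_66 : HRootB chevE7 66 = true := by decide +kernel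

set_option maxRecDepth 100000 in
theorem hRoot_E7_67 : HRootB chevE7 67 = true := by decide +kernel

set_option maxRecDepth 100000 in
theorem hRoot_E7_68 : HRootB chevE7 68 = true := by decide +kernel

set_option maxRecDepth 100000 in
theorem hRoot_E7_69 : HRootB chevE7 69 = true := by decide +kernel

set_option maxRecDepth 100000 in
theorem hRoot_E7_70 : HRootB chevE7 70 = true := by decide +kernel

set_option maxRecDepth 100000 in
theorem hRoot_E7_71 : HRootB chevE7 71 = true := by decide +kernel

set_option maxRecDepth 100000 in
theorem hRoot_E7_72 : HRootB chevE7 72 = true := by decide +kernel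

set_option maxRecDepth 100000 in
theorem hRoot_E7_73 : HRootB chevE7 73 = true := by decide +kernel

set_option maxRecDepth 100000 in
theorem hRoot_E7_74 : HRootB chevE7 74 = true := by decide +kernel

set_option maxRecDepth 100000 in
theorem hRoot_E7_75 : HRootB chevE7 75 = true := by decide +kernel

set_option maxRecDepth 100000 in
theorem hRoot_E7_76 : HRootB chevE7 76 = true := by decide +kernel

set_option maxRecDepth 100000 in
theorem hRoot_E7_77 : HRootB chevE7 77 = true := by decide +kernel

set_option maxRecDepth 100000 in
theorem hRoot_E7_78 : HRootB chevE7 78 = true := by decide +kernel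

set_option maxRecDepth 100000 in
theorem hRoot_E7_79 : HRootB chevE7 79 = true := by decide +kernel

set_option maxRecDepth 100000 in
theorem hRoot_E7_80 : HRootB chevE7 80 = true := by decide +kernel

set_option maxRecDepth 100000 in
theorem hRoot_E7_81 : HRootB chevE7 81 = true := by decide +kernel

set_option maxRecDepth 100000 in
theorem hRoot_E7_82 : HRootB chevE7 82 = true := by decide +kernel

set_option maxRecDepth 100000 in
theorem hRoot_E7_83 : HRootB chevE7 83 = true := by decide +kernel

theorem hRange_E7_3 (r : ℕ) (h1 : 63 ≤ r) (h2 : r < 84) : HRootB chevE7 r = true := by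
  interval_cases r
  · exact hRoot_E7_63
  · exact hRoot_E7_64
  · exact hRoot_E7_65
  · exact hRoot_E7_66
  · exact hRoot_E7_67
  · exact hRoot_E7_68
  · exact hRoot_E7_69
  · exact hRoot_E7_70
  · exact hRoot_E7_71
  · exact hRoot_E7_72
  · exact hRoot_E7_73
  · exact hRoot_E7_74
  · exact hRoot_E7_75
  · exact hRoot_E7_76
  · exact hRoot_E7_77
  · exact hRoot_E7_78
  · exact hRoot_E7_79
  · exact hRoot_E7_80
  · exact hRoot_E7_81
  · exact hRoot_E7_82
  · exact hRoot_E7_83

end Cfsg.Agent.Lib.Helper5.ChevSym
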