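import Mathlib
import Cfsg.Agent.Lib.Helper5.ChevSymN
import Cfsg.Agent.Lib.Helper5.ChevSymPE7x02

set_option autoImplicit false

namespace Cfsg.Agent.Lib.Helper5.ChevSym

open Cfsg.Lie

set_option maxRecDepth 100000 in
theorem hRoot_E7_84 : HRootB chevE7 84 = true := by decide +kernel

set_option maxRecDepth 100000 in
theorem hRoot_E7_85 : HRootB chevE7 85 = true := by decide +kernel

set_option maxRecDepth 100000 in
theorem hRoot_E7_86 : HRootB chevE7 86 = true := by decide +kernel

set_option maxRecDepth 100000 in
theorem hRoot_E7_87 : HRootB chevE7 87 = true := by decide +kernel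

set_option maxRecDepth 100000 in
theorem hRoot_E7_88 : HRootB chevE7 88 = true := by decide +kernel

set_option maxRecDepth 100000 in
theorem hRoot_E7_89 : HRootB chevE7 89 = true := by decide +kernel

set_option maxRecDepth 100000 in
theorem hRoot_E7_90 : HRootB chevE7 90 = true := by decide +kernel

set_option maxRecDepth 100000 in
theorem hRoot_E7_91 : HRootB chevE7 91 = true := by decide +kernel

set_option maxRecDepth 100000 in
theorem hRoot_E7_92 : HRootB chevE7 92 = true := by decide +kernel

set_option maxRecDepth 100000 in
theorem hRoot_E7_93 : HRootB chevE7 93 = true := by decide +kernel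

set_option maxRecDepth 100000 in
theorem hRoot_E7_94 : HRootB chevE7 94 = true := by decide +kernel

set_option maxRecDepth 100000 in
theorem hRoot_E7_95 : HRootB chevE7 95 = true := by decide +kernel

set_option maxRecDepth 100000 in
theorem hRoot_E7_96 : HRootB chevE7 96 = true := by decide +kernel

set_option maxRecDepth 100000 in
theorem hRoot_E7_97 : HRootB chevE7 97 = true := by decide +kernel

set_option maxRecDepth 100000 in
theorem hRoot_E7_98 : HRootB chevE7 98 = true := by decide +kernel

set_option maxRecDepth 100000 in
theorem hRoot_E7_99 : HRootB chevE7 99 = true := by decide +kernel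

set_option maxRecDepth 100000 in
theorem hRoot_E7_100 : HRootB chevE7 100 = true := by decide +kernel

set_option maxRecDepth 100000 in
theorem hRoot_E7_101 : HRootB chevE7 101 = true := by decide +kernel

set_option maxRecDepth 100000 in
theorem hRoot_E7_102 : HRootB chevE7 102 = true := by decide +kernel

set_option maxRecDepth 100000 in
theorem hRoot_E7_103 : HRootB chevE7 103 = true := by decide +kernel

set_option maxRecDepth 100000 in
theorem hRoot_E7_104 : HRootB chevE7 104 = true := by decide +kernel

theorem hRange_E7_4 (r : ℕ) (h1 : 84 ≤ r) (h2 : r < 105) : HRootB chevE7 r = true := by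
  interval_cases r
  · exact hRoot_E7_84
  · exact hRoot_E7_85
  · exact hRoot_E7_86
  · exact hRoot_E7_87
  · exact hRoot_E7_88
  · exact hRoot_E7_89
  · exact hRoot_E7_90
  · exact hRoot_E7_91
  · exact hRoot_E7_92
  · exact hRoot_E7_93
  · exact hRoot_E7_94
  · exact hRoot_E7_95
  · exact hRoot_E7_96
  · exact hRoot_E7_97
  · exact hRoot_E7_98
  · exact hRoot_E7_99
  · exact hRoot_E7_100
  · exact hRoot_E7_101
  · exact hRoot_E7_102
  · exact hRoot_E7_103
  · exact hRoot_E7_104

end Cfsg.Agent.Lib.Helper5.ChevSym
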