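import Mathlib
import Cfsg.Agent.Lib.Helper5.ChevSymN
import Cfsg.Agent.Lib.Helper5.ChevSymPE7x03

set_option autoImplicit false

namespace Cfsg.Agent.Lib.Helper5.ChevSym

open Cfsg.Lie

set_option maxRecDepth 100000 in
theorem hRoot_E7_105 : HRootB chevE7 105 = true := by decide +kernel

set_option maxRecDepth 100000 in
theorem hRoot_E7_106 : HRootB chevE7 106 = true := by decide +kernel

set_option maxRecDepth 100000 in
theorem hRoot_E7_107 : HRootB chevE7 107 = true := by decide +kernel

set_option maxRecDepth 100000 in
theorem hRoot_E7_108 : HRootB chevE7 108 = true := by decide +kernel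

set_option maxRecDepth 100000 in
theorem hRoot_E7_109 : HRootB chevE7 109 = true := by decide +kernel

set_option maxRecDepth 100000 in
theorem hRoot_E7_110 : HRootB chevE7 110 = true := by decide +kernel

set_option maxRecDepth 100000 in
theorem hRoot_E7_111 : HRootB chevE7 111 = true := by decide +kernel

set_option maxRecDepth 100000 in
theorem hRoot_E7_112 : HRootB chevE7 112 = true := by decide +kernel

set_option maxRecDepth 100000 in
theorem hRoot_E7_113 : HRootB chevE7 113 = true := by decide +kernel

set_option maxRecDepth 100000 in
theorem hRoot_E7_114 : HRootB chevE7 114 = true := by decide +kernel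

set_option maxRecDepth 100000 in
theorem hRoot_E7_115 : HRootB chevE7 115 = true := by decide +kernel

set_option maxRecDepth 100000 in
theorem hRoot_E7_116 : HRootB chevE7 116 = true := by decide +kernel

set_option maxRecDepth 100000 in
theorem hRoot_E7_117 : HRootB chevE7 117 = true := by decide +kernel

set_option maxRecDepth 100000 in
theorem hRoot_E7_118 : HRootB chevE7 118 = true := by decide +kernel

set_option maxRecDepth 100000 in
theorem hRoot_E7_119 : HRootB chevE7 119 = true := by decide +kernel

set_option maxRecDepth 100000 in
theorem hRoot_E7_120 : HRootB chevE7 120 = true := by decide +kernel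

set_option maxRecDepth 100000 in
theorem hRoot_E7_121 : HRootB chevE7 121 = true := by decide +kernel

set_option maxRecDepth 100000 in
theorem hRoot_E7_122 : HRootB chevE7 122 = true := by decide +kernel

set_option maxRecDepth 100000 in
theorem hRoot_E7_123 : HRootB chevE7 123 = true := by decide +kernel

set_option maxRecDepth 100000 in
theorem hRoot_E7_124 : HRootB chevE7 124 = true := by decide +kernel

set_option maxRecDepth 100000 in
theorem hRoot_E7_125 : HRootB chevE7 125 = true := by decide +kernel

theorem hRange_E7_5 (r : ℕ) (h1 : 105 ≤ r) (h2 : r < 126) : HRootB chevE7 r = true := by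
  interval_cases r
  · exact hRoot_E7_105
  · exact hRoot_E7_106
  · exact hRoot_E7_107
  · exact hRoot_E7_108
  · exact hRoot_E7_109
  · exact hRoot_E7_110
  · exact hRoot_E7_111
  · exact hRoot_E7_112
  · exact hRoot_E7_113
  · exact hRoot_E7_114
  · exact hRoot_E7_115
  · exact hRoot_E7_116
  · exact hRoot_E7_117
  · exact hRoot_E7_118
  · exact hRoot_E7_119
  · exact hRoot_E7_120
  · exact hRoot_E7_121
  · exact hRoot_E7_122
  · exact hRoot_E7_123
  · exact hRoot_E7_124
  · exact hRoot_E7_125

end Cfsg.Agent.Lib.Helper5.ChevSym
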