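import Mathlib
import Cfsg.Agent.Lib.Helper5.ChevSymN
import Cfsg.Agent.Lib.Helper5.ChevSymPE7x00
import Cfsg.Agent.Lib.Helper5.ChevSymPE7x01
import Cfsg.Agent.Lib.Helper5.ChevSymPE7x02
import Cfsg.Agent.Lib.Helper5.ChevSymPE7x03
import Cfsg.Agent.Lib.Helper5.ChevSymPE7x04
import Cfsg.Agent.Lib.Helper5.ChevSymPE7x05

set_option autoImplicit false

namespace Cfsg.Agent.Lib.Helper5.ChevSym

open Cfsg.Lie

theorem hAllRoots_E7 (r : ℕ) (hr : r < chevE7.nroots) : HRootB chevE7 r = true := by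
  have hn : chevE7.nroots = 126 := rfl
  rw [hn] at hr
  by_cases h0 : r < 21
  · exact hRange_E7_0 r (by omega) h0
  by_cases h1 : r < 42
  · exact hRange_E7_1 r (by omega) h1
  by_cases h2 : r < 63
  · exact hRange_E7_2 r (by omega) h2
  by_cases h3 : r < 84
  · exact hRange_E7_3 r (by omega) h3
  by_cases h4 : r < 105
  · exact hRange_E7_4 r (by omega) h4
  exact hRange_E7_5 r (by omega) (by omega)

end Cfsg.Agent.Lib.Helper5.ChevSym
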