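import Mathlib
import Cfsg.Agent.Lib.Helper5.ChevSymN


set_option autoImplicit false

namespace Cfsg.Agent.Lib.Helper5.ChevSym

open Cfsg.Lie

set_option maxRecDepth 100000 in
theorem hRoot_E8_0 : HRootB chevE8 0 = true := by decide +kernel

set_option maxRecDepth 100000 in
theorem hRoot_E8_1 : HRootB chevE8 1 = true := by decide +kernel

set_option maxRecDepth 100000 in
theorem hRoot_E8_2 : HRootB chevE8 2 = true := by decide +kernel

set_option maxRecDepth 100000 in
theorem hRoot_E8_3 : HRootB chevE8 3 = true := by decide +kernel

set_option maxRecDepth 100000 in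
theorem hRoot_E8_4 : HRootB chevE8 4 = true := by decide +kernel

set_option maxRecDepth 100000 in
theorem hRoot_E8_5 : HRootB chevE8 5 = true := by decide +kernel

set_option maxRecDepth 100000 in
theorem hRoot_E8_6 : HRootB chevE8 6 = true := by decide +kernel

set_option maxRecDepth 100000 in
theorem hRoot_E8_7 : HRootB chevE8 7 = true := by decide +kernel

set_option maxRecDepth 100000 in
theorem hRoot_E8_8 : HRootB chevE8 8 = true := by decide +kernel

set_option maxRecDepth 100000 in
theorem hRoot_E8_9 : HRootB chevE8 9 = true := by decide +kernel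

set_option maxRecDepth 100000 in
theorem hRoot_E8_10 : HRootB chevE8 10 = true := by decide +kernel

set_option maxRecDepth 100000 in
theorem hRoot_E8_11 : HRootB chevE8 11 = true := by decide +kernel

set_option maxRecDepth 100000 in
theorem hRoot_E8_12 : HRootB chevE8 12 = true := by decide +kernel

set_option maxRecDepth 100000 in
theorem hRoot_E8_13 : HRootB chevE8 13 = true := by decide +kernel

set_option maxRecDepth 100000 in
theorem hRoot_E8_14 : HRootB chevE8 14 = true := by decide +kernel

theorem hRange_E8_0 (r : ℕ) (h1 : 0 ≤ r) (h2 : r < 15) : HRootB chevE8 r = true := by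
  interval_cases r
  · exact hRoot_E8_0
  · exact hRoot_E8_1
  · exact hRoot_E8_2
  · exact hRoot_E8_3
  · exact hRoot_E8_4
  · exact hRoot_E8_5
  · exact hRoot_E8_6
  · exact hRoot_E8_7
  · exact hRoot_E8_8
  · exact hRoot_E8_9
  · exact hRoot_E8_10
  · exact hRoot_E8_11
  · exact hRoot_E8_12
  · exact hRoot_E8_13
  · exact hRoot_E8_14

end Cfsg.Agent.Lib.Helper5.ChevSym
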