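import Mathlib
import Cfsg.Agent.Lib.Helper5.ChevSymN


set_option autoImplicit false

namespace Cfsg.Agent.Lib.Helper5.ChevSym

open Cfsg.Lie

set_option maxRecDepth 100000 in
theorem hRoot_E8_15 : HRootB chevE8 15 = true := by decide +kernel

set_option maxRecDepth 100000 in
theorem hRoot_E8_16 : HRootB chevE8 16 = true := by decide +kernel

set_option maxRecDepth 100000 in
theorem hRoot_E8_17 : HRootB chevE8 17 = true := by decide +kernel

set_option maxRecDepth 100000 in
theorem hRoot_E8_18 : HRootB chevE8 18 = true := by decide +kernel

set_option maxRecDepth 100000 in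
theorem hRoot_E8_19 : HRootB chevE8 19 = true := by decide +kernel

set_option maxRecDepth 100000 in
theorem hRoot_E8_20 : HRootB chevE8 20 = true := by decide +kernel

set_option maxRecDepth 100000 in
theorem hRoot_E8_21 : HRootB chevE8 21 = true := by decide +kernel

set_option maxRecDepth 100000 in
theorem hRoot_E8_22 : HRootB chevE8 22 = true := by decide +kernel

set_option maxRecDepth 100000 in
theorem hRoot_E8_23 : HRootB chevE8 23 = true := by decide +kernel

set_option maxRecDepth 100000 in
theorem hRoot_E8_24 : HRootB chevE8 24 = true := by decide +kernel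

set_option maxRecDepth 100000 in
theorem hRoot_E8_25 : HRootB chevE8 25 = true := by decide +kernel

set_option maxRecDepth 100000 in
theorem hRoot_E8_26 : HRootB chevE8 26 = true := by decide +kernel

set_option maxRecDepth 100000 in
theorem hRoot_E8_27 : HRootB chevE8 27 = true := by decide +kernel

set_option maxRecDepth 100000 in
theorem hRoot_E8_28 : HRootB chevE8 28 = true := by decide +kernel

set_option maxRecDepth 100000 in
theorem hRoot_E8_29 : HRootB chevE8 29 = true := by decide +kernel

theorem hRange_E8_1 (r : ℕ) (h1 : 15 ≤ r) (h2 : r < 30) : HRootB chevE8 r = true := by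
  interval_cases r
  · exact hRoot_E8_15
  · exact hRoot_E8_16
  · exact hRoot_E8_17
  · exact hRoot_E8_18
  · exact hRoot_E8_19
  · exact hRoot_E8_20
  · exact hRoot_E8_21
  · exact hRoot_E8_22
  · exact hRoot_E8_23
  · exact hRoot_E8_24
  · exact hRoot_E8_25
  · exact hRoot_E8_26
  · exact hRoot_E8_27
  · exact hRoot_E8_28
  · exact hRoot_E8_29

end Cfsg.Agent.Lib.Helper5.ChevSym
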