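import Mathlib
import Cfsg.Agent.Lib.Helper5.ChevSymN
import Cfsg.Agent.Lib.Helper5.ChevSymPE8x00

set_option autoImplicit false

namespace Cfsg.Agent.Lib.Helper5.ChevSym

open Cfsg.Lie

set_option maxRecDepth 100000 in
theorem hRoot_E8_30 : HRootB chevE8 30 = true := by decide +kernel

set_option maxRecDepth 100000 in
theorem hRoot_E8_31 : HRootB chevE8 31 = true := by decide +kernel

set_option maxRecDepth 100000 in
theorem hRoot_E8_32 : HRootB chevE8 32 = true := by decide +kernel

set_option maxRecDepth 100000 in
theorem hRoot_E8_33 : HRootB chevE8 33 = true := by decide +kernel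

set_option maxRecDepth 100000 in
theorem hRoot_E8_34 : HRootB chevE8 34 = true := by decide +kernel

set_option maxRecDepth 100000 in
theorem hRoot_E8_35 : HRootB chevE8 35 = true := by decide +kernel

set_option maxRecDepth 100000 in
theorem hRoot_E8_36 : HRootB chevE8 36 = true := by decide +kernel

set_option maxRecDepth 100000 in
theorem hRoot_E8_37 : HRootB chevE8 37 = true := by decide +kernel

set_option maxRecDepth 100000 in
theorem hRoot_E8_38 : HRootB chevE8 38 = true := by decide +kernel

set_option maxRecDepth 100000 in
theorem hRoot_E8_39 : HRootB chevE8 39 = true := by decide +kernel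

set_option maxRecDepth 100000 in
theorem hRoot_E8_40 : HRootB chevE8 40 = true := by decide +kernel

set_option maxRecDepth 100000 in
theorem hRoot_E8_41 : HRootB chevE8 41 = true := by decide +kernel

set_option maxRecDepth 100000 in
theorem hRoot_E8_42 : HRootB chevE8 42 = true := by decide +kernel

set_option maxRecDepth 100000 in
theorem hRoot_E8_43 : HRootB chevE8 43 = true := by decide +kernel

set_option maxRecDepth 100000 in
theorem hRoot_E8_44 : HRootB chevE8 44 = true := by decide +kernel

theorem hRange_E8_2 (r : ℕ) (h1 : 30 ≤ r) (h2 : r < 45) : HRootB chevE8 r = true := by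
  interval_cases r
  · exact hRoot_E8_30
  · exact hRoot_E8_31
  · exact hRoot_E8_32
  · exact hRoot_E8_33
  · exact hRoot_E8_34
  · exact hRoot_E8_35
  · exact hRoot_E8_36
  · exact hRoot_E8_37
  · exact hRoot_E8_38
  · exact hRoot_E8_39
  · exact hRoot_E8_40
  · exact hRoot_E8_41
  · exact hRoot_E8_42
  · exact hRoot_E8_43
  · exact hRoot_E8_44

end Cfsg.Agent.Lib.Helper5.ChevSym
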