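import Mathlib
import Cfsg.Agent.Lib.Helper5.ChevSymN
import Cfsg.Agent.Lib.Helper5.ChevSymPE8x01

set_option autoImplicit false

namespace Cfsg.Agent.Lib.Helper5.ChevSym

open Cfsg.Lie

set_option maxRecDepth 100000 in
theorem hRoot_E8_45 : HRootB chevE8 45 = true := by decide +kernel

set_option maxRecDepth 100000 in
theorem hRoot_E8_46 : HRootB chevE8 46 = true := by decide +kernel

set_option maxRecDepth 100000 in
theorem hRoot_E8_47 : HRootB chevE8 47 = true := by decide +kernel

set_option maxRecDepth 100000 in
theorem hRoot_E8_48 : HRootB chevE8 48 = true := by decide +kernel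

set_option maxRecDepth 100000 in
theorem hRoot_E8_49 : HRootB chevE8 49 = true := by decide +kernel

set_option maxRecDepth 100000 in
theorem hRoot_E8_50 : HRootB chevE8 50 = true := by decide +kernel

set_option maxRecDepth 100000 in
theorem hRoot_E8_51 : HRootB chevE8 51 = true := by decide +kernel

set_option maxRecDepth 100000 in
theorem hRoot_E8_52 : HRootB chevE8 52 = true := by decide +kernel

set_option maxRecDepth 100000 in
theorem hRoot_E8_53 : HRootB chevE8 53 = true := by decide +kernel

set_option maxRecDepth 100000 in
theorem hRoot_E8_54 : HRootB chevE8 54 = true := by decide +kernel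

set_option maxRecDepth 100000 in
theorem hRoot_E8_55 : HRootB chevE8 55 = true := by decide +kernel

set_option maxRecDepth 100000 in
theorem hRoot_E8_56 : HRootB chevE8 56 = true := by decide +kernel

set_option maxRecDepth 100000 in
theorem hRoot_E8_57 : HRootB chevE8 57 = true := by decide +kernel

set_option maxRecDepth 100000 in
theorem hRoot_E8_58 : HRootB chevE8 58 = true := by decide +kernel

set_option maxRecDepth 100000 in
theorem hRoot_E8_59 : HRootB chevE8 59 = true := by decide +kernel

theorem hRange_E8_3 (r : ℕ) (h1 : 45 ≤ r) (h2 : r < 60) : HRootB chevE8 r = true := by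
  interval_cases r
  · exact hRoot_E8_45
  · exact hRoot_E8_46
  · exact hRoot_E8_47
  · exact hRoot_E8_48
  · exact hRoot_E8_49
  · exact hRoot_E8_50
  · exact hRoot_E8_51
  · exact hRoot_E8_52
  · exact hRoot_E8_53
  · exact hRoot_E8_54
  · exact hRoot_E8_55
  · exact hRoot_E8_56
  · exact hRoot_E8_57
  · exact hRoot_E8_58
  · exact hRoot_E8_59

end Cfsg.Agent.Lib.Helper5.ChevSym
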