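import Mathlib
import Cfsg.Agent.Lib.Helper5.ChevSymN
import Cfsg.Agent.Lib.Helper5.ChevSymPE8x02

set_option autoImplicit false

namespace Cfsg.Agent.Lib.Helper5.ChevSym

open Cfsg.Lie

set_option maxRecDepth 100000 in
theorem hRoot_E8_60 : HRootB chevE8 60 = true := by decide +kernel

set_option maxRecDepth 100000 in
theorem hRoot_E8_61 : HRootB chevE8 61 = true := by decide +kernel

set_option maxRecDepth 100000 in
theorem hRoot_E8_62 : HRootB chevE8 62 = true := by decide +kernel

set_option maxRecDepth 100000 in
theorem hRoot_E8_63 : HRootB chevE8 63 = true := by decide +kernel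

set_option maxRecDepth 100000 in
theorem hRoot_E8_64 : HRootB chevE8 64 = true := by decide +kernel

set_option maxRecDepth 100000 in
theorem hRoot_E8_65 : HRootB chevE8 65 = true := by decide +kernel

set_option maxRecDepth 100000 in
theorem hRoot_E8_66 : HRootB chevE8 66 = true := by decide +kernel

set_option maxRecDepth 100000 in
theorem hRoot_E8_67 : HRootB chevE8 67 = true := by decide +kernel

set_option maxRecDepth 100000 in
theorem hRoot_E8_68 : HRootB chevE8 68 = true := by decide +kernel

set_option maxRecDepth 100000 in
theorem hRoot_E8_69 : HRootB chevE8 69 = true := by decide +kernel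

set_option maxRecDepth 100000 in
theorem hRoot_E8_70 : HRootB chevE8 70 = true := by decide +kernel

set_option maxRecDepth 100000 in
theorem hRoot_E8_71 : HRootB chevE8 71 = true := by decide +kernel

set_option maxRecDepth 100000 in
theorem hRoot_E8_72 : HRootB chevE8 72 = true := by decide +kernel

set_option maxRecDepth 100000 in
theorem hRoot_E8_73 : HRootB chevE8 73 = true := by decide +kernel

set_option maxRecDepth 100000 in
theorem hRoot_E8_74 : HRootB chevE8 74 = true := by decide +kernel

theorem hRange_E8_4 (r : ℕ) (h1 : 60 ≤ r) (h2 : r < 75) : HRootB chevE8 r = true := by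
  interval_cases r
  · exact hRoot_E8_60
  · exact hRoot_E8_61
  · exact hRoot_E8_62
  · exact hRoot_E8_63
  · exact hRoot_E8_64
  · exact hRoot_E8_65
  · exact hRoot_E8_66
  · exact hRoot_E8_67
  · exact hRoot_E8_68
  · exact hRoot_E8_69
  · exact hRoot_E8_70
  · exact hRoot_E8_71
  · exact hRoot_E8_72
  · exact hRoot_E8_73
  · exact hRoot_E8_74

end Cfsg.Agent.Lib.Helper5.ChevSym
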