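import Mathlib
import Cfsg.Agent.Lib.Helper5.ChevSymN
import Cfsg.Agent.Lib.Helper5.ChevSymPE8x03

set_option autoImplicit false

namespace Cfsg.Agent.Lib.Helper5.ChevSym

open Cfsg.Lie

set_option maxRecDepth 100000 in
theorem hRoot_E8_75 : HRootB chevE8 75 = true := by decide +kernel

set_option maxRecDepth 100000 in
theorem hRoot_E8_76 : HRootB chevE8 76 = true := by decide +kernel

set_option maxRecDepth 100000 in
theorem hRoot_E8_77 : HRootB chevE8 77 = true := by decide +kernel

set_option maxRecDepth 100000 in
theorem hRoot_E8_78 : HRootB chevE8 78 = true := by decide +kernel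

set_option maxRecDepth 100000 in
theorem hRoot_E8_79 : HRootB chevE8 79 = true := by decide +kernel

set_option maxRecDepth 100000 in
theorem hRoot_E8_80 : HRootB chevE8 80 = true := by decide +kernel

set_option maxRecDepth 100000 in
theorem hRoot_E8_81 : HRootB chevE8 81 = true := by decide +kernel

set_option maxRecDepth 100000 in
theorem hRoot_E8_82 : HRootB chevE8 82 = true := by decide +kernel

set_option maxRecDepth 100000 in
theorem hRoot_E8_83 : HRootB chevE8 83 = true := by decide +kernel

set_option maxRecDepth 100000 in
theorem hRoot_E8_84 : HRootB chevE8 84 = true := by decide +kernel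

set_option maxRecDepth 100000 in
theorem hRoot_E8_85 : HRootB chevE8 85 = true := by decide +kernel

set_option maxRecDepth 100000 in
theorem hRoot_E8_86 : HRootB chevE8 86 = true := by decide +kernel

set_option maxRecDepth 100000 in
theorem hRoot_E8_87 : HRootB chevE8 87 = true := by decide +kernel

set_option maxRecDepth 100000 in
theorem hRoot_E8_88 : HRootB chevE8 88 = true := by decide +kernel

set_option maxRecDepth 100000 in
theorem hRoot_E8_89 : HRootB chevE8 89 = true := by decide +kernel

theorem hRange_E8_5 (r : ℕ) (h1 : 75 ≤ r) (h2 : r < 90) : HRootB chevE8 r = true := by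
  interval_cases r
  · exact hRoot_E8_75
  · exact hRoot_E8_76
  · exact hRoot_E8_77
  · exact hRoot_E8_78
  · exact hRoot_E8_79
  · exact hRoot_E8_80
  · exact hRoot_E8_81
  · exact hRoot_E8_82
  · exact hRoot_E8_83
  · exact hRoot_E8_84
  · exact hRoot_E8_85
  · exact hRoot_E8_86
  · exact hRoot_E8_87
  · exact hRoot_E8_88
  · exact hRoot_E8_89

end Cfsg.Agent.Lib.Helper5.ChevSym
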