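import Mathlib
import Cfsg.Agent.Lib.Helper5.ChevSymN
import Cfsg.Agent.Lib.Helper5.ChevSymPE8x04

set_option autoImplicit false

namespace Cfsg.Agent.Lib.Helper5.ChevSym

open Cfsg.Lie

set_option maxRecDepth 100000 in
theorem hRoot_E8_90 : HRootB chevE8 90 = true := by decide +kernel

set_option maxRecDepth 100000 in
theorem hRoot_E8_91 : HRootB chevE8 91 = true := by decide +kernel

set_option maxRecDepth 100000 in
theorem hRoot_E8_92 : HRootB chevE8 92 = true := by decide +kernel

set_option maxRecDepth 100000 in
theorem hRoot_E8_93 : HRootB chevE8 93 = true := by decide +kernel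

set_option maxRecDepth 100000 in
theorem hRoot_E8_94 : HRootB chevE8 94 = true := by decide +kernel

set_option maxRecDepth 100000 in
theorem hRoot_E8_95 : HRootB chevE8 95 = true := by decide +kernel

set_option maxRecDepth 100000 in
theorem hRoot_E8_96 : HRootB chevE8 96 = true := by decide +kernel

set_option maxRecDepth 100000 in
theorem hRoot_E8_97 : HRootB chevE8 97 = true := by decide +kernel

set_option maxRecDepth 100000 in
theorem hRoot_E8_98 : HRootB chevE8 98 = true := by decide +kernel

set_option maxRecDepth 100000 in
theorem hRoot_E8_99 : HRootB chevE8 99 = true := by decide +kernel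

set_option maxRecDepth 100000 in
theorem hRoot_E8_100 : HRootB chevE8 100 = true := by decide +kernel

set_option maxRecDepth 100000 in
theorem hRoot_E8_101 : HRootB chevE8 101 = true := by decide +kernel

set_option maxRecDepth 100000 in
theorem hRoot_E8_102 : HRootB chevE8 102 = true := by decide +kernel

set_option maxRecDepth 100000 in
theorem hRoot_E8_103 : HRootB chevE8 103 = true := by decide +kernel

set_option maxRecDepth 100000 in
theorem hRoot_E8_104 : HRootB chevE8 104 = true := by decide +kernel

theorem hRange_E8_6 (r : ℕ) (h1 : 90 ≤ r) (h2 : r < 105) : HRootB chevE8 r = true := by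
  interval_cases r
  · exact hRoot_E8_90
  · exact hRoot_E8_91
  · exact hRoot_E8_92
  · exact hRoot_E8_93
  · exact hRoot_E8_94
  · exact hRoot_E8_95
  · exact hRoot_E8_96
  · exact hRoot_E8_97
  · exact hRoot_E8_98
  · exact hRoot_E8_99
  · exact hRoot_E8_100
  · exact hRoot_E8_101
  · exact hRoot_E8_102
  · exact hRoot_E8_103
  · exact hRoot_E8_104

end Cfsg.Agent.Lib.Helper5.ChevSym
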