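import Mathlib
import Cfsg.Agent.Lib.Helper5.ChevSymN
import Cfsg.Agent.Lib.Helper5.ChevSymPE8x05

set_option autoImplicit false

namespace Cfsg.Agent.Lib.Helper5.ChevSym

open Cfsg.Lie

set_option maxRecDepth 100000 in
theorem hRoot_E8_105 : HRootB chevE8 105 = true := by decide +kernel

set_option maxRecDepth 100000 in
theorem hRoot_E8_106 : HRootB chevE8 106 = true := by decide +kernel

set_option maxRecDepth 100000 in
theorem hRoot_E8_107 : HRootB chevE8 107 = true := by decide +kernel

set_option maxRecDepth 100000 in
theorem hRoot_E8_108 : HRootB chevE8 108 = true := by decide +kernel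

set_option maxRecDepth 100000 in
theorem hRoot_E8_109 : HRootB chevE8 109 = true := by decide +kernel

set_option maxRecDepth 100000 in
theorem hRoot_E8_110 : HRootB chevE8 110 = true := by decide +kernel

set_option maxRecDepth 100000 in
theorem hRoot_E8_111 : HRootB chevE8 111 = true := by decide +kernel

set_option maxRecDepth 100000 in
theorem hRoot_E8_112 : HRootB chevE8 112 = true := by decide +kernel

set_option maxRecDepth 100000 in
theorem hRoot_E8_113 : HRootB chevE8 113 = true := by decide +kernel

set_option maxRecDepth 100000 in
theorem hRoot_E8_114 : HRootB chevE8 114 = true := by decide +kernel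

set_option maxRecDepth 100000 in
theorem hRoot_E8_115 : HRootB chevE8 115 = true := by decide +kernel

set_option maxRecDepth 100000 in
theorem hRoot_E8_116 : HRootB chevE8 116 = true := by decide +kernel

set_option maxRecDepth 100000 in
theorem hRoot_E8_117 : HRootB chevE8 117 = true := by decide +kernel

set_option maxRecDepth 100000 in
theorem hRoot_E8_118 : HRootB chevE8 118 = true := by decide +kernel

set_option maxRecDepth 100000 in
theorem hRoot_E8_119 : HRootB chevE8 119 = true := by decide +kernel

theorem hRange_E8_7 (r : ℕ) (h1 : 105 ≤ r) (h2 : r < 120) : HRootB chevE8 r = true := by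
  interval_cases r
  · exact hRoot_E8_105
  · exact hRoot_E8_106
  · exact hRoot_E8_107
  · exact hRoot_E8_108
  · exact hRoot_E8_109
  · exact hRoot_E8_110
  · exact hRoot_E8_111
  · exact hRoot_E8_112
  · exact hRoot_E8_113
  · exact hRoot_E8_114
  · exact hRoot_E8_115
  · exact hRoot_E8_116
  · exact hRoot_E8_117
  · exact hRoot_E8_118
  · exact hRoot_E8_119

end Cfsg.Agent.Lib.Helper5.ChevSym
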