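import Mathlib
import Cfsg.Agent.Lib.Helper5.ChevSymN
import Cfsg.Agent.Lib.Helper5.ChevSymPE8x06

set_option autoImplicit false

namespace Cfsg.Agent.Lib.Helper5.ChevSym

open Cfsg.Lie

set_option maxRecDepth 100000 in
theorem hRoot_E8_120 : HRootB chevE8 120 = true := by decide +kernel

set_option maxRecDepth 100000 in
theorem hRoot_E8_121 : HRootB chevE8 121 = true := by decide +kernel

set_option maxRecDepth 100000 in
theorem hRoot_E8_122 : HRootB chevE8 122 = true := by decide +kernel

set_option maxRecDepth 100000 in
theorem hRoot_E8_123 : HRootB chevE8 123 = true := by decide +kernel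

set_option maxRecDepth 100000 in
theorem hRoot_E8_124 : HRootB chevE8 124 = true := by decide +kernel

set_option maxRecDepth 100000 in
theorem hRoot_E8_125 : HRootB chevE8 125 = true := by decide +kernel

set_option maxRecDepth 100000 in
theorem hRoot_E8_126 : HRootB chevE8 126 = true := by decide +kernel

set_option maxRecDepth 100000 in
theorem hRoot_E8_127 : HRootB chevE8 127 = true := by decide +kernel

set_option maxRecDepth 100000 in
theorem hRoot_E8_128 : HRootB chevE8 128 = true := by decide +kernel

set_option maxRecDepth 100000 in
theorem hRoot_E8_129 : HRootB chevE8 129 = true := by decide +kernel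

set_option maxRecDepth 100000 in
theorem hRoot_E8_130 : HRootB chevE8 130 = true := by decide +kernel

set_option maxRecDepth 100000 in
theorem hRoot_E8_131 : HRootB chevE8 131 = true := by decide +kernel

set_option maxRecDepth 100000 in
theorem hRoot_E8_132 : HRootB chevE8 132 = true := by decide +kernel

set_option maxRecDepth 100000 in
theorem hRoot_E8_133 : HRootB chevE8 133 = true := by decide +kernel

set_option maxRecDepth 100000 in
theorem hRoot_E8_134 : HRootB chevE8 134 = true := by decide +kernel

theorem hRange_E8_8 (r : ℕ) (h1 : 120 ≤ r) (h2 : r < 135) : HRootB chevE8 r = true := by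
  interval_cases r
  · exact hRoot_E8_120
  · exact hRoot_E8_121
  · exact hRoot_E8_122
  · exact hRoot_E8_123
  · exact hRoot_E8_124
  · exact hRoot_E8_125
  · exact hRoot_E8_126
  · exact hRoot_E8_127
  · exact hRoot_E8_128
  · exact hRoot_E8_129
  · exact hRoot_E8_130
  · exact hRoot_E8_131
  · exact hRoot_E8_132
  · exact hRoot_E8_133
  · exact hRoot_E8_134

end Cfsg.Agent.Lib.Helper5.ChevSym
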