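import Mathlib
import Cfsg.Agent.Lib.Helper5.ChevSymN
import Cfsg.Agent.Lib.Helper5.ChevSymPE8x08

set_option autoImplicit false

namespace Cfsg.Agent.Lib.Helper5.ChevSym

open Cfsg.Lie

set_option maxRecDepth 100000 in
theorem hRoot_E8_150 : HRootB chevE8 150 = true := by decide +kernel

set_option maxRecDepth 100000 in
theorem hRoot_E8_151 : HRootB chevE8 151 = true := by decide +kernel

set_option maxRecDepth 100000 in
theorem hRoot_E8_152 : HRootB chevE8 152 = true := by decide +kernel

set_option maxRecDepth 100000 in
theorem hRoot_E8_153 : HRootB chevE8 153 = true := by decide +kernel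

set_option maxRecDepth 100000 in
theorem hRoot_E8_154 : HRootB chevE8 154 = true := by decide +kernel

set_option maxRecDepth 100000 in
theorem hRoot_E8_155 : HRootB chevE8 155 = true := by decide +kernel

set_option maxRecDepth 100000 in
theorem hRoot_E8_156 : HRootB chevE8 156 = true := by decide +kernel

set_option maxRecDepth 100000 in
theorem hRoot_E8_157 : HRootB chevE8 157 = true := by decide +kernel

set_option maxRecDepth 100000 in
theorem hRoot_E8_158 : HRootB chevE8 158 = true := by decide +kernel

set_option maxRecDepth 100000 in
theorem hRoot_E8_159 : HRootB chevE8 159 = true := by decide +kernel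

set_option maxRecDepth 100000 in
theorem hRoot_E8_160 : HRootB chevE8 160 = true := by decide +kernel

set_option maxRecDepth 100000 in
theorem hRoot_E8_161 : HRootB chevE8 161 = true := by decide +kernel

set_option maxRecDepth 100000 in
theorem hRoot_E8_162 : HRootB chevE8 162 = true := by decide +kernel

set_option maxRecDepth 100000 in
theorem hRoot_E8_163 : HRootB chevE8 163 = true := by decide +kernel

set_option maxRecDepth 100000 in
theorem hRoot_E8_164 : HRootB chevE8 164 = true := by decide +kernel

theorem hRange_E8_10 (r : ℕ) (h1 : 150 ≤ r) (h2 : r < 165) : HRootB chevE8 r = true := by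
  interval_cases r
  · exact hRoot_E8_150
  · exact hRoot_E8_151
  · exact hRoot_E8_152
  · exact hRoot_E8_153
  · exact hRoot_E8_154
  · exact hRoot_E8_155
  · exact hRoot_E8_156
  · exact hRoot_E8_157
  · exact hRoot_E8_158
  · exact hRoot_E8_159
  · exact hRoot_E8_160
  · exact hRoot_E8_161
  · exact hRoot_E8_162
  · exact hRoot_E8_163
  · exact hRoot_E8_164

end Cfsg.Agent.Lib.Helper5.ChevSym
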