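import Mathlib
import Cfsg.Agent.Lib.Helper5.ChevSymN
import Cfsg.Agent.Lib.Helper5.ChevSymPE8x07

set_option autoImplicit false

namespace Cfsg.Agent.Lib.Helper5.ChevSym

open Cfsg.Lie

set_option maxRecDepth 100000 in
theorem hRoot_E8_135 : HRootB chevE8 135 = true := by decide +kernel

set_option maxRecDepth 100000 in
theorem hRoot_E8_136 : HRootB chevE8 136 = true := by decide +kernel

set_option maxRecDepth 100000 in
theorem hRoot_E8_137 : HRootB chevE8 137 = true := by decide +kernel

set_option maxRecDepth 100000 in
theorem hRoot_E8_138 : HRootB chevE8 138 = true := by decide +kernel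

set_option maxRecDepth 100000 in
theorem hRoot_E8_139 : HRootB chevE8 139 = true := by decide +kernel

set_option maxRecDepth 100000 in
theorem hRoot_E8_140 : HRootB chevE8 140 = true := by decide +kernel

set_option maxRecDepth 100000 in
theorem hRoot_E8_141 : HRootB chevE8 141 = true := by decide +kernel

set_option maxRecDepth 100000 in
theorem hRoot_E8_142 : HRootB chevE8 142 = true := by decide +kernel

set_option maxRecDepth 100000 in
theorem hRoot_E8_143 : HRootB chevE8 143 = true := by decide +kernel

set_option maxRecDepth 100000 in
theorem hRoot_E8_144 : HRootB chevE8 144 = true := by decide +kernel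

set_option maxRecDepth 100000 in
theorem hRoot_E8_145 : HRootB chevE8 145 = true := by decide +kernel

set_option maxRecDepth 100000 in
theorem hRoot_E8_146 : HRootB chevE8 146 = true := by decide +kernel

set_option maxRecDepth 100000 in
theorem hRoot_E8_147 : HRootB chevE8 147 = true := by decide +kernel

set_option maxRecDepth 100000 in
theorem hRoot_E8_148 : HRootB chevE8 148 = true := by decide +kernel

set_option maxRecDepth 100000 in
theorem hRoot_E8_149 : HRootB chevE8 149 = true := by decide +kernel

theorem hRange_E8_9 (r : ℕ) (h1 : 135 ≤ r) (h2 : r < 150) : HRootB chevE8 r = true := by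
  interval_cases r
  · exact hRoot_E8_135
  · exact hRoot_E8_136
  · exact hRoot_E8_137
  · exact hRoot_E8_138
  · exact hRoot_E8_139
  · exact hRoot_E8_140
  · exact hRoot_E8_141
  · exact hRoot_E8_142
  · exact hRoot_E8_143
  · exact hRoot_E8_144
  · exact hRoot_E8_145
  · exact hRoot_E8_146
  · exact hRoot_E8_147
  · exact hRoot_E8_148
  · exact hRoot_E8_149

end Cfsg.Agent.Lib.Helper5.ChevSym
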