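import Mathlib
import Cfsg.Agent.Lib.Helper5.ChevSymN
import Cfsg.Agent.Lib.Helper5.ChevSymPE8x09

set_option autoImplicit false

namespace Cfsg.Agent.Lib.Helper5.ChevSym

open Cfsg.Lie

set_option maxRecDepth 100000 in
theorem hRoot_E8_165 : HRootB chevE8 165 = true := by decide +kernel

set_option maxRecDepth 100000 in
theorem hRoot_E8_166 : HRootB chevE8 166 = true := by decide +kernel

set_option maxRecDepth 100000 in
theorem hRoot_E8_167 : HRootB chevE8 167 = true := by decide +kernel

set_option maxRecDepth 100000 in
theorem hRoot_E8_168 : HRootB chevE8 168 = true := by decide +kernel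

set_option maxRecDepth 100000 in
theorem hRoot_E8_169 : HRootB chevE8 169 = true := by decide +kernel

set_option maxRecDepth 100000 in
theorem hRoot_E8_170 : HRootB chevE8 170 = true := by decide +kernel

set_option maxRecDepth 100000 in
theorem hRoot_E8_171 : HRootB chevE8 171 = true := by decide +kernel

set_option maxRecDepth 100000 in
theorem hRoot_E8_172 : HRootB chevE8 172 = true := by decide +kernel

set_option maxRecDepth 100000 in
theorem hRoot_E8_173 : HRootB chevE8 173 = true := by decide +kernel

set_option maxRecDepth 100000 in
theorem hRoot_E8_174 : HRootB chevE8 174 = true := by decide +kernel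

set_option maxRecDepth 100000 in
theorem hRoot_E8_175 : HRootB chevE8 175 = true := by decide +kernel

set_option maxRecDepth 100000 in
theorem hRoot_E8_176 : HRootB chevE8 176 = true := by decide +kernel

set_option maxRecDepth 100000 in
theorem hRoot_E8_177 : HRootB chevE8 177 = true := by decide +kernel

set_option maxRecDepth 100000 in
theorem hRoot_E8_178 : HRootB chevE8 178 = true := by decide +kernel

set_option maxRecDepth 100000 in
theorem hRoot_E8_179 : HRootB chevE8 179 = true := by decide +kernel

theorem hRange_E8_11 (r : ℕ) (h1 : 165 ≤ r) (h2 : r < 180) : HRootB chevE8 r = true := by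
  interval_cases r
  · exact hRoot_E8_165
  · exact hRoot_E8_166
  · exact hRoot_E8_167
  · exact hRoot_E8_168
  · exact hRoot_E8_169
  · exact hRoot_E8_170
  · exact hRoot_E8_171
  · exact hRoot_E8_172
  · exact hRoot_E8_173
  · exact hRoot_E8_174
  · exact hRoot_E8_175
  · exact hRoot_E8_176
  · exact hRoot_E8_177
  · exact hRoot_E8_178
  · exact hRoot_E8_179

end Cfsg.Agent.Lib.Helper5.ChevSym
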