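import Mathlib
import Cfsg.Agent.Lib.Helper5.ChevSymN
import Cfsg.Agent.Lib.Helper5.ChevSymPE8x10

set_option autoImplicit false

namespace Cfsg.Agent.Lib.Helper5.ChevSym

open Cfsg.Lie

set_option maxRecDepth 100000 in
theorem hRoot_E8_180 : HRootB chevE8 180 = true := by decide +kernel

set_option maxRecDepth 100000 in
theorem hRoot_E8_181 : HRootB chevE8 181 = true := by decide +kernel

set_option maxRecDepth 100000 in
theorem hRoot_E8_182 : HRootB chevE8 182 = true := by decide +kernel

set_option maxRecDepth 100000 in
theorem hRoot_E8_183 : HRootB chevE8 183 = true := by decide +kernel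

set_option maxRecDepth 100000 in
theorem hRoot_E8_184 : HRootB chevE8 184 = true := by decide +kernel

set_option maxRecDepth 100000 in
theorem hRoot_E8_185 : HRootB chevE8 185 = true := by decide +kernel

set_option maxRecDepth 100000 in
theorem hRoot_E8_186 : HRootB chevE8 186 = true := by decide +kernel

set_option maxRecDepth 100000 in
theorem hRoot_E8_187 : HRootB chevE8 187 = true := by decide +kernel

set_option maxRecDepth 100000 in
theorem hRoot_E8_188 : HRootB chevE8 188 = true := by decide +kernel

set_option maxRecDepth 100000 in
theorem hRoot_E8_189 : HRootB chevE8 189 = true := by decide +kernel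

set_option maxRecDepth 100000 in
theorem hRoot_E8_190 : HRootB chevE8 190 = true := by decide +kernel

set_option maxRecDepth 100000 in
theorem hRoot_E8_191 : HRootB chevE8 191 = true := by decide +kernel

set_option maxRecDepth 100000 in
theorem hRoot_E8_192 : HRootB chevE8 192 = true := by decide +kernel

set_option maxRecDepth 100000 in
theorem hRoot_E8_193 : HRootB chevE8 193 = true := by decide +kernel

set_option maxRecDepth 100000 in
theorem hRoot_E8_194 : HRootB chevE8 194 = true := by decide +kernel

theorem hRange_E8_12 (r : ℕ) (h1 : 180 ≤ r) (h2 : r < 195) : HRootB chevE8 r = true := by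
  interval_cases r
  · exact hRoot_E8_180
  · exact hRoot_E8_181
  · exact hRoot_E8_182
  · exact hRoot_E8_183
  · exact hRoot_E8_184
  · exact hRoot_E8_185
  · exact hRoot_E8_186
  · exact hRoot_E8_187
  · exact hRoot_E8_188
  · exact hRoot_E8_189
  · exact hRoot_E8_190
  · exact hRoot_E8_191
  · exact hRoot_E8_192
  · exact hRoot_E8_193
  · exact hRoot_E8_194

end Cfsg.Agent.Lib.Helper5.ChevSym
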