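import Mathlib
import Cfsg.Agent.Lib.Helper5.ChevSymN
import Cfsg.Agent.Lib.Helper5.ChevSymPE8x11

set_option autoImplicit false

namespace Cfsg.Agent.Lib.Helper5.ChevSym

open Cfsg.Lie

set_option maxRecDepth 100000 in
theorem hRoot_E8_195 : HRootB chevE8 195 = true := by decide +kernel

set_option maxRecDepth 100000 in
theorem hRoot_E8_196 : HRootB chevE8 196 = true := by decide +kernel

set_option maxRecDepth 100000 in
theorem hRoot_E8_197 : HRootB chevE8 197 = true := by decide +kernel

set_option maxRecDepth 100000 in
theorem hRoot_E8_198 : HRootB chevE8 198 = true := by decide +kernel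

set_option maxRecDepth 100000 in
theorem hRoot_E8_199 : HRootB chevE8 199 = true := by decide +kernel

set_option maxRecDepth 100000 in
theorem hRoot_E8_200 : HRootB chevE8 200 = true := by decide +kernel

set_option maxRecDepth 100000 in
theorem hRoot_E8_201 : HRootB chevE8 201 = true := by decide +kernel

set_option maxRecDepth 100000 in
theorem hRoot_E8_202 : HRootB chevE8 202 = true := by decide +kernel

set_option maxRecDepth 100000 in
theorem hRoot_E8_203 : HRootB chevE8 203 = true := by decide +kernel

set_option maxRecDepth 100000 in
theorem hRoot_E8_204 : HRootB chevE8 204 = true := by decide +kernel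

set_option maxRecDepth 100000 in
theorem hRoot_E8_205 : HRootB chevE8 205 = true := by decide +kernel

set_option maxRecDepth 100000 in
theorem hRoot_E8_206 : HRootB chevE8 206 = true := by decide +kernel

set_option maxRecDepth 100000 in
theorem hRoot_E8_207 : HRootB chevE8 207 = true := by decide +kernel

set_option maxRecDepth 100000 in
theorem hRoot_E8_208 : HRootB chevE8 208 = true := by decide +kernel

set_option maxRecDepth 100000 in
theorem hRoot_E8_209 : HRootB chevE8 209 = true := by decide +kernel

theorem hRange_E8_13 (r : ℕ) (h1 : 195 ≤ r) (h2 : r < 210) : HRootB chevE8 r = true := by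
  interval_cases r
  · exact hRoot_E8_195
  · exact hRoot_E8_196
  · exact hRoot_E8_197
  · exact hRoot_E8_198
  · exact hRoot_E8_199
  · exact hRoot_E8_200
  · exact hRoot_E8_201
  · exact hRoot_E8_202
  · exact hRoot_E8_203
  · exact hRoot_E8_204
  · exact hRoot_E8_205
  · exact hRoot_E8_206
  · exact hRoot_E8_207
  · exact hRoot_E8_208
  · exact hRoot_E8_209

end Cfsg.Agent.Lib.Helper5.ChevSym
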