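import Mathlib
import Cfsg.Agent.Lib.Helper5.ChevSymN
import Cfsg.Agent.Lib.Helper5.ChevSymPE8x12

set_option autoImplicit false

namespace Cfsg.Agent.Lib.Helper5.ChevSym

open Cfsg.Lie

set_option maxRecDepth 100000 in
theorem hRoot_E8_210 : HRootB chevE8 210 = true := by decide +kernel

set_option maxRecDepth 100000 in
theorem hRoot_E8_211 : HRootB chevE8 211 = true := by decide +kernel

set_option maxRecDepth 100000 in
theorem hRoot_E8_212 : HRootB chevE8 212 = true := by decide +kernel

set_option maxRecDepth 100000 in
theorem hRoot_E8_213 : HRootB chevE8 213 = true := by decide +kernel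

set_option maxRecDepth 100000 in
theorem hRoot_E8_214 : HRootB chevE8 214 = true := by decide +kernel

set_option maxRecDepth 100000 in
theorem hRoot_E8_215 : HRootB chevE8 215 = true := by decide +kernel

set_option maxRecDepth 100000 in
theorem hRoot_E8_216 : HRootB chevE8 216 = true := by decide +kernel

set_option maxRecDepth 100000 in
theorem hRoot_E8_217 : HRootB chevE8 217 = true := by decide +kernel

set_option maxRecDepth 100000 in
theorem hRoot_E8_218 : HRootB chevE8 218 = true := by decide +kernel

set_option maxRecDepth 100000 in
theorem hRoot_E8_219 : HRootB chevE8 219 = true := by decide +kernel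

set_option maxRecDepth 100000 in
theorem hRoot_E8_220 : HRootB chevE8 220 = true := by decide +kernel

set_option maxRecDepth 100000 in
theorem hRoot_E8_221 : HRootB chevE8 221 = true := by decide +kernel

set_option maxRecDepth 100000 in
theorem hRoot_E8_222 : HRootB chevE8 222 = true := by decide +kernel

set_option maxRecDepth 100000 in
theorem hRoot_E8_223 : HRootB chevE8 223 = true := by decide +kernel

set_option maxRecDepth 100000 in
theorem hRoot_E8_224 : HRootB chevE8 224 = true := by decide +kernel

theorem hRange_E8_14 (r : ℕ) (h1 : 210 ≤ r) (h2 : r < 225) : HRootB chevE8 r = true := by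
  interval_cases r
  · exact hRoot_E8_210
  · exact hRoot_E8_211
  · exact hRoot_E8_212
  · exact hRoot_E8_213
  · exact hRoot_E8_214
  · exact hRoot_E8_215
  · exact hRoot_E8_216
  · exact hRoot_E8_217
  · exact hRoot_E8_218
  · exact hRoot_E8_219
  · exact hRoot_E8_220
  · exact hRoot_E8_221
  · exact hRoot_E8_222
  · exact hRoot_E8_223
  · exact hRoot_E8_224

end Cfsg.Agent.Lib.Helper5.ChevSym
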