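import Mathlib
import Cfsg.Agent.Lib.Helper5.ChevSymN
import Cfsg.Agent.Lib.Helper5.ChevSymPE8x13

set_option autoImplicit false

namespace Cfsg.Agent.Lib.Helper5.ChevSym

open Cfsg.Lie

set_option maxRecDepth 100000 in
theorem hRoot_E8_225 : HRootB chevE8 225 = true := by decide +kernel

set_option maxRecDepth 100000 in
theorem hRoot_E8_226 : HRootB chevE8 226 = true := by decide +kernel

set_option maxRecDepth 100000 in
theorem hRoot_E8_227 : HRootB chevE8 227 = true := by decide +kernel

set_option maxRecDepth 100000 in
theorem hRoot_E8_228 : HRootB chevE8 228 = true := by decide +kernel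

set_option maxRecDepth 100000 in
theorem hRoot_E8_229 : HRootB chevE8 229 = true := by decide +kernel

set_option maxRecDepth 100000 in
theorem hRoot_E8_230 : HRootB chevE8 230 = true := by decide +kernel

set_option maxRecDepth 100000 in
theorem hRoot_E8_231 : HRootB chevE8 231 = true := by decide +kernel

set_option maxRecDepth 100000 in
theorem hRoot_E8_232 : HRootB chevE8 232 = true := by decide +kernel

set_option maxRecDepth 100000 in
theorem hRoot_E8_233 : HRootB chevE8 233 = true := by decide +kernel

set_option maxRecDepth 100000 in
theorem hRoot_E8_234 : HRootB chevE8 234 = true := by decide +kernel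

set_option maxRecDepth 100000 in
theorem hRoot_E8_235 : HRootB chevE8 235 = true := by decide +kernel

set_option maxRecDepth 100000 in
theorem hRoot_E8_236 : HRootB chevE8 236 = true := by decide +kernel

set_option maxRecDepth 100000 in
theorem hRoot_E8_237 : HRootB chevE8 237 = true := by decide +kernel

set_option maxRecDepth 100000 in
theorem hRoot_E8_238 : HRootB chevE8 238 = true := by decide +kernel

set_option maxRecDepth 100000 in
theorem hRoot_E8_239 : HRootB chevE8 239 = true := by decide +kernel

theorem hRange_E8_15 (r : ℕ) (h1 : 225 ≤ r) (h2 : r < 240) : HRootB chevE8 r = true := by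
  interval_cases r
  · exact hRoot_E8_225
  · exact hRoot_E8_226
  · exact hRoot_E8_227
  · exact hRoot_E8_228
  · exact hRoot_E8_229
  · exact hRoot_E8_230
  · exact hRoot_E8_231
  · exact hRoot_E8_232
  · exact hRoot_E8_233
  · exact hRoot_E8_234
  · exact hRoot_E8_235
  · exact hRoot_E8_236
  · exact hRoot_E8_237
  · exact hRoot_E8_238
  · exact hRoot_E8_239

end Cfsg.Agent.Lib.Helper5.ChevSym
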