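import Mathlib
import Cfsg.Agent.Lib.Helper5.ChevSymN
import Cfsg.Agent.Lib.Helper5.ChevSymPE8x00
import Cfsg.Agent.Lib.Helper5.ChevSymPE8x01
import Cfsg.Agent.Lib.Helper5.ChevSymPE8x02
import Cfsg.Agent.Lib.Helper5.ChevSymPE8x03
import Cfsg.Agent.Lib.Helper5.ChevSymPE8x04
import Cfsg.Agent.Lib.Helper5.ChevSymPE8x05
import Cfsg.Agent.Lib.Helper5.ChevSymPE8x06
import Cfsg.Agent.Lib.Helper5.ChevSymPE8x07
import Cfsg.Agent.Lib.Helper5.ChevSymPE8x08
import Cfsg.Agent.Lib.Helper5.ChevSymPE8x09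
import Cfsg.Agent.Lib.Helper5.ChevSymPE8x10
import Cfsg.Agent.Lib.Helper5.ChevSymPE8x11
import Cfsg.Agent.Lib.Helper5.ChevSymPE8x12
import Cfsg.Agent.Lib.Helper5.ChevSymPE8x13
import Cfsg.Agent.Lib.Helper5.ChevSymPE8x14
import Cfsg.Agent.Lib.Helper5.ChevSymPE8x15

set_option autoImplicit false

namespace Cfsg.Agent.Lib.Helper5.ChevSym

open Cfsg.Lie

theorem hAllRoots_E8 (r : ℕ) (hr : r < chevE8.nroots) : HRootB chevE8 r = true := by
  have hn : chevE8.nroots = 240 := rfl
  rw [hn] at hr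
  by_cases h0 : r < 15
  · exact hRange_E8_0 r (by omega) h0
  by_cases h1 : r < 30
  · exact hRange_E8_1 r (by omega) h1
  by_cases h2 : r < 45
  · exact hRange_E8_2 r (by omega) h2
  by_cases h3 : r < 60
  · exact hRange_E8_3 r (by omega) h3
  by_cases h4 : r < 75
  · exact hRange_E8_4 r (by omega) h4
  by_cases h5 : r < 90
  · exact hRange_E8_5 r (by omega) h5
  by_cases h6 : r < 105
  · exact hRange_E8_6 r (by omega) h6
  by_cases h7 : r < 120
  · exact hRange_E8_7 r (by omega) h7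
  by_cases h8 : r < 135
  · exact hRange_E8_8 r (by omega) h8
  by_cases h9 : r < 150
  · exact hRange_E8_9 r (by omega) h9
  by_cases h10 : r < 165
  · exact hRange_E8_10 r (by omega) h10
  by_cases h11 : r < 180
  · exact hRange_E8_11 r (by omega) h11
  by_cases h12 : r < 195
  · exact hRange_E8_12 r (by omega) h12
  by_cases h13 : r < 210
  · exact hRange_E8_13 r (by omega) h13
  by_cases h14 : r < 225
  · exact hRange_E8_14 r (by omega) h14
  exact hRange_E8_15 r (by omega) (by omega)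

end Cfsg.Agent.Lib.Helper5.ChevSym
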