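import Mathlib
import Cfsg.Agent.Lib.Helper5.ChevSymN
import Cfsg.Agent.Lib.Helper5.ChevSymJ
import Cfsg.Agent.Lib.Helper5.ChevSymP0
import Cfsg.Agent.Lib.Helper5.ChevSymPE6
import Cfsg.Agent.Lib.Helper5.ChevSymPE7
import Cfsg.Agent.Lib.Helper5.ChevSymPE8

set_option autoImplicit false
set_option linter.style.haveILetI false
set_option linter.unusedSectionVars false

namespace Cfsg.Agent.Lib.Helper5.ChevSym

open Cfsg.Lie

theorem hRootB_of_mem (D : ChevalleyDatum)
    (hD : D ∈ [chevG2, chevB2, chevD4, chevF4, chevE6, chevE7, chevE8]) (r : ℕ) (hr : r < D.nroots) :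
    HRootB D r = true := by
  simp only [List.mem_cons, List.not_mem_nil, or_false] at hD
  rcases hD with rfl | rfl | rfl | rfl | rfl | rfl | rfl
  · have hn : chevG2.nroots = 12 := rfl
    rw [hn] at hr
    exact HRangeB_spec _ 0 12 hAll_G2 r (by omega) (by omega)
  · have hn : chevB2.nroots = 8 := rfl
    rw [hn] at hr
    exact HRangeB_spec _ 0 8 hAll_B2 r (by omega) (by omega)
  · have hn : chevD4.nroots = 24 := rfl
    rw [hn] at hr
    exact HRangeB_spec _ 0 24 hAll_D4 r (by omega) (by omega)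
  · have hn : chevF4.nroots = 48 := rfl
    rw [hn] at hr
    by_cases h0 : r < 12
    · exact HRangeB_spec _ 0 12 hAll_F4_0 r (by omega) (by omega)
    by_cases h1 : r < 24
    · exact HRangeB_spec _ 12 12 hAll_F4_1 r (by omega) (by omega)
    by_cases h2 : r < 36
    · exact HRangeB_spec _ 24 12 hAll_F4_2 r (by omega) (by omega)
    exact HRangeB_spec _ 36 12 hAll_F4_3 r (by omega) (by omega)
  · exact hAllRoots_E6 r hr
  · exact hAllRoots_E7 r hr
  · exact hAllRoots_E8 r hr

variable {F : Type*} [Field F]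

/-- `h_r(c)` is the diagonal matrix of the character `s ↦ c ^ ⟨s, r^∨⟩`, for every root `r` -/
theorem hMat_all (D : ChevalleyDatum)
    (hD : D ∈ [chevG2, chevB2, chevD4, chevF4, chevE6, chevE7, chevE8]) (r : ℕ) (hr : r < D.nroots)
    (c : F) (hc : c ≠ 0) :
    D.hMat F r c =
      Matrix.diagonal (Sum.elim (fun _ => (1 : F)) (fun s : Fin D.nroots => c ^ (D.pairing r s))) :=
  hMat_root D (cartanAddB_of_mem D hD) r hr (hRootB_of_mem D hD r hr) c hc

end Cfsg.Agent.Lib.Helper5.ChevSym
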