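import Mathlib
import Cfsg.Agent.Lib.Helper5.ChevSymQ
import Cfsg.Agent.Lib.Helper5.ChevSymG

set_option autoImplicit false
set_option linter.style.haveILetI false
set_option linter.unusedSectionVars false

namespace Cfsg.Agent.Lib.Helper5.ChevSym

open Cfsg.Lie

variable {F : Type*} [Field F]

/-- the character `s ↦ ∏_i c_i ^ A_{p_i,s}` -/
def chiC (D : ChevalleyDatum) (c : ℕ → Fˣ) (s : ℕ) : Fˣ :=
  ((List.range D.rank).map fun i => c i ^ D.cartan i s).prod

theorem list_prod_zpow_neg {G : Type*} [CommGroup G] (L : List ℕ) (c : ℕ → G) (f : ℕ → ℤ) :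
    (L.map fun i => c i ^ (- f i)).prod = ((L.map fun i => c i ^ f i).prod)⁻¹ := by
  induction L with
  | nil => simp
  | cons a L ih =>
    rw [List.map_cons, List.prod_cons, List.map_cons, List.prod_cons, ih, zpow_neg, mul_inv]

theorem list_prod_zpow_add {G : Type*} [CommGroup G] (L : List ℕ) (c : ℕ → G) (f g : ℕ → ℤ) :
    (L.map fun i => c i ^ (f i + g i)).prod =
      (L.map fun i => c i ^ f i).prod * (L.map fun i => c i ^ g i).prod := by
  induction L with
  | nil => simp
  | cons a L ih =>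
    rw [List.map_cons, List.prod_cons, List.map_cons, List.prod_cons, List.map_cons, List.prod_cons,
      ih, zpow_add]
    exact mul_mul_mul_comm (c a ^ f a) (c a ^ g a) _ _

theorem list_prod_mul_zpow {G : Type*} [CommGroup G] (L : List ℕ) (c c' : ℕ → G) (f : ℕ → ℤ) :
    (L.map fun i => (c i * c' i) ^ f i).prod =
      (L.map fun i => c i ^ f i).prod * (L.map fun i => c' i ^ f i).prod := by
  induction L with
  | nil => simp
  | cons a L ih =>
    rw [List.map_cons, List.prod_cons, List.map_cons, List.prod_cons, List.map_cons, List.prod_cons,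
      ih, mul_zpow]
    exact mul_mul_mul_comm (c a ^ f a) (c' a ^ f a) _ _

theorem list_prod_inv_zpow {G : Type*} [CommGroup G] (L : List ℕ) (c : ℕ → G) (f : ℕ → ℤ) :
    (L.map fun i => (c i)⁻¹ ^ f i).prod = ((L.map fun i => c i ^ f i).prod)⁻¹ := by
  induction L with
  | nil => simp
  | cons a L ih =>
    rw [List.map_cons, List.prod_cons, List.map_cons, List.prod_cons, ih, inv_zpow, mul_inv]

theorem list_prod_one_zpow {G : Type*} [CommGroup G] (L : List ℕ) (f : ℕ → ℤ) :
    (L.map fun i => (1 : G) ^ f i).prod = 1 := by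
  induction L with
  | nil => simp
  | cons a L ih =>
    rw [List.map_cons, List.prod_cons, ih, one_zpow, one_mul]

theorem list_prod_zpow_zpow {G : Type*} [CommGroup G] (L : List ℕ) (t : G) (a f : ℕ → ℤ) :
    (L.map fun i => (t ^ a i) ^ f i).prod = t ^ (L.map fun i => a i * f i).sum := by
  induction L with
  | nil => simp
  | cons b L ih =>
    rw [List.map_cons, List.prod_cons, List.map_cons, List.sum_cons, ih, zpow_add, zpow_mul]

theorem chiC_isRootCharacter (D : ChevalleyDatum)
    (hD : D ∈ [chevG2, chevB2, chevD4, chevF4, chevE6, chevE7, chevE8]) (c : ℕ → Fˣ) :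
    D.IsRootCharacter (chiC D c) := by
  have hadd := cartanAddB_of_mem D hD
  refine ⟨fun r hr => ?_, fun r s k hr _ hk => ?_⟩
  · unfold chiC
    rw [← list_prod_zpow_neg]
    congr 1
    apply List.map_congr_left
    intro i hi
    rw [cartan_neg D hadd i (List.mem_range.mp hi) r hr]
  · unfold chiC
    rw [← list_prod_zpow_add]
    congr 1
    apply List.map_congr_left
    intro i hi
    rw [cartan_add D hadd i (List.mem_range.mp hi) r s k hr hk]

theorem chiC_mul (D : ChevalleyDatum) (c c' : ℕ → Fˣ) (s : ℕ) :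
    chiC D (fun i => c i * c' i) s = chiC D c s * chiC D c' s :=
  list_prod_mul_zpow _ c c' (fun i => D.cartan i s)

theorem chiC_inv (D : ChevalleyDatum) (c : ℕ → Fˣ) (s : ℕ) :
    chiC D (fun i => (c i)⁻¹) s = (chiC D c s)⁻¹ :=
  list_prod_inv_zpow _ c (fun i => D.cartan i s)

theorem chiC_one (D : ChevalleyDatum) (s : ℕ) : chiC D (fun _ => (1 : Fˣ)) s = 1 :=
  list_prod_one_zpow _ (fun i => D.cartan i s)

/-- `t ^ ⟨s, r^∨⟩` as a `chiC` -/
theorem chiC_pairing (D : ChevalleyDatum) (r s : ℕ) (t : Fˣ) :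
    chiC D (fun i => t ^ (D.coroot.getD r #[]).getD i 0) s = t ^ D.pairing r s :=
  list_prod_zpow_zpow _ t (fun i => (D.coroot.getD r #[]).getD i 0) (fun i => D.cartan i s)

theorem charDiag_mul (D : ChevalleyDatum) (χ χ' : ℕ → Fˣ) :
    D.charDiag F χ * D.charDiag F χ' = D.charDiag F (fun s => χ s * χ' s) := by
  unfold ChevalleyDatum.charDiag
  rw [Matrix.diagonal_mul_diagonal]
  congr 1
  funext j
  rcases j with j | s <;> simp

theorem charDiag_one (D : ChevalleyDatum) : D.charDiag F (fun _ => (1 : Fˣ)) = 1 := by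
  unfold ChevalleyDatum.charDiag
  rw [← Matrix.diagonal_one]
  congr 1
  funext j
  rcases j with j | s <;> simp

/-- every element of `H` is the diagonal matrix of a character `chiC c` -/
theorem mem_diagonalSubgroup (D : ChevalleyDatum)
    (hD : D ∈ [chevG2, chevB2, chevD4, chevF4, chevE6, chevE7, chevE8]) (g : GL D.Idx F)
    (hg : g ∈ D.diagonalSubgroup F) :
    ∃ c : ℕ → Fˣ, (g : Matrix D.Idx D.Idx F) = D.charDiag F (chiC D c) := by
  unfold ChevalleyDatum.diagonalSubgroup at hg
  induction hg using Subgroup.closure_induction with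
  | mem x hx =>
    obtain ⟨r, t, hr, ht, hx⟩ := hx
    refine ⟨fun i => (Units.mk0 t ht) ^ (D.coroot.getD r #[]).getD i 0, ?_⟩
    rw [hx, hMat_all D hD r hr t ht]
    unfold ChevalleyDatum.charDiag
    congr 1
    funext j
    rcases j with j | s
    · rfl
    · simp only [Sum.elim_inr]
      rw [chiC_pairing]
      simp
  | one =>
    refine ⟨fun _ => 1, ?_⟩
    have : chiC D (fun _ => (1 : Fˣ)) = fun _ => 1 := funext (chiC_one D)
    rw [this, charDiag_one]
    rfl
  | mul x y _ _ hx hy =>
    obtain ⟨c, hc⟩ := hx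
    obtain ⟨c', hc'⟩ := hy
    refine ⟨fun i => c i * c' i, ?_⟩
    rw [Units.val_mul, hc, hc', charDiag_mul]
    congr 1
    funext s
    rw [chiC_mul]
  | inv x _ hx =>
    obtain ⟨c, hc⟩ := hx
    refine ⟨fun i => (c i)⁻¹, ?_⟩
    rw [Matrix.coe_units_inv, hc]
    apply Matrix.inv_eq_left_inv
    have : chiC D (fun i => (c i)⁻¹) = fun s => (chiC D c s)⁻¹ := funext (chiC_inv D c)
    rw [this]
    exact charDiag_mul_inv D (chiC D c)

end Cfsg.Agent.Lib.Helper5.ChevSym
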