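import Mathlib
import Cfsg.Agent.Lib.Helper5.ChevSymR
import Cfsg.Agent.Lib.Helper5.ChevGradD
import Cfsg.Agent.S2157

set_option autoImplicit false
set_option linter.style.haveILetI false
set_option linter.unusedSectionVars false

namespace Cfsg.Agent.Lib.Helper5.ChevSym

open Cfsg.Lie

variable {F : Type*} [Field F]

theorem wordMat_append (D : ChevalleyDatum) (w₁ w₂ : List (ℕ × F)) :
    D.wordMat F (w₁ ++ w₂) = D.wordMat F w₁ * D.wordMat F w₂ := by
  unfold ChevalleyDatum.wordMat
  rw [List.map_append, List.prod_append]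

/-- products of simple `h`'s -/
theorem wordMat_simple_h (D : ChevalleyDatum)
    (hD : D ∈ [chevG2, chevB2, chevD4, chevF4, chevE6, chevE7, chevE8]) (c : ℕ → Fˣ)
    (L : List ℕ) (hL : ∀ i ∈ L, i < D.rank) :
    D.wordMat F (L.flatMap fun i => D.hWord (D.simple i) ((c i : Fˣ) : F)) =
      D.charDiag F (fun s => (L.map fun i => c i ^ D.cartan i s).prod) := by
  induction L with
  | nil =>
    simp only [List.flatMap_nil, List.map_nil, List.prod_nil]
    rw [charDiag_one]
    simp [ChevalleyDatum.wordMat]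
  | cons a L ih =>
    have ha : a < D.rank := hL a List.mem_cons_self
    rw [List.flatMap_cons, wordMat_append, ih (fun i hi => hL i (List.mem_cons_of_mem _ hi))]
    have h1 : D.wordMat F (D.hWord (D.simple a) ((c a : Fˣ) : F)) =
        D.charDiag F (fun s => c a ^ D.cartan a s) := by
      have := hMat_simple D hD a ha ((c a : Fˣ) : F) (Units.ne_zero _)
      unfold ChevalleyDatum.hMat at this
      rw [this]
      unfold ChevalleyDatum.charDiag
      congr 1
      funext j
      rcases j with j | s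
      · rfl
      · simp
    rw [h1, charDiag_mul]
    congr 1

/-- the matrix of the inverse of an element of `H` -/
theorem inv_of_charDiag (D : ChevalleyDatum) (h : GL D.Idx F) (χ : ℕ → Fˣ)
    (hh : (h : Matrix D.Idx D.Idx F) = D.charDiag F χ) :
    ((h⁻¹ : GL D.Idx F) : Matrix D.Idx D.Idx F) = D.charDiag F (fun s => (χ s)⁻¹) := by
  rw [Matrix.coe_units_inv, hh]
  apply Matrix.inv_eq_left_inv
  exact charDiag_mul_inv D χ

/-- conjugation of a root element by an element of `H` -/
theorem conj_root (D : ChevalleyDatum)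
    (hD : D ∈ [chevG2, chevB2, chevD4, chevF4, chevE6, chevE7, chevE8]) (h : GL D.Idx F)
    (hh : h ∈ D.diagonalSubgroup F) (g : GL D.Idx F) (r : ℕ) (hr : r < D.nroots) (t : F)
    (hg : (g : Matrix D.Idx D.Idx F) = D.x F r t) :
    ∃ t' : F, ((h * g * h⁻¹ : GL D.Idx F) : Matrix D.Idx D.Idx F) = D.x F r t' := by
  obtain ⟨c, hc⟩ := mem_diagonalSubgroup D hD h hh
  refine ⟨((chiC D c r : Fˣ) : F) * t, ?_⟩
  rw [Units.val_mul, Units.val_mul, hc, hg, inv_of_charDiag D h _ hc]
  exact Cfsg.Agent.S2157.result D hD (chiC D c) (chiC_isRootCharacter D hD c) r hr t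

theorem diagonal_le_normalizer_pos (D : ChevalleyDatum)
    (hD : D ∈ [chevG2, chevB2, chevD4, chevF4, chevE6, chevE7, chevE8]) :
    D.diagonalSubgroup F ≤ Subgroup.normalizer (D.posUnipotent F : Set (GL D.Idx F)) := by
  unfold ChevalleyDatum.posUnipotent
  rw [Subgroup.le_normalizer_closure_iff]
  rintro h hh g ⟨r, t, hr, hg⟩
  obtain ⟨t', ht'⟩ := conj_root D hD h hh g r hr.1 t hg
  exact Subgroup.subset_closure ⟨r, t', hr, ht'⟩

theorem diagonal_le_normalizer_neg (D : ChevalleyDatum)
    (hD : D ∈ [chevG2, chevB2, chevD4, chevF4, chevE6, chevE7, chevE8]) :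
    D.diagonalSubgroup F ≤ Subgroup.normalizer (D.negUnipotent F : Set (GL D.Idx F)) := by
  unfold ChevalleyDatum.negUnipotent
  rw [Subgroup.le_normalizer_closure_iff]
  rintro h hh g ⟨r, t, hr, hg⟩
  obtain ⟨t', ht'⟩ := conj_root D hD h hh g r hr.1 t hg
  exact Subgroup.subset_closure ⟨r, t', hr, ht'⟩

/-- a diagonal matrix whose difference to `1` is strictly triangular is `1` -/
theorem charDiag_eq_one_of_lev (D : ChevalleyDatum) (gr : D.Idx → ℕ) (χ : ℕ → Fˣ)
    (h : ChevGrad.Lev gr 1 (D.charDiag F χ - 1)) : D.charDiag F χ = 1 := by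
  have h0 : D.charDiag F χ - 1 = 0 := by
    ext i j
    by_contra hne
    have hlev := h i j hne
    by_cases hij : i = j
    · subst hij
      omega
    · apply hne
      unfold ChevalleyDatum.charDiag
      rw [Matrix.sub_apply, Matrix.diagonal_apply_ne _ hij, Matrix.one_apply_ne hij, sub_zero]
      rfl
  exact sub_eq_zero.mp h0

theorem pos_inf_diagonal (D : ChevalleyDatum)
    (hD : D ∈ [chevG2, chevB2, chevD4, chevF4, chevE6, chevE7, chevE8]) :
    D.posUnipotent F ⊓ D.diagonalSubgroup F = ⊥ := by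
  rw [eq_bot_iff]
  rintro g ⟨hgU, hgH⟩
  obtain ⟨c, hc⟩ := mem_diagonalSubgroup D hD g hgH
  have hlev : ChevGrad.Lev (ChevGrad.grD D) 1 ((g : Matrix D.Idx D.Idx F) - 1) :=
    ChevGrad.posUnipotent_le_uni D (ChevGrad.tabOK_of_mem D hD) hgU
  rw [hc] at hlev
  have := charDiag_eq_one_of_lev D _ _ hlev
  rw [Subgroup.mem_bot]
  apply Units.ext
  rw [hc, this]
  rfl

end Cfsg.Agent.Lib.Helper5.ChevSym
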