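import Mathlib
import Cfsg.Agent.Lib.Helper5.ChevSymS

set_option autoImplicit false
set_option linter.style.haveILetI false
set_option linter.unusedSectionVars false

namespace Cfsg.Agent.Lib.Helper5.ChevSym

open Cfsg.Lie

variable {F : Type*} [Field F]

theorem mem_borel (D : ChevalleyDatum)
    (hD : D ∈ [chevG2, chevB2, chevD4, chevF4, chevE6, chevE7, chevE8]) (g : GL D.Idx F) :
    g ∈ D.borelSubgroup F ↔ ∃ u ∈ D.posUnipotent F, ∃ h ∈ D.diagonalSubgroup F, u * h = g := by
  have := Subgroup.coe_mul_of_right_le_normalizer_left (D.posUnipotent F) (D.diagonalSubgroup F)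
    (diagonal_le_normalizer_pos D hD)
  unfold ChevalleyDatum.borelSubgroup
  rw [← SetLike.mem_coe, this, Set.mem_mul]
  rfl

theorem diagonal_comm (D : ChevalleyDatum)
    (hD : D ∈ [chevG2, chevB2, chevD4, chevF4, chevE6, chevE7, chevE8]) (a b : GL D.Idx F)
    (ha : a ∈ D.diagonalSubgroup F) (hb : b ∈ D.diagonalSubgroup F) : a * b = b * a := by
  obtain ⟨c, hc⟩ := mem_diagonalSubgroup D hD a ha
  obtain ⟨c', hc'⟩ := mem_diagonalSubgroup D hD b hb
  apply Units.ext
  rw [Units.val_mul, Units.val_mul, hc, hc', charDiag_mul, charDiag_mul]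
  congr 1
  funext s
  exact mul_comm _ _

theorem borel_le_normalizer_pos (D : ChevalleyDatum)
    (hD : D ∈ [chevG2, chevB2, chevD4, chevF4, chevE6, chevE7, chevE8]) :
    D.borelSubgroup F ≤ Subgroup.normalizer (D.posUnipotent F : Set (GL D.Idx F)) := by
  unfold ChevalleyDatum.borelSubgroup
  exact sup_le Subgroup.le_normalizer (diagonal_le_normalizer_pos D hD)

theorem borel_isSolvable (D : ChevalleyDatum)
    (hD : D ∈ [chevG2, chevB2, chevD4, chevF4, chevE6, chevE7, chevE8]) :
    Group.IsSolvable ↥(D.borelSubgroup F) := by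
  have hUB : D.posUnipotent F ≤ D.borelSubgroup F := by
    unfold ChevalleyDatum.borelSubgroup
    exact le_sup_left
  have hHB : D.diagonalSubgroup F ≤ D.borelSubgroup F := by
    unfold ChevalleyDatum.borelSubgroup
    exact le_sup_right
  haveI hN : ((D.posUnipotent F).subgroupOf (D.borelSubgroup F)).Normal :=
    (Subgroup.normal_subgroupOf_iff_le_normalizer hUB).mpr (borel_le_normalizer_pos D hD)
  haveI hnil : Group.IsNilpotent ↥(D.posUnipotent F) :=
    ChevGrad.posUnipotent_isNilpotent D (ChevGrad.tabOK_of_mem D hD)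
  haveI hq : Group.IsSolvable
      (↥(D.borelSubgroup F) ⧸ (D.posUnipotent F).subgroupOf (D.borelSubgroup F)) := by
    apply Group.isSolvable_of_comm
    intro x y
    induction x using QuotientGroup.induction_on with
    | H b =>
    induction y using QuotientGroup.induction_on with
    | H b' =>
    obtain ⟨u, hu, h, hh, e⟩ := (mem_borel D hD b.1).mp b.2
    obtain ⟨u', hu', h', hh', e'⟩ := (mem_borel D hD b'.1).mp b'.2
    have hb : (QuotientGroup.mk b :
        ↥(D.borelSubgroup F) ⧸ (D.posUnipotent F).subgroupOf (D.borelSubgroup F)) =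
        QuotientGroup.mk ⟨h, hHB hh⟩ := by
      rw [QuotientGroup.eq_iff_div_mem, Subgroup.mem_subgroupOf]
      have : ((b / ⟨h, hHB hh⟩ : ↥(D.borelSubgroup F)) : GL D.Idx F) = u := by
        rw [Subgroup.coe_div]
        simp only
        rw [← e, mul_div_cancel_right]
      rw [this]
      exact hu
    have hb' : (QuotientGroup.mk b' :
        ↥(D.borelSubgroup F) ⧸ (D.posUnipotent F).subgroupOf (D.borelSubgroup F)) =
        QuotientGroup.mk ⟨h', hHB hh'⟩ := by
      rw [QuotientGroup.eq_iff_div_mem, Subgroup.mem_subgroupOf]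
      have : ((b' / ⟨h', hHB hh'⟩ : ↥(D.borelSubgroup F)) : GL D.Idx F) = u' := by
        rw [Subgroup.coe_div]
        simp only
        rw [← e', mul_div_cancel_right]
      rw [this]
      exact hu'
    rw [hb, hb', ← QuotientGroup.mk_mul, ← QuotientGroup.mk_mul]
    congr 1
    apply Subtype.ext
    exact diagonal_comm D hD h h' hh hh'
  apply Group.isSolvable_of_ker_le_range (Subgroup.inclusion hUB)
    (QuotientGroup.mk' ((D.posUnipotent F).subgroupOf (D.borelSubgroup F)))
  rw [QuotientGroup.ker_mk', Subgroup.inclusion_range]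

end Cfsg.Agent.Lib.Helper5.ChevSym
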