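import Mathlib
import Cfsg.Agent.Lib.Helper5.ChevSymT
import Cfsg.Agent.Lib.Helper5.ChevGradE

set_option autoImplicit false
set_option linter.style.haveILetI false
set_option linter.unusedSectionVars false

namespace Cfsg.Agent.Lib.Helper5.ChevSym

open Cfsg.Lie

variable {F : Type*} [Field F]

theorem borel_inf_neg (D : ChevalleyDatum)
    (hD : D ∈ [chevG2, chevB2, chevD4, chevF4, chevE6, chevE7, chevE8]) :
    D.borelSubgroup F ⊓ D.negUnipotent F = ⊥ := by
  rw [eq_bot_iff]
  rintro g ⟨hgB, hgV⟩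
  obtain ⟨u, hu, h, hh, e⟩ := (mem_borel D hD g).mp hgB
  obtain ⟨c, hc⟩ := mem_diagonalSubgroup D hD h hh
  have hU : ChevGrad.Lev (ChevGrad.grD D) 1 ((u : Matrix D.Idx D.Idx F) - 1) :=
    ChevGrad.posUnipotent_le_uni D (ChevGrad.tabOK_of_mem D hD) hu
  have hV : ChevGrad.Lev (ChevGrad.grN D) 1 ((g : Matrix D.Idx D.Idx F) - 1) :=
    ChevGrad.negUnipotent_le_uni D (ChevGrad.tabOKneg_of_mem D hD) hgV
  have hG : (g : Matrix D.Idx D.Idx F) = (u : Matrix D.Idx D.Idx F) * D.charDiag F (chiC D c) := by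
    rw [← e, Units.val_mul, hc]
  rw [Subgroup.mem_bot]
  apply Units.ext
  ext i j
  rw [Units.val_one]
  by_cases hij : i = j
  · subst hij
    rw [Matrix.one_apply_eq]
    by_contra hne
    have h1 : ((g : Matrix D.Idx D.Idx F) - 1) i i ≠ 0 := by
      rw [Matrix.sub_apply, Matrix.one_apply_eq]
      exact sub_ne_zero.mpr hne
    have := hV i i h1
    omega
  · rw [Matrix.one_apply_ne hij]
    by_contra hne
    have h1 : ((g : Matrix D.Idx D.Idx F) - 1) i j ≠ 0 := by
      rw [Matrix.sub_apply, Matrix.one_apply_ne hij, sub_zero]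
      exact hne
    have h2 := hV i j h1
    have h3 : (u : Matrix D.Idx D.Idx F) i j ≠ 0 := by
      intro h0
      apply hne
      rw [hG]
      unfold ChevalleyDatum.charDiag
      rw [Matrix.mul_diagonal, h0, zero_mul]
    have h4 : ((u : Matrix D.Idx D.Idx F) - 1) i j ≠ 0 := by
      rw [Matrix.sub_apply, Matrix.one_apply_ne hij, sub_zero]
      exact h3
    have h5 := hU i j h4
    have h6 := ChevGrad.grD_lt D i
    have h7 := ChevGrad.grD_lt D j
    unfold ChevGrad.grN at h2
    omega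

theorem borel_inf_neg_sup_diagonal (D : ChevalleyDatum)
    (hD : D ∈ [chevG2, chevB2, chevD4, chevF4, chevE6, chevE7, chevE8]) :
    D.borelSubgroup F ⊓ (D.negUnipotent F ⊔ D.diagonalSubgroup F) = D.diagonalSubgroup F := by
  have hHB : D.diagonalSubgroup F ≤ D.borelSubgroup F := by
    unfold ChevalleyDatum.borelSubgroup
    exact le_sup_right
  apply le_antisymm
  · rintro g ⟨hgB, hgVH⟩
    have hset := Subgroup.coe_mul_of_right_le_normalizer_left (D.negUnipotent F) (D.diagonalSubgroup F)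
      (diagonal_le_normalizer_neg D hD)
    have hgVH' : g ∈ ((D.negUnipotent F ⊔ D.diagonalSubgroup F : Subgroup (GL D.Idx F)) :
        Set (GL D.Idx F)) := hgVH
    rw [hset, Set.mem_mul] at hgVH'
    obtain ⟨v, hv, h', hh', e⟩ := hgVH'
    have hgB : g ∈ D.borelSubgroup F := hgB
    have hv' : v = g * h'⁻¹ := by rw [← e, mul_inv_cancel_right]
    have hvB : v ∈ D.borelSubgroup F := by
      rw [hv']
      exact mul_mem hgB (inv_mem (hHB hh'))
    have : v ∈ D.borelSubgroup F ⊓ D.negUnipotent F := ⟨hvB, hv⟩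
    rw [borel_inf_neg D hD, Subgroup.mem_bot] at this
    rw [← e, this, one_mul]
    exact hh'
  · exact le_inf hHB le_sup_right

end Cfsg.Agent.Lib.Helper5.ChevSym
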