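import Mathlib
import Cfsg.Agent.Lib.Helper5.ChevSymF

set_option autoImplicit false
set_option linter.style.haveILetI false
set_option linter.unusedSectionVars false

namespace Cfsg.Agent.Lib.Helper5.ChevSym

open Cfsg.Lie

/-- the symbolic word of `n_r(1)` -/
def nW0 (D : ChevalleyDatum) (r : ℕ) : List (ℕ × ℤ × ℤ) := [(r, 1, 0), (D.neg r, -1, 0), (r, 1, 0)]

/-- the sign `η_s` of `n_{p_i} e_s = η_s e_{w(s)}`, read off the symbolic evaluation -/
def etaOf (D : ChevalleyDatum) (i s : ℕ) : ℤ :=
  (((applyW D (nW0 D (D.simple i)) [(D.rank + s, 1, 0)]).filter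
    (fun τ => τ.1 = D.rank + D.reflectRoot i s)).map (fun τ => τ.2.1)).sum

/-- the expected symbolic columns of `n_{p_i}` -/
def nCols (D : ChevalleyDatum) (i : ℕ) (c : ℕ) : List Term :=
  if c < D.rank then [(c, 1, 0), (i, - D.cartan c (D.simple i), 0)]
  else [(D.rank + D.reflectRoot i (c - D.rank), etaOf D i (c - D.rank), 0)]

/-- table check for `n_{p_i}` -/
def NSimpleOK (D : ChevalleyDatum) (i : ℕ) : Prop :=
  D.simple i < D.nroots ∧ D.neg (D.simple i) < D.nroots ∧
    etaOf D i (D.simple i) = -1 ∧ etaOf D i (D.neg (D.simple i)) = -1 ∧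
    (∀ s, s < D.nroots → ((etaOf D i s = 1 ∨ etaOf D i s = -1) ∧
      etaOf D i s * etaOf D i (D.reflectRoot i s) = (-1) ^ (D.cartan i s).natAbs ∧
      etaOf D i s * etaOf D i (D.neg s) = 1)) ∧
    ∀ c, c < D.rank + D.nroots →
      eqV (applyW D (nW0 D (D.simple i)) [(c, 1, 0)]) (nCols D i c) = true

instance (D : ChevalleyDatum) (i : ℕ) : Decidable (NSimpleOK D i) := by unfold NSimpleOK; infer_instance

def NSimpleAll (D : ChevalleyDatum) : Prop := ∀ i, i < D.rank → NSimpleOK D i

instance (D : ChevalleyDatum) : Decidable (NSimpleAll D) := by unfold NSimpleAll; infer_instance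

set_option maxRecDepth 100000 in
theorem nSimple_G2 : NSimpleAll chevG2 := by decide +kernel
set_option maxRecDepth 100000 in
theorem nSimple_B2 : NSimpleAll chevB2 := by decide +kernel
set_option maxRecDepth 100000 in
theorem nSimple_D4 : NSimpleAll chevD4 := by decide +kernel
set_option maxRecDepth 100000 in
theorem nSimple_F4 : NSimpleAll chevF4 := by decide +kernel
set_option maxRecDepth 100000 in
theorem nSimple_E6 : NSimpleAll chevE6 := by decide +kernel

end Cfsg.Agent.Lib.Helper5.ChevSym
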