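import Mathlib
import Cfsg.Agent.Lib.Helper5.ChevSymK

set_option autoImplicit false
set_option linter.style.haveILetI false
set_option linter.unusedSectionVars false

namespace Cfsg.Agent.Lib.Helper5.ChevSym

open Cfsg.Lie

variable {F : Type*} [Field F]

theorem nWord_one_eq (D : ChevalleyDatum) (r : ℕ) :
    D.nWord r (1 : F) = wordVal (1 : F) (nW0 D r) := by
  simp [ChevalleyDatum.nWord, wordVal, nW0]

/-- the matrix of `n_{p_i}` -/
theorem nMat_simple (D : ChevalleyDatum) (i : ℕ) (hi : i < D.rank) (h : NSimpleOK D i) :
    D.nMat F (D.simple i) 1 = Matrix.of (fun (row col : D.Idx) =>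
        Sum.elim
          (fun j' : Fin D.rank => Sum.elim
            (fun j : Fin D.rank => (if j' = j then (1 : F) else 0) -
              (if (j' : ℕ) = i then ((D.cartan j (D.simple i) : ℤ) : F) else 0))
            (fun _ => (0 : F)) col)
          (fun s' : Fin D.nroots => Sum.elim
            (fun _ => (0 : F))
            (fun s : Fin D.nroots => if (s' : ℕ) = D.reflectRoot i s then ((etaOf D i s : ℤ) : F) else 0) col)
          row) := by
  obtain ⟨h1, h2, -, -, -, h3⟩ := h
  unfold ChevalleyDatum.nMat
  rw [nWord_one_eq]
  apply wordMat_eq_of_cols D (1 : F) one_ne_zero (nW0 D (D.simple i)) _ _ (nCols D i) _ h3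
  · intro p hp
    simp only [nW0, List.mem_cons, List.not_mem_nil, or_false] at hp
    rcases hp with rfl | rfl | rfl <;> assumption
  · intro i' j
    rcases i' with j0 | s
    · have hc : code D (Sum.inl j0) = j0.val := rfl
      have hlt : j0.val < D.rank := j0.2
      unfold nCols
      rw [hc, if_pos hlt, real_cons_apply, real_cons_apply, real_nil_apply, add_zero]
      rcases j with j' | s'
      · simp only [Matrix.of_apply, Sum.elim_inl, tval, code]
        have e1 : (j0.val = j'.val) ↔ (j' = j0) := by
          constructor
          · intro hh; exact Fin.ext hh.symm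
          · intro hh; rw [hh]
        have e2 : (i = j'.val) ↔ (j'.val = i) := eq_comm
        simp only [e1, e2]
        by_cases ha : j' = j0
        · subst ha
          by_cases hb : j'.val = i
          · simp [hb, sub_eq_add_neg]
          · simp [hb]
        · by_cases hb : j'.val = i
          · simp [ha, hb]
          · simp [ha, hb]
      · simp only [Matrix.of_apply, Sum.elim_inl, Sum.elim_inr, code]
        have hs' := s'.2
        have e1 : ¬ j0.val = D.rank + s'.val := by omega
        have e2 : ¬ i = D.rank + s'.val := by
          intro hh
          -- i < rank is not known here; use that the coefficient position is irrelevant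
          omega
        simp [e1, e2]
    · have hs := s.2
      have hc : code D (Sum.inr s) = D.rank + s.val := rfl
      unfold nCols
      rw [hc, if_neg (by omega), real_cons_apply, real_nil_apply, add_zero]
      have h3' : D.rank + s.val - D.rank = s.val := by omega
      rw [h3']
      rcases j with j' | s'
      · have hj := j'.2
        simp only [Matrix.of_apply, Sum.elim_inl, Sum.elim_inr, code]
        have e1 : ¬ D.rank + D.reflectRoot i s.val = j'.val := by omega
        simp [e1]
      · simp only [Matrix.of_apply, Sum.elim_inr, code, tval]
        have e1 : (D.rank + D.reflectRoot i s.val = D.rank + s'.val) ↔ (s'.val = D.reflectRoot i s.val) := by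
          constructor <;> intro hh <;> omega
        simp only [e1]
        split_ifs <;> simp

end Cfsg.Agent.Lib.Helper5.ChevSym
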