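import Mathlib
import Cfsg.Agent.Lib.Helper5.ChevSymL

set_option autoImplicit false
set_option linter.style.haveILetI false
set_option linter.unusedSectionVars false

namespace Cfsg.Agent.Lib.Helper5.ChevSym

open Cfsg.Lie

/-- the nonzero terms of a symbolic vector -/
def nzTerms (v : List Term) : List Term := v.filter (fun τ => τ.2.1 != 0)

/-- shape of a column of a block-monomial matrix -/
def isBMcol (rank : ℕ) (isRoot : Bool) (v : List Term) : Bool :=
  if isRoot then
    (match nzTerms v with
     | [] => true
     | [τ] => decide (rank ≤ τ.1)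
     | _ => false)
  else (nzTerms v).all (fun τ => decide (τ.1 < rank))

/-- table check: `n_r(1)` is block-monomial -/
def NShapeB (D : ChevalleyDatum) (r : ℕ) : Bool :=
  decide (D.neg r < D.nroots) &&
  ((List.range D.rank).all fun c => isBMcol D.rank false (applyW D (nW0 D r) [(c, 1, 0)])) &&
  ((List.range D.nroots).all fun s =>
    isBMcol D.rank true (applyW D (nW0 D r) [(D.rank + s, 1, 0)]))

/-- table check for a range of roots -/
def NRangeB (D : ChevalleyDatum) (a n : ℕ) : Bool :=
  (List.range n).all fun k => NShapeB D (a + k)

theorem NRangeB_spec (D : ChevalleyDatum) (a n : ℕ) (h : NRangeB D a n = true) (r : ℕ)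
    (h1 : a ≤ r) (h2 : r < a + n) : NShapeB D r = true := by
  unfold NRangeB at h
  rw [List.all_eq_true] at h
  have := h (r - a) (List.mem_range.mpr (by omega))
  rwa [Nat.add_sub_cancel' h1] at this

variable {F : Type*} [Field F]

theorem real_eq_nzTerms (D : ChevalleyDatum) (t : F) (v : List Term) :
    real D t v = real D t (nzTerms v) := by
  induction v with
  | nil => rfl
  | cons τ v ih =>
    unfold nzTerms at ih ⊢
    by_cases h : τ.2.1 = 0
    · rw [List.filter_cons_of_neg (by simpa using h), real_cons, ih]
      have : real D t [τ] = 0 := by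
        funext j
        rw [real_single]
        simp [tval, h]
      rw [this, zero_add]
    · rw [List.filter_cons_of_pos (by simpa using h), real_cons, ih,
        real_cons D t τ (List.filter (fun τ => τ.2.1 != 0) v)]

/-- block-monomial matrices -/
def BM (D : ChevalleyDatum) (M : Matrix D.Idx D.Idx F) : Prop :=
  (∀ (j : Fin D.rank) (s : Fin D.nroots), M (Sum.inl j) (Sum.inr s) = 0) ∧
  (∀ (u : Fin D.nroots) (j : Fin D.rank), M (Sum.inr u) (Sum.inl j) = 0) ∧
  (∀ s : Fin D.nroots, ∃ u₀ : Fin D.nroots, ∀ u : Fin D.nroots, M (Sum.inr u) (Sum.inr s) ≠ 0 → u = u₀)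

theorem nMat_one_BM (D : ChevalleyDatum) (r : ℕ) (hr : r < D.nroots) (h : NShapeB D r = true) :
    BM D (D.nMat F r 1) := by
  unfold NShapeB at h
  rw [Bool.and_eq_true, Bool.and_eq_true] at h
  obtain ⟨⟨h1, h2⟩, h3⟩ := h
  have h1' : D.neg r < D.nroots := by simpa using h1
  rw [List.all_eq_true] at h2 h3
  have hw : ∀ p ∈ nW0 D r, p.1 < D.nroots := by
    intro p hp
    simp only [nW0, List.mem_cons, List.not_mem_nil, or_false] at hp
    rcases hp with rfl | rfl | rfl <;> assumption
  have hcol : ∀ i j : D.Idx, D.nMat F r 1 j i =
      real D (1 : F) (nzTerms (applyW D (nW0 D r) [(code D i, 1, 0)])) j := by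
    intro i j
    unfold ChevalleyDatum.nMat
    rw [nWord_one_eq, ← real_eq_nzTerms, ← real_applyW D (1 : F) one_ne_zero _ hw, real_basis,
      Matrix.mulVec_single_one]
    rfl
  refine ⟨fun j s => ?_, fun u j => ?_, fun s => ?_⟩
  · -- coroot row, root column
    rw [hcol]
    have hs := h3 s.val (List.mem_range.mpr s.2)
    unfold isBMcol at hs
    simp only [if_true] at hs
    have hc : code D (Sum.inr s) = D.rank + s.val := rfl
    rw [hc]
    cases hl : nzTerms (applyW D (nW0 D r) [(D.rank + s.val, 1, 0)]) with
    | nil => rw [real_nil]; rfl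
    | cons τ l =>
      rw [hl] at hs
      cases l with
      | nil =>
        simp only [decide_eq_true_eq] at hs
        rw [real_single]
        have hj := j.2
        rw [if_neg]
        show ¬ τ.1 = j.val
        omega
      | cons τ' l' => simp at hs
  · -- root row, coroot column
    rw [hcol]
    have hj := h2 j.val (List.mem_range.mpr j.2)
    unfold isBMcol at hj
    simp only [Bool.false_eq_true, if_false] at hj
    rw [List.all_eq_true] at hj
    have hc : code D (Sum.inl j) = j.val := rfl
    rw [hc]
    simp only [real]
    apply List.sum_eq_zero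
    intro x hx
    rw [List.mem_map] at hx
    obtain ⟨τ, hτ, rfl⟩ := hx
    have := hj τ hτ
    simp only [decide_eq_true_eq] at this
    rw [if_neg]
    show ¬ τ.1 = D.rank + u.val
    omega
  · -- root column: at most one nonzero entry
    have hs := h3 s.val (List.mem_range.mpr s.2)
    unfold isBMcol at hs
    simp only [if_true] at hs
    have hc : code D (Sum.inr s) = D.rank + s.val := rfl
    cases hl : nzTerms (applyW D (nW0 D r) [(D.rank + s.val, 1, 0)]) with
    | nil =>
      refine ⟨s, fun u hu => ?_⟩
      exfalso
      apply hu
      rw [hcol, hc, hl, real_nil]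
      rfl
    | cons τ l =>
      rw [hl] at hs
      cases l with
      | nil =>
        simp only [decide_eq_true_eq] at hs
        by_cases hlt : τ.1 - D.rank < D.nroots
        · refine ⟨⟨τ.1 - D.rank, hlt⟩, fun u hu => ?_⟩
          rw [hcol, hc, hl, real_single] at hu
          by_cases hcu : τ.1 = code D (Sum.inr u)
          · apply Fin.ext
            simp only
            have : code D (Sum.inr u) = D.rank + u.val := rfl
            omega
          · rw [if_neg hcu] at hu
            exact absurd rfl hu
        · refine ⟨s, fun u hu => ?_⟩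
          exfalso
          rw [hcol, hc, hl, real_single] at hu
          have : ¬ τ.1 = code D (Sum.inr u) := by
            have hu2 := u.2
            show ¬ τ.1 = D.rank + u.val
            omega
          rw [if_neg this] at hu
          exact hu rfl
      | cons τ' l' => simp at hs

end Cfsg.Agent.Lib.Helper5.ChevSym
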