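import Mathlib
import Cfsg.Agent.Lib.Helper5.ChevSymU
import Cfsg.Agent.Lib.Helper5.ChevSymV

set_option autoImplicit false
set_option linter.style.haveILetI false
set_option linter.unusedSectionVars false

namespace Cfsg.Agent.Lib.Helper5.ChevSym

open Cfsg.Lie

variable {F : Type*} [Field F]

theorem BM_one (D : ChevalleyDatum) : BM D (1 : Matrix D.Idx D.Idx F) := by
  refine ⟨fun j s => ?_, fun u j => ?_, fun s => ⟨s, fun u hu => ?_⟩⟩
  · exact Matrix.one_apply_ne (by simp)
  · exact Matrix.one_apply_ne (by simp)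
  · by_contra hne
    apply hu
    exact Matrix.one_apply_ne (by simpa using hne)

theorem BM_charDiag (D : ChevalleyDatum) (χ : ℕ → Fˣ) : BM D (D.charDiag F χ) := by
  unfold ChevalleyDatum.charDiag
  refine ⟨fun j s => ?_, fun u j => ?_, fun s => ⟨s, fun u hu => ?_⟩⟩
  · exact Matrix.diagonal_apply_ne _ (by simp)
  · exact Matrix.diagonal_apply_ne _ (by simp)
  · by_contra hne
    apply hu
    exact Matrix.diagonal_apply_ne _ (by simpa using hne)

theorem BM_mul (D : ChevalleyDatum) (A B : Matrix D.Idx D.Idx F) (hA : BM D A) (hB : BM D B) :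
    BM D (A * B) := by
  obtain ⟨a1, a2, a3⟩ := hA
  obtain ⟨b1, b2, b3⟩ := hB
  refine ⟨fun j s => ?_, fun u j => ?_, fun s => ?_⟩
  · rw [Matrix.mul_apply, Fintype.sum_sum_type]
    have h1 : ∀ k : Fin D.rank, A (Sum.inl j) (Sum.inl k) * B (Sum.inl k) (Sum.inr s) = 0 := by
      intro k; rw [b1, mul_zero]
    have h2 : ∀ k : Fin D.nroots, A (Sum.inl j) (Sum.inr k) * B (Sum.inr k) (Sum.inr s) = 0 := by
      intro k; rw [a1, zero_mul]
    simp [h1, h2]
  · rw [Matrix.mul_apply, Fintype.sum_sum_type]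
    have h1 : ∀ k : Fin D.rank, A (Sum.inr u) (Sum.inl k) * B (Sum.inl k) (Sum.inl j) = 0 := by
      intro k; rw [a2, zero_mul]
    have h2 : ∀ k : Fin D.nroots, A (Sum.inr u) (Sum.inr k) * B (Sum.inr k) (Sum.inl j) = 0 := by
      intro k; rw [b2, mul_zero]
    simp [h1, h2]
  · obtain ⟨v₀, hv₀⟩ := b3 s
    obtain ⟨u₀, hu₀⟩ := a3 v₀
    refine ⟨u₀, fun u hu => ?_⟩
    apply hu₀
    intro h0
    apply hu
    rw [Matrix.mul_apply, Fintype.sum_sum_type]
    have h1 : ∀ k : Fin D.rank, A (Sum.inr u) (Sum.inl k) * B (Sum.inl k) (Sum.inr s) = 0 := by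
      intro k; rw [a2, zero_mul]
    have h2 : ∀ k : Fin D.nroots, A (Sum.inr u) (Sum.inr k) * B (Sum.inr k) (Sum.inr s) = 0 := by
      intro k
      by_cases hk : k = v₀
      · rw [hk, h0, zero_mul]
      · have : B (Sum.inr k) (Sum.inr s) = 0 := by
          by_contra hne
          exact hk (hv₀ k hne)
        rw [this, mul_zero]
    simp [h1, h2]

/-- the subgroup of `GL` of elements that are block-monomial together with their inverse -/
def BMgroup (D : ChevalleyDatum) (F : Type*) [Field F] : Subgroup (GL D.Idx F) where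
  carrier := {g | BM D (g : Matrix D.Idx D.Idx F) ∧ BM D ((g⁻¹ : GL D.Idx F) : Matrix D.Idx D.Idx F)}
  one_mem' := by
    refine ⟨?_, ?_⟩
    · rw [Units.val_one]; exact BM_one D
    · rw [inv_one, Units.val_one]; exact BM_one D
  mul_mem' := by
    intro a b ha hb
    refine ⟨?_, ?_⟩
    · rw [Units.val_mul]; exact BM_mul D _ _ ha.1 hb.1
    · rw [mul_inv_rev, Units.val_mul]; exact BM_mul D _ _ hb.2 ha.2
  inv_mem' := by
    intro a ha
    refine ⟨ha.2, ?_⟩
    rw [inv_inv]
    exact ha.1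

theorem nMat_mul_neg (D : ChevalleyDatum)
    (hD : D ∈ [chevG2, chevB2, chevD4, chevF4, chevE6, chevE7, chevE8]) (r : ℕ) (hr : r < D.nroots) :
    D.nMat F r 1 * D.nMat F r (-1) = 1 := by
  have h1 := hMat_all D hD r hr (1 : F) one_ne_zero
  have h2 : D.hMat F r 1 = D.nMat F r 1 * D.nMat F r (-1) := by
    unfold ChevalleyDatum.hMat ChevalleyDatum.nMat ChevalleyDatum.hWord
    rw [wordMat_append]
  rw [← h2, h1, ← Matrix.diagonal_one]
  congr 1
  funext j
  rcases j with j | s <;> simp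

theorem nMat_neg_eq (D : ChevalleyDatum)
    (hD : D ∈ [chevG2, chevB2, chevD4, chevF4, chevE6, chevE7, chevE8]) (r : ℕ) (hr : r < D.nroots) :
    D.nMat F r (-1) = D.nMat F r 1 * D.hMat F r (-1) := by
  have h2 : D.hMat F r (-1) = D.nMat F r (-1) * D.nMat F r (-1) := by
    unfold ChevalleyDatum.hMat ChevalleyDatum.nMat ChevalleyDatum.hWord
    rw [wordMat_append]
  rw [h2, ← Matrix.mul_assoc, nMat_mul_neg D hD r hr, Matrix.one_mul]

theorem hMat_BM (D : ChevalleyDatum)
    (hD : D ∈ [chevG2, chevB2, chevD4, chevF4, chevE6, chevE7, chevE8]) (r : ℕ) (hr : r < D.nroots)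
    (c : F) (hc : c ≠ 0) : BM D (D.hMat F r c) := by
  rw [hMat_all D hD r hr c hc]
  refine ⟨fun j s => ?_, fun u j => ?_, fun s => ⟨s, fun u hu => ?_⟩⟩
  · exact Matrix.diagonal_apply_ne _ (by simp)
  · exact Matrix.diagonal_apply_ne _ (by simp)
  · by_contra hne
    apply hu
    exact Matrix.diagonal_apply_ne _ (by simpa using hne)

theorem monomial_le_BMgroup (D : ChevalleyDatum)
    (hD : D ∈ [chevG2, chevB2, chevD4, chevF4, chevE6, chevE7, chevE8])
    (hN : ∀ r, r < D.nroots → NShapeB D r = true) :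
    D.monomialSubgroup F ≤ BMgroup D F := by
  unfold ChevalleyDatum.monomialSubgroup
  apply sup_le
  · intro h hh
    obtain ⟨c, hc⟩ := mem_diagonalSubgroup D hD h hh
    refine ⟨?_, ?_⟩
    · rw [hc]; exact BM_charDiag D _
    · rw [inv_of_charDiag D h _ hc]; exact BM_charDiag D _
  · rw [Subgroup.closure_le]
    rintro g ⟨r, hr, hg⟩
    refine ⟨?_, ?_⟩
    · rw [hg]; exact nMat_one_BM D r hr (hN r hr)
    · have hinv : ((g⁻¹ : GL D.Idx F) : Matrix D.Idx D.Idx F) = D.nMat F r (-1) := by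
        rw [Matrix.coe_units_inv, hg]
        exact Matrix.inv_eq_right_inv (nMat_mul_neg D hD r hr)
      rw [hinv, nMat_neg_eq D hD r hr]
      exact BM_mul D _ _ (nMat_one_BM D r hr (hN r hr))
        (hMat_BM D hD r hr (-1) (neg_ne_zero.mpr one_ne_zero))

theorem pos_inf_monomial (D : ChevalleyDatum)
    (hD : D ∈ [chevG2, chevB2, chevD4, chevF4, chevE6, chevE7, chevE8])
    (hN : ∀ r, r < D.nroots → NShapeB D r = true) :
    D.posUnipotent F ⊓ D.monomialSubgroup F = ⊥ := by
  rw [eq_bot_iff]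
  rintro g ⟨hgU, hgN⟩
  have hU : ChevGrad.Lev (ChevGrad.grD D) 1 ((g : Matrix D.Idx D.Idx F) - 1) :=
    ChevGrad.posUnipotent_le_uni D (ChevGrad.tabOK_of_mem D hD) hgU
  obtain ⟨b1, b2, b3⟩ := (monomial_le_BMgroup D hD hN hgN).1
  have hdiag : ∀ i, (g : Matrix D.Idx D.Idx F) i i = 1 := by
    intro i
    by_contra hne
    have h1 : ((g : Matrix D.Idx D.Idx F) - 1) i i ≠ 0 := by
      rw [Matrix.sub_apply, Matrix.one_apply_eq]
      exact sub_ne_zero.mpr hne
    have := hU i i h1
    omega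
  rw [Subgroup.mem_bot]
  apply Units.ext
  ext i j
  rw [Units.val_one]
  by_cases hij : i = j
  · subst hij
    rw [Matrix.one_apply_eq]
    exact hdiag i
  · rw [Matrix.one_apply_ne hij]
    rcases i with i | u <;> rcases j with j | s
    · by_contra hne
      have h1 : ((g : Matrix D.Idx D.Idx F) - 1) (Sum.inl i) (Sum.inl j) ≠ 0 := by
        rw [Matrix.sub_apply, Matrix.one_apply_ne hij, sub_zero]
        exact hne
      have := hU _ _ h1
      have e1 : ChevGrad.grD D (Sum.inl i) = D.nroots / 2 := rfl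
      have e2 : ChevGrad.grD D (Sum.inl j) = D.nroots / 2 := rfl
      omega
    · exact b1 i s
    · exact b2 u j
    · obtain ⟨u₀, hu₀⟩ := b3 s
      have hs : s = u₀ := hu₀ s (by rw [hdiag]; exact one_ne_zero)
      by_contra hne
      have := hu₀ u hne
      apply hij
      rw [this, hs]

theorem borel_inf_monomial (D : ChevalleyDatum)
    (hD : D ∈ [chevG2, chevB2, chevD4, chevF4, chevE6, chevE7, chevE8])
    (hN : ∀ r, r < D.nroots → NShapeB D r = true) :
    D.borelSubgroup F ⊓ D.monomialSubgroup F = D.diagonalSubgroup F := by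
  have hHB : D.diagonalSubgroup F ≤ D.borelSubgroup F := by
    unfold ChevalleyDatum.borelSubgroup
    exact le_sup_right
  have hHN : D.diagonalSubgroup F ≤ D.monomialSubgroup F := by
    unfold ChevalleyDatum.monomialSubgroup
    exact le_sup_left
  apply le_antisymm
  · rintro g ⟨hgB, hgN⟩
    obtain ⟨u, hu, h, hh, e⟩ := (mem_borel D hD g).mp hgB
    have hu' : u = g * h⁻¹ := by rw [← e, mul_inv_cancel_right]
    have huN : u ∈ D.monomialSubgroup F := by
      rw [hu']
      exact mul_mem hgN (inv_mem (hHN hh))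
    have : u ∈ D.posUnipotent F ⊓ D.monomialSubgroup F := ⟨hu, huN⟩
    rw [pos_inf_monomial D hD hN, Subgroup.mem_bot] at this
    rw [← e, this, one_mul]
    exact hh
  · exact le_inf hHB hHN

end Cfsg.Agent.Lib.Helper5.ChevSym
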