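import Mathlib
import Cfsg.Agent.Lib.Helper5.ChevSymW

set_option autoImplicit false
set_option linter.style.haveILetI false
set_option linter.unusedSectionVars false

namespace Cfsg.Agent.Lib.Helper5.ChevSym

open Cfsg.Lie

variable {F : Type*} [Field F]

theorem nMat_unfold (D : ChevalleyDatum) (r : ℕ) (a : F) :
    D.nMat F r a = D.x F r a * (D.x F (D.neg r) (-a⁻¹) * D.x F r a) := by
  unfold ChevalleyDatum.nMat ChevalleyDatum.nWord ChevalleyDatum.wordMat
  simp only [List.map_cons, List.map_nil, List.prod_cons, List.prod_nil, mul_one]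

/-- `h n_r(1) h⁻¹ = n_r(χ(r))` for `h = ĥ(χ) ∈ H` -/
theorem conj_nMat (D : ChevalleyDatum)
    (hD : D ∈ [chevG2, chevB2, chevD4, chevF4, chevE6, chevE7, chevE8]) (h : GL D.Idx F)
    (hh : h ∈ D.diagonalSubgroup F) (n : GL D.Idx F) (r : ℕ) (hr : r < D.nroots)
    (hn : (n : Matrix D.Idx D.Idx F) = D.nMat F r 1) :
    ∃ a : F, a ≠ 0 ∧ ((h * n * h⁻¹ : GL D.Idx F) : Matrix D.Idx D.Idx F) = D.nMat F r a := by
  obtain ⟨c, hc⟩ := mem_diagonalSubgroup D hD h hh
  have hχ := chiC_isRootCharacter (F := F) D hD c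
  have hadd := cartanAddB_of_mem D hD
  have hnr : D.neg r < D.nroots := by
    rw [neg_eq D hadd r hr]; omega
  refine ⟨((chiC D c r : Fˣ) : F), Units.ne_zero _, ?_⟩
  rw [Units.val_mul, Units.val_mul, hc, hn, inv_of_charDiag D h _ hc, nMat_unfold, nMat_unfold]
  have e1 := Cfsg.Agent.S2157.result D hD (chiC D c) hχ r hr (1 : F)
  have e2 := Cfsg.Agent.S2157.result D hD (chiC D c) hχ (D.neg r) hnr (-(1 : F)⁻¹)
  have hinv := charDiag_mul_inv (F := F) D (chiC D c)
  set A := D.charDiag F (chiC D c) with hA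
  set A' := D.charDiag F (fun s => (chiC D c s)⁻¹) with hA'
  have key : A * (D.x F r 1 * (D.x F (D.neg r) (-(1 : F)⁻¹) * D.x F r 1)) * A' =
      (A * D.x F r 1 * A') * ((A * D.x F (D.neg r) (-(1 : F)⁻¹) * A') * (A * D.x F r 1 * A')) := by
    have : ∀ X Y : Matrix D.Idx D.Idx F, (A * X * A') * (A * Y * A') = A * (X * Y) * A' := by
      intro X Y
      calc (A * X * A') * (A * Y * A') = A * X * (A' * A) * Y * A' := by
            simp only [Matrix.mul_assoc]
        _ = A * (X * Y) * A' := by rw [hinv, Matrix.mul_one]; simp only [Matrix.mul_assoc]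
    rw [this, this]
  rw [key, e1, e2, hχ.1 r hr]
  congr 2
  · rw [mul_one]
  · congr 1
    rw [Units.val_inv_eq_inv_val, inv_one, mul_neg, mul_one]
  · rw [mul_one]

/-- the GL element with matrix `h_r(a)` obtained from `n`-elements -/
theorem hMat_eq_nMat_mul (D : ChevalleyDatum) (r : ℕ) (a : F) :
    D.hMat F r a = D.nMat F r a * D.nMat F r (-1) := by
  unfold ChevalleyDatum.hMat ChevalleyDatum.nMat ChevalleyDatum.hWord
  rw [wordMat_append]

theorem nMat_neg_mul (D : ChevalleyDatum)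
    (hD : D ∈ [chevG2, chevB2, chevD4, chevF4, chevE6, chevE7, chevE8]) (r : ℕ) (hr : r < D.nroots) :
    D.nMat F r (-1) * D.nMat F r 1 = 1 :=
  mul_eq_one_comm.mp (nMat_mul_neg D hD r hr)

/-- `n H n⁻¹ ⊆ H` for `n = n_r(1)` -/
theorem conj_mem_diagonal (D : ChevalleyDatum)
    (hD : D ∈ [chevG2, chevB2, chevD4, chevF4, chevE6, chevE7, chevE8]) (n : GL D.Idx F) (r : ℕ)
    (hr : r < D.nroots) (hn : (n : Matrix D.Idx D.Idx F) = D.nMat F r 1)
    (h : GL D.Idx F) (hh : h ∈ D.diagonalSubgroup F) : n * h * n⁻¹ ∈ D.diagonalSubgroup F := by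
  -- apply `conj_nMat` to `h⁻¹`
  have hh' : h⁻¹ ∈ D.diagonalSubgroup F := inv_mem hh
  obtain ⟨a, ha, hconj⟩ := conj_nMat D hD h⁻¹ hh' n r hr hn
  rw [inv_inv] at hconj
  -- k = h⁻¹ n h n⁻¹ has matrix h_r(a)
  have hk : h⁻¹ * n * h * n⁻¹ ∈ D.diagonalSubgroup F := by
    apply Subgroup.subset_closure
    refine ⟨r, a, hr, ha, ?_⟩
    have hninv : ((n⁻¹ : GL D.Idx F) : Matrix D.Idx D.Idx F) = D.nMat F r (-1) := by
      rw [Matrix.coe_units_inv, hn]
      exact Matrix.inv_eq_right_inv (nMat_mul_neg D hD r hr)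
    rw [Units.val_mul, hconj, hninv, hMat_eq_nMat_mul]
  have : n * h * n⁻¹ = h * (h⁻¹ * n * h * n⁻¹) := by group
  rw [this]
  exact mul_mem hh hk

theorem nGen_mem_normalizer (D : ChevalleyDatum)
    (hD : D ∈ [chevG2, chevB2, chevD4, chevF4, chevE6, chevE7, chevE8]) (n : GL D.Idx F) (r : ℕ)
    (hr : r < D.nroots) (hn : (n : Matrix D.Idx D.Idx F) = D.nMat F r 1) :
    n ∈ Subgroup.normalizer (D.diagonalSubgroup F : Set (GL D.Idx F)) := by
  have hninv : ((n⁻¹ : GL D.Idx F) : Matrix D.Idx D.Idx F) = D.nMat F r (-1) := by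
    rw [Matrix.coe_units_inv, hn]
    exact Matrix.inv_eq_right_inv (nMat_mul_neg D hD r hr)
  -- `n⁻¹ n⁻¹ = h_r(-1) ∈ H`
  have hm : n⁻¹ * n⁻¹ ∈ D.diagonalSubgroup F := by
    apply Subgroup.subset_closure
    refine ⟨r, -1, hr, neg_ne_zero.mpr one_ne_zero, ?_⟩
    rw [Units.val_mul, hninv, hMat_eq_nMat_mul]
  rw [Subgroup.mem_normalizer_iff]
  intro h
  constructor
  · intro hh
    exact conj_mem_diagonal D hD n r hr hn h hh
  · intro hh
    -- h = n⁻¹ (n h n⁻¹) n, and n⁻¹ = n (n⁻¹ n⁻¹)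
    set k := n * h * n⁻¹ with hk
    set m := n⁻¹ * n⁻¹ with hmdef
    have h1 : m * k * m⁻¹ ∈ D.diagonalSubgroup F := mul_mem (mul_mem hm hh) (inv_mem hm)
    have h2 := conj_mem_diagonal D hD n r hr hn _ h1
    have : h = n * (m * k * m⁻¹) * n⁻¹ := by
      rw [hk, hmdef]; group
    rw [this]
    exact h2

theorem diagonal_normal_monomial (D : ChevalleyDatum)
    (hD : D ∈ [chevG2, chevB2, chevD4, chevF4, chevE6, chevE7, chevE8]) :
    ((D.diagonalSubgroup F).subgroupOf (D.monomialSubgroup F)).Normal := by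
  have hle : D.diagonalSubgroup F ≤ D.monomialSubgroup F := by
    unfold ChevalleyDatum.monomialSubgroup
    exact le_sup_left
  rw [Subgroup.normal_subgroupOf_iff_le_normalizer hle]
  unfold ChevalleyDatum.monomialSubgroup
  refine sup_le Subgroup.le_normalizer ?_
  rw [Subgroup.closure_le]
  rintro n ⟨r, hr, hn⟩
  exact nGen_mem_normalizer D hD n r hr hn

end Cfsg.Agent.Lib.Helper5.ChevSym
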