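import Mathlib
import Cfsg.Agent.Lib.Helper5.ChevSymZ
import Cfsg.Agent.Lib.Helper5.ChevBN
import Cfsg.Agent.S1023

set_option autoImplicit false
set_option linter.style.haveILetI false
set_option linter.unusedSectionVars false

namespace Cfsg.Agent.Lib.Helper5.ChevSym

open Cfsg.Lie

variable {F : Type*} [Field F]

/-- `t ↦ x_r(t)` is injective -/
theorem x_injective (D : ChevalleyDatum)
    (hD : D ∈ [chevG2, chevB2, chevD4, chevF4, chevE6, chevE7, chevE8]) (r : ℕ) (hr : r < D.nroots)
    (a b : F) (h : D.x F r a = D.x F r b) : a = b := by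
  have h1 := Cfsg.Agent.S1023.result D hD r hr a (-b)
  have h2 := Cfsg.Agent.S1023.result D hD r hr b (-b)
  rw [h] at h1
  rw [h1, add_neg_cancel] at h2
  have h3 : D.x F r (0 : F) = 1 := (Cfsg.Agent.S1024.result D hD r hr 0).mpr rfl
  rw [h3] at h2
  have h4 := (Cfsg.Agent.S1024.result D hD r hr (a + -b)).mp h2
  exact (add_neg_eq_zero.mp h4)

theorem monomial_le_normalizer_diagonal (D : ChevalleyDatum)
    (hD : D ∈ [chevG2, chevB2, chevD4, chevF4, chevE6, chevE7, chevE8]) :
    D.monomialSubgroup F ≤ Subgroup.normalizer (D.diagonalSubgroup F : Set (GL D.Idx F)) := by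
  unfold ChevalleyDatum.monomialSubgroup
  refine sup_le Subgroup.le_normalizer ?_
  rw [Subgroup.closure_le]
  rintro n ⟨r, hr, hn⟩
  exact nGen_mem_normalizer D hD n r hr hn

theorem diagonal_inf_neg (D : ChevalleyDatum)
    (hD : D ∈ [chevG2, chevB2, chevD4, chevF4, chevE6, chevE7, chevE8]) :
    D.diagonalSubgroup F ⊓ D.negUnipotent F = ⊥ := by
  rw [eq_bot_iff, ← borel_inf_neg D hD]
  refine inf_le_inf_right _ ?_
  unfold ChevalleyDatum.borelSubgroup
  exact le_sup_right

/-- the normal core of `B` in `G` is trivial, given a representative of the longest element -/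
theorem core_borel_eq_bot (D : ChevalleyDatum)
    (hD : D ∈ [chevG2, chevB2, chevD4, chevF4, chevE6, chevE7, chevE8])
    (hn0 : ∃ n ∈ D.monomialSubgroup F,
      (D.posUnipotent F).map (MulAut.conj n).toMonoidHom = D.negUnipotent F) :
    ((D.borelSubgroup F).subgroupOf (D.group F)).normalCore = ⊥ := by
  obtain ⟨n0, hn0N, hn0U⟩ := hn0
  have hn0G : n0 ∈ D.group F := ChevBN.monomial_le_group D hD hn0N
  set K := ((D.borelSubgroup F).subgroupOf (D.group F)).normalCore with hK
  -- Step 1: K ≤ H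
  have step1 : ∀ k : ↥(D.group F), k ∈ K → (k : GL D.Idx F) ∈ D.diagonalSubgroup F := by
    intro k hk
    have hkB : (k : GL D.Idx F) ∈ D.borelSubgroup F := by
      have := Subgroup.normalCore_le _ hk
      exact Subgroup.mem_subgroupOf.mp this
    have h1 := hk (⟨n0, hn0G⟩ : ↥(D.group F))⁻¹
    rw [Subgroup.mem_subgroupOf] at h1
    have h1' : n0⁻¹ * (k : GL D.Idx F) * n0 ∈ D.borelSubgroup F := by
      simpa using h1
    have h2 : (k : GL D.Idx F) ∈ (D.borelSubgroup F).map (MulAut.conj n0).toMonoidHom := by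
      refine ⟨n0⁻¹ * (k : GL D.Idx F) * n0, h1', ?_⟩
      simp only [MulEquiv.coe_toMonoidHom, MulAut.conj_apply]
      group
    have h3 : (D.borelSubgroup F).map (MulAut.conj n0).toMonoidHom ≤
        D.negUnipotent F ⊔ D.diagonalSubgroup F := by
      unfold ChevalleyDatum.borelSubgroup
      rw [Subgroup.map_sup, hn0U]
      refine sup_le_sup_left ?_ _
      rintro _ ⟨h, hh, rfl⟩
      simp only [MulEquiv.coe_toMonoidHom, MulAut.conj_apply]
      have hnorm := monomial_le_normalizer_diagonal D hD hn0N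
      rw [Subgroup.mem_normalizer_iff] at hnorm
      exact (hnorm h).mp hh
    have h4 : (k : GL D.Idx F) ∈ D.borelSubgroup F ⊓ (D.negUnipotent F ⊔ D.diagonalSubgroup F) :=
      ⟨hkB, h3 h2⟩
    rwa [borel_inf_neg_sup_diagonal D hD] at h4
  rw [eq_bot_iff]
  intro k hk
  rw [Subgroup.mem_bot]
  have hkH := step1 k hk
  obtain ⟨c, hc⟩ := mem_diagonalSubgroup D hD (k : GL D.Idx F) hkH
  have hχ := chiC_isRootCharacter (F := F) D hD c
  -- Step 2: χ r = 1 for all roots
  have step2 : ∀ r, r < D.nroots → chiC D c r = 1 := by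
    intro r hr
    set x := ChevBN.xGL D hD r (1 : F) with hx
    have hxG : x ∈ D.group F := ChevBN.xGL_mem_group D hD r 1
    have hxv : (x : Matrix D.Idx D.Idx F) = D.x F r 1 := ChevBN.xGL_val D hD r 1
    -- the commutator lies in K
    have hcomm : k * ((⟨x, hxG⟩ : ↥(D.group F)) * k⁻¹ * (⟨x, hxG⟩ : ↥(D.group F))⁻¹) ∈ K :=
      mul_mem hk ((Subgroup.normalCore_normal _).conj_mem _ (inv_mem hk) _)
    have hcH := step1 _ hcomm
    have hcv : ((k * ((⟨x, hxG⟩ : ↥(D.group F)) * k⁻¹ * (⟨x, hxG⟩ : ↥(D.group F))⁻¹) :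
        ↥(D.group F)) : GL D.Idx F) = (k : GL D.Idx F) * x * (k : GL D.Idx F)⁻¹ * x⁻¹ := by
      simp only [Subgroup.coe_mul, Subgroup.coe_inv]
      group
    rw [hcv] at hcH
    -- the conjugate of x by k has matrix x_r(χ r)
    have hconj : (((k : GL D.Idx F) * x * (k : GL D.Idx F)⁻¹ : GL D.Idx F) :
        Matrix D.Idx D.Idx F) = D.x F r (((chiC D c r : Fˣ) : F) * 1) := by
      rw [Units.val_mul, Units.val_mul, hc, hxv, inv_of_charDiag D _ _ hc]
      exact Cfsg.Agent.S2157.result D hD (chiC D c) hχ r hr 1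
    -- the commutator lies in U or in V
    have hone : (k : GL D.Idx F) * x * (k : GL D.Idx F)⁻¹ * x⁻¹ = 1 := by
      rcases Cfsg.Agent.S1041.pos_or_neg D hD r hr with hp | hn
      · have hU : (k : GL D.Idx F) * x * (k : GL D.Idx F)⁻¹ * x⁻¹ ∈ D.posUnipotent F := by
          apply mul_mem
          · exact Subgroup.subset_closure ⟨r, _, hp, hconj⟩
          · exact inv_mem (Subgroup.subset_closure ⟨r, 1, hp, hxv⟩)
        have : (k : GL D.Idx F) * x * (k : GL D.Idx F)⁻¹ * x⁻¹ ∈
            D.posUnipotent F ⊓ D.diagonalSubgroup F := ⟨hU, hcH⟩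
        rw [pos_inf_diagonal D hD] at this
        exact Subgroup.mem_bot.mp this
      · have hV : (k : GL D.Idx F) * x * (k : GL D.Idx F)⁻¹ * x⁻¹ ∈ D.negUnipotent F := by
          apply mul_mem
          · exact Subgroup.subset_closure ⟨r, _, hn, hconj⟩
          · exact inv_mem (Subgroup.subset_closure ⟨r, 1, hn, hxv⟩)
        have : (k : GL D.Idx F) * x * (k : GL D.Idx F)⁻¹ * x⁻¹ ∈
            D.diagonalSubgroup F ⊓ D.negUnipotent F := ⟨hcH, hV⟩
        rw [diagonal_inf_neg D hD] at this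
        exact Subgroup.mem_bot.mp this
    have heq : (k : GL D.Idx F) * x * (k : GL D.Idx F)⁻¹ = x := by
      have := mul_inv_eq_one.mp hone
      exact this
    have hval : D.x F r (((chiC D c r : Fˣ) : F) * 1) = D.x F r 1 := by
      rw [← hconj, heq, hxv]
    have := x_injective D hD r hr _ _ hval
    rw [mul_one] at this
    exact Units.ext this
  -- Step 3
  apply Subtype.ext
  apply Units.ext
  rw [hc]
  unfold ChevalleyDatum.charDiag
  simp only [Subgroup.coe_one, Units.val_one]
  rw [← Matrix.diagonal_one]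
  congr 1
  funext j
  rcases j with j | s
  · rfl
  · simp only [Sum.elim_inr]
    rw [step2 s.val s.2]
    rfl

end Cfsg.Agent.Lib.Helper5.ChevSym
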