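import Mathlib
import Cfsg.Prelude.Def_Chevalley
import Cfsg.Prelude.Def_ChevWords

set_option autoImplicit false
set_option linter.style.haveILetI false
set_option linter.unusedSectionVars false

namespace Cfsg.Agent.Lib.Helper5.ChevFieldAut

open Cfsg.Lie

theorem xMat_map {F : Type*} [Field F] (D : ChevalleyDatum) (f : F →+* F) (r : Fin D.nroots) (t : F) :
    (D.xMat F r t).map f = D.xMat F r (f t) := by
  ext row col
  rw [Matrix.map_apply]
  unfold ChevalleyDatum.xMat
  simp only [Matrix.of_apply]
  rcases col with i | s
  · rcases row with i' | u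
    · simp only
      split_ifs <;> simp
    · simp only
      split_ifs <;> simp
  · simp only
    by_cases h1 : s = r
    · simp only [h1, if_true]
      rcases row with i' | u
      · simp
      · simp only
        split_ifs <;> simp
    · simp only [h1, if_false]
      by_cases h2 : s.val = D.negIdx.getD r.val 0
      · simp only [h2, if_true]
        rcases row with i' | u
        · simp
        · simp only
          split_ifs <;> simp
      · simp only [h2, if_false]
        rcases row with i' | u
        · simp
        · simp only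
          rw [map_add, map_list_sum, List.map_map]
          congr 1
          · split_ifs <;> simp
          · congr 1
            apply List.map_congr_left
            intro km _
            simp

/-- entrywise field automorphism on GL -/
noncomputable def glAut {F : Type*} [Field F] (ι : Type*) [Fintype ι] [DecidableEq ι] (f : F ≃+* F) :
    GL ι F ≃* GL ι F :=
  Units.mapEquiv (RingEquiv.mapMatrix f).toMulEquiv

theorem glAut_val {F : Type*} [Field F] (ι : Type*) [Fintype ι] [DecidableEq ι] (f : F ≃+* F)
    (g : GL ι F) : ((glAut ι f g : GL ι F) : Matrix ι ι F) = (g : Matrix ι ι F).map f := rfl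

theorem glAut_symm_val {F : Type*} [Field F] (ι : Type*) [Fintype ι] [DecidableEq ι] (f : F ≃+* F)
    (g : GL ι F) : (((glAut ι f).symm g : GL ι F) : Matrix ι ι F) = (g : Matrix ι ι F).map f.symm := rfl

theorem group_map_glAut {F : Type*} [Field F] (D : ChevalleyDatum) (f : F ≃+* F) :
    (D.group F).map (glAut D.Idx f).toMonoidHom = D.group F := by
  unfold ChevalleyDatum.group
  rw [MonoidHom.map_closure]
  congr 1
  ext g
  constructor
  · rintro ⟨g0, ⟨r, t, hg0⟩, rfl⟩
    refine ⟨r, f t, ?_⟩
    show ((glAut D.Idx f g0 : GL D.Idx F) : Matrix D.Idx D.Idx F) = _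
    rw [glAut_val, hg0]
    exact xMat_map D f.toRingHom r t
  · rintro ⟨r, t, hg⟩
    refine ⟨(glAut D.Idx f).symm g, ⟨r, f.symm t, ?_⟩, ?_⟩
    · rw [glAut_symm_val, hg]
      exact xMat_map D f.symm.toRingHom r t
    · exact (glAut D.Idx f).apply_symm_apply g

theorem chev_field_aut {F : Type*} [Field F] (D : ChevalleyDatum) (f : F ≃+* F) :
    ∃ α : ↥(D.group F) ≃* ↥(D.group F), ∀ (g : ↥(D.group F)) (r : ℕ) (t : F), r < D.nroots →
      ((g : GL D.Idx F) : Matrix D.Idx D.Idx F) = D.x F r t →
        ((α g : GL D.Idx F) : Matrix D.Idx D.Idx F) = D.x F r (f t) := by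
  refine ⟨((glAut D.Idx f).subgroupMap (D.group F)).trans
    (MulEquiv.subgroupCongr (group_map_glAut D f)), ?_⟩
  intro g r t hr hg
  show ((glAut D.Idx f (g : GL D.Idx F) : GL D.Idx F) : Matrix D.Idx D.Idx F) = _
  rw [glAut_val, hg]
  unfold ChevalleyDatum.x
  rw [dif_pos hr, dif_pos hr]
  exact xMat_map D f.toRingHom ⟨r, hr⟩ t

end Cfsg.Agent.Lib.Helper5.ChevFieldAut
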