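import Mathlib
import Cfsg.Agent.Lib.Helper5.ChevSymK

set_option autoImplicit false

namespace Cfsg.Agent.Lib.Helper5.ChevSym

open Cfsg.Lie

set_option maxRecDepth 100000 in
theorem nSimple_E8_0 : NSimpleOK chevE8 0 := by decide +kernel

set_option maxRecDepth 100000 in
theorem nSimple_E8_1 : NSimpleOK chevE8 1 := by decide +kernel

set_option maxRecDepth 100000 in
theorem nSimple_E8_2 : NSimpleOK chevE8 2 := by decide +kernel

set_option maxRecDepth 100000 in
theorem nSimple_E8_3 : NSimpleOK chevE8 3 := by decide +kernel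

end Cfsg.Agent.Lib.Helper5.ChevSym
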