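import Mathlib
import Cfsg.Agent.Lib.Helper5.ChevSymK3a
import Cfsg.Agent.Lib.Helper5.ChevSymK3b

set_option autoImplicit false

namespace Cfsg.Agent.Lib.Helper5.ChevSym

open Cfsg.Lie

theorem nSimple_E8 : NSimpleAll chevE8 := by
  intro i hi
  have h8 : chevE8.rank = 8 := rfl
  rw [h8] at hi
  interval_cases i
  · exact nSimple_E8_0
  · exact nSimple_E8_1
  · exact nSimple_E8_2
  · exact nSimple_E8_3
  · exact nSimple_E8_4
  · exact nSimple_E8_5
  · exact nSimple_E8_6
  · exact nSimple_E8_7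

end Cfsg.Agent.Lib.Helper5.ChevSym
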