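import Mathlib
import Cfsg.Agent.Lib.Helper5.ChevSymL
import Cfsg.Agent.Lib.Helper5.ChevSymK2
import Cfsg.Agent.Lib.Helper5.ChevSymK3

set_option autoImplicit false
set_option linter.style.haveILetI false
set_option linter.unusedSectionVars false

namespace Cfsg.Agent.Lib.Helper5.ChevSym

open Cfsg.Lie

theorem nSimpleAll_of_mem (D : ChevalleyDatum)
    (hD : D ∈ [chevG2, chevB2, chevD4, chevF4, chevE6, chevE7, chevE8]) : NSimpleAll D := by
  simp only [List.mem_cons, List.not_mem_nil, or_false] at hD
  rcases hD with rfl | rfl | rfl | rfl | rfl | rfl | rfl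
  · exact nSimple_G2
  · exact nSimple_B2
  · exact nSimple_D4
  · exact nSimple_F4
  · exact nSimple_E6
  · exact nSimple_E7
  · exact nSimple_E8

end Cfsg.Agent.Lib.Helper5.ChevSym
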