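import Mathlib
import Cfsg.Agent.Lib.Helper5.ChevBN
import Cfsg.Agent.Lib.Helper5.ChevSymM
import Cfsg.Prelude.Def_ChevAutomorphisms

set_option autoImplicit false
set_option linter.style.haveILetI false
set_option linter.unusedSectionVars false

namespace Cfsg.Agent.Lib.Helper5.ChevGen

open Cfsg.Lie Cfsg.Agent.Lib.Helper5.ChevSym Cfsg.Agent.Lib.Helper5.ChevBN

/-- distance of a root index from the middle of the table -/
def mu (D : ChevalleyDatum) (r : ℕ) : ℕ := if D.nroots / 2 ≤ r then r else D.nroots - 1 - r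

/-- table property: every root is `±` a fundamental root or is moved closer to the middle by a
fundamental reflection -/
def ReachOK (D : ChevalleyDatum) : Prop :=
  ∀ r, r < D.nroots →
    ((∃ i, i < D.rank ∧ (r = D.simple i ∨ r = D.neg (D.simple i))) ∨
     (∃ i, i < D.rank ∧ D.reflectRoot i r < D.nroots ∧
        D.reflectRoot i (D.reflectRoot i r) = r ∧ mu D (D.reflectRoot i r) < mu D r))

instance (D : ChevalleyDatum) : Decidable (ReachOK D) := by
  unfold ReachOK
  infer_instance

theorem reach_G2 : ReachOK chevG2 := by decide +kernel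
theorem reach_B2 : ReachOK chevB2 := by decide +kernel
theorem reach_D4 : ReachOK chevD4 := by decide +kernel
theorem reach_F4 : ReachOK chevF4 := by decide +kernel
theorem reach_E6 : ReachOK chevE6 := by decide +kernel
theorem reach_E7 : ReachOK chevE7 := by decide +kernel
theorem reach_E8 : ReachOK chevE8 := by decide +kernel


theorem reachOK_of_mem (D : ChevalleyDatum)
    (hD : D ∈ [chevG2, chevB2, chevD4, chevF4, chevE6, chevE7, chevE8]) : ReachOK D := by
  simp only [List.mem_cons, List.not_mem_nil, or_false] at hD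
  rcases hD with rfl | rfl | rfl | rfl | rfl | rfl | rfl
  · exact reach_G2
  · exact reach_B2
  · exact reach_D4
  · exact reach_F4
  · exact reach_E6
  · exact reach_E7
  · exact reach_E8

variable {F : Type*} [Field F]

/-- the subgroup generated by the root elements of the fundamental roots and their negatives -/
def simpleGen (D : ChevalleyDatum) (F : Type*) [Field F] : Subgroup (GL D.Idx F) :=
  Subgroup.closure {g | ∃ (i : ℕ) (t : F), i < D.rank ∧
    ((g : Matrix D.Idx D.Idx F) = D.x F (D.simple i) t ∨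
      (g : Matrix D.Idx D.Idx F) = D.x F (D.neg (D.simple i)) t)}

/-- the conjugation formula `n_p x_s(t) = x_{w_p(s)}(η t) n_p` -/
def ConjFormula (D : ChevalleyDatum) (F : Type*) [Field F] : Prop :=
  ∀ (i s : ℕ), i < D.rank → s < D.nroots → ∃ η : ℤ, (η = 1 ∨ η = -1) ∧
    ∀ t : F, D.nMat F (D.simple i) 1 * D.x F s t =
      D.x F (D.reflectRoot i s) ((η : F) * t) * D.nMat F (D.simple i) 1

theorem nGL_mem_simpleGen (D : ChevalleyDatum)
    (hD : D ∈ [chevG2, chevB2, chevD4, chevF4, chevE6, chevE7, chevE8]) (i : ℕ) (hi : i < D.rank) :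
    wordGL D hD (D.nWord (D.simple i) (1 : F)) ∈ simpleGen D F := by
  unfold wordGL ChevalleyDatum.nWord
  simp only [List.map_cons, List.map_nil, List.prod_cons, List.prod_nil, mul_one]
  refine mul_mem ?_ (mul_mem ?_ ?_)
  · exact Subgroup.subset_closure ⟨i, _, hi, Or.inl (xGL_val D hD _ _)⟩
  · exact Subgroup.subset_closure ⟨i, _, hi, Or.inr (xGL_val D hD _ _)⟩
  · exact Subgroup.subset_closure ⟨i, _, hi, Or.inl (xGL_val D hD _ _)⟩

theorem root_mem_simpleGen (D : ChevalleyDatum)
    (hD : D ∈ [chevG2, chevB2, chevD4, chevF4, chevE6, chevE7, chevE8]) (hconj : ConjFormula D F) :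
    ∀ (m r : ℕ), mu D r = m → r < D.nroots → ∀ (t : F) (g : GL D.Idx F),
      (g : Matrix D.Idx D.Idx F) = D.x F r t → g ∈ simpleGen D F := by
  intro m
  induction m using Nat.strong_induction_on with
  | _ m ih =>
    intro r hm hr t g hg
    rcases reachOK_of_mem D hD r hr with ⟨i, hi, h | h⟩ | ⟨i, hi, hs, hrr, hmu⟩
    · exact Subgroup.subset_closure ⟨i, t, hi, Or.inl (by rw [hg, h])⟩
    · exact Subgroup.subset_closure ⟨i, t, hi, Or.inr (by rw [hg, h])⟩
    · obtain ⟨η, hη, hc⟩ := hconj i (D.reflectRoot i r) hi hs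
      rw [hrr] at hc
      set s := D.reflectRoot i r with hsdef
      have hgs : xGL D hD s ((η : F) * t) ∈ simpleGen D F :=
        ih (mu D s) (by rw [← hm]; exact hmu) s rfl hs _ _ (xGL_val D hD s _)
      have hn := nGL_mem_simpleGen (F := F) D hD i hi
      set n := wordGL D hD (D.nWord (D.simple i) (1 : F)) with hndef
      have hnv : (n : Matrix D.Idx D.Idx F) = D.nMat F (D.simple i) 1 := wordGL_val D hD _
      have hηη : (η : F) * ((η : F) * t) = t := by
        rcases hη with rfl | rfl <;> simp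
      have e : g * n = n * xGL D hD s ((η : F) * t) := by
        apply Units.ext
        rw [Units.val_mul, Units.val_mul, hg, hnv, xGL_val, hc, hηη]
      have : g = n * xGL D hD s ((η : F) * t) * n⁻¹ := by
        rw [← e]; group
      rw [this]
      exact mul_mem (mul_mem hn hgs) (inv_mem hn)

theorem group_le_simpleGen (D : ChevalleyDatum)
    (hD : D ∈ [chevG2, chevB2, chevD4, chevF4, chevE6, chevE7, chevE8]) (hconj : ConjFormula D F) :
    D.group F ≤ simpleGen D F := by
  unfold ChevalleyDatum.group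
  rw [Subgroup.closure_le]
  rintro g ⟨r, t, hg⟩
  have hx : (g : Matrix D.Idx D.Idx F) = D.x F r.val t := by
    rw [hg]; unfold ChevalleyDatum.x; rw [dif_pos r.isLt]
  exact root_mem_simpleGen D hD hconj _ r.val rfl r.isLt t g hx

theorem simpleGen_le_group (D : ChevalleyDatum)
    (hD : D ∈ [chevG2, chevB2, chevD4, chevF4, chevE6, chevE7, chevE8]) :
    simpleGen D F ≤ D.group F := by
  unfold simpleGen
  rw [Subgroup.closure_le]
  rintro g ⟨i, t, _, hg | hg⟩
  · exact mem_group_of_word D hD g [(D.simple i, t)] (by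
      rw [hg]; unfold ChevalleyDatum.wordMat; simp)
  · exact mem_group_of_word D hD g [(D.neg (D.simple i), t)] (by
      rw [hg]; unfold ChevalleyDatum.wordMat; simp)

/-- field automorphisms commute with graph automorphisms -/
theorem fieldAut_comm_graphAut (D : ChevalleyDatum)
    (hD : D ∈ [chevG2, chevB2, chevD4, chevF4, chevE6, chevE7, chevE8]) (hconj : ConjFormula D F)
    (f g : ↥(D.group F) ≃* ↥(D.group F)) (hf : D.IsFieldAut f) (hg : D.IsGraphAut g)
    (y : ↥(D.group F)) : f (g y) = g (f y) := by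
  obtain ⟨σ, hσ⟩ := hf
  obtain ⟨π, _, hπ⟩ := hg
  have hN := nSimpleAll_of_mem D hD
  have key : ∀ (x : GL D.Idx F) (hx : x ∈ simpleGen D F),
      f (g ⟨x, simpleGen_le_group D hD hx⟩) = g (f ⟨x, simpleGen_le_group D hD hx⟩) := by
    intro x hx
    unfold simpleGen at hx
    induction hx using Subgroup.closure_induction with
    | mem x hx =>
      obtain ⟨i, t, hi, h | h⟩ := hx
      · apply Subtype.ext
        apply Units.ext
        have h1 := (hπ ⟨x, simpleGen_le_group D hD (Subgroup.subset_closure ⟨i, t, hi, Or.inl h⟩)⟩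
          ⟨i, hi⟩ t).1 h
        have h2 := hσ _ _ _ (hN _ (π ⟨i, hi⟩).2).1 h1
        have h3 := hσ ⟨x, simpleGen_le_group D hD (Subgroup.subset_closure ⟨i, t, hi, Or.inl h⟩)⟩
          _ _ (hN i hi).1 h
        have h4 := (hπ _ ⟨i, hi⟩ _).1 h3
        rw [h2, h4, map_pow]
      · apply Subtype.ext
        apply Units.ext
        have h1 := (hπ ⟨x, simpleGen_le_group D hD (Subgroup.subset_closure ⟨i, t, hi, Or.inr h⟩)⟩
          ⟨i, hi⟩ t).2 h
        have h2 := hσ _ _ _ (hN _ (π ⟨i, hi⟩).2).2.1 h1
        have h3 := hσ ⟨x, simpleGen_le_group D hD (Subgroup.subset_closure ⟨i, t, hi, Or.inr h⟩)⟩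
          _ _ (hN i hi).2.1 h
        have h4 := (hπ _ ⟨i, hi⟩ _).2 h3
        rw [h2, h4, map_pow]
    | one =>
      have : (⟨1, simpleGen_le_group D hD (one_mem _)⟩ : ↥(D.group F)) = 1 := rfl
      rw [this, map_one, map_one, map_one]
    | mul a b ha hb iha ihb =>
      have : (⟨a * b, simpleGen_le_group D hD (mul_mem ha hb)⟩ : ↥(D.group F)) =
          ⟨a, simpleGen_le_group D hD ha⟩ * ⟨b, simpleGen_le_group D hD hb⟩ := rfl
      rw [this, map_mul, map_mul, map_mul, map_mul, iha, ihb]
    | inv a ha iha =>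
      have : (⟨a⁻¹, simpleGen_le_group D hD (inv_mem ha)⟩ : ↥(D.group F)) =
          (⟨a, simpleGen_le_group D hD ha⟩ : ↥(D.group F))⁻¹ := rfl
      rw [this, map_inv, map_inv, map_inv, map_inv, iha]
  have hy := group_le_simpleGen D hD hconj y.2
  exact key y.1 hy

end Cfsg.Agent.Lib.Helper5.ChevGen
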