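import Mathlib
import Cfsg.Agent.Lib.Helper5.ChevGen
import Cfsg.Agent.Lib.Helper5.ChevSymZ

set_option autoImplicit false
set_option linter.style.haveILetI false
set_option linter.unusedSectionVars false

namespace Cfsg.Agent.Lib.Helper5.ChevGen

open Cfsg.Lie Cfsg.Agent.Lib.Helper5.ChevSym Cfsg.Agent.Lib.Helper5.ChevBN

instance decIsDiagramSymmetry (D : ChevalleyDatum) (π : Equiv.Perm (Fin D.rank)) :
    Decidable (D.IsDiagramSymmetry π) := by
  unfold ChevalleyDatum.IsDiagramSymmetry
  infer_instance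

/-- table property: diagram symmetries act on the roots compatibly with the fundamental reflections -/
def PermOK (D : ChevalleyDatum) : Prop :=
  ∀ π : Equiv.Perm (Fin D.rank), D.IsDiagramSymmetry π →
    (∀ i : Fin D.rank, D.permRoot π (D.simple i) = D.simple (π i) ∧
      D.permRoot π (D.neg (D.simple i)) = D.neg (D.simple (π i))) ∧
    ∀ s, s < D.nroots → D.permRoot π s < D.nroots ∧
      ∀ i : Fin D.rank, D.reflectRoot (π i) (D.permRoot π s) = D.permRoot π (D.reflectRoot i s)

instance (D : ChevalleyDatum) : Decidable (PermOK D) := by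
  unfold PermOK
  infer_instance

set_option maxRecDepth 100000 in
theorem permOK_D4 : PermOK chevD4 := by decide +kernel
set_option maxRecDepth 100000 in
theorem permOK_E6 : PermOK chevE6 := by decide +kernel

variable {F : Type*} [Field F]

theorem graphAut_all_roots (D : ChevalleyDatum)
    (hD : D ∈ [chevG2, chevB2, chevD4, chevF4, chevE6, chevE7, chevE8]) (hP : PermOK D)
    (hconj : ConjFormula D F)
    (π : Equiv.Perm (Fin D.rank)) (hπ : D.IsDiagramSymmetry π) (φ : ↥(D.group F) ≃* ↥(D.group F))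
    (hφ : ∀ (g : ↥(D.group F)) (i : Fin D.rank) (t : F),
      (((g : GL D.Idx F) : Matrix D.Idx D.Idx F) = D.x F (D.simple i) t →
        ((φ g : GL D.Idx F) : Matrix D.Idx D.Idx F) = D.x F (D.simple (π i)) t) ∧
      (((g : GL D.Idx F) : Matrix D.Idx D.Idx F) = D.x F (D.neg (D.simple i)) t →
        ((φ g : GL D.Idx F) : Matrix D.Idx D.Idx F) = D.x F (D.neg (D.simple (π i))) t)) :
    ∀ (m r : ℕ), mu D r = m → r < D.nroots →
      ∃ ε : F, (ε = 1 ∨ ε = -1) ∧ ∀ (g : ↥(D.group F)) (t : F),
        ((g : GL D.Idx F) : Matrix D.Idx D.Idx F) = D.x F r t →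
          ((φ g : GL D.Idx F) : Matrix D.Idx D.Idx F) = D.x F (D.permRoot π r) (ε * t) := by
  obtain ⟨hP1, hP2⟩ := hP π hπ
  intro m
  induction m using Nat.strong_induction_on with
  | _ m ih =>
    intro r hm hr
    rcases reachOK_of_mem D hD r hr with ⟨i, hi, h | h⟩ | ⟨i, hi, hs, hrr, hmu⟩
    · refine ⟨1, Or.inl rfl, fun g t hg => ?_⟩
      rw [h] at hg ⊢
      rw [(hP1 ⟨i, hi⟩).1, one_mul]
      exact (hφ g ⟨i, hi⟩ t).1 hg
    · refine ⟨1, Or.inl rfl, fun g t hg => ?_⟩
      rw [h] at hg ⊢
      rw [(hP1 ⟨i, hi⟩).2, one_mul]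
      exact (hφ g ⟨i, hi⟩ t).2 hg
    · set s := D.reflectRoot i r with hsdef
      obtain ⟨ε', hε', hIH⟩ := ih (mu D s) (by rw [← hm]; exact hmu) s rfl hs
      obtain ⟨η, hη, hc⟩ := hconj i s hi hs
      rw [hrr] at hc
      obtain ⟨hps, hpr⟩ := hP2 s hs
      obtain ⟨η', hη', hc'⟩ := hconj (π ⟨i, hi⟩) (D.permRoot π s) (π ⟨i, hi⟩).2 hps
      rw [hpr ⟨i, hi⟩, hrr] at hc'
      refine ⟨(η' : F) * (ε' * (η : F)), ?_, fun g t hg => ?_⟩
      · rcases hη with rfl | rfl <;> rcases hη' with rfl | rfl <;> rcases hε' with rfl | rfl <;> simp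
      · -- the elements a, b, n, gs of the group
        set a : ↥(D.group F) := ⟨xGL D hD (D.simple i) 1, xGL_mem_group D hD _ _⟩ with ha
        set b : ↥(D.group F) :=
          ⟨xGL D hD (D.neg (D.simple i)) (-(1 : F)⁻¹), xGL_mem_group D hD _ _⟩ with hb
        set gs : ↥(D.group F) := ⟨xGL D hD s ((η : F) * t), xGL_mem_group D hD _ _⟩ with hgs
        have hav : ((a : GL D.Idx F) : Matrix D.Idx D.Idx F) = D.x F (D.simple i) 1 :=
          xGL_val D hD _ _
        have hbv : ((b : GL D.Idx F) : Matrix D.Idx D.Idx F) =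
            D.x F (D.neg (D.simple i)) (-(1 : F)⁻¹) := xGL_val D hD _ _
        have hgsv : ((gs : GL D.Idx F) : Matrix D.Idx D.Idx F) = D.x F s ((η : F) * t) :=
          xGL_val D hD _ _
        have hnv : ((a : GL D.Idx F) : Matrix D.Idx D.Idx F) *
            (((b : GL D.Idx F) : Matrix D.Idx D.Idx F) * ((a : GL D.Idx F) : Matrix D.Idx D.Idx F)) =
            D.nMat F (D.simple i) 1 := by
          rw [nMat_unfold, hav, hbv]
        have hηη : (η : F) * ((η : F) * t) = t := by
          rcases hη with rfl | rfl <;> simp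
        -- g * n = n * gs
        have e1 : g * (a * (b * a)) = (a * (b * a)) * gs := by
          apply Subtype.ext
          apply Units.ext
          simp only [Subgroup.coe_mul, Units.val_mul]
          rw [hnv, hg, hgsv, hc, hηη]
        -- images
        have hφa := (hφ a ⟨i, hi⟩ 1).1 hav
        have hφb := (hφ b ⟨i, hi⟩ (-(1 : F)⁻¹)).2 hbv
        have hφn : ((φ a : GL D.Idx F) : Matrix D.Idx D.Idx F) *
            (((φ b : GL D.Idx F) : Matrix D.Idx D.Idx F) *
              ((φ a : GL D.Idx F) : Matrix D.Idx D.Idx F)) =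
            D.nMat F (D.simple (π ⟨i, hi⟩)) 1 := by
          rw [nMat_unfold, hφa, hφb]
        have hφgs := hIH gs _ hgsv
        have e2 := congrArg φ e1
        simp only [map_mul] at e2
        have e3 := congrArg (fun z : ↥(D.group F) => ((z : GL D.Idx F) : Matrix D.Idx D.Idx F)) e2
        simp only [Subgroup.coe_mul, Units.val_mul] at e3
        rw [hφn, hφgs, hc'] at e3
        -- cancel the unit n'
        have hunit : IsUnit (D.nMat F (D.simple (π ⟨i, hi⟩)) 1) := by
          rw [← hφn]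
          exact (Units.isUnit _).mul ((Units.isUnit _).mul (Units.isUnit _))
        have := hunit.mul_left_injective e3
        rw [this]
        congr 1
        ring

end Cfsg.Agent.Lib.Helper5.ChevGen
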