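import Mathlib
import Cfsg.Agent.Lib.Helper5.ChevSymV


set_option autoImplicit false

namespace Cfsg.Agent.Lib.Helper5.ChevSym

open Cfsg.Lie

set_option maxRecDepth 100000 in
theorem nShape_B2_0 : NRangeB chevB2 0 8 = true := by decide +kernel

theorem nShapeRange_B2_0 (r : ℕ) (h1 : 0 ≤ r) (h2 : r < 8) : NShapeB chevB2 r = true := by
  exact NRangeB_spec _ 0 8 nShape_B2_0 r (by omega) (by omega)

end Cfsg.Agent.Lib.Helper5.ChevSym
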