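import Mathlib
import Cfsg.Agent.Lib.Helper5.ChevSymV
import Cfsg.Agent.Lib.Helper5.ChevSymND4x00

set_option autoImplicit false

namespace Cfsg.Agent.Lib.Helper5.ChevSym

open Cfsg.Lie

theorem nShapeAll_D4 (r : ℕ) (hr : r < chevD4.nroots) : NShapeB chevD4 r = true := by
  have hn : chevD4.nroots = 24 := rfl
  rw [hn] at hr
  exact nShapeRange_D4_0 r (by omega) (by omega)

end Cfsg.Agent.Lib.Helper5.ChevSym
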