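import Mathlib
import Cfsg.Agent.Lib.Helper5.ChevSymV


set_option autoImplicit false

namespace Cfsg.Agent.Lib.Helper5.ChevSym

open Cfsg.Lie

set_option maxRecDepth 100000 in
theorem nShape_E6_0 : NRangeB chevE6 0 12 = true := by decide +kernel

set_option maxRecDepth 100000 in
theorem nShape_E6_1 : NRangeB chevE6 12 12 = true := by decide +kernel

set_option maxRecDepth 100000 in
theorem nShape_E6_2 : NRangeB chevE6 24 12 = true := by decide +kernel

set_option maxRecDepth 100000 in
theorem nShape_E6_3 : NRangeB chevE6 36 12 = true := by decide +kernel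

set_option maxRecDepth 100000 in
theorem nShape_E6_4 : NRangeB chevE6 48 12 = true := by decide +kernel

set_option maxRecDepth 100000 in
theorem nShape_E6_5 : NRangeB chevE6 60 12 = true := by decide +kernel

theorem nShapeRange_E6_0 (r : ℕ) (h1 : 0 ≤ r) (h2 : r < 72) : NShapeB chevE6 r = true := by
  by_cases h_0 : r < 12
  · exact NRangeB_spec _ 0 12 nShape_E6_0 r (by omega) (by omega)
  by_cases h_1 : r < 24
  · exact NRangeB_spec _ 12 12 nShape_E6_1 r (by omega) (by omega)
  by_cases h_2 : r < 36
  · exact NRangeB_spec _ 24 12 nShape_E6_2 r (by omega) (by omega)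
  by_cases h_3 : r < 48
  · exact NRangeB_spec _ 36 12 nShape_E6_3 r (by omega) (by omega)
  by_cases h_4 : r < 60
  · exact NRangeB_spec _ 48 12 nShape_E6_4 r (by omega) (by omega)
  exact NRangeB_spec _ 60 12 nShape_E6_5 r (by omega) (by omega)

end Cfsg.Agent.Lib.Helper5.ChevSym
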