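import Mathlib
import Cfsg.Agent.Lib.Helper5.ChevSymV
import Cfsg.Agent.Lib.Helper5.ChevSymNE6x00

set_option autoImplicit false

namespace Cfsg.Agent.Lib.Helper5.ChevSym

open Cfsg.Lie

theorem nShapeAll_E6 (r : ℕ) (hr : r < chevE6.nroots) : NShapeB chevE6 r = true := by
  have hn : chevE6.nroots = 72 := rfl
  rw [hn] at hr
  exact nShapeRange_E6_0 r (by omega) (by omega)

end Cfsg.Agent.Lib.Helper5.ChevSym
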