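import Mathlib
import Cfsg.Agent.Lib.Helper5.ChevSymV


set_option autoImplicit false

namespace Cfsg.Agent.Lib.Helper5.ChevSym

open Cfsg.Lie

set_option maxRecDepth 100000 in
theorem nShape_E7_0 : NRangeB chevE7 0 6 = true := by decide +kernel

set_option maxRecDepth 100000 in
theorem nShape_E7_1 : NRangeB chevE7 6 6 = true := by decide +kernel

set_option maxRecDepth 100000 in
theorem nShape_E7_2 : NRangeB chevE7 12 6 = true := by decide +kernel

set_option maxRecDepth 100000 in
theorem nShape_E7_3 : NRangeB chevE7 18 6 = true := by decide +kernel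

set_option maxRecDepth 100000 in
theorem nShape_E7_4 : NRangeB chevE7 24 6 = true := by decide +kernel

set_option maxRecDepth 100000 in
theorem nShape_E7_5 : NRangeB chevE7 30 6 = true := by decide +kernel

set_option maxRecDepth 100000 in
theorem nShape_E7_6 : NRangeB chevE7 36 6 = true := by decide +kernel

set_option maxRecDepth 100000 in
theorem nShape_E7_7 : NRangeB chevE7 42 6 = true := by decide +kernel

set_option maxRecDepth 100000 in
theorem nShape_E7_8 : NRangeB chevE7 48 6 = true := by decide +kernel

set_option maxRecDepth 100000 in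
theorem nShape_E7_9 : NRangeB chevE7 54 6 = true := by decide +kernel

set_option maxRecDepth 100000 in
theorem nShape_E7_10 : NRangeB chevE7 60 6 = true := by decide +kernel

theorem nShapeRange_E7_0 (r : ℕ) (h1 : 0 ≤ r) (h2 : r < 66) : NShapeB chevE7 r = true := by
  by_cases h_0 : r < 6
  · exact NRangeB_spec _ 0 6 nShape_E7_0 r (by omega) (by omega)
  by_cases h_1 : r < 12
  · exact NRangeB_spec _ 6 6 nShape_E7_1 r (by omega) (by omega)
  by_cases h_2 : r < 18
  · exact NRangeB_spec _ 12 6 nShape_E7_2 r (by omega) (by omega)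
  by_cases h_3 : r < 24
  · exact NRangeB_spec _ 18 6 nShape_E7_3 r (by omega) (by omega)
  by_cases h_4 : r < 30
  · exact NRangeB_spec _ 24 6 nShape_E7_4 r (by omega) (by omega)
  by_cases h_5 : r < 36
  · exact NRangeB_spec _ 30 6 nShape_E7_5 r (by omega) (by omega)
  by_cases h_6 : r < 42
  · exact NRangeB_spec _ 36 6 nShape_E7_6 r (by omega) (by omega)
  by_cases h_7 : r < 48
  · exact NRangeB_spec _ 42 6 nShape_E7_7 r (by omega) (by omega)
  by_cases h_8 : r < 54
  · exact NRangeB_spec _ 48 6 nShape_E7_8 r (by omega) (by omega)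
  by_cases h_9 : r < 60
  · exact NRangeB_spec _ 54 6 nShape_E7_9 r (by omega) (by omega)
  exact NRangeB_spec _ 60 6 nShape_E7_10 r (by omega) (by omega)

end Cfsg.Agent.Lib.Helper5.ChevSym
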