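import Mathlib
import Cfsg.Agent.Lib.Helper5.ChevSymV


set_option autoImplicit false

namespace Cfsg.Agent.Lib.Helper5.ChevSym

open Cfsg.Lie

set_option maxRecDepth 100000 in
theorem nShape_E7_11 : NRangeB chevE7 66 6 = true := by decide +kernel

set_option maxRecDepth 100000 in
theorem nShape_E7_12 : NRangeB chevE7 72 6 = true := by decide +kernel

set_option maxRecDepth 100000 in
theorem nShape_E7_13 : NRangeB chevE7 78 6 = true := by decide +kernel

set_option maxRecDepth 100000 in
theorem nShape_E7_14 : NRangeB chevE7 84 6 = true := by decide +kernel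

set_option maxRecDepth 100000 in
theorem nShape_E7_15 : NRangeB chevE7 90 6 = true := by decide +kernel

set_option maxRecDepth 100000 in
theorem nShape_E7_16 : NRangeB chevE7 96 6 = true := by decide +kernel

set_option maxRecDepth 100000 in
theorem nShape_E7_17 : NRangeB chevE7 102 6 = true := by decide +kernel

set_option maxRecDepth 100000 in
theorem nShape_E7_18 : NRangeB chevE7 108 6 = true := by decide +kernel

set_option maxRecDepth 100000 in
theorem nShape_E7_19 : NRangeB chevE7 114 6 = true := by decide +kernel

set_option maxRecDepth 100000 in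
theorem nShape_E7_20 : NRangeB chevE7 120 6 = true := by decide +kernel

theorem nShapeRange_E7_1 (r : ℕ) (h1 : 66 ≤ r) (h2 : r < 126) : NShapeB chevE7 r = true := by
  by_cases h_11 : r < 72
  · exact NRangeB_spec _ 66 6 nShape_E7_11 r (by omega) (by omega)
  by_cases h_12 : r < 78
  · exact NRangeB_spec _ 72 6 nShape_E7_12 r (by omega) (by omega)
  by_cases h_13 : r < 84
  · exact NRangeB_spec _ 78 6 nShape_E7_13 r (by omega) (by omega)
  by_cases h_14 : r < 90
  · exact NRangeB_spec _ 84 6 nShape_E7_14 r (by omega) (by omega)
  by_cases h_15 : r < 96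
  · exact NRangeB_spec _ 90 6 nShape_E7_15 r (by omega) (by omega)
  by_cases h_16 : r < 102
  · exact NRangeB_spec _ 96 6 nShape_E7_16 r (by omega) (by omega)
  by_cases h_17 : r < 108
  · exact NRangeB_spec _ 102 6 nShape_E7_17 r (by omega) (by omega)
  by_cases h_18 : r < 114
  · exact NRangeB_spec _ 108 6 nShape_E7_18 r (by omega) (by omega)
  by_cases h_19 : r < 120
  · exact NRangeB_spec _ 114 6 nShape_E7_19 r (by omega) (by omega)
  exact NRangeB_spec _ 120 6 nShape_E7_20 r (by omega) (by omega)

end Cfsg.Agent.Lib.Helper5.ChevSym
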