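import Mathlib
import Cfsg.Agent.Lib.Helper5.ChevSymV
import Cfsg.Agent.Lib.Helper5.ChevSymNE7x00
import Cfsg.Agent.Lib.Helper5.ChevSymNE7x01

set_option autoImplicit false

namespace Cfsg.Agent.Lib.Helper5.ChevSym

open Cfsg.Lie

theorem nShapeAll_E7 (r : ℕ) (hr : r < chevE7.nroots) : NShapeB chevE7 r = true := by
  have hn : chevE7.nroots = 126 := rfl
  rw [hn] at hr
  by_cases h0 : r < 66
  · exact nShapeRange_E7_0 r (by omega) h0
  exact nShapeRange_E7_1 r (by omega) (by omega)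

end Cfsg.Agent.Lib.Helper5.ChevSym
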