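import Mathlib
import Cfsg.Agent.Lib.Helper5.ChevSymV


set_option autoImplicit false

namespace Cfsg.Agent.Lib.Helper5.ChevSym

open Cfsg.Lie

set_option maxRecDepth 100000 in
theorem nShape_E8_0 : NRangeB chevE8 0 3 = true := by decide +kernel

set_option maxRecDepth 100000 in
theorem nShape_E8_1 : NRangeB chevE8 3 3 = true := by decide +kernel

set_option maxRecDepth 100000 in
theorem nShape_E8_2 : NRangeB chevE8 6 3 = true := by decide +kernel

set_option maxRecDepth 100000 in
theorem nShape_E8_3 : NRangeB chevE8 9 3 = true := by decide +kernel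

set_option maxRecDepth 100000 in
theorem nShape_E8_4 : NRangeB chevE8 12 3 = true := by decide +kernel

set_option maxRecDepth 100000 in
theorem nShape_E8_5 : NRangeB chevE8 15 3 = true := by decide +kernel

set_option maxRecDepth 100000 in
theorem nShape_E8_6 : NRangeB chevE8 18 3 = true := by decide +kernel

set_option maxRecDepth 100000 in
theorem nShape_E8_7 : NRangeB chevE8 21 3 = true := by decide +kernel

set_option maxRecDepth 100000 in
theorem nShape_E8_8 : NRangeB chevE8 24 3 = true := by decide +kernel

set_option maxRecDepth 100000 in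
theorem nShape_E8_9 : NRangeB chevE8 27 3 = true := by decide +kernel

theorem nShapeRange_E8_0 (r : ℕ) (h1 : 0 ≤ r) (h2 : r < 30) : NShapeB chevE8 r = true := by
  by_cases h_0 : r < 3
  · exact NRangeB_spec _ 0 3 nShape_E8_0 r (by omega) (by omega)
  by_cases h_1 : r < 6
  · exact NRangeB_spec _ 3 3 nShape_E8_1 r (by omega) (by omega)
  by_cases h_2 : r < 9
  · exact NRangeB_spec _ 6 3 nShape_E8_2 r (by omega) (by omega)
  by_cases h_3 : r < 12
  · exact NRangeB_spec _ 9 3 nShape_E8_3 r (by omega) (by omega)
  by_cases h_4 : r < 15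
  · exact NRangeB_spec _ 12 3 nShape_E8_4 r (by omega) (by omega)
  by_cases h_5 : r < 18
  · exact NRangeB_spec _ 15 3 nShape_E8_5 r (by omega) (by omega)
  by_cases h_6 : r < 21
  · exact NRangeB_spec _ 18 3 nShape_E8_6 r (by omega) (by omega)
  by_cases h_7 : r < 24
  · exact NRangeB_spec _ 21 3 nShape_E8_7 r (by omega) (by omega)
  by_cases h_8 : r < 27
  · exact NRangeB_spec _ 24 3 nShape_E8_8 r (by omega) (by omega)
  exact NRangeB_spec _ 27 3 nShape_E8_9 r (by omega) (by omega)

end Cfsg.Agent.Lib.Helper5.ChevSym
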