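import Mathlib
import Cfsg.Agent.Lib.Helper5.ChevSymV


set_option autoImplicit false

namespace Cfsg.Agent.Lib.Helper5.ChevSym

open Cfsg.Lie

set_option maxRecDepth 100000 in
theorem nShape_E8_10 : NRangeB chevE8 30 3 = true := by decide +kernel

set_option maxRecDepth 100000 in
theorem nShape_E8_11 : NRangeB chevE8 33 3 = true := by decide +kernel

set_option maxRecDepth 100000 in
theorem nShape_E8_12 : NRangeB chevE8 36 3 = true := by decide +kernel

set_option maxRecDepth 100000 in
theorem nShape_E8_13 : NRangeB chevE8 39 3 = true := by decide +kernel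

set_option maxRecDepth 100000 in
theorem nShape_E8_14 : NRangeB chevE8 42 3 = true := by decide +kernel

set_option maxRecDepth 100000 in
theorem nShape_E8_15 : NRangeB chevE8 45 3 = true := by decide +kernel

set_option maxRecDepth 100000 in
theorem nShape_E8_16 : NRangeB chevE8 48 3 = true := by decide +kernel

set_option maxRecDepth 100000 in
theorem nShape_E8_17 : NRangeB chevE8 51 3 = true := by decide +kernel

set_option maxRecDepth 100000 in
theorem nShape_E8_18 : NRangeB chevE8 54 3 = true := by decide +kernel

set_option maxRecDepth 100000 in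
theorem nShape_E8_19 : NRangeB chevE8 57 3 = true := by decide +kernel

theorem nShapeRange_E8_1 (r : ℕ) (h1 : 30 ≤ r) (h2 : r < 60) : NShapeB chevE8 r = true := by
  by_cases h_10 : r < 33
  · exact NRangeB_spec _ 30 3 nShape_E8_10 r (by omega) (by omega)
  by_cases h_11 : r < 36
  · exact NRangeB_spec _ 33 3 nShape_E8_11 r (by omega) (by omega)
  by_cases h_12 : r < 39
  · exact NRangeB_spec _ 36 3 nShape_E8_12 r (by omega) (by omega)
  by_cases h_13 : r < 42
  · exact NRangeB_spec _ 39 3 nShape_E8_13 r (by omega) (by omega)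
  by_cases h_14 : r < 45
  · exact NRangeB_spec _ 42 3 nShape_E8_14 r (by omega) (by omega)
  by_cases h_15 : r < 48
  · exact NRangeB_spec _ 45 3 nShape_E8_15 r (by omega) (by omega)
  by_cases h_16 : r < 51
  · exact NRangeB_spec _ 48 3 nShape_E8_16 r (by omega) (by omega)
  by_cases h_17 : r < 54
  · exact NRangeB_spec _ 51 3 nShape_E8_17 r (by omega) (by omega)
  by_cases h_18 : r < 57
  · exact NRangeB_spec _ 54 3 nShape_E8_18 r (by omega) (by omega)
  exact NRangeB_spec _ 57 3 nShape_E8_19 r (by omega) (by omega)

end Cfsg.Agent.Lib.Helper5.ChevSym
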