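import Mathlib
import Cfsg.Agent.Lib.Helper5.ChevSymV
import Cfsg.Agent.Lib.Helper5.ChevSymNE8x00

set_option autoImplicit false

namespace Cfsg.Agent.Lib.Helper5.ChevSym

open Cfsg.Lie

set_option maxRecDepth 100000 in
theorem nShape_E8_20 : NRangeB chevE8 60 3 = true := by decide +kernel

set_option maxRecDepth 100000 in
theorem nShape_E8_21 : NRangeB chevE8 63 3 = true := by decide +kernel

set_option maxRecDepth 100000 in
theorem nShape_E8_22 : NRangeB chevE8 66 3 = true := by decide +kernel

set_option maxRecDepth 100000 in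
theorem nShape_E8_23 : NRangeB chevE8 69 3 = true := by decide +kernel

set_option maxRecDepth 100000 in
theorem nShape_E8_24 : NRangeB chevE8 72 3 = true := by decide +kernel

set_option maxRecDepth 100000 in
theorem nShape_E8_25 : NRangeB chevE8 75 3 = true := by decide +kernel

set_option maxRecDepth 100000 in
theorem nShape_E8_26 : NRangeB chevE8 78 3 = true := by decide +kernel

set_option maxRecDepth 100000 in
theorem nShape_E8_27 : NRangeB chevE8 81 3 = true := by decide +kernel

set_option maxRecDepth 100000 in
theorem nShape_E8_28 : NRangeB chevE8 84 3 = true := by decide +kernel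

set_option maxRecDepth 100000 in
theorem nShape_E8_29 : NRangeB chevE8 87 3 = true := by decide +kernel

theorem nShapeRange_E8_2 (r : ℕ) (h1 : 60 ≤ r) (h2 : r < 90) : NShapeB chevE8 r = true := by
  by_cases h_20 : r < 63
  · exact NRangeB_spec _ 60 3 nShape_E8_20 r (by omega) (by omega)
  by_cases h_21 : r < 66
  · exact NRangeB_spec _ 63 3 nShape_E8_21 r (by omega) (by omega)
  by_cases h_22 : r < 69
  · exact NRangeB_spec _ 66 3 nShape_E8_22 r (by omega) (by omega)
  by_cases h_23 : r < 72
  · exact NRangeB_spec _ 69 3 nShape_E8_23 r (by omega) (by omega)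
  by_cases h_24 : r < 75
  · exact NRangeB_spec _ 72 3 nShape_E8_24 r (by omega) (by omega)
  by_cases h_25 : r < 78
  · exact NRangeB_spec _ 75 3 nShape_E8_25 r (by omega) (by omega)
  by_cases h_26 : r < 81
  · exact NRangeB_spec _ 78 3 nShape_E8_26 r (by omega) (by omega)
  by_cases h_27 : r < 84
  · exact NRangeB_spec _ 81 3 nShape_E8_27 r (by omega) (by omega)
  by_cases h_28 : r < 87
  · exact NRangeB_spec _ 84 3 nShape_E8_28 r (by omega) (by omega)
  exact NRangeB_spec _ 87 3 nShape_E8_29 r (by omega) (by omega)

end Cfsg.Agent.Lib.Helper5.ChevSym
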