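import Mathlib
import Cfsg.Agent.Lib.Helper5.ChevSymV
import Cfsg.Agent.Lib.Helper5.ChevSymNE8x01

set_option autoImplicit false

namespace Cfsg.Agent.Lib.Helper5.ChevSym

open Cfsg.Lie

set_option maxRecDepth 100000 in
theorem nShape_E8_30 : NRangeB chevE8 90 3 = true := by decide +kernel

set_option maxRecDepth 100000 in
theorem nShape_E8_31 : NRangeB chevE8 93 3 = true := by decide +kernel

set_option maxRecDepth 100000 in
theorem nShape_E8_32 : NRangeB chevE8 96 3 = true := by decide +kernel

set_option maxRecDepth 100000 in
theorem nShape_E8_33 : NRangeB chevE8 99 3 = true := by decide +kernel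

set_option maxRecDepth 100000 in
theorem nShape_E8_34 : NRangeB chevE8 102 3 = true := by decide +kernel

set_option maxRecDepth 100000 in
theorem nShape_E8_35 : NRangeB chevE8 105 3 = true := by decide +kernel

set_option maxRecDepth 100000 in
theorem nShape_E8_36 : NRangeB chevE8 108 3 = true := by decide +kernel

set_option maxRecDepth 100000 in
theorem nShape_E8_37 : NRangeB chevE8 111 3 = true := by decide +kernel

set_option maxRecDepth 100000 in
theorem nShape_E8_38 : NRangeB chevE8 114 3 = true := by decide +kernel

set_option maxRecDepth 100000 in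
theorem nShape_E8_39 : NRangeB chevE8 117 3 = true := by decide +kernel

theorem nShapeRange_E8_3 (r : ℕ) (h1 : 90 ≤ r) (h2 : r < 120) : NShapeB chevE8 r = true := by
  by_cases h_30 : r < 93
  · exact NRangeB_spec _ 90 3 nShape_E8_30 r (by omega) (by omega)
  by_cases h_31 : r < 96
  · exact NRangeB_spec _ 93 3 nShape_E8_31 r (by omega) (by omega)
  by_cases h_32 : r < 99
  · exact NRangeB_spec _ 96 3 nShape_E8_32 r (by omega) (by omega)
  by_cases h_33 : r < 102
  · exact NRangeB_spec _ 99 3 nShape_E8_33 r (by omega) (by omega)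
  by_cases h_34 : r < 105
  · exact NRangeB_spec _ 102 3 nShape_E8_34 r (by omega) (by omega)
  by_cases h_35 : r < 108
  · exact NRangeB_spec _ 105 3 nShape_E8_35 r (by omega) (by omega)
  by_cases h_36 : r < 111
  · exact NRangeB_spec _ 108 3 nShape_E8_36 r (by omega) (by omega)
  by_cases h_37 : r < 114
  · exact NRangeB_spec _ 111 3 nShape_E8_37 r (by omega) (by omega)
  by_cases h_38 : r < 117
  · exact NRangeB_spec _ 114 3 nShape_E8_38 r (by omega) (by omega)
  exact NRangeB_spec _ 117 3 nShape_E8_39 r (by omega) (by omega)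

end Cfsg.Agent.Lib.Helper5.ChevSym
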