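import Mathlib
import Cfsg.Agent.Lib.Helper5.ChevSymV
import Cfsg.Agent.Lib.Helper5.ChevSymNE8x02

set_option autoImplicit false

namespace Cfsg.Agent.Lib.Helper5.ChevSym

open Cfsg.Lie

set_option maxRecDepth 100000 in
theorem nShape_E8_40 : NRangeB chevE8 120 3 = true := by decide +kernel

set_option maxRecDepth 100000 in
theorem nShape_E8_41 : NRangeB chevE8 123 3 = true := by decide +kernel

set_option maxRecDepth 100000 in
theorem nShape_E8_42 : NRangeB chevE8 126 3 = true := by decide +kernel

set_option maxRecDepth 100000 in
theorem nShape_E8_43 : NRangeB chevE8 129 3 = true := by decide +kernel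

set_option maxRecDepth 100000 in
theorem nShape_E8_44 : NRangeB chevE8 132 3 = true := by decide +kernel

set_option maxRecDepth 100000 in
theorem nShape_E8_45 : NRangeB chevE8 135 3 = true := by decide +kernel

set_option maxRecDepth 100000 in
theorem nShape_E8_46 : NRangeB chevE8 138 3 = true := by decide +kernel

set_option maxRecDepth 100000 in
theorem nShape_E8_47 : NRangeB chevE8 141 3 = true := by decide +kernel

set_option maxRecDepth 100000 in
theorem nShape_E8_48 : NRangeB chevE8 144 3 = true := by decide +kernel

set_option maxRecDepth 100000 in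
theorem nShape_E8_49 : NRangeB chevE8 147 3 = true := by decide +kernel

theorem nShapeRange_E8_4 (r : ℕ) (h1 : 120 ≤ r) (h2 : r < 150) : NShapeB chevE8 r = true := by
  by_cases h_40 : r < 123
  · exact NRangeB_spec _ 120 3 nShape_E8_40 r (by omega) (by omega)
  by_cases h_41 : r < 126
  · exact NRangeB_spec _ 123 3 nShape_E8_41 r (by omega) (by omega)
  by_cases h_42 : r < 129
  · exact NRangeB_spec _ 126 3 nShape_E8_42 r (by omega) (by omega)
  by_cases h_43 : r < 132
  · exact NRangeB_spec _ 129 3 nShape_E8_43 r (by omega) (by omega)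
  by_cases h_44 : r < 135
  · exact NRangeB_spec _ 132 3 nShape_E8_44 r (by omega) (by omega)
  by_cases h_45 : r < 138
  · exact NRangeB_spec _ 135 3 nShape_E8_45 r (by omega) (by omega)
  by_cases h_46 : r < 141
  · exact NRangeB_spec _ 138 3 nShape_E8_46 r (by omega) (by omega)
  by_cases h_47 : r < 144
  · exact NRangeB_spec _ 141 3 nShape_E8_47 r (by omega) (by omega)
  by_cases h_48 : r < 147
  · exact NRangeB_spec _ 144 3 nShape_E8_48 r (by omega) (by omega)
  exact NRangeB_spec _ 147 3 nShape_E8_49 r (by omega) (by omega)

end Cfsg.Agent.Lib.Helper5.ChevSym
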