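import Mathlib
import Cfsg.Agent.Lib.Helper5.ChevSymV
import Cfsg.Agent.Lib.Helper5.ChevSymNE8x03

set_option autoImplicit false

namespace Cfsg.Agent.Lib.Helper5.ChevSym

open Cfsg.Lie

set_option maxRecDepth 100000 in
theorem nShape_E8_50 : NRangeB chevE8 150 3 = true := by decide +kernel

set_option maxRecDepth 100000 in
theorem nShape_E8_51 : NRangeB chevE8 153 3 = true := by decide +kernel

set_option maxRecDepth 100000 in
theorem nShape_E8_52 : NRangeB chevE8 156 3 = true := by decide +kernel

set_option maxRecDepth 100000 in
theorem nShape_E8_53 : NRangeB chevE8 159 3 = true := by decide +kernel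

set_option maxRecDepth 100000 in
theorem nShape_E8_54 : NRangeB chevE8 162 3 = true := by decide +kernel

set_option maxRecDepth 100000 in
theorem nShape_E8_55 : NRangeB chevE8 165 3 = true := by decide +kernel

set_option maxRecDepth 100000 in
theorem nShape_E8_56 : NRangeB chevE8 168 3 = true := by decide +kernel

set_option maxRecDepth 100000 in
theorem nShape_E8_57 : NRangeB chevE8 171 3 = true := by decide +kernel

set_option maxRecDepth 100000 in
theorem nShape_E8_58 : NRangeB chevE8 174 3 = true := by decide +kernel

set_option maxRecDepth 100000 in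
theorem nShape_E8_59 : NRangeB chevE8 177 3 = true := by decide +kernel

theorem nShapeRange_E8_5 (r : ℕ) (h1 : 150 ≤ r) (h2 : r < 180) : NShapeB chevE8 r = true := by
  by_cases h_50 : r < 153
  · exact NRangeB_spec _ 150 3 nShape_E8_50 r (by omega) (by omega)
  by_cases h_51 : r < 156
  · exact NRangeB_spec _ 153 3 nShape_E8_51 r (by omega) (by omega)
  by_cases h_52 : r < 159
  · exact NRangeB_spec _ 156 3 nShape_E8_52 r (by omega) (by omega)
  by_cases h_53 : r < 162
  · exact NRangeB_spec _ 159 3 nShape_E8_53 r (by omega) (by omega)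
  by_cases h_54 : r < 165
  · exact NRangeB_spec _ 162 3 nShape_E8_54 r (by omega) (by omega)
  by_cases h_55 : r < 168
  · exact NRangeB_spec _ 165 3 nShape_E8_55 r (by omega) (by omega)
  by_cases h_56 : r < 171
  · exact NRangeB_spec _ 168 3 nShape_E8_56 r (by omega) (by omega)
  by_cases h_57 : r < 174
  · exact NRangeB_spec _ 171 3 nShape_E8_57 r (by omega) (by omega)
  by_cases h_58 : r < 177
  · exact NRangeB_spec _ 174 3 nShape_E8_58 r (by omega) (by omega)
  exact NRangeB_spec _ 177 3 nShape_E8_59 r (by omega) (by omega)

end Cfsg.Agent.Lib.Helper5.ChevSym
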