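import Mathlib
import Cfsg.Agent.Lib.Helper5.ChevSymV
import Cfsg.Agent.Lib.Helper5.ChevSymNE8x04

set_option autoImplicit false

namespace Cfsg.Agent.Lib.Helper5.ChevSym

open Cfsg.Lie

set_option maxRecDepth 100000 in
theorem nShape_E8_60 : NRangeB chevE8 180 3 = true := by decide +kernel

set_option maxRecDepth 100000 in
theorem nShape_E8_61 : NRangeB chevE8 183 3 = true := by decide +kernel

set_option maxRecDepth 100000 in
theorem nShape_E8_62 : NRangeB chevE8 186 3 = true := by decide +kernel

set_option maxRecDepth 100000 in
theorem nShape_E8_63 : NRangeB chevE8 189 3 = true := by decide +kernel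

set_option maxRecDepth 100000 in
theorem nShape_E8_64 : NRangeB chevE8 192 3 = true := by decide +kernel

set_option maxRecDepth 100000 in
theorem nShape_E8_65 : NRangeB chevE8 195 3 = true := by decide +kernel

set_option maxRecDepth 100000 in
theorem nShape_E8_66 : NRangeB chevE8 198 3 = true := by decide +kernel

set_option maxRecDepth 100000 in
theorem nShape_E8_67 : NRangeB chevE8 201 3 = true := by decide +kernel

set_option maxRecDepth 100000 in
theorem nShape_E8_68 : NRangeB chevE8 204 3 = true := by decide +kernel

set_option maxRecDepth 100000 in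
theorem nShape_E8_69 : NRangeB chevE8 207 3 = true := by decide +kernel

theorem nShapeRange_E8_6 (r : ℕ) (h1 : 180 ≤ r) (h2 : r < 210) : NShapeB chevE8 r = true := by
  by_cases h_60 : r < 183
  · exact NRangeB_spec _ 180 3 nShape_E8_60 r (by omega) (by omega)
  by_cases h_61 : r < 186
  · exact NRangeB_spec _ 183 3 nShape_E8_61 r (by omega) (by omega)
  by_cases h_62 : r < 189
  · exact NRangeB_spec _ 186 3 nShape_E8_62 r (by omega) (by omega)
  by_cases h_63 : r < 192
  · exact NRangeB_spec _ 189 3 nShape_E8_63 r (by omega) (by omega)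
  by_cases h_64 : r < 195
  · exact NRangeB_spec _ 192 3 nShape_E8_64 r (by omega) (by omega)
  by_cases h_65 : r < 198
  · exact NRangeB_spec _ 195 3 nShape_E8_65 r (by omega) (by omega)
  by_cases h_66 : r < 201
  · exact NRangeB_spec _ 198 3 nShape_E8_66 r (by omega) (by omega)
  by_cases h_67 : r < 204
  · exact NRangeB_spec _ 201 3 nShape_E8_67 r (by omega) (by omega)
  by_cases h_68 : r < 207
  · exact NRangeB_spec _ 204 3 nShape_E8_68 r (by omega) (by omega)
  exact NRangeB_spec _ 207 3 nShape_E8_69 r (by omega) (by omega)

end Cfsg.Agent.Lib.Helper5.ChevSym
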