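import Mathlib
import Cfsg.Agent.Lib.Helper5.ChevSymV
import Cfsg.Agent.Lib.Helper5.ChevSymNE8x05

set_option autoImplicit false

namespace Cfsg.Agent.Lib.Helper5.ChevSym

open Cfsg.Lie

set_option maxRecDepth 100000 in
theorem nShape_E8_70 : NRangeB chevE8 210 3 = true := by decide +kernel

set_option maxRecDepth 100000 in
theorem nShape_E8_71 : NRangeB chevE8 213 3 = true := by decide +kernel

set_option maxRecDepth 100000 in
theorem nShape_E8_72 : NRangeB chevE8 216 3 = true := by decide +kernel

set_option maxRecDepth 100000 in
theorem nShape_E8_73 : NRangeB chevE8 219 3 = true := by decide +kernel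

set_option maxRecDepth 100000 in
theorem nShape_E8_74 : NRangeB chevE8 222 3 = true := by decide +kernel

set_option maxRecDepth 100000 in
theorem nShape_E8_75 : NRangeB chevE8 225 3 = true := by decide +kernel

set_option maxRecDepth 100000 in
theorem nShape_E8_76 : NRangeB chevE8 228 3 = true := by decide +kernel

set_option maxRecDepth 100000 in
theorem nShape_E8_77 : NRangeB chevE8 231 3 = true := by decide +kernel

set_option maxRecDepth 100000 in
theorem nShape_E8_78 : NRangeB chevE8 234 3 = true := by decide +kernel

set_option maxRecDepth 100000 in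
theorem nShape_E8_79 : NRangeB chevE8 237 3 = true := by decide +kernel

theorem nShapeRange_E8_7 (r : ℕ) (h1 : 210 ≤ r) (h2 : r < 240) : NShapeB chevE8 r = true := by
  by_cases h_70 : r < 213
  · exact NRangeB_spec _ 210 3 nShape_E8_70 r (by omega) (by omega)
  by_cases h_71 : r < 216
  · exact NRangeB_spec _ 213 3 nShape_E8_71 r (by omega) (by omega)
  by_cases h_72 : r < 219
  · exact NRangeB_spec _ 216 3 nShape_E8_72 r (by omega) (by omega)
  by_cases h_73 : r < 222
  · exact NRangeB_spec _ 219 3 nShape_E8_73 r (by omega) (by omega)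
  by_cases h_74 : r < 225
  · exact NRangeB_spec _ 222 3 nShape_E8_74 r (by omega) (by omega)
  by_cases h_75 : r < 228
  · exact NRangeB_spec _ 225 3 nShape_E8_75 r (by omega) (by omega)
  by_cases h_76 : r < 231
  · exact NRangeB_spec _ 228 3 nShape_E8_76 r (by omega) (by omega)
  by_cases h_77 : r < 234
  · exact NRangeB_spec _ 231 3 nShape_E8_77 r (by omega) (by omega)
  by_cases h_78 : r < 237
  · exact NRangeB_spec _ 234 3 nShape_E8_78 r (by omega) (by omega)
  exact NRangeB_spec _ 237 3 nShape_E8_79 r (by omega) (by omega)

end Cfsg.Agent.Lib.Helper5.ChevSym
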