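import Mathlib
import Cfsg.Agent.Lib.Helper5.ChevSymV
import Cfsg.Agent.Lib.Helper5.ChevSymNE8x00
import Cfsg.Agent.Lib.Helper5.ChevSymNE8x01
import Cfsg.Agent.Lib.Helper5.ChevSymNE8x02
import Cfsg.Agent.Lib.Helper5.ChevSymNE8x03
import Cfsg.Agent.Lib.Helper5.ChevSymNE8x04
import Cfsg.Agent.Lib.Helper5.ChevSymNE8x05
import Cfsg.Agent.Lib.Helper5.ChevSymNE8x06
import Cfsg.Agent.Lib.Helper5.ChevSymNE8x07

set_option autoImplicit false

namespace Cfsg.Agent.Lib.Helper5.ChevSym

open Cfsg.Lie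

theorem nShapeAll_E8 (r : ℕ) (hr : r < chevE8.nroots) : NShapeB chevE8 r = true := by
  have hn : chevE8.nroots = 240 := rfl
  rw [hn] at hr
  by_cases h0 : r < 30
  · exact nShapeRange_E8_0 r (by omega) h0
  by_cases h1 : r < 60
  · exact nShapeRange_E8_1 r (by omega) h1
  by_cases h2 : r < 90
  · exact nShapeRange_E8_2 r (by omega) h2
  by_cases h3 : r < 120
  · exact nShapeRange_E8_3 r (by omega) h3
  by_cases h4 : r < 150
  · exact nShapeRange_E8_4 r (by omega) h4
  by_cases h5 : r < 180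
  · exact nShapeRange_E8_5 r (by omega) h5
  by_cases h6 : r < 210
  · exact nShapeRange_E8_6 r (by omega) h6
  exact nShapeRange_E8_7 r (by omega) (by omega)

end Cfsg.Agent.Lib.Helper5.ChevSym
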