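import Mathlib
import Cfsg.Agent.Lib.Helper5.ChevSymV


set_option autoImplicit false

namespace Cfsg.Agent.Lib.Helper5.ChevSym

open Cfsg.Lie

set_option maxRecDepth 100000 in
theorem nShape_F4_0 : NRangeB chevF4 0 12 = true := by decide +kernel

set_option maxRecDepth 100000 in
theorem nShape_F4_1 : NRangeB chevF4 12 12 = true := by decide +kernel

set_option maxRecDepth 100000 in
theorem nShape_F4_2 : NRangeB chevF4 24 12 = true := by decide +kernel

set_option maxRecDepth 100000 in
theorem nShape_F4_3 : NRangeB chevF4 36 12 = true := by decide +kernel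

theorem nShapeRange_F4_0 (r : ℕ) (h1 : 0 ≤ r) (h2 : r < 48) : NShapeB chevF4 r = true := by
  by_cases h_0 : r < 12
  · exact NRangeB_spec _ 0 12 nShape_F4_0 r (by omega) (by omega)
  by_cases h_1 : r < 24
  · exact NRangeB_spec _ 12 12 nShape_F4_1 r (by omega) (by omega)
  by_cases h_2 : r < 36
  · exact NRangeB_spec _ 24 12 nShape_F4_2 r (by omega) (by omega)
  exact NRangeB_spec _ 36 12 nShape_F4_3 r (by omega) (by omega)

end Cfsg.Agent.Lib.Helper5.ChevSym
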