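import Mathlib
import Cfsg.Agent.Lib.Helper5.ChevSymV
import Cfsg.Agent.Lib.Helper5.ChevSymNG2x00

set_option autoImplicit false

namespace Cfsg.Agent.Lib.Helper5.ChevSym

open Cfsg.Lie

theorem nShapeAll_G2 (r : ℕ) (hr : r < chevG2.nroots) : NShapeB chevG2 r = true := by
  have hn : chevG2.nroots = 12 := rfl
  rw [hn] at hr
  exact nShapeRange_G2_0 r (by omega) (by omega)

end Cfsg.Agent.Lib.Helper5.ChevSym
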