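import Mathlib
import Cfsg.Agent.Lib.Helper5.ChevSymV
import Cfsg.Agent.Lib.Helper5.ChevSymNG2
import Cfsg.Agent.Lib.Helper5.ChevSymNB2
import Cfsg.Agent.Lib.Helper5.ChevSymND4
import Cfsg.Agent.Lib.Helper5.ChevSymNF4
import Cfsg.Agent.Lib.Helper5.ChevSymNE6
import Cfsg.Agent.Lib.Helper5.ChevSymNE7
import Cfsg.Agent.Lib.Helper5.ChevSymNE8

set_option autoImplicit false

namespace Cfsg.Agent.Lib.Helper5.ChevSym

open Cfsg.Lie

theorem nShapeB_of_mem (D : ChevalleyDatum)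
    (hD : D ∈ [chevG2, chevB2, chevD4, chevF4, chevE6, chevE7, chevE8]) (r : ℕ) (hr : r < D.nroots) :
    NShapeB D r = true := by
  simp only [List.mem_cons, List.not_mem_nil, or_false] at hD
  rcases hD with rfl | rfl | rfl | rfl | rfl | rfl | rfl
  · exact nShapeAll_G2 r hr
  · exact nShapeAll_B2 r hr
  · exact nShapeAll_D4 r hr
  · exact nShapeAll_F4 r hr
  · exact nShapeAll_E6 r hr
  · exact nShapeAll_E7 r hr
  · exact nShapeAll_E8 r hr

end Cfsg.Agent.Lib.Helper5.ChevSym
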