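import Mathlib
import Cfsg.Prelude.Def_ChevStructure
import Cfsg.Prelude.Def_ChevB2
import Cfsg.Prelude.Def_ChevD4
import Cfsg.Prelude.Def_ChevG2
import Cfsg.Prelude.Def_ChevF4
import Cfsg.Prelude.Def_ChevE6
import Cfsg.Prelude.Def_ChevE7
import Cfsg.Prelude.Def_ChevE8

/-!
# Table facts on fundamental reflections (helper5)
-/

set_option autoImplicit false

namespace Cfsg.Agent.Lib.Helper5.ChevTits

open Cfsg.Lie

/-- table facts on the fundamental reflections -/
def ReflOK (D : ChevalleyDatum) : Prop :=
  ∀ i, i < D.rank → ∀ s, s < D.nroots →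
    (D.reflectRoot i s < D.nroots ∧
     D.reflectRoot i (D.reflectRoot i s) = s ∧
     D.reflectRoot i (D.neg s) = D.neg (D.reflectRoot i s) ∧
     (D.IsPosRoot s → s ≠ D.simple i → D.IsPosRoot (D.reflectRoot i s)) ∧
     (∀ j, j < D.rank → D.cartan j (D.reflectRoot i s) -
        D.cartan i (D.reflectRoot i s) * D.cartan j (D.simple i) = D.cartan j s))

instance (D : ChevalleyDatum) : Decidable (ReflOK D) := by
  unfold ReflOK
  infer_instance

/-- Boolean form of the table facts, for one fundamental reflection and one root -/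
def reflB (D : ChevalleyDatum) (i s : ℕ) : Bool :=
  decide (D.reflectRoot i s < D.nroots) && decide (D.reflectRoot i (D.reflectRoot i s) = s) &&
  decide (D.reflectRoot i (D.neg s) = D.neg (D.reflectRoot i s)) &&
  (!(decide (D.IsPosRoot s)) || decide (s = D.simple i) || decide (D.IsPosRoot (D.reflectRoot i s))) &&
  (List.range D.rank).all fun j => decide (D.cartan j (D.reflectRoot i s) -
        D.cartan i (D.reflectRoot i s) * D.cartan j (D.simple i) = D.cartan j s)

/-- Boolean form of the table facts, for one fundamental reflection and a range of roots -/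
def reflRangeB (D : ChevalleyDatum) (i a n : ℕ) : Bool :=
  (List.range n).all fun k => reflB D i (a + k)

theorem reflOK_of_reflRangeB (D : ChevalleyDatum)
    (h : ∀ i, i < D.rank → reflRangeB D i 0 D.nroots = true) : ReflOK D := by
  intro i hi s hs
  have h1 := h i hi
  unfold reflRangeB at h1
  rw [List.all_eq_true] at h1
  have h2 := h1 s (List.mem_range.mpr hs)
  rw [Nat.zero_add] at h2
  unfold reflB at h2
  simp only [Bool.and_eq_true, Bool.or_eq_true, decide_eq_true_eq, Bool.not_eq_true',
    decide_eq_false_iff_not, List.all_eq_true, List.mem_range] at h2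
  obtain ⟨⟨⟨⟨a1, a2⟩, a3⟩, a4⟩, a5⟩ := h2
  refine ⟨a1, a2, a3, ?_, a5⟩
  intro hp hne
  rcases a4 with (a4 | a4) | a4
  · exact absurd hp a4
  · exact absurd a4 hne
  · exact a4

/-- every root has a Cartan integer `±1` or `±2` -/
def CartanUnit (D : ChevalleyDatum) : Prop :=
  ∀ s, s < D.nroots → ∃ j, j < D.rank ∧
    (D.cartan j s = 1 ∨ D.cartan j s = -1 ∨ D.cartan j s = 2 ∨ D.cartan j s = -2)

instance (D : ChevalleyDatum) : Decidable (CartanUnit D) := by
  unfold CartanUnit
  infer_instance

/-- `w_i(p_j) ≠ -p_j` for `i ≠ j`, and the reflection in `p_i` maps `p_i` to `-p_i` -/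
def SimpleNe (D : ChevalleyDatum) : Prop :=
  ∀ i, i < D.rank → (D.reflectRoot i (D.simple i) = D.neg (D.simple i) ∧
    D.reflectRoot i (D.neg (D.simple i)) = D.simple i ∧ D.IsPosRoot (D.simple i) ∧
    D.IsNegRoot (D.neg (D.simple i)) ∧ D.neg (D.neg (D.simple i)) = D.simple i ∧
    ∀ j, j < D.rank → i ≠ j → (D.reflectRoot i (D.simple j) ≠ D.neg (D.simple j) ∧
      D.simple i ≠ D.simple j))

instance (D : ChevalleyDatum) : Decidable (SimpleNe D) := by
  unfold SimpleNe
  infer_instance

set_option maxRecDepth 100000 in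
theorem reflOK_G2 : ReflOK chevG2 := by decide +kernel
set_option maxRecDepth 100000 in
theorem reflOK_B2 : ReflOK chevB2 := by decide +kernel
set_option maxRecDepth 100000 in
theorem reflOK_D4 : ReflOK chevD4 := by decide +kernel
set_option maxRecDepth 100000 in
theorem reflOK_F4 : ReflOK chevF4 := by decide +kernel
set_option maxRecDepth 100000 in
theorem cartanUnit_G2 : CartanUnit chevG2 := by decide +kernel
set_option maxRecDepth 100000 in
theorem cartanUnit_B2 : CartanUnit chevB2 := by decide +kernel
set_option maxRecDepth 100000 in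
theorem cartanUnit_D4 : CartanUnit chevD4 := by decide +kernel
set_option maxRecDepth 100000 in
theorem cartanUnit_F4 : CartanUnit chevF4 := by decide +kernel
set_option maxRecDepth 100000 in
theorem simpleNe_G2 : SimpleNe chevG2 := by decide +kernel
set_option maxRecDepth 100000 in
theorem simpleNe_B2 : SimpleNe chevB2 := by decide +kernel
set_option maxRecDepth 100000 in
theorem simpleNe_D4 : SimpleNe chevD4 := by decide +kernel
set_option maxRecDepth 100000 in
theorem simpleNe_F4 : SimpleNe chevF4 := by decide +kernel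

end Cfsg.Agent.Lib.Helper5.ChevTits
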