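import Mathlib
import Cfsg.Agent.Lib.Helper5.ChevTitsA
import Cfsg.Agent.Lib.Helper5.ChevGen

/-!
# The sign in `n_p x_s(t) n_p⁻¹ = x_{w_p s}(η t)` is the sign of the matrix of `n_p` (helper5)
-/

set_option autoImplicit false
set_option linter.style.haveILetI false
set_option linter.unusedSectionVars false

namespace Cfsg.Agent.Lib.Helper5.ChevTits

open Cfsg.Lie Cfsg.Agent.Lib.Helper5.ChevSym Cfsg.Agent.Lib.Helper5.ChevBN
  Cfsg.Agent.Lib.Helper5.ChevGen

variable {F : Type*} [Field F]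

theorem x_apply_inr_inl (D : ChevalleyDatum) (s : ℕ) (hs : s < D.nroots) (t : F)
    (u : Fin D.nroots) (j : Fin D.rank) :
    D.x F s t (Sum.inr u) (Sum.inl j) =
      if (u : ℕ) = s then -((D.cartan j s : ℤ) : F) * t else 0 := by
  unfold ChevalleyDatum.x
  rw [dif_pos hs]
  unfold ChevalleyDatum.xMat ChevalleyDatum.cartan
  simp only [Matrix.of_apply]
  by_cases h : (u : ℕ) = s
  · rw [if_pos h, if_pos (Fin.ext h)]
  · rw [if_neg h, if_neg (fun h' => h (congrArg Fin.val h'))]

theorem x_apply_inl_inl (D : ChevalleyDatum) (s : ℕ) (hs : s < D.nroots) (t : F)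
    (j' j : Fin D.rank) :
    D.x F s t (Sum.inl j') (Sum.inl j) = if j' = j then 1 else 0 := by
  unfold ChevalleyDatum.x
  rw [dif_pos hs]
  unfold ChevalleyDatum.xMat
  simp only [Matrix.of_apply]

theorem nSimple_apply_inl_inl (D : ChevalleyDatum) (i : ℕ) (hi : i < D.rank) (h : NSimpleOK D i)
    (j' j : Fin D.rank) :
    D.nMat F (D.simple i) 1 (Sum.inl j') (Sum.inl j) =
      (if j' = j then (1 : F) else 0) -
        (if (j' : ℕ) = i then ((D.cartan j (D.simple i) : ℤ) : F) else 0) := by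
  rw [nMat_simple D i hi h]
  rfl

theorem nSimple_apply_inl_inr (D : ChevalleyDatum) (i : ℕ) (hi : i < D.rank) (h : NSimpleOK D i)
    (j' : Fin D.rank) (s : Fin D.nroots) :
    D.nMat F (D.simple i) 1 (Sum.inl j') (Sum.inr s) = 0 := by
  rw [nMat_simple D i hi h]
  rfl

theorem nSimple_apply_inr_inl (D : ChevalleyDatum) (i : ℕ) (hi : i < D.rank) (h : NSimpleOK D i)
    (s' : Fin D.nroots) (j : Fin D.rank) :
    D.nMat F (D.simple i) 1 (Sum.inr s') (Sum.inl j) = 0 := by
  rw [nMat_simple D i hi h]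
  rfl

theorem nSimple_apply_inr_inr (D : ChevalleyDatum) (i : ℕ) (hi : i < D.rank) (h : NSimpleOK D i)
    (s' s : Fin D.nroots) :
    D.nMat F (D.simple i) 1 (Sum.inr s') (Sum.inr s) =
      if (s' : ℕ) = D.reflectRoot i s then ((etaOf D i s : ℤ) : F) else 0 := by
  rw [nMat_simple D i hi h]
  rfl

/-- the sign of the conjugation formula, up to the Cartan integers -/
theorem eta_mul_cartan (D : ChevalleyDatum)
    (hD : D ∈ [chevG2, chevB2, chevD4, chevF4, chevE6, chevE7, chevE8]) (hR : ReflOK D)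
    (i s : ℕ) (hi : i < D.rank) (hs : s < D.nroots) (η : F)
    (h : D.nMat F (D.simple i) 1 * D.x F s 1 =
      D.x F (D.reflectRoot i s) η * D.nMat F (D.simple i) 1) (j : Fin D.rank) :
    ((etaOf D i s : ℤ) : F) * ((D.cartan j s : ℤ) : F) = η * ((D.cartan j s : ℤ) : F) := by
  have hN := nSimpleAll_of_mem D hD i hi
  obtain ⟨hr, -, -, -, hcart⟩ := hR i hi s hs
  have h1 := congrFun (congrFun h (Sum.inr ⟨D.reflectRoot i s, hr⟩)) (Sum.inl j)
  rw [Matrix.mul_apply, Matrix.mul_apply, Fintype.sum_sum_type, Fintype.sum_sum_type] at h1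
  simp only [nSimple_apply_inr_inl D i hi hN, nSimple_apply_inr_inr D i hi hN,
    nSimple_apply_inl_inl D i hi hN, x_apply_inr_inl D s hs, x_apply_inl_inl D s hs,
    x_apply_inr_inl D _ hr, zero_mul, mul_zero, Finset.sum_const_zero, zero_add, add_zero] at h1
  rw [Finset.sum_eq_single (⟨s, hs⟩ : Fin D.nroots)] at h1
  rotate_left
  · intro u _ hu
    rw [if_neg (fun h' => hu (Fin.ext h')), mul_zero]
  · intro h'; exact absurd (Finset.mem_univ _) h'
  simp only [if_true, mul_one] at h1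
  have h2 : ∀ j' : Fin D.rank,
      -((D.cartan j' (D.reflectRoot i s) : ℤ) : F) * η *
        ((if j' = j then (1 : F) else 0) -
          (if (j' : ℕ) = i then ((D.cartan j (D.simple i) : ℤ) : F) else 0)) =
      (if j' = j then -((D.cartan j' (D.reflectRoot i s) : ℤ) : F) * η else 0) -
        (if j' = (⟨i, hi⟩ : Fin D.rank) then
          -((D.cartan j' (D.reflectRoot i s) : ℤ) : F) * η *
            ((D.cartan j (D.simple i) : ℤ) : F) else 0) := by
    intro j'
    have e : ((j' : ℕ) = i) ↔ j' = (⟨i, hi⟩ : Fin D.rank) :=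
      ⟨fun h' => Fin.ext h', fun h' => congrArg Fin.val h'⟩
    simp only [e, mul_sub, mul_ite, mul_one, mul_zero]
  rw [Finset.sum_congr rfl (fun j' _ => h2 j'), Finset.sum_sub_distrib,
    Finset.sum_ite_eq' Finset.univ j, Finset.sum_ite_eq' Finset.univ (⟨i, hi⟩ : Fin D.rank)] at h1
  simp only [Finset.mem_univ, if_true] at h1
  have hc := hcart j j.2
  have hc' : ((D.cartan j s : ℤ) : F) = ((D.cartan j (D.reflectRoot i s) : ℤ) : F) -
      ((D.cartan i (D.reflectRoot i s) : ℤ) : F) * ((D.cartan j (D.simple i) : ℤ) : F) := by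
    rw [← hc]; push_cast; ring
  rw [hc']
  have h3 : ((etaOf D i s : ℤ) : F) * -(((D.cartan j s : ℤ) : F)) =
      -((D.cartan j (D.reflectRoot i s) : ℤ) : F) * η -
        -((D.cartan i (D.reflectRoot i s) : ℤ) : F) * η * ((D.cartan j (D.simple i) : ℤ) : F) := by
    rw [← h1]
  rw [hc'] at h3
  linear_combination (-1 : F) * h3

/-- the sign of the conjugation formula is the sign of the matrix of `n_p` -/
theorem eta_eq (D : ChevalleyDatum)
    (hD : D ∈ [chevG2, chevB2, chevD4, chevF4, chevE6, chevE7, chevE8]) (hR : ReflOK D)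
    (hC : CartanUnit D)
    (i s : ℕ) (hi : i < D.rank) (hs : s < D.nroots) (η : ℤ) (hη : η = 1 ∨ η = -1)
    (h : ∀ t : F, D.nMat F (D.simple i) 1 * D.x F s t =
      D.x F (D.reflectRoot i s) ((η : F) * t) * D.nMat F (D.simple i) 1) :
    (η : F) = ((etaOf D i s : ℤ) : F) := by
  have hN := nSimpleAll_of_mem D hD i hi
  obtain ⟨-, -, -, -, hN5, -⟩ := hN
  have he := (hN5 s hs).1
  have h1 := h 1
  rw [mul_one] at h1
  obtain ⟨j, hj, hcj⟩ := hC s hs
  have key := eta_mul_cartan D hD hR i s hi hs (η : F) h1 ⟨j, hj⟩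
  by_cases h2 : (2 : F) = 0
  · -- characteristic 2: all signs agree
    have hm : (-1 : F) = 1 := by
      have : (1 : F) + 1 = 0 := by rw [one_add_one_eq_two]; exact h2
      exact neg_eq_of_add_eq_zero_left this
    rcases hη with rfl | rfl <;> rcases he with he | he <;> rw [he] <;> push_cast <;>
      first | rfl | exact hm | exact hm.symm
  · have hne : ((D.cartan (⟨j, hj⟩ : Fin D.rank) s : ℤ) : F) ≠ 0 := by
      show ((D.cartan j s : ℤ) : F) ≠ 0
      rcases hcj with e | e | e | e <;> rw [e] <;> push_cast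
      · exact one_ne_zero
      · exact neg_ne_zero.mpr one_ne_zero
      · exact h2
      · exact neg_ne_zero.mpr h2
    exact (mul_right_cancel₀ hne key).symm

end Cfsg.Agent.Lib.Helper5.ChevTits
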