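import Mathlib
import Cfsg.Agent.Lib.Helper5.ChevTitsC
import Cfsg.Agent.Lib.Helper5.ChevSymX
import Cfsg.Agent.Lib.Helper5.ChevSymZ

/-!
# `n_p n_s(t) n_p⁻¹ = n_{w_p s}(η t)` and generation of `N` by `H` and the `n_{p_i}` (helper5)
-/

set_option autoImplicit false
set_option linter.style.haveILetI false
set_option linter.unusedSectionVars false

namespace Cfsg.Agent.Lib.Helper5.ChevTits

open Cfsg.Lie Cfsg.Agent.Lib.Helper5.ChevSym Cfsg.Agent.Lib.Helper5.ChevBN
  Cfsg.Agent.Lib.Helper5.ChevGen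

variable {F : Type*} [Field F]

/-- all the table facts and the conjugation formula, packaged -/
structure Hyp (D : ChevalleyDatum) (F : Type*) [Field F] : Prop where
  mem : D ∈ [chevG2, chevB2, chevD4, chevF4, chevE6, chevE7, chevE8]
  refl : ReflOK D
  cartan : CartanUnit D
  simple : SimpleNe D
  conj : ConjFormula D F

theorem etaF_cases (D : ChevalleyDatum) (H : Hyp D F) (i s : ℕ) (hi : i < D.rank)
    (hs : s < D.nroots) :
    ((etaOf D i s : ℤ) : F) = 1 ∨ ((etaOf D i s : ℤ) : F) = -1 := by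
  obtain ⟨-, -, -, -, hN5, -⟩ := nSimpleAll_of_mem D H.mem i hi
  rcases (hN5 s hs).1 with e | e <;> rw [e] <;> push_cast
  · exact Or.inl rfl
  · exact Or.inr rfl

theorem etaF_neg (D : ChevalleyDatum) (H : Hyp D F) (i s : ℕ) (hi : i < D.rank)
    (hs : s < D.nroots) :
    ((etaOf D i (D.neg s) : ℤ) : F) = ((etaOf D i s : ℤ) : F) := by
  obtain ⟨-, -, -, -, hN5, -⟩ := nSimpleAll_of_mem D H.mem i hi
  have h3 := (hN5 s hs).2.2
  rcases (hN5 s hs).1 with e | e
  · rw [e, one_mul] at h3; rw [h3, e]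
  · rw [e] at h3
    have : etaOf D i (D.neg s) = -1 := by linarith
    rw [this, e]

theorem neg_lt (D : ChevalleyDatum) (H : Hyp D F) (s : ℕ) (hs : s < D.nroots) :
    D.neg s < D.nroots := by
  have h := nShapeB_of_mem D H.mem s hs
  unfold NShapeB at h
  rw [Bool.and_eq_true, Bool.and_eq_true] at h
  simpa using h.1.1

/-- `n_p x_s(t) = x_{w_p s}(η_s t) n_p` with the sign of the matrix of `n_p` -/
theorem nSimple_mul_x (D : ChevalleyDatum) (H : Hyp D F) (i s : ℕ) (hi : i < D.rank)
    (hs : s < D.nroots) (t : F) :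
    D.nMat F (D.simple i) 1 * D.x F s t =
      D.x F (D.reflectRoot i s) (((etaOf D i s : ℤ) : F) * t) * D.nMat F (D.simple i) 1 := by
  obtain ⟨η, hη, h⟩ := H.conj i s hi hs
  rw [← eta_eq D H.mem H.refl H.cartan i s hi hs η hη h]
  exact h t

/-- `n_p n_s(t) = n_{w_p s}(η_s t) n_p` -/
theorem nSimple_mul_nMat (D : ChevalleyDatum) (H : Hyp D F) (i s : ℕ) (hi : i < D.rank)
    (hs : s < D.nroots) (t : F) :
    D.nMat F (D.simple i) 1 * D.nMat F s t =
      D.nMat F (D.reflectRoot i s) (((etaOf D i s : ℤ) : F) * t) * D.nMat F (D.simple i) 1 := by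
  have hns := neg_lt D H s hs
  have h1 := nSimple_mul_x D H i s hi hs t
  have h2 := nSimple_mul_x D H i (D.neg s) hi hns (-t⁻¹)
  rw [etaF_neg D H i s hi hs, (H.refl i hi s hs).2.2.1] at h2
  have he : ((etaOf D i s : ℤ) : F) * -t⁻¹ = -(((etaOf D i s : ℤ) : F) * t)⁻¹ := by
    rcases etaF_cases D H i s hi hs with e | e <;> rw [e]
    · rw [one_mul, one_mul]
    · rw [neg_one_mul, neg_one_mul, neg_neg, inv_neg, neg_neg]
  rw [he] at h2
  rw [nMat_unfold D s t, nMat_unfold D (D.reflectRoot i s)]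
  set n := D.nMat F (D.simple i) 1
  set A := D.x F s t
  set B := D.x F (D.neg s) (-t⁻¹)
  set A' := D.x F (D.reflectRoot i s) (((etaOf D i s : ℤ) : F) * t)
  set B' := D.x F (D.neg (D.reflectRoot i s)) (-(((etaOf D i s : ℤ) : F) * t)⁻¹)
  calc n * (A * (B * A)) = (n * A) * (B * A) := by rw [Matrix.mul_assoc]
    _ = A' * ((n * B) * A) := by rw [h1, Matrix.mul_assoc, Matrix.mul_assoc]
    _ = A' * (B' * (n * A)) := by rw [h2, Matrix.mul_assoc]
    _ = A' * (B' * A') * n := by rw [h1, Matrix.mul_assoc, Matrix.mul_assoc]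

/-- the subgroup generated by `H` and the `n_{p_i}` -/
def N0 (D : ChevalleyDatum) (F : Type*) [Field F] : Subgroup (GL D.Idx F) :=
  D.diagonalSubgroup F ⊔ Subgroup.closure {g | ∃ i : ℕ, i < D.rank ∧
    (g : Matrix D.Idx D.Idx F) = D.nMat F (D.simple i) 1}

theorem nMat_mem_N0 (D : ChevalleyDatum) (H : Hyp D F) :
    ∀ (m r : ℕ), mu D r = m → r < D.nroots → ∀ (g : GL D.Idx F),
      (g : Matrix D.Idx D.Idx F) = D.nMat F r 1 → g ∈ N0 D F := by
  have hD := H.mem
  intro m
  induction m using Nat.strong_induction_on with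
  | _ m ih =>
    intro r hm hr g hg
    have hgen : ∀ i, i < D.rank → ∀ n : GL D.Idx F,
        (n : Matrix D.Idx D.Idx F) = D.nMat F (D.simple i) 1 → n ∈ N0 D F := by
      intro i hi n hn
      exact Subgroup.mem_sup_right (Subgroup.subset_closure ⟨i, hi, hn⟩)
    -- the general step
    have step : ∀ i, i < D.rank → ∀ s, s < D.nroots → D.reflectRoot i s = r →
        (∀ g' : GL D.Idx F, (g' : Matrix D.Idx D.Idx F) = D.nMat F s 1 → g' ∈ N0 D F) →
        g ∈ N0 D F := by
      intro i hi s hs hrs hS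
      have hn := hgen i hi (wordGL D hD (D.nWord (D.simple i) (1 : F))) (wordGL_val D hD _)
      set n := wordGL D hD (D.nWord (D.simple i) (1 : F)) with hndef
      have hnv : (n : Matrix D.Idx D.Idx F) = D.nMat F (D.simple i) 1 := wordGL_val D hD _
      set e : F := ((etaOf D i s : ℤ) : F) with hedef
      have hee : e * e = 1 := by
        rcases etaF_cases D H i s hi hs with h | h <;> rw [hedef, h] <;> simp
      have hc := nSimple_mul_nMat D H i s hi hs e
      rw [← hedef, hee, hrs] at hc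
      -- `n_s(e) ∈ N0`
      have hse : wordGL D hD (D.nWord s e) ∈ N0 D F := by
        rcases etaF_cases D H i s hi hs with h | h
        · rw [hedef, h]
          exact hS _ (wordGL_val D hD _)
        · rw [hedef, h]
          have h1 : wordGL D hD (D.nWord s (-1 : F)) = (wordGL D hD (D.nWord s (1 : F)))⁻¹ := by
            rw [eq_inv_iff_mul_eq_one]
            apply Units.ext
            rw [Units.val_mul, wordGL_val, wordGL_val, Units.val_one]
            exact nMat_neg_mul D hD s hs
          rw [h1]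
          exact inv_mem (hS _ (wordGL_val D hD _))
      have e1 : n * wordGL D hD (D.nWord s e) = g * n := by
        apply Units.ext
        rw [Units.val_mul, Units.val_mul, hnv, wordGL_val, hg]
        exact hc
      have : g = n * wordGL D hD (D.nWord s e) * n⁻¹ := by
        rw [e1]; group
      rw [this]
      exact mul_mem (mul_mem hn hse) (inv_mem hn)
    rcases reachOK_of_mem D hD r hr with ⟨i, hi, h | h⟩ | ⟨i, hi, hs, hrr, hmu⟩
    · exact hgen i hi g (by rw [hg, h])
    · have hS := H.simple i hi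
      refine step i hi (D.simple i) hS.2.2.1.1 (by rw [hS.1, h]) ?_
      intro g' hg'
      exact hgen i hi g' hg'
    · refine step i hi (D.reflectRoot i r) hs hrr ?_
      intro g' hg'
      exact ih (mu D (D.reflectRoot i r)) (by rw [← hm]; exact hmu) _ rfl hs g' hg'

/-- `N` is generated by `H` and the `n_{p_i}` -/
theorem monomial_eq_N0 (D : ChevalleyDatum) (H : Hyp D F) : D.monomialSubgroup F = N0 D F := by
  apply le_antisymm
  · unfold ChevalleyDatum.monomialSubgroup
    refine sup_le ?_ ?_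
    · unfold N0; exact le_sup_left
    · rw [Subgroup.closure_le]
      rintro g ⟨r, hr, hg⟩
      exact nMat_mem_N0 D H _ r rfl hr g hg
  · unfold N0 ChevalleyDatum.monomialSubgroup
    refine sup_le le_sup_left ?_
    refine le_trans ?_ le_sup_right
    apply Subgroup.closure_mono
    rintro g ⟨i, hi, hg⟩
    exact ⟨D.simple i, (H.simple i hi).2.2.1.1, hg⟩

end Cfsg.Agent.Lib.Helper5.ChevTits
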