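import Mathlib
import Cfsg.Agent.Lib.Helper5.ChevTitsD

/-!
# The action of `N` on the root subgroups (helper5)
-/

set_option autoImplicit false
set_option linter.style.haveILetI false
set_option linter.unusedSectionVars false

namespace Cfsg.Agent.Lib.Helper5.ChevTits

open Cfsg.Lie Cfsg.Agent.Lib.Helper5.ChevSym Cfsg.Agent.Lib.Helper5.ChevBN
  Cfsg.Agent.Lib.Helper5.ChevGen

variable {F : Type*} [Field F]

/-- `n` permutes the root subgroups according to `σ` -/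
def RootAct (D : ChevalleyDatum) (n : Matrix D.Idx D.Idx F) (σ : ℕ → ℕ) : Prop :=
  ∀ r, r < D.nroots → σ r < D.nroots ∧ σ (D.neg r) = D.neg (σ r) ∧
    ∃ c : F, c ≠ 0 ∧ ∀ t : F, n * D.x F r t = D.x F (σ r) (c * t) * n

theorem rootAct_one (D : ChevalleyDatum) : RootAct D (1 : Matrix D.Idx D.Idx F) id := by
  intro r hr
  refine ⟨hr, rfl, 1, one_ne_zero, fun t => ?_⟩
  rw [Matrix.one_mul, Matrix.mul_one, one_mul]
  rfl

theorem rootAct_mul (D : ChevalleyDatum) (A B : Matrix D.Idx D.Idx F) (σ τ : ℕ → ℕ)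
    (hA : RootAct D A σ) (hB : RootAct D B τ) : RootAct D (A * B) (σ ∘ τ) := by
  intro r hr
  obtain ⟨h1, h2, c, hc, h3⟩ := hB r hr
  obtain ⟨k1, k2, d, hd, k3⟩ := hA (τ r) h1
  refine ⟨k1, ?_, d * c, mul_ne_zero hd hc, fun t => ?_⟩
  · show σ (τ (D.neg r)) = D.neg (σ (τ r))
    rw [h2, k2]
  · show A * B * D.x F r t = D.x F (σ (τ r)) (d * c * t) * (A * B)
    rw [Matrix.mul_assoc, h3, ← Matrix.mul_assoc, k3, Matrix.mul_assoc, mul_assoc]

theorem rootAct_diag (D : ChevalleyDatum)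
    (hD : D ∈ [chevG2, chevB2, chevD4, chevF4, chevE6, chevE7, chevE8]) (h : GL D.Idx F)
    (hh : h ∈ D.diagonalSubgroup F) : RootAct D (h : Matrix D.Idx D.Idx F) id := by
  intro r hr
  obtain ⟨c, hc⟩ := mem_diagonalSubgroup D hD h hh
  refine ⟨hr, rfl, ((chiC D c r : Fˣ) : F), Units.ne_zero _, fun t => ?_⟩
  have h1 := Cfsg.Agent.S2157.result D hD (chiC D c) (chiC_isRootCharacter D hD c) r hr t
  show (h : Matrix D.Idx D.Idx F) * D.x F r t = D.x F r (((chiC D c r : Fˣ) : F) * t) * _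
  rw [← h1, hc, Matrix.mul_assoc, charDiag_mul_inv, Matrix.mul_one]

theorem rootAct_simple (D : ChevalleyDatum) (H : Hyp D F) (i : ℕ) (hi : i < D.rank) :
    RootAct D (D.nMat F (D.simple i) 1) (D.reflectRoot i) := by
  intro r hr
  obtain ⟨h1, -, h3, -, -⟩ := H.refl i hi r hr
  refine ⟨h1, h3, ((etaOf D i r : ℤ) : F), ?_, fun t => nSimple_mul_x D H i r hi hr t⟩
  rcases etaF_cases D H i r hi hr with e | e <;> rw [e]
  · exact one_ne_zero
  · exact neg_ne_zero.mpr one_ne_zero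

theorem rootAct_simple_inv (D : ChevalleyDatum) (H : Hyp D F) (i : ℕ) (hi : i < D.rank) :
    RootAct D (D.nMat F (D.simple i) (-1)) (D.reflectRoot i) := by
  intro r hr
  obtain ⟨h1, h2, h3, -, -⟩ := H.refl i hi r hr
  have hS := H.simple i hi
  have hp : D.simple i < D.nroots := hS.2.2.1.1
  set e : F := ((etaOf D i (D.reflectRoot i r) : ℤ) : F) with hedef
  have hee : e * e = 1 := by
    rcases etaF_cases D H i _ hi h1 with h | h <;> rw [hedef, h] <;> simp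
  have he0 : e ≠ 0 := by
    intro h0; rw [h0, mul_zero] at hee; exact zero_ne_one hee
  refine ⟨h1, h3, e, he0, fun t => ?_⟩
  have h4 := nSimple_mul_x D H i (D.reflectRoot i r) hi h1 (e * t)
  rw [h2, ← hedef, ← mul_assoc, hee, one_mul] at h4
  -- `n x_{wr}(e t) = x_r(t) n`, so `x_{wr}(e t) n⁻¹ = n⁻¹ x_r(t)`
  have hl := nMat_neg_mul D H.mem (D.simple i) hp (F := F)
  have hr' := nMat_mul_neg D H.mem (D.simple i) hp (F := F)
  calc D.nMat F (D.simple i) (-1) * D.x F r t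
      = D.nMat F (D.simple i) (-1) * (D.x F r t * D.nMat F (D.simple i) 1) *
          D.nMat F (D.simple i) (-1) := by
        rw [Matrix.mul_assoc, Matrix.mul_assoc, hr', Matrix.mul_one]
    _ = D.nMat F (D.simple i) (-1) * (D.nMat F (D.simple i) 1 * D.x F (D.reflectRoot i r) (e * t)) *
          D.nMat F (D.simple i) (-1) := by rw [h4]
    _ = D.x F (D.reflectRoot i r) (e * t) * D.nMat F (D.simple i) (-1) := by
        rw [← Matrix.mul_assoc, hl, Matrix.one_mul]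

/-- `n` and `n⁻¹` permute the root subgroups -/
def Acts (D : ChevalleyDatum) (n : GL D.Idx F) : Prop :=
  (∃ σ, RootAct D (n : Matrix D.Idx D.Idx F) σ) ∧
    (∃ σ, RootAct D ((n⁻¹ : GL D.Idx F) : Matrix D.Idx D.Idx F) σ)

/-- the subgroup of elements permuting the root subgroups -/
def actsSubgroup (D : ChevalleyDatum) (F : Type*) [Field F] : Subgroup (GL D.Idx F) where
  carrier := {n | Acts D n}
  one_mem' := by
    refine ⟨⟨id, ?_⟩, ⟨id, ?_⟩⟩
    · rw [Units.val_one]; exact rootAct_one D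
    · rw [inv_one, Units.val_one]; exact rootAct_one D
  mul_mem' := by
    rintro a b ⟨⟨σ, hσ⟩, ⟨σ', hσ'⟩⟩ ⟨⟨τ, hτ⟩, ⟨τ', hτ'⟩⟩
    refine ⟨⟨σ ∘ τ, ?_⟩, ⟨τ' ∘ σ', ?_⟩⟩
    · rw [Units.val_mul]; exact rootAct_mul D _ _ σ τ hσ hτ
    · rw [mul_inv_rev, Units.val_mul]; exact rootAct_mul D _ _ τ' σ' hτ' hσ'
  inv_mem' := by
    rintro a ⟨h1, h2⟩
    refine ⟨h2, ?_⟩
    rw [inv_inv]; exact h1

theorem monomial_le_acts (D : ChevalleyDatum) (H : Hyp D F) :
    D.monomialSubgroup F ≤ actsSubgroup D F := by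
  rw [monomial_eq_N0 D H]
  unfold N0
  refine sup_le ?_ ?_
  · intro h hh
    exact ⟨⟨id, rootAct_diag D H.mem h hh⟩, ⟨id, rootAct_diag D H.mem h⁻¹ (inv_mem hh)⟩⟩
  · rw [Subgroup.closure_le]
    rintro n ⟨i, hi, hn⟩
    have hp : D.simple i < D.nroots := (H.simple i hi).2.2.1.1
    have hninv : ((n⁻¹ : GL D.Idx F) : Matrix D.Idx D.Idx F) = D.nMat F (D.simple i) (-1) := by
      rw [Matrix.coe_units_inv, hn]
      exact Matrix.inv_eq_right_inv (nMat_mul_neg D H.mem _ hp)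
    refine ⟨⟨D.reflectRoot i, ?_⟩, ⟨D.reflectRoot i, ?_⟩⟩
    · rw [hn]; exact rootAct_simple D H i hi
    · rw [hninv]; exact rootAct_simple_inv D H i hi

end Cfsg.Agent.Lib.Helper5.ChevTits
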