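import Mathlib
import Cfsg.Agent.Lib.Helper5.ChevTitsE
import Cfsg.Agent.Lib.Helper5.ChevCore

/-!
# The double coset condition `s B n ⊆ B s n B ∪ B n B` in `GL` (helper5)
-/

set_option autoImplicit false
set_option linter.style.haveILetI false
set_option linter.unusedSectionVars false

namespace Cfsg.Agent.Lib.Helper5.ChevTits

open Cfsg.Lie Cfsg.Agent.Lib.Helper5.ChevSym Cfsg.Agent.Lib.Helper5.ChevBN
  Cfsg.Agent.Lib.Helper5.ChevGen

variable {F : Type*} [Field F]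

theorem xGL_add (D : ChevalleyDatum)
    (hD : D ∈ [chevG2, chevB2, chevD4, chevF4, chevE6, chevE7, chevE8]) (r : ℕ) (hr : r < D.nroots)
    (a b : F) : xGL D hD r a * xGL D hD r b = xGL D hD r (a + b) := by
  apply Units.ext
  rw [Units.val_mul, xGL_val, xGL_val, xGL_val]
  exact Cfsg.Agent.S1023.result D hD r hr a b

theorem xGL_zero (D : ChevalleyDatum)
    (hD : D ∈ [chevG2, chevB2, chevD4, chevF4, chevE6, chevE7, chevE8]) (r : ℕ) (hr : r < D.nroots) :
    xGL D hD r (0 : F) = 1 := by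
  apply Units.ext
  rw [xGL_val, Units.val_one]
  exact (Cfsg.Agent.S1024.result D hD r hr 0).mpr rfl

theorem xGL_inv (D : ChevalleyDatum)
    (hD : D ∈ [chevG2, chevB2, chevD4, chevF4, chevE6, chevE7, chevE8]) (r : ℕ) (hr : r < D.nroots)
    (a : F) : (xGL D hD r a)⁻¹ = xGL D hD r (-a) := by
  rw [inv_eq_iff_mul_eq_one, xGL_add D hD r hr, add_neg_cancel, xGL_zero D hD r hr]

theorem xGL_pos_mem (D : ChevalleyDatum)
    (hD : D ∈ [chevG2, chevB2, chevD4, chevF4, chevE6, chevE7, chevE8]) (r : ℕ) (hr : D.IsPosRoot r)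
    (a : F) : xGL D hD r a ∈ D.posUnipotent F :=
  Subgroup.subset_closure ⟨r, a, hr, xGL_val D hD r a⟩

theorem pos_le_borel (D : ChevalleyDatum) : D.posUnipotent F ≤ D.borelSubgroup F := by
  unfold ChevalleyDatum.borelSubgroup; exact le_sup_left

theorem diag_le_borel (D : ChevalleyDatum) : D.diagonalSubgroup F ≤ D.borelSubgroup F := by
  unfold ChevalleyDatum.borelSubgroup; exact le_sup_right

theorem hGL_mem (D : ChevalleyDatum)
    (hD : D ∈ [chevG2, chevB2, chevD4, chevF4, chevE6, chevE7, chevE8]) (r : ℕ) (hr : r < D.nroots)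
    (c : F) (hc : c ≠ 0) : wordGL D hD (D.hWord r c) ∈ D.diagonalSubgroup F :=
  Subgroup.subset_closure ⟨r, c, hr, hc, wordGL_val D hD _⟩

/-- `n_r(c) = h_r(c) n_r(1)` -/
theorem nGL_eq (D : ChevalleyDatum)
    (hD : D ∈ [chevG2, chevB2, chevD4, chevF4, chevE6, chevE7, chevE8]) (r : ℕ) (hr : r < D.nroots)
    (c : F) :
    wordGL D hD (D.nWord r c) = wordGL D hD (D.hWord r c) * wordGL D hD (D.nWord r 1) := by
  apply Units.ext
  rw [Units.val_mul, wordGL_val, wordGL_val, wordGL_val]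
  show D.nMat F r c = D.hMat F r c * D.nMat F r 1
  rw [hMat_eq_nMat_mul, Matrix.mul_assoc, nMat_neg_mul D hD r hr, Matrix.mul_one]

/-- `x_{-r}(a) = x_r(a⁻¹) n_r(-a⁻¹) x_r(a⁻¹)` -/
theorem xGL_neg_eq (D : ChevalleyDatum)
    (hD : D ∈ [chevG2, chevB2, chevD4, chevF4, chevE6, chevE7, chevE8]) (r : ℕ) (hr : r < D.nroots)
    (a : F) (ha : a ≠ 0) :
    xGL D hD (D.neg r) a =
      xGL D hD r a⁻¹ * wordGL D hD (D.nWord r (-a⁻¹)) * xGL D hD r a⁻¹ := by
  have h1 : wordGL D hD (D.nWord r (-a⁻¹)) =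
      xGL D hD r (-a⁻¹) * (xGL D hD (D.neg r) a * xGL D hD r (-a⁻¹)) := by
    apply Units.ext
    rw [Units.val_mul, Units.val_mul, wordGL_val, xGL_val, xGL_val]
    show D.nMat F r (-a⁻¹) = _
    rw [nMat_unfold, inv_neg, inv_inv, neg_neg]
  rw [h1, ← xGL_inv D hD r hr]
  group

/-- the subgroup `U_p` generated by the positive root subgroups other than `X_p` -/
def Up (D : ChevalleyDatum) (F : Type*) [Field F] (i : ℕ) : Subgroup (GL D.Idx F) :=
  Subgroup.closure {g : GL D.Idx F | ∃ (s : ℕ) (t : F), D.IsPosRoot s ∧ s ≠ D.simple i ∧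
    (g : Matrix D.Idx D.Idx F) = D.x F s t}

/-- the decomposition `U = U_p X_p` -/
def Decomp (D : ChevalleyDatum) (F : Type*) [Field F] : Prop :=
  ∀ i, i < D.rank → ∀ u ∈ D.posUnipotent F, ∃ u' ∈ Up D F i, ∃ (t : F) (x : GL D.Idx F),
    (x : Matrix D.Idx D.Idx F) = D.x F (D.simple i) t ∧ u = u' * x

theorem s_mul_xGL (D : ChevalleyDatum) (H : Hyp D F) (i : ℕ) (hi : i < D.rank) (s : GL D.Idx F)
    (hs : (s : Matrix D.Idx D.Idx F) = D.nMat F (D.simple i) 1) (r : ℕ) (hr : r < D.nroots)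
    (t : F) :
    s * xGL D H.mem r t = xGL D H.mem (D.reflectRoot i r) (((etaOf D i r : ℤ) : F) * t) * s := by
  apply Units.ext
  rw [Units.val_mul, Units.val_mul, hs, xGL_val, xGL_val]
  exact nSimple_mul_x D H i r hi hr t

/-- `n_p U_p n_p⁻¹ ≤ U` -/
theorem conj_Up_mem (D : ChevalleyDatum) (H : Hyp D F) (i : ℕ) (hi : i < D.rank) (s : GL D.Idx F)
    (hs : (s : Matrix D.Idx D.Idx F) = D.nMat F (D.simple i) 1) (u : GL D.Idx F)
    (hu : u ∈ Up D F i) : s * u * s⁻¹ ∈ D.posUnipotent F := by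
  have hle : Up D F i ≤ (D.posUnipotent F).comap (MulAut.conj s).toMonoidHom := by
    unfold Up
    rw [Subgroup.closure_le]
    rintro g ⟨q, t, hq, hne, hg⟩
    have hg' : g = xGL D H.mem q t := Units.ext hg
    show s * g * s⁻¹ ∈ D.posUnipotent F
    rw [hg', s_mul_xGL D H i hi s hs q hq.1 t, mul_inv_cancel_right]
    exact xGL_pos_mem D H.mem _ ((H.refl i hi q hq.1).2.2.2.1 hq hne) _
  exact hle hu

theorem etaOf_simple (D : ChevalleyDatum) (H : Hyp D F) (i : ℕ) (hi : i < D.rank) :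
    ((etaOf D i (D.simple i) : ℤ) : F) = -1 ∧ ((etaOf D i (D.neg (D.simple i)) : ℤ) : F) = -1 := by
  obtain ⟨-, -, h3, h4, -, -⟩ := nSimpleAll_of_mem D H.mem i hi
  rw [h3, h4]
  push_cast
  exact ⟨rfl, rfl⟩

/-- the main step: `n_p x_p(t) n ∈ B n_p n B ∪ B n B` -/
theorem s_x_n (D : ChevalleyDatum) (H : Hyp D F) (i : ℕ) (hi : i < D.rank) (s : GL D.Idx F)
    (hs : (s : Matrix D.Idx D.Idx F) = D.nMat F (D.simple i) 1) (n : GL D.Idx F)
    (hn : n ∈ D.monomialSubgroup F) (t₀ : F) :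
    (∃ b₂ ∈ D.borelSubgroup F, s * xGL D H.mem (D.simple i) t₀ * n = s * n * b₂) ∨
    (∃ b₁ ∈ D.borelSubgroup F, ∃ b₂ ∈ D.borelSubgroup F,
      s * xGL D H.mem (D.simple i) t₀ * n = b₁ * n * b₂) := by
  have hD := H.mem
  obtain ⟨hS1, hS2, hSpos, hSneg, hSnn, -⟩ := H.simple i hi
  have hp : D.simple i < D.nroots := hSpos.1
  have hnp : D.neg (D.simple i) < D.nroots := hSneg.1
  obtain ⟨-, ⟨σ, hσ⟩⟩ := monomial_le_acts D H hn
  obtain ⟨hq, hqn, c, hc, hact⟩ := hσ (D.simple i) hp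
  -- `x_p(t) n = n x_q(c t)`
  have hx : ∀ (r : ℕ) (_ : r < D.nroots) (c : F),
      (∀ t : F, ((n⁻¹ : GL D.Idx F) : Matrix D.Idx D.Idx F) * D.x F r t =
        D.x F (σ r) (c * t) * ((n⁻¹ : GL D.Idx F) : Matrix D.Idx D.Idx F)) →
      ∀ t : F, xGL D hD r t * n = n * xGL D hD (σ r) (c * t) := by
    intro r _ c h t
    have e : n⁻¹ * xGL D hD r t = xGL D hD (σ r) (c * t) * n⁻¹ := by
      apply Units.ext
      rw [Units.val_mul, Units.val_mul, xGL_val, xGL_val]
      exact h t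
    calc xGL D hD r t * n = n * (n⁻¹ * xGL D hD r t) * n := by group
      _ = n * xGL D hD (σ r) (c * t) := by rw [e]; group
  rcases Cfsg.Agent.S1041.pos_or_neg D hD (σ (D.simple i)) hq with hpos | hneg
  · left
    refine ⟨xGL D hD (σ (D.simple i)) (c * t₀), pos_le_borel D (xGL_pos_mem D hD _ hpos _), ?_⟩
    rw [mul_assoc, hx _ hp c hact t₀, mul_assoc]
  · by_cases ht : t₀ = 0
    · left
      refine ⟨1, one_mem _, ?_⟩
      rw [ht, xGL_zero D hD _ hp, mul_one, mul_one]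
    · right
      obtain ⟨hq'pos, -⟩ := negPos_of_mem D hD _ hq hneg
      obtain ⟨hq', hq'n, c', hc', hact'⟩ := hσ (D.neg (D.simple i)) hnp
      have hx' := hx _ hnp c' hact'
      rw [hqn] at hx'
      obtain ⟨he1, he2⟩ := etaOf_simple D H i hi
      -- `s x_p(t₀) = x_{-p}(-t₀) s`
      have e1 := s_mul_xGL D H i hi s hs _ hp t₀
      rw [hS1, he1, neg_one_mul] at e1
      set a : F := -t₀ with hadef
      have ha : a ≠ 0 := neg_ne_zero.mpr ht
      have hainv : a⁻¹ ≠ 0 := inv_ne_zero ha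
      -- `x_p(a⁻¹) s = s x_{-p}(-a⁻¹)`
      have e2 := s_mul_xGL D H i hi s hs _ hnp (-a⁻¹)
      rw [hS2, he2, neg_one_mul, neg_neg] at e2
      -- `n_p(-a⁻¹) = h s`
      have e3 := nGL_eq D hD (D.simple i) hp (-a⁻¹)
      have hs1 : wordGL D hD (D.nWord (D.simple i) (1 : F)) = s := by
        apply Units.ext
        rw [wordGL_val, hs]; rfl
      rw [hs1] at e3
      -- `s s = h_p(-1)⁻¹`
      have e4 : s * s = (wordGL D hD (D.hWord (D.simple i) (-1 : F)))⁻¹ := by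
        rw [eq_inv_iff_mul_eq_one]
        apply Units.ext
        rw [Units.val_mul, Units.val_mul, wordGL_val, hs, Units.val_one]
        show D.nMat F (D.simple i) 1 * D.nMat F (D.simple i) 1 * D.hMat F (D.simple i) (-1) = 1
        rw [hMat_eq_nMat_mul, Matrix.mul_assoc,
          ← Matrix.mul_assoc (D.nMat F (D.simple i) 1) (D.nMat F (D.simple i) (-1)),
          nMat_mul_neg D hD _ hp, Matrix.one_mul, nMat_mul_neg D hD _ hp]
      set h1 := wordGL D hD (D.hWord (D.simple i) (-a⁻¹)) with h1def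
      set h2 := wordGL D hD (D.hWord (D.simple i) (-1 : F)) with h2def
      have hh1 : h1 ∈ D.diagonalSubgroup F := hGL_mem D hD _ hp _ (neg_ne_zero.mpr hainv)
      have hh2 : h2 ∈ D.diagonalSubgroup F := hGL_mem D hD _ hp _ (neg_ne_zero.mpr one_ne_zero)
      refine ⟨xGL D hD (D.simple i) a⁻¹ * h1 * h2⁻¹, ?_,
        xGL D hD (D.neg (σ (D.simple i))) (c' * -a⁻¹), ?_, ?_⟩
      · exact mul_mem (mul_mem (pos_le_borel D (xGL_pos_mem D hD _ hSpos _))
          (diag_le_borel D hh1)) (inv_mem (diag_le_borel D hh2))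
      · exact pos_le_borel D (xGL_pos_mem D hD _ hq'pos _)
      · have e5 := xGL_neg_eq D hD (D.simple i) hp a ha
        rw [e3] at e5
        calc s * xGL D hD (D.simple i) t₀ * n
            = xGL D hD (D.neg (D.simple i)) a * s * n := by rw [e1]
          _ = xGL D hD (D.simple i) a⁻¹ * h1 * s * (xGL D hD (D.simple i) a⁻¹ * s) * n := by
              rw [e5]; group
          _ = xGL D hD (D.simple i) a⁻¹ * h1 * (s * s) *
                (xGL D hD (D.neg (D.simple i)) (-a⁻¹) * n) := by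
              rw [← e2]; group
          _ = xGL D hD (D.simple i) a⁻¹ * h1 * h2⁻¹ * n *
                xGL D hD (D.neg (σ (D.simple i))) (c' * -a⁻¹) := by
              rw [e4, hx' (-a⁻¹)]; group

end Cfsg.Agent.Lib.Helper5.ChevTits
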