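import Mathlib
import Cfsg.Agent.Lib.Helper5.ChevTitsF

/-!
# The (B, N)-pair axioms in `GL` (helper5)
-/

set_option autoImplicit false
set_option linter.style.haveILetI false
set_option linter.unusedSectionVars false

namespace Cfsg.Agent.Lib.Helper5.ChevTits

open Cfsg.Lie Cfsg.Agent.Lib.Helper5.ChevSym Cfsg.Agent.Lib.Helper5.ChevBN
  Cfsg.Agent.Lib.Helper5.ChevGen

variable {F : Type*} [Field F]

theorem conj_inv_mem_diagonal (D : ChevalleyDatum)
    (hD : D ∈ [chevG2, chevB2, chevD4, chevF4, chevE6, chevE7, chevE8]) (n h : GL D.Idx F)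
    (hn : n ∈ D.monomialSubgroup F) (hh : h ∈ D.diagonalSubgroup F) :
    n⁻¹ * h * n ∈ D.diagonalSubgroup F := by
  have h1 := monomial_le_normalizer_diagonal D hD (inv_mem hn)
  rw [Subgroup.mem_normalizer_iff] at h1
  have := (h1 h).mp hh
  rwa [inv_inv] at this

theorem conj_mem_diagonal' (D : ChevalleyDatum)
    (hD : D ∈ [chevG2, chevB2, chevD4, chevF4, chevE6, chevE7, chevE8]) (n h : GL D.Idx F)
    (hn : n ∈ D.monomialSubgroup F) (hh : h ∈ D.diagonalSubgroup F) :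
    n * h * n⁻¹ ∈ D.diagonalSubgroup F := by
  have h1 := monomial_le_normalizer_diagonal D hD hn
  rw [Subgroup.mem_normalizer_iff] at h1
  exact (h1 h).mp hh

/-- `s B n ⊆ B s n B ∪ B n B` -/
theorem mul_mem_union_GL (D : ChevalleyDatum) (H : Hyp D F) (hdec : Decomp D F) (i : ℕ)
    (hi : i < D.rank) (s : GL D.Idx F)
    (hs : (s : Matrix D.Idx D.Idx F) = D.nMat F (D.simple i) 1) (n : GL D.Idx F)
    (hn : n ∈ D.monomialSubgroup F) (b : GL D.Idx F) (hb : b ∈ D.borelSubgroup F) :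
    (∃ b₁ ∈ D.borelSubgroup F, ∃ b₂ ∈ D.borelSubgroup F, s * b * n = b₁ * (s * n) * b₂) ∨
    (∃ b₁ ∈ D.borelSubgroup F, ∃ b₂ ∈ D.borelSubgroup F, s * b * n = b₁ * n * b₂) := by
  have hD := H.mem
  obtain ⟨u, hu, h, hh, rfl⟩ := (mem_borel D hD b).mp hb
  obtain ⟨u', hu', t₀, x, hx, rfl⟩ := hdec i hi u hu
  have hxe : x = xGL D hD (D.simple i) t₀ := Units.ext hx
  have hb₀ : s * u' * s⁻¹ ∈ D.borelSubgroup F := pos_le_borel D (conj_Up_mem D H i hi s hs u' hu')
  have hh' : n⁻¹ * h * n ∈ D.borelSubgroup F :=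
    diag_le_borel D (conj_inv_mem_diagonal D hD n h hn hh)
  have e0 : s * (u' * x * h) * n = (s * u' * s⁻¹) * (s * x * n) * (n⁻¹ * h * n) := by group
  rw [e0, hxe]
  rcases s_x_n D H i hi s hs n hn t₀ with ⟨b₂, hb₂, e⟩ | ⟨b₁, hb₁, b₂, hb₂, e⟩
  · left
    refine ⟨s * u' * s⁻¹, hb₀, b₂ * (n⁻¹ * h * n), mul_mem hb₂ hh', ?_⟩
    rw [e]; group
  · right
    refine ⟨s * u' * s⁻¹ * b₁, mul_mem hb₀ hb₁, b₂ * (n⁻¹ * h * n), mul_mem hb₂ hh', ?_⟩
    rw [e]; group

/-- `n_p² ∈ H` -/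
theorem s_sq_mem (D : ChevalleyDatum) (H : Hyp D F) (i : ℕ) (hi : i < D.rank) (s : GL D.Idx F)
    (hs : (s : Matrix D.Idx D.Idx F) = D.nMat F (D.simple i) 1) :
    s * s ∈ D.diagonalSubgroup F := by
  have hD := H.mem
  have hp : D.simple i < D.nroots := (H.simple i hi).2.2.1.1
  have e4 : s * s = (wordGL D hD (D.hWord (D.simple i) (-1 : F)))⁻¹ := by
    rw [eq_inv_iff_mul_eq_one]
    apply Units.ext
    rw [Units.val_mul, Units.val_mul, wordGL_val, hs, Units.val_one]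
    show D.nMat F (D.simple i) 1 * D.nMat F (D.simple i) 1 * D.hMat F (D.simple i) (-1) = 1
    rw [hMat_eq_nMat_mul, Matrix.mul_assoc,
      ← Matrix.mul_assoc (D.nMat F (D.simple i) 1) (D.nMat F (D.simple i) (-1)),
      nMat_mul_neg D hD _ hp, Matrix.one_mul, nMat_mul_neg D hD _ hp]
  rw [e4]
  exact inv_mem (hGL_mem D hD _ hp _ (neg_ne_zero.mpr one_ne_zero))

theorem simple_mem_monomial (D : ChevalleyDatum) (H : Hyp D F) (i : ℕ) (hi : i < D.rank)
    (s : GL D.Idx F) (hs : (s : Matrix D.Idx D.Idx F) = D.nMat F (D.simple i) 1) :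
    s ∈ D.monomialSubgroup F := by
  unfold ChevalleyDatum.monomialSubgroup
  exact Subgroup.mem_sup_right
    (Subgroup.subset_closure ⟨D.simple i, (H.simple i hi).2.2.1.1, hs⟩)

theorem borel_inf_monomial' (D : ChevalleyDatum)
    (hD : D ∈ [chevG2, chevB2, chevD4, chevF4, chevE6, chevE7, chevE8]) :
    D.borelSubgroup F ⊓ D.monomialSubgroup F = D.diagonalSubgroup F :=
  borel_inf_monomial D hD (fun r hr => nShapeB_of_mem D hD r hr)

/-- distinct fundamental reflections are distinct modulo `H` -/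
theorem simple_inj (D : ChevalleyDatum) (H : Hyp D F) (i j : ℕ) (hi : i < D.rank)
    (hj : j < D.rank) (s s' : GL D.Idx F)
    (hs : (s : Matrix D.Idx D.Idx F) = D.nMat F (D.simple i) 1)
    (hs' : (s' : Matrix D.Idx D.Idx F) = D.nMat F (D.simple j) 1)
    (hB : s⁻¹ * s' ∈ D.borelSubgroup F) : i = j := by
  have hD := H.mem
  by_contra hij
  have hN : s⁻¹ * s' ∈ D.monomialSubgroup F :=
    mul_mem (inv_mem (simple_mem_monomial D H i hi s hs)) (simple_mem_monomial D H j hj s' hs')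
  have hH : s⁻¹ * s' ∈ D.diagonalSubgroup F := by
    rw [← borel_inf_monomial' D hD]; exact ⟨hB, hN⟩
  obtain ⟨c, hc⟩ := mem_diagonalSubgroup D hD _ hH
  have e : (s' : Matrix D.Idx D.Idx F) = (s : Matrix D.Idx D.Idx F) * D.charDiag F (chiC D c) := by
    rw [← hc, ← Units.val_mul, mul_inv_cancel_left]
  obtain ⟨hSj1, -, hSjpos, hSjneg, -, -⟩ := H.simple j hj
  obtain ⟨-, -, -, -, -, hSi⟩ := H.simple i hi
  have hNi := nSimpleAll_of_mem D hD i hi
  have hNj := nSimpleAll_of_mem D hD j hj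
  have e1 := congrFun (congrFun e (Sum.inr ⟨D.neg (D.simple j), hSjneg.1⟩))
    (Sum.inr ⟨D.simple j, hSjpos.1⟩)
  rw [hs, hs', nSimple_apply_inr_inr D j hj hNj] at e1
  unfold ChevalleyDatum.charDiag at e1
  rw [Matrix.mul_diagonal, nSimple_apply_inr_inr D i hi hNi] at e1
  simp only [] at e1
  rw [if_pos hSj1.symm, if_neg (fun h => (hSi j hj hij).1 h.symm), zero_mul] at e1
  obtain ⟨-, -, h3, -, -, -⟩ := hNj
  rw [h3] at e1
  push_cast at e1
  exact one_ne_zero (neg_eq_zero.mp e1)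

/-- `n_p B n_p ≠ B` -/
theorem conj_ne_GL (D : ChevalleyDatum) (H : Hyp D F) (i : ℕ) (hi : i < D.rank) (s : GL D.Idx F)
    (hs : (s : Matrix D.Idx D.Idx F) = D.nMat F (D.simple i) 1) :
    s * xGL D H.mem (D.simple i) 1 * s ∉ D.borelSubgroup F := by
  have hD := H.mem
  intro hmem
  obtain ⟨hS1, -, hSpos, hSneg, -, -⟩ := H.simple i hi
  have hp : D.simple i < D.nroots := hSpos.1
  obtain ⟨he1, -⟩ := etaOf_simple D H i hi
  have e1 := s_mul_xGL D H i hi s hs _ hp (1 : F)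
  rw [hS1, he1, mul_one] at e1
  rw [e1, mul_assoc] at hmem
  have hss : s * s ∈ D.borelSubgroup F := diag_le_borel D (s_sq_mem D H i hi s hs)
  have hx : xGL D hD (D.neg (D.simple i)) (-1 : F) ∈ D.borelSubgroup F := by
    have := mul_mem hmem (inv_mem hss)
    rwa [mul_inv_cancel_right] at this
  have hV : xGL D hD (D.neg (D.simple i)) (-1 : F) ∈ D.negUnipotent F :=
    Subgroup.subset_closure ⟨_, _, hSneg, xGL_val D hD _ _⟩
  have h1 : xGL D hD (D.neg (D.simple i)) (-1 : F) ∈ D.borelSubgroup F ⊓ D.negUnipotent F :=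
    ⟨hx, hV⟩
  rw [borel_inf_neg D hD, Subgroup.mem_bot] at h1
  have h2 : D.x F (D.neg (D.simple i)) (-1 : F) = 1 := by
    rw [← xGL_val D hD, h1, Units.val_one]
  have h3 := (Cfsg.Agent.S1024.result D hD _ hSneg.1 (-1 : F)).mp h2
  exact one_ne_zero (neg_eq_zero.mp h3)

end Cfsg.Agent.Lib.Helper5.ChevTits
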