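import Mathlib
import Cfsg.Agent.Lib.Helper5.ChevTitsG
import Cfsg.Prelude.Def_LieExceptional

/-!
# The (B, N)-pair of a Chevalley group (helper5)
-/

set_option autoImplicit false
set_option linter.style.haveILetI false
set_option linter.unusedSectionVars false

namespace Cfsg.Agent.Lib.Helper5.ChevTits

open Cfsg.Lie Cfsg.Agent.Lib.Helper5.ChevSym Cfsg.Agent.Lib.Helper5.ChevBN
  Cfsg.Agent.Lib.Helper5.ChevGen

variable {F : Type*} [Field F]

/-- the set of distinguished generators, in the Chevalley group -/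
def simpleSet (D : ChevalleyDatum) (F : Type*) [Field F] : Set ↥(D.group F) :=
  {n : ↥(D.group F) | ∃ i < D.rank,
    ((n : GL D.Idx F) : Matrix D.Idx D.Idx F) = D.nMat F (D.simple i) 1}

theorem closure_simple_lift (D : ChevalleyDatum) (H : Hyp D F) (g : GL D.Idx F)
    (hg : g ∈ Subgroup.closure {g : GL D.Idx F | ∃ i : ℕ, i < D.rank ∧
      (g : Matrix D.Idx D.Idx F) = D.nMat F (D.simple i) 1}) :
    ∃ hG : g ∈ D.group F, (⟨g, hG⟩ : ↥(D.group F)) ∈ Subgroup.closure (simpleSet D F) := by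
  induction hg using Subgroup.closure_induction with
  | mem x hx =>
    obtain ⟨i, hi, hx⟩ := hx
    have hG : x ∈ D.group F := mem_group_of_word D H.mem x (D.nWord (D.simple i) 1) hx
    exact ⟨hG, Subgroup.subset_closure ⟨i, hi, hx⟩⟩
  | one => exact ⟨one_mem _, one_mem _⟩
  | mul a b _ _ ha hb =>
    obtain ⟨ha1, ha2⟩ := ha
    obtain ⟨hb1, hb2⟩ := hb
    exact ⟨mul_mem ha1 hb1, mul_mem ha2 hb2⟩
  | inv a _ ha =>
    obtain ⟨ha1, ha2⟩ := ha
    exact ⟨inv_mem ha1, inv_mem ha2⟩

/-- the (B, N)-pair of a Chevalley group -/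
def bnPair (D : ChevalleyDatum) (H : Hyp D F) (hdec : Decomp D F) :
    Cfsg.BNPair ↥(D.group F) where
  B := (D.borelSubgroup F).subgroupOf (D.group F)
  N := (D.monomialSubgroup F).subgroupOf (D.group F)
  S := simpleSet D F
  sup_eq_top := by
    rw [← Subgroup.subgroupOf_sup (borel_le_group D H.mem) (monomial_le_group D H.mem),
      Subgroup.subgroupOf_eq_top]
    exact group_le_borel_sup_monomial D H.mem
  conj_mem := by
    intro n hn t ht
    obtain ⟨htB, htN⟩ := Subgroup.mem_inf.mp ht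
    rw [Subgroup.mem_subgroupOf] at hn htB htN ⊢
    have htH : (t : GL D.Idx F) ∈ D.diagonalSubgroup F := by
      rw [← borel_inf_monomial' D H.mem]; exact ⟨htB, htN⟩
    exact diag_le_borel D (conj_mem_diagonal' D H.mem _ _ hn htH)
  subset := by
    rintro s ⟨i, hi, hs⟩
    exact Subgroup.mem_subgroupOf.mpr (simple_mem_monomial D H i hi _ hs)
  sq_mem := by
    rintro s ⟨i, hi, hs⟩
    exact Subgroup.mem_subgroupOf.mpr (diag_le_borel D (s_sq_mem D H i hi _ hs))
  inj := by
    rintro s ⟨i, hi, hs⟩ s' ⟨j, hj, hs'⟩ hB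
    rw [Subgroup.mem_subgroupOf] at hB
    have hij := simple_inj D H i j hi hj _ _ hs hs' hB
    subst hij
    exact Subtype.ext (Units.ext (hs.trans hs'.symm))
  closure_sup := by
    apply le_antisymm
    · refine sup_le ?_ inf_le_right
      rw [Subgroup.closure_le]
      rintro s ⟨i, hi, hs⟩
      exact Subgroup.mem_subgroupOf.mpr (simple_mem_monomial D H i hi _ hs)
    · intro n hn
      rw [Subgroup.mem_subgroupOf, monomial_eq_N0 D H] at hn
      have hmono : D.diagonalSubgroup F ≤ D.monomialSubgroup F := by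
        unfold ChevalleyDatum.monomialSubgroup; exact le_sup_left
      have hle : N0 D F ≤ (Subgroup.closure (simpleSet D F) ⊔
          ((D.borelSubgroup F).subgroupOf (D.group F) ⊓
            (D.monomialSubgroup F).subgroupOf (D.group F))).map (D.group F).subtype := by
        unfold N0
        refine sup_le ?_ ?_
        · intro h hh
          have hhG : h ∈ D.group F := diagonal_le_group D H.mem hh
          have h1 : (⟨h, hhG⟩ : ↥(D.group F)) ∈
              (D.borelSubgroup F).subgroupOf (D.group F) ⊓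
                (D.monomialSubgroup F).subgroupOf (D.group F) :=
            ⟨Subgroup.mem_subgroupOf.mpr (diag_le_borel D hh),
              Subgroup.mem_subgroupOf.mpr (hmono hh)⟩
          exact Subgroup.mem_map.mpr ⟨⟨h, hhG⟩, Subgroup.mem_sup_right h1, rfl⟩
        · intro c hc
          obtain ⟨hcG, hc'⟩ := closure_simple_lift D H c hc
          exact Subgroup.mem_map.mpr ⟨⟨c, hcG⟩, Subgroup.mem_sup_left hc', rfl⟩
      obtain ⟨y, hy, e⟩ := Subgroup.mem_map.mp (hle hn)
      have : y = n := Subtype.ext e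
      rw [← this]; exact hy
  mul_mem_union := by
    rintro s ⟨i, hi, hs⟩ n hn b hb
    rw [Subgroup.mem_subgroupOf] at hn hb
    have hBG := borel_le_group D H.mem (F := F)
    rcases mul_mem_union_GL D H hdec i hi _ hs _ hn _ hb with
      ⟨b₁, hb₁, b₂, hb₂, e⟩ | ⟨b₁, hb₁, b₂, hb₂, e⟩
    · left
      rw [DoubleCoset.mem_doubleCoset]
      refine ⟨⟨b₁, hBG hb₁⟩, Subgroup.mem_subgroupOf.mpr hb₁, ⟨b₂, hBG hb₂⟩,
        Subgroup.mem_subgroupOf.mpr hb₂, ?_⟩
      exact Subtype.ext e
    · right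
      rw [DoubleCoset.mem_doubleCoset]
      refine ⟨⟨b₁, hBG hb₁⟩, Subgroup.mem_subgroupOf.mpr hb₁, ⟨b₂, hBG hb₂⟩,
        Subgroup.mem_subgroupOf.mpr hb₂, ?_⟩
      exact Subtype.ext e
  conj_ne := by
    rintro s ⟨i, hi, hs⟩ heq
    have hpos : D.IsPosRoot (D.simple i) := (H.simple i hi).2.2.1
    have hxB : xGL D H.mem (D.simple i) (1 : F) ∈ D.borelSubgroup F :=
      pos_le_borel D (xGL_pos_mem D H.mem _ hpos _)
    have hxG : xGL D H.mem (D.simple i) (1 : F) ∈ D.group F := borel_le_group D H.mem hxB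
    have hmem : s * (⟨_, hxG⟩ : ↥(D.group F)) * s ∈
        (fun b : ↥(D.group F) => s * b * s) ''
          (((D.borelSubgroup F).subgroupOf (D.group F) : Subgroup ↥(D.group F)) :
            Set ↥(D.group F)) :=
      ⟨⟨_, hxG⟩, Subgroup.mem_subgroupOf.mpr hxB, rfl⟩
    rw [heq] at hmem
    exact conj_ne_GL D H i hi _ hs (Subgroup.mem_subgroupOf.mp hmem)

end Cfsg.Agent.Lib.Helper5.ChevTits
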