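import Mathlib
import Cfsg.Agent.Lib.Helper5.ChevTitsH

/-!
# The decomposition `U = U_p X_p` from the normaliser statement (helper5)
-/

set_option autoImplicit false
set_option linter.style.haveILetI false
set_option linter.unusedSectionVars false

namespace Cfsg.Agent.Lib.Helper5.ChevTits

open Cfsg.Lie Cfsg.Agent.Lib.Helper5.ChevSym Cfsg.Agent.Lib.Helper5.ChevBN
  Cfsg.Agent.Lib.Helper5.ChevGen

variable {F : Type*} [Field F]

/-- the elements of a root subgroup -/
theorem rootSubgroup_mem (D : ChevalleyDatum)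
    (hD : D ∈ [chevG2, chevB2, chevD4, chevF4, chevE6, chevE7, chevE8]) (r : ℕ) (hr : r < D.nroots)
    (g : GL D.Idx F) (hg : g ∈ D.rootSubgroup F r) :
    ∃ t : F, (g : Matrix D.Idx D.Idx F) = D.x F r t := by
  unfold ChevalleyDatum.rootSubgroup at hg
  induction hg using Subgroup.closure_induction with
  | mem x hx => exact hx
  | one => exact ⟨0, by rw [Units.val_one]; exact ((Cfsg.Agent.S1024.result D hD r hr 0).mpr rfl).symm⟩
  | mul a b _ _ ha hb =>
    obtain ⟨t₁, h1⟩ := ha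
    obtain ⟨t₂, h2⟩ := hb
    exact ⟨t₁ + t₂, by rw [Units.val_mul, h1, h2]; exact Cfsg.Agent.S1023.result D hD r hr t₁ t₂⟩
  | inv a _ ha =>
    obtain ⟨t, h1⟩ := ha
    refine ⟨-t, ?_⟩
    have : a = xGL D hD r t := Units.ext h1
    rw [this, xGL_inv D hD r hr, xGL_val]

/-- the decomposition `U = U_p X_p`, from the statement that `X_p` normalises `U_p` and
`U_p ⊔ X_p = U` -/
theorem decomp_of (D : ChevalleyDatum)
    (hD : D ∈ [chevG2, chevB2, chevD4, chevF4, chevE6, chevE7, chevE8]) (hS : SimpleNe D)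
    (h : ∀ i, i < D.rank →
      D.rootSubgroup F (D.simple i) ⊔ D.rootSubgroup F (D.neg (D.simple i)) ≤
        Subgroup.normalizer (Subgroup.closure {g : GL D.Idx F | ∃ (s : ℕ) (t : F),
          D.IsPosRoot s ∧ s ≠ D.simple i ∧
          (g : Matrix D.Idx D.Idx F) = D.x F s t} : Set (GL D.Idx F)) ∧
      Subgroup.closure {g : GL D.Idx F | ∃ (s : ℕ) (t : F), D.IsPosRoot s ∧ s ≠ D.simple i ∧
          (g : Matrix D.Idx D.Idx F) = D.x F s t} ⊔ D.rootSubgroup F (D.simple i) =
        D.posUnipotent F) : Decomp D F := by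
  intro i hi u hu
  obtain ⟨h1, h2⟩ := h i hi
  have hle : D.rootSubgroup F (D.simple i) ≤ Subgroup.normalizer (Up D F i : Set (GL D.Idx F)) :=
    le_trans le_sup_left h1
  have hcoe := Subgroup.coe_mul_of_right_le_normalizer_left (Up D F i)
    (D.rootSubgroup F (D.simple i)) hle
  have hu' : u ∈ ((Up D F i ⊔ D.rootSubgroup F (D.simple i) : Subgroup (GL D.Idx F)) :
      Set (GL D.Idx F)) := by
    show u ∈ Up D F i ⊔ D.rootSubgroup F (D.simple i)
    unfold Up
    rw [h2]; exact hu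
  rw [hcoe, Set.mem_mul] at hu'
  obtain ⟨u', hu'1, x, hx, e⟩ := hu'
  obtain ⟨t, ht⟩ := rootSubgroup_mem D hD _ (hS i hi).2.2.1.1 x hx
  exact ⟨u', hu'1, t, x, ht, e.symm⟩

end Cfsg.Agent.Lib.Helper5.ChevTits
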