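import Mathlib
import Cfsg.Agent.Lib.Helper5.ChevTitsI

/-!
# `N_G(U_J) = P_J` for the Chevalley groups (helper5)

`N_G(U_J)` contains `B`, hence is generated by `B` and some of the `n_{p_k}`; if `k ∉ J` then
`n_{p_k}` moves `X_{p_k} ≤ U_J` to `X_{-p_k}`, which meets `B` trivially.
-/

set_option autoImplicit false
set_option linter.style.haveILetI false
set_option linter.unusedSectionVars false

namespace Cfsg.Agent.Lib.Helper5.ChevTits

open Cfsg.Lie Cfsg.Agent.Lib.Helper5.ChevSym Cfsg.Agent.Lib.Helper5.ChevBN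
  Cfsg.Agent.Lib.Helper5.ChevGen

/-- the coroot of the `k`-th fundamental root involves the `k`-th fundamental coroot -/
def SimpleCoroot (D : ChevalleyDatum) : Prop :=
  ∀ k, k < D.rank → (D.coroot.getD (D.simple k) #[]).getD k 0 ≠ 0

instance (D : ChevalleyDatum) : Decidable (SimpleCoroot D) := by
  unfold SimpleCoroot
  infer_instance

set_option maxRecDepth 100000 in
theorem simpleCoroot_G2 : SimpleCoroot chevG2 := by decide +kernel
set_option maxRecDepth 100000 in
theorem simpleCoroot_B2 : SimpleCoroot chevB2 := by decide +kernel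
set_option maxRecDepth 100000 in
theorem simpleCoroot_D4 : SimpleCoroot chevD4 := by decide +kernel
set_option maxRecDepth 100000 in
theorem simpleCoroot_F4 : SimpleCoroot chevF4 := by decide +kernel
set_option maxRecDepth 100000 in
theorem simpleCoroot_E6 : SimpleCoroot chevE6 := by decide +kernel
set_option maxRecDepth 100000 in
theorem simpleCoroot_E7 : SimpleCoroot chevE7 := by decide +kernel
set_option maxRecDepth 100000 in
theorem simpleCoroot_E8 : SimpleCoroot chevE8 := by decide +kernel

theorem simpleCoroot_of_mem (D : ChevalleyDatum)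
    (hD : D ∈ [chevG2, chevB2, chevD4, chevF4, chevE6, chevE7, chevE8]) : SimpleCoroot D := by
  simp only [List.mem_cons, List.not_mem_nil, or_false] at hD
  rcases hD with rfl | rfl | rfl | rfl | rfl | rfl | rfl
  · exact simpleCoroot_G2
  · exact simpleCoroot_B2
  · exact simpleCoroot_D4
  · exact simpleCoroot_F4
  · exact simpleCoroot_E6
  · exact simpleCoroot_E7
  · exact simpleCoroot_E8

variable {F : Type*} [Field F]

theorem unipotentRadical_le_pos (D : ChevalleyDatum) (J : Set ℕ) :
    D.unipotentRadical F J ≤ D.posUnipotent F := by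
  unfold ChevalleyDatum.unipotentRadical ChevalleyDatum.posUnipotent
  apply Subgroup.closure_mono
  rintro g ⟨r, t, hr, -, hg⟩
  exact ⟨r, t, hr, hg⟩

theorem parabolic_le_group (D : ChevalleyDatum)
    (hD : D ∈ [chevG2, chevB2, chevD4, chevF4, chevE6, chevE7, chevE8]) (J : Set ℕ) :
    D.parabolicSubgroup F J ≤ D.group F := by
  unfold ChevalleyDatum.parabolicSubgroup
  refine sup_le (borel_le_group D hD) ?_
  rw [Subgroup.closure_le]
  rintro g ⟨j, _, _, hg⟩
  exact mem_group_of_word D hD g (D.nWord (D.simple j) 1) hg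

/-- if `n_{p_k}` normalises `U_J` then `k ∈ J` -/
theorem mem_of_normalizes (D : ChevalleyDatum) (H : Hyp D F) (hSC : SimpleCoroot D) (J : Set ℕ)
    (k : ℕ) (hk : k < D.rank) (s : GL D.Idx F)
    (hs : (s : Matrix D.Idx D.Idx F) = D.nMat F (D.simple k) 1)
    (hsN : s ∈ Subgroup.normalizer (D.unipotentRadical F J : Set (GL D.Idx F))) : k ∈ J := by
  have hD := H.mem
  by_contra hkJ
  obtain ⟨hS1, -, hSpos, hSneg, -, -⟩ := H.simple k hk
  have hp : D.simple k < D.nroots := hSpos.1
  have hx : xGL D hD (D.simple k) (1 : F) ∈ D.unipotentRadical F J := by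
    refine Subgroup.subset_closure ⟨D.simple k, 1, hSpos, ?_, xGL_val D hD _ _⟩
    rintro ⟨-, h⟩
    exact hSC k hk (h k hk hkJ)
  have hconj : s * xGL D hD (D.simple k) (1 : F) * s⁻¹ ∈ D.unipotentRadical F J :=
    (Subgroup.mem_normalizer_iff.mp hsN _).mp hx
  obtain ⟨he1, -⟩ := etaOf_simple D H k hk
  have e1 := s_mul_xGL D H k hk s hs _ hp (1 : F)
  rw [hS1, he1, mul_one] at e1
  rw [e1, mul_inv_cancel_right] at hconj
  have hB : xGL D hD (D.neg (D.simple k)) (-1 : F) ∈ D.borelSubgroup F :=
    pos_le_borel D (unipotentRadical_le_pos D J hconj)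
  have hV : xGL D hD (D.neg (D.simple k)) (-1 : F) ∈ D.negUnipotent F :=
    Subgroup.subset_closure ⟨_, _, hSneg, xGL_val D hD _ _⟩
  have h1 : xGL D hD (D.neg (D.simple k)) (-1 : F) ∈ D.borelSubgroup F ⊓ D.negUnipotent F :=
    ⟨hB, hV⟩
  rw [borel_inf_neg D hD, Subgroup.mem_bot] at h1
  have h2 : D.x F (D.neg (D.simple k)) (-1 : F) = 1 := by
    rw [← xGL_val D hD, h1, Units.val_one]
  have h3 := (Cfsg.Agent.S1024.result D hD _ hSneg.1 (-1 : F)).mp h2
  exact one_ne_zero (neg_eq_zero.mp h3)

/-- `N_G(U_J) = P_J` -/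
theorem normalizer_unipotentRadical (D : ChevalleyDatum) (H : Hyp D F) (hdec : Decomp D F)
    (hSC : SimpleCoroot D) (J : Set ℕ)
    (hpar : ∀ M : Subgroup ↥(D.group F), (bnPair D H hdec).B ≤ M →
      ∃ K ⊆ (bnPair D H hdec).S, M = (bnPair D H hdec).parabolic K)
    (hnormJ : D.parabolicSubgroup F J ≤
      Subgroup.normalizer (D.unipotentRadical F J : Set (GL D.Idx F))) :
    Subgroup.normalizer (D.unipotentRadical F J : Set (GL D.Idx F)) ⊓ D.group F =
      D.parabolicSubgroup F J := by
  have hD := H.mem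
  apply le_antisymm
  · intro g hg
    have hgG : g ∈ D.group F := hg.2
    set M : Subgroup ↥(D.group F) :=
      (Subgroup.normalizer (D.unipotentRadical F J : Set (GL D.Idx F)) ⊓ D.group F).subgroupOf
        (D.group F) with hMdef
    have hBP : D.borelSubgroup F ≤ D.parabolicSubgroup F J := by
      unfold ChevalleyDatum.parabolicSubgroup; exact le_sup_left
    have hBM : (bnPair D H hdec).B ≤ M := by
      intro b hb
      have hb' : (b : GL D.Idx F) ∈ D.borelSubgroup F := Subgroup.mem_subgroupOf.mp hb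
      exact Subgroup.mem_subgroupOf.mpr ⟨hnormJ (hBP hb'), b.2⟩
    obtain ⟨K, hKS, hMK⟩ := hpar M hBM
    have hle : M ≤ (D.parabolicSubgroup F J).subgroupOf (D.group F) := by
      rw [hMK]
      unfold Cfsg.BNPair.parabolic
      refine sup_le ?_ ?_
      · intro b hb
        have hb' : (b : GL D.Idx F) ∈ D.borelSubgroup F := Subgroup.mem_subgroupOf.mp hb
        exact Subgroup.mem_subgroupOf.mpr (hBP hb')
      · rw [Subgroup.closure_le]
        intro s hsK
        obtain ⟨k, hk, hs⟩ := hKS hsK
        have hsM : s ∈ M := by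
          rw [hMK]
          exact Subgroup.mem_sup_right (Subgroup.subset_closure hsK)
        have hsN : (s : GL D.Idx F) ∈
            Subgroup.normalizer (D.unipotentRadical F J : Set (GL D.Idx F)) :=
          (Subgroup.mem_subgroupOf.mp hsM).1
        have hkJ := mem_of_normalizes D H hSC J k hk _ hs hsN
        apply Subgroup.mem_subgroupOf.mpr
        unfold ChevalleyDatum.parabolicSubgroup
        exact Subgroup.mem_sup_right (Subgroup.subset_closure ⟨k, hkJ, hk, hs⟩)
    have hgM : (⟨g, hgG⟩ : ↥(D.group F)) ∈ M := Subgroup.mem_subgroupOf.mpr hg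
    exact Subgroup.mem_subgroupOf.mp (hle hgM)
  · exact le_inf hnormJ (parabolic_le_group D hD J)

end Cfsg.Agent.Lib.Helper5.ChevTits
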