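import Mathlib
import Cfsg.Agent.Lib.Helper5.ChevTitsI

/-!
# Elements of `H` conjugate in the Chevalley group are conjugate in `N` (helper5)

Bruhat decomposition `g = u n u'`; comparing `g h₁ = h₂ g` gives `a⁻¹ v a = t w` with `v, w ∈ U`,
`t ∈ H`; the left side is unipotent, so the diagonal part `t` of the right side is trivial.
-/

set_option autoImplicit false
set_option linter.style.haveILetI false
set_option linter.unusedSectionVars false

namespace Cfsg.Agent.Lib.Helper5.ChevTits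

open Cfsg.Lie Cfsg.Agent.Lib.Helper5.ChevSym Cfsg.Agent.Lib.Helper5.ChevBN
  Cfsg.Agent.Lib.Helper5.ChevGen Cfsg.Agent.Lib.Helper5.ChevGrad

section general

variable {R : Type*} [CommRing R] {m : Type*} [Fintype m] [DecidableEq m] {gr : m → ℕ}

theorem lev_diagonal (d : m → R) : Lev gr 0 (Matrix.diagonal d) := by
  intro i j h
  by_cases hij : i = j
  · rw [hij]; omega
  · exact absurd (Matrix.diagonal_apply_ne _ hij) h

/-- powers of `diagonal + strictly triangular` -/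
theorem diag_add_lev_pow (d : m → R) (L : Matrix m m R) (hL : Lev gr 1 L) (k : ℕ) :
    ∃ Lk : Matrix m m R, Lev gr 1 Lk ∧
      (Matrix.diagonal d + L) ^ k = Matrix.diagonal (fun i => d i ^ k) + Lk := by
  induction k with
  | zero =>
    refine ⟨0, Lev.zero 1, ?_⟩
    simp only [pow_zero, add_zero]
    exact Matrix.diagonal_one.symm
  | succ k ih =>
    obtain ⟨Lk, hLk, e⟩ := ih
    refine ⟨Matrix.diagonal (fun i => d i ^ k) * L + Lk * Matrix.diagonal d + Lk * L, ?_, ?_⟩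
    · refine Lev.add (Lev.add ?_ ?_) ?_
      · have := Lev.mul (lev_diagonal (gr := gr) (fun i => d i ^ k)) hL
        rwa [Nat.zero_add] at this
      · have := Lev.mul hLk (lev_diagonal (gr := gr) d)
        rwa [Nat.add_zero] at this
      · exact Lev.mono (by omega) (Lev.mul hLk hL)
    · rw [pow_succ, e, add_mul, mul_add, mul_add, Matrix.diagonal_mul_diagonal]
      have : (fun i => d i ^ k * d i) = fun i => d i ^ (k + 1) := by
        funext i; rw [pow_succ]
      rw [this]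
      abel

/-- if `diagonal + strictly triangular` is nilpotent then the diagonal entries are nilpotent -/
theorem diag_pow_eq_zero (d : m → R) (L : Matrix m m R) (hL : Lev gr 1 L) (k : ℕ)
    (h : (Matrix.diagonal d + L) ^ k = 0) (i : m) : d i ^ k = 0 := by
  obtain ⟨Lk, hLk, e⟩ := diag_add_lev_pow d L hL k
  rw [h] at e
  by_contra hne
  have h1 : Lk i i = - d i ^ k := by
    have := congrFun (congrFun e i) i
    rw [Matrix.zero_apply, Matrix.add_apply, Matrix.diagonal_apply_eq] at this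
    exact (neg_eq_of_add_eq_zero_right this.symm).symm
  have h2 : Lk i i ≠ 0 := by
    rw [h1]; exact neg_ne_zero.mpr hne
  have := hLk i i h2
  omega

end general

variable {F : Type*} [Field F]

/-- a unipotent element `t w` of `B = H U` has trivial diagonal part `t` -/
theorem diag_part_eq_one (D : ChevalleyDatum)
    (hD : D ∈ [chevG2, chevB2, chevD4, chevF4, chevE6, chevE7, chevE8]) (t w : GL D.Idx F)
    (ht : t ∈ D.diagonalSubgroup F) (hw : w ∈ D.posUnipotent F) (k : ℕ)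
    (hnil : (((t * w : GL D.Idx F) : Matrix D.Idx D.Idx F) - 1) ^ k = 0) : t = 1 := by
  obtain ⟨c, hc⟩ := mem_diagonalSubgroup D hD t ht
  have hlev : Lev (grD D) 1 ((w : Matrix D.Idx D.Idx F) - 1) :=
    posUnipotent_le_uni D (tabOK_of_mem D hD) hw
  set d : D.Idx → F := Sum.elim (fun _ => (1 : F)) (fun r => ((chiC D c r.val : Fˣ) : F)) with hd
  have htd : (t : Matrix D.Idx D.Idx F) = Matrix.diagonal d := by
    rw [hc]; rfl
  have e : ((t * w : GL D.Idx F) : Matrix D.Idx D.Idx F) - 1 =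
      Matrix.diagonal (fun i => d i - 1) + Matrix.diagonal d * ((w : Matrix D.Idx D.Idx F) - 1) := by
    rw [Units.val_mul, htd, mul_sub, mul_one]
    have : Matrix.diagonal (fun i => d i - 1) = Matrix.diagonal d - 1 := by
      rw [← Matrix.diagonal_one, ← Matrix.diagonal_sub]
    rw [this]
    abel
  rw [e] at hnil
  have hL : Lev (grD D) 1 (Matrix.diagonal d * ((w : Matrix D.Idx D.Idx F) - 1)) := by
    have := Lev.mul (lev_diagonal (gr := grD D) d) hlev
    rwa [Nat.zero_add] at this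
  have hz : ∀ i, d i = 1 := by
    intro i
    have := diag_pow_eq_zero (fun i => d i - 1) _ hL k hnil i
    have h0 : d i - 1 = 0 := by
      by_contra hne
      exact hne (pow_eq_zero_iff (n := k) (by
        rintro rfl
        rw [pow_zero] at this
        exact one_ne_zero this) |>.mp this)
    exact sub_eq_zero.mp h0
  apply Units.ext
  rw [htd, Units.val_one, ← Matrix.diagonal_one]
  congr 1
  funext i
  exact hz i

/-- elements of `H` conjugate in the group are conjugate by an element of `N` -/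
theorem diagonal_conj (D : ChevalleyDatum) (H : Hyp D F) (hdec : Decomp D F)
    (hbruhat : ∀ g : ↥(D.group F), ∃ n ∈ (bnPair D H hdec).N,
      g ∈ DoubleCoset.doubleCoset n ((bnPair D H hdec).B : Set ↥(D.group F)) (bnPair D H hdec).B)
    (h₁ h₂ g : GL D.Idx F) (h1 : h₁ ∈ D.diagonalSubgroup F) (h2 : h₂ ∈ D.diagonalSubgroup F)
    (hg : g ∈ D.group F) (hc : g * h₁ * g⁻¹ = h₂) :
    ∃ n ∈ D.monomialSubgroup F, n * h₁ * n⁻¹ = h₂ := by
  have hD := H.mem
  have hHN : D.diagonalSubgroup F ≤ D.monomialSubgroup F := by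
    unfold ChevalleyDatum.monomialSubgroup; exact le_sup_left
  -- Bruhat decomposition in `GL`
  obtain ⟨n0, hn0, hgC⟩ := hbruhat ⟨g, hg⟩
  rw [DoubleCoset.mem_doubleCoset] at hgC
  obtain ⟨x, hx, y, hy, hxy⟩ := hgC
  have hxB : (x : GL D.Idx F) ∈ D.borelSubgroup F := Subgroup.mem_subgroupOf.mp hx
  have hyB : (y : GL D.Idx F) ∈ D.borelSubgroup F := Subgroup.mem_subgroupOf.mp hy
  have hn0N : (n0 : GL D.Idx F) ∈ D.monomialSubgroup F := Subgroup.mem_subgroupOf.mp hn0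
  have hg' : g = (x : GL D.Idx F) * (n0 : GL D.Idx F) * (y : GL D.Idx F) :=
    congrArg Subtype.val hxy
  obtain ⟨u, hu, t, ht, hut⟩ := (mem_borel D hD _).mp hxB
  obtain ⟨u0, hu0, t0, ht0, hut0⟩ := (mem_borel D hD _).mp (inv_mem hyB)
  -- `g = u n₁ u'`
  set n₁ : GL D.Idx F := t * (n0 : GL D.Idx F) * t0⁻¹ with hn₁
  have hn₁N : n₁ ∈ D.monomialSubgroup F :=
    mul_mem (mul_mem (hHN ht) hn0N) (inv_mem (hHN ht0))
  set u' : GL D.Idx F := u0⁻¹ with hu'
  have hu'U : u' ∈ D.posUnipotent F := inv_mem hu0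
  have hy' : (y : GL D.Idx F) = t0⁻¹ * u0⁻¹ := by
    rw [← mul_inv_rev, hut0, inv_inv]
  have hg'' : g = u * n₁ * u' := by
    rw [hg', ← hut, hy', hn₁, hu']; group
  -- the conjugates
  have hnorm := diagonal_le_normalizer_pos D hD (F := F)
  have hu₁ : h₁⁻¹ * u' * h₁ ∈ D.posUnipotent F := by
    have := (Subgroup.mem_normalizer_iff.mp (hnorm (inv_mem h1)) u').mp hu'U
    rwa [inv_inv] at this
  have hu₂ : h₂ * u * h₂⁻¹ ∈ D.posUnipotent F :=
    (Subgroup.mem_normalizer_iff.mp (hnorm h2) u).mp hu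
  have hcomm : g * h₁ = h₂ * g := by
    rw [← hc]; group
  -- the element `t' = a⁻¹ a'`
  set a : GL D.Idx F := n₁ * h₁ with ha
  have ht' : h₁⁻¹ * (n₁⁻¹ * h₂ * n₁) ∈ D.diagonalSubgroup F :=
    mul_mem (inv_mem h1) (conj_inv_mem_diagonal D hD n₁ h₂ hn₁N h2)
  set v : GL D.Idx F := (h₂ * u * h₂⁻¹)⁻¹ * u with hv
  have hvU : v ∈ D.posUnipotent F := mul_mem (inv_mem hu₂) hu
  set w : GL D.Idx F := u' * (h₁⁻¹ * u' * h₁)⁻¹ with hw
  have hwU : w ∈ D.posUnipotent F := mul_mem hu'U (inv_mem hu₁)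
  have key : a⁻¹ * v * a = h₁⁻¹ * (n₁⁻¹ * h₂ * n₁) * w := by
    have e1 : u * n₁ * u' * h₁ = h₂ * (u * n₁ * u') := by rw [← hg'']; exact hcomm
    have e2 : h₂⁻¹ * u * n₁ = u * n₁ * u' * h₁⁻¹ * u'⁻¹ := by
      have e0 : h₂⁻¹ * (u * n₁ * u') = (u * n₁ * u') * h₁⁻¹ := by
        calc h₂⁻¹ * (u * n₁ * u') = h₂⁻¹ * (u * n₁ * u' * h₁) * h₁⁻¹ := by group
          _ = h₂⁻¹ * (h₂ * (u * n₁ * u')) * h₁⁻¹ := by rw [e1]
          _ = (u * n₁ * u') * h₁⁻¹ := by group
      calc h₂⁻¹ * u * n₁ = h₂⁻¹ * (u * n₁ * u') * u'⁻¹ := by group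
        _ = (u * n₁ * u') * h₁⁻¹ * u'⁻¹ := by rw [e0]
        _ = u * n₁ * u' * h₁⁻¹ * u'⁻¹ := by group
    rw [ha, hv, hw]
    calc (n₁ * h₁)⁻¹ * ((h₂ * u * h₂⁻¹)⁻¹ * u) * (n₁ * h₁)
        = h₁⁻¹ * n₁⁻¹ * h₂ * u⁻¹ * (h₂⁻¹ * u * n₁) * h₁ := by group
      _ = h₁⁻¹ * n₁⁻¹ * h₂ * u⁻¹ * (u * n₁ * u' * h₁⁻¹ * u'⁻¹) * h₁ := by rw [e2]
      _ = h₁⁻¹ * (n₁⁻¹ * h₂ * n₁) * (u' * (h₁⁻¹ * u' * h₁)⁻¹) := by group
  -- unipotency
  have hvpow := posUnipotent_unipotent D (tabOK_of_mem D hD) v hvU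
  have hnil : (((h₁⁻¹ * (n₁⁻¹ * h₂ * n₁) * w : GL D.Idx F) : Matrix D.Idx D.Idx F) - 1) ^
      (D.rank + D.nroots) = 0 := by
    rw [← key]
    have e3 : ((a⁻¹ * v * a : GL D.Idx F) : Matrix D.Idx D.Idx F) - 1 =
        ((a⁻¹ : GL D.Idx F) : Matrix D.Idx D.Idx F) * ((v : Matrix D.Idx D.Idx F) - 1) *
          (a : Matrix D.Idx D.Idx F) := by
      rw [Units.val_mul, Units.val_mul, mul_sub, sub_mul, mul_one]
      congr 1
      rw [← Units.val_mul, inv_mul_cancel, Units.val_one]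
    rw [e3]
    have e4 : ∀ k : ℕ, (((a⁻¹ : GL D.Idx F) : Matrix D.Idx D.Idx F) *
        ((v : Matrix D.Idx D.Idx F) - 1) * (a : Matrix D.Idx D.Idx F)) ^ k =
        ((a⁻¹ : GL D.Idx F) : Matrix D.Idx D.Idx F) * ((v : Matrix D.Idx D.Idx F) - 1) ^ k *
          (a : Matrix D.Idx D.Idx F) := by
      intro k
      induction k with
      | zero =>
        rw [pow_zero, pow_zero, mul_one, ← Units.val_mul, inv_mul_cancel, Units.val_one]
      | succ k ih =>
        rw [pow_succ, ih, pow_succ]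
        have hcancel : (a : Matrix D.Idx D.Idx F) * ((a⁻¹ : GL D.Idx F) : Matrix D.Idx D.Idx F) = 1 := by
          rw [← Units.val_mul, mul_inv_cancel, Units.val_one]
        calc ((a⁻¹ : GL D.Idx F) : Matrix D.Idx D.Idx F) * ((v : Matrix D.Idx D.Idx F) - 1) ^ k *
              (a : Matrix D.Idx D.Idx F) * (((a⁻¹ : GL D.Idx F) : Matrix D.Idx D.Idx F) *
              ((v : Matrix D.Idx D.Idx F) - 1) * (a : Matrix D.Idx D.Idx F))
            = ((a⁻¹ : GL D.Idx F) : Matrix D.Idx D.Idx F) * ((v : Matrix D.Idx D.Idx F) - 1) ^ k *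
              ((a : Matrix D.Idx D.Idx F) * ((a⁻¹ : GL D.Idx F) : Matrix D.Idx D.Idx F)) *
              ((v : Matrix D.Idx D.Idx F) - 1) * (a : Matrix D.Idx D.Idx F) := by
              simp only [mul_assoc]
          _ = _ := by rw [hcancel, mul_one]; simp only [mul_assoc]
    rw [e4, hvpow, mul_zero, zero_mul]
  have ht1 := diag_part_eq_one D hD _ w ht' hwU _ hnil
  refine ⟨n₁, hn₁N, ?_⟩
  have : n₁⁻¹ * h₂ * n₁ = h₁ := by
    have := congrArg (fun z => h₁ * z) ht1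
    simpa [mul_assoc] using this
  rw [← this]; group

end Cfsg.Agent.Lib.Helper5.ChevTits
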