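import Mathlib
import Cfsg.Agent.Lib.Helper5.ChevTitsP
import Cfsg.Agent.Lib.Helper5.ChevTitsQ

/-!
# `U` is a Sylow `p`-subgroup of a Chevalley group in characteristic `p` (helper5)

`N_G(U) = B` (the subgroups containing `B` are the standard parabolics, and no `n_{p_k}` normalises
`U`); a `p`-element of `B = HU` has trivial diagonal part, so lies in `U`; now use the normaliser
condition in a Sylow `p`-subgroup containing `U`.
-/

set_option autoImplicit false
set_option linter.style.haveILetI false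
set_option linter.unusedSectionVars false

namespace Cfsg.Agent.Lib.Helper5.ChevTits

open Cfsg.Lie Cfsg.Agent.Lib.Helper5.ChevSym Cfsg.Agent.Lib.Helper5.ChevBN
  Cfsg.Agent.Lib.Helper5.ChevGen Cfsg.Agent.Lib.Helper5.ChevGrad

/-- a `p`-subgroup containing all `p`-elements of its normaliser is a Sylow `p`-subgroup -/
theorem sylow_of_normalizer_pelements {G : Type*} [Group G] [Finite G] (p : ℕ) [Fact p.Prime]
    (Q : Subgroup G) (hQ : IsPGroup p Q)
    (h : ∀ g ∈ Subgroup.normalizer (Q : Set G), (∃ k : ℕ, g ^ p ^ k = 1) → g ∈ Q) :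
    ∃ P : Sylow p G, (P : Subgroup G) = Q := by
  obtain ⟨P, hP⟩ := hQ.exists_le_sylow
  refine ⟨P, le_antisymm ?_ hP⟩
  by_contra hne
  haveI : Group.IsNilpotent (P : Subgroup G) := P.isPGroup'.isNilpotent
  have hlt : Q.subgroupOf (P : Subgroup G) < ⊤ := by
    rw [lt_top_iff_ne_top, Ne, Subgroup.subgroupOf_eq_top]
    exact hne
  have h2 := normalizerCondition_of_isNilpotent (Q.subgroupOf (P : Subgroup G)) hlt
  obtain ⟨x, hxN, hxQ⟩ := SetLike.exists_of_lt h2
  apply hxQ
  rw [Subgroup.mem_subgroupOf]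
  apply h
  · rw [Subgroup.mem_normalizer_iff]
    intro u
    constructor
    · intro hu
      have := (Subgroup.mem_normalizer_iff.mp hxN ⟨u, hP hu⟩).mp (Subgroup.mem_subgroupOf.mpr hu)
      exact Subgroup.mem_subgroupOf.mp this
    · intro hu
      have huP : u ∈ (P : Subgroup G) := by
        have h3 : (x : G) * u * (x : G)⁻¹ ∈ (P : Subgroup G) := hP hu
        have : u = (x : G)⁻¹ * ((x : G) * u * (x : G)⁻¹) * (x : G) := by group
        rw [this]
        exact mul_mem (mul_mem (inv_mem x.2) h3) x.2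
      have := (Subgroup.mem_normalizer_iff.mp hxN ⟨u, huP⟩).mpr (Subgroup.mem_subgroupOf.mpr hu)
      exact Subgroup.mem_subgroupOf.mp this
  · obtain ⟨k, hk⟩ := P.isPGroup' x
    exact ⟨k, by rw [← Subgroup.coe_pow, hk, Subgroup.coe_one]⟩

variable {F : Type*} [Field F]

/-- no `n_{p_k}` normalises `U` -/
theorem not_normalizes_pos (D : ChevalleyDatum) (H : Hyp D F)
    (k : ℕ) (hk : k < D.rank) (s : GL D.Idx F)
    (hs : (s : Matrix D.Idx D.Idx F) = D.nMat F (D.simple k) 1)
    (hsN : s ∈ Subgroup.normalizer (D.posUnipotent F : Set (GL D.Idx F))) : False := by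
  have hD := H.mem
  obtain ⟨hS1, -, hSpos, hSneg, -, -⟩ := H.simple k hk
  have hp : D.simple k < D.nroots := hSpos.1
  have hx : xGL D hD (D.simple k) (1 : F) ∈ D.posUnipotent F :=
    Subgroup.subset_closure ⟨D.simple k, 1, hSpos, xGL_val D hD _ _⟩
  have hconj : s * xGL D hD (D.simple k) (1 : F) * s⁻¹ ∈ D.posUnipotent F :=
    (Subgroup.mem_normalizer_iff.mp hsN _).mp hx
  obtain ⟨he1, -⟩ := etaOf_simple D H k hk
  have e1 := s_mul_xGL D H k hk s hs _ hp (1 : F)
  rw [hS1, he1, mul_one] at e1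
  rw [e1, mul_inv_cancel_right] at hconj
  have hB : xGL D hD (D.neg (D.simple k)) (-1 : F) ∈ D.borelSubgroup F :=
    pos_le_borel D hconj
  have hV : xGL D hD (D.neg (D.simple k)) (-1 : F) ∈ D.negUnipotent F :=
    Subgroup.subset_closure ⟨_, _, hSneg, xGL_val D hD _ _⟩
  have h1 : xGL D hD (D.neg (D.simple k)) (-1 : F) ∈ D.borelSubgroup F ⊓ D.negUnipotent F :=
    ⟨hB, hV⟩
  rw [borel_inf_neg D hD, Subgroup.mem_bot] at h1
  have h2 : D.x F (D.neg (D.simple k)) (-1 : F) = 1 := by
    rw [← xGL_val D hD, h1, Units.val_one]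
  have h3 := (Cfsg.Agent.S1024.result D hD _ hSneg.1 (-1 : F)).mp h2
  exact one_ne_zero (neg_eq_zero.mp h3)

/-- `N_G(U) ≤ B` -/
theorem normalizer_posUnipotent_le (D : ChevalleyDatum) (H : Hyp D F) (hdec : Decomp D F)
    (hpar : ∀ M : Subgroup ↥(D.group F), (bnPair D H hdec).B ≤ M →
      ∃ K ⊆ (bnPair D H hdec).S, M = (bnPair D H hdec).parabolic K) :
    Subgroup.normalizer (D.posUnipotent F : Set (GL D.Idx F)) ⊓ D.group F ≤
      D.borelSubgroup F := by
  have hD := H.mem
  intro g hg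
  have hgG : g ∈ D.group F := hg.2
  set M : Subgroup ↥(D.group F) :=
    (Subgroup.normalizer (D.posUnipotent F : Set (GL D.Idx F)) ⊓ D.group F).subgroupOf
      (D.group F) with hMdef
  have hBM : (bnPair D H hdec).B ≤ M := by
    intro b hb
    have hb' : (b : GL D.Idx F) ∈ D.borelSubgroup F := Subgroup.mem_subgroupOf.mp hb
    exact Subgroup.mem_subgroupOf.mpr ⟨borel_le_normalizer_pos D hD hb', b.2⟩
  obtain ⟨K, hKS, hMK⟩ := hpar M hBM
  have hle : M ≤ (bnPair D H hdec).B := by
    rw [hMK]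
    unfold Cfsg.BNPair.parabolic
    refine sup_le le_rfl ?_
    rw [Subgroup.closure_le]
    intro s hsK
    exfalso
    obtain ⟨k, hk, hs⟩ := hKS hsK
    have hsM : s ∈ M := by
      rw [hMK]
      exact Subgroup.mem_sup_right (Subgroup.subset_closure hsK)
    exact not_normalizes_pos D H k hk _ hs (Subgroup.mem_subgroupOf.mp hsM).1
  have hgM : (⟨g, hgG⟩ : ↥(D.group F)) ∈ M := Subgroup.mem_subgroupOf.mpr hg
  exact Subgroup.mem_subgroupOf.mp (hle hgM)


section charp

variable (p : ℕ) [Fact p.Prime] [CharP F p]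

/-- `(g - 1)^(p^k) = g^(p^k) - 1` for matrices in characteristic `p` -/
theorem sub_one_pow_char (D : ChevalleyDatum) (g : Matrix D.Idx D.Idx F) (k : ℕ) :
    (g - 1) ^ p ^ k = g ^ p ^ k - 1 := by
  by_cases hne : Nonempty D.Idx
  · haveI := hne
    haveI : CharP (Matrix D.Idx D.Idx F) p := inferInstance
    rw [sub_pow_char_pow_of_commute _ _ (Commute.one_right g), one_pow]
  · haveI : IsEmpty D.Idx := not_nonempty_iff.mp hne
    exact Subsingleton.elim _ _

/-- the elements of `U` are `p`-elements -/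
theorem posUnipotent_pow (D : ChevalleyDatum)
    (hD : D ∈ [chevG2, chevB2, chevD4, chevF4, chevE6, chevE7, chevE8]) (g : GL D.Idx F)
    (hg : g ∈ D.posUnipotent F) : g ^ p ^ (D.rank + D.nroots) = 1 := by
  have h := posUnipotent_unipotent D (tabOK_of_mem D hD) g hg
  have hle : D.rank + D.nroots ≤ p ^ (D.rank + D.nroots) :=
    (Nat.lt_pow_self (Fact.out : p.Prime).one_lt).le
  have h0 : ((g : Matrix D.Idx D.Idx F) - 1) ^ p ^ (D.rank + D.nroots) = 0 :=
    pow_eq_zero_of_le hle h
  rw [sub_one_pow_char, sub_eq_zero] at h0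
  apply Units.ext
  rw [Units.val_pow_eq_pow_val, h0, Units.val_one]

/-- the `p`-elements of `B` lie in `U` -/
theorem mem_pos_of_pow (D : ChevalleyDatum)
    (hD : D ∈ [chevG2, chevB2, chevD4, chevF4, chevE6, chevE7, chevE8]) (g : GL D.Idx F)
    (hg : g ∈ D.borelSubgroup F) (k : ℕ) (hk : g ^ p ^ k = 1) : g ∈ D.posUnipotent F := by
  obtain ⟨u, hu, h, hh, e⟩ := (mem_borel D hD g).mp hg
  have hw : h⁻¹ * u * h ∈ D.posUnipotent F := by
    have h1 := (Subgroup.mem_normalizer_iff.mp
      (diagonal_le_normalizer_pos D hD (inv_mem hh)) u).mp hu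
    rwa [inv_inv] at h1
  have e' : g = h * (h⁻¹ * u * h) := by rw [← e]; group
  have hnil : (((h * (h⁻¹ * u * h) : GL D.Idx F) : Matrix D.Idx D.Idx F) - 1) ^ p ^ k = 0 := by
    rw [← e', sub_one_pow_char, ← Units.val_pow_eq_pow_val, hk, Units.val_one, sub_self]
  have ht := diag_part_eq_one D hD h _ hh hw (p ^ k) hnil
  rw [ht] at hw e'
  rw [e', one_mul]
  exact hw

/-- `U` is a Sylow `p`-subgroup -/
theorem posUnipotent_sylow [Fintype F] (D : ChevalleyDatum) (H : Hyp D F) (hdec : Decomp D F)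
    (hpar : ∀ M : Subgroup ↥(D.group F), (bnPair D H hdec).B ≤ M →
      ∃ K ⊆ (bnPair D H hdec).S, M = (bnPair D H hdec).parabolic K) :
    ∃ P : Sylow p ↥(D.group F),
      (P : Subgroup ↥(D.group F)) = (D.posUnipotent F).subgroupOf (D.group F) := by
  classical
  have hD := H.mem
  haveI : Finite ↥(D.group F) := inferInstance
  have hUG : D.posUnipotent F ≤ D.group F := posUnipotent_le_group D
  apply sylow_of_normalizer_pelements p
  · intro x
    refine ⟨D.rank + D.nroots, ?_⟩
    apply Subtype.ext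
    apply Subtype.ext
    rw [Subgroup.coe_pow, Subgroup.coe_pow,
      posUnipotent_pow p D hD _ (Subgroup.mem_subgroupOf.mp x.2)]
    rfl
  · rintro g hgN ⟨k, hk⟩
    rw [Subgroup.mem_subgroupOf]
    have hgN' : (g : GL D.Idx F) ∈
        Subgroup.normalizer (D.posUnipotent F : Set (GL D.Idx F)) := by
      rw [Subgroup.mem_normalizer_iff]
      intro u
      constructor
      · intro hu
        have := (Subgroup.mem_normalizer_iff.mp hgN ⟨u, hUG hu⟩).mp
          (Subgroup.mem_subgroupOf.mpr hu)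
        exact Subgroup.mem_subgroupOf.mp this
      · intro hu
        have huG : u ∈ D.group F := by
          have h3 : (g : GL D.Idx F) * u * (g : GL D.Idx F)⁻¹ ∈ D.group F := hUG hu
          have : u = (g : GL D.Idx F)⁻¹ * ((g : GL D.Idx F) * u * (g : GL D.Idx F)⁻¹) *
              (g : GL D.Idx F) := by group
          rw [this]
          exact mul_mem (mul_mem (inv_mem g.2) h3) g.2
        have := (Subgroup.mem_normalizer_iff.mp hgN ⟨u, huG⟩).mpr
          (Subgroup.mem_subgroupOf.mpr hu)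
        exact Subgroup.mem_subgroupOf.mp this
    have hgB := normalizer_posUnipotent_le D H hdec hpar ⟨hgN', g.2⟩
    exact mem_pos_of_pow p D hD _ hgB k (by rw [← Subgroup.coe_pow, hk, Subgroup.coe_one])

end charp

end Cfsg.Agent.Lib.Helper5.ChevTits
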