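import Mathlib
import Cfsg.Agent.Lib.Helper5.ChevTitsA

/-!
# Table facts on products of two fundamental reflections (helper5)
-/

set_option autoImplicit false

namespace Cfsg.Agent.Lib.Helper5.ChevTits

open Cfsg.Lie

/-- the order of `w_i w_j`, read off the Cartan integers -/
def braidLen (D : ChevalleyDatum) (i j : ℕ) : ℕ :=
  if D.cartan i (D.simple j) * D.cartan j (D.simple i) = 0 then 2
  else if D.cartan i (D.simple j) * D.cartan j (D.simple i) = 1 then 3
  else if D.cartan i (D.simple j) * D.cartan j (D.simple i) = 2 then 4 else 6

/-- the alternating word `a b a b …` of length `k` -/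
def altWord (a b : ℕ) : ℕ → List ℕ
  | 0 => []
  | k + 1 => a :: altWord b a k

/-- the action of a word in the fundamental reflections on a root -/
def wordRefl (D : ChevalleyDatum) (l : List ℕ) (r : ℕ) : ℕ :=
  l.foldr (fun a s => D.reflectRoot a s) r

/-- braid relations and orders, on the level of roots, Boolean form -/
def braidB (D : ChevalleyDatum) (i j : ℕ) : Bool :=
  decide (wordRefl D (altWord j i (braidLen D i j - 1))
      (D.simple (if braidLen D i j % 2 = 1 then j else i)) = D.simple i) &&
    (List.range (braidLen D i j)).all fun k =>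
      k == 0 || !(decide (wordRefl D (altWord i j (2 * k)) (D.simple j) = D.simple j))

/-- braid relations and orders, on the level of roots -/
def BraidOK (D : ChevalleyDatum) : Prop :=
  ∀ i, i < D.rank → ∀ j, j < D.rank → (i == j || braidB D i j) = true

instance (D : ChevalleyDatum) : Decidable (BraidOK D) := by
  unfold BraidOK
  infer_instance

theorem braidOK_spec (D : ChevalleyDatum) (h : BraidOK D) (i j : ℕ) (hi : i < D.rank)
    (hj : j < D.rank) (hij : i ≠ j) :
    wordRefl D (altWord j i (braidLen D i j - 1))
        (D.simple (if braidLen D i j % 2 = 1 then j else i)) = D.simple i ∧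
      ∀ k, k < braidLen D i j → 0 < k →
        wordRefl D (altWord i j (2 * k)) (D.simple j) ≠ D.simple j := by
  have h1 := h i hi j hj
  rw [Bool.or_eq_true] at h1
  rcases h1 with h1 | h1
  · exact absurd (by simpa using h1) hij
  · unfold braidB at h1
    rw [Bool.and_eq_true, decide_eq_true_eq, List.all_eq_true] at h1
    refine ⟨h1.1, fun k hk hk0 => ?_⟩
    have h2 := h1.2 k (List.mem_range.mpr hk)
    rw [Bool.or_eq_true] at h2
    rcases h2 with h2 | h2
    · have : k = 0 := by simpa using h2
      omega
    · simpa using h2

set_option maxRecDepth 100000 in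
theorem braidOK_G2 : BraidOK chevG2 := by decide +kernel
set_option maxRecDepth 100000 in
theorem braidOK_B2 : BraidOK chevB2 := by decide +kernel
set_option maxRecDepth 100000 in
theorem braidOK_D4 : BraidOK chevD4 := by decide +kernel
set_option maxRecDepth 100000 in
theorem braidOK_F4 : BraidOK chevF4 := by decide +kernel
set_option maxRecDepth 100000 in
theorem braidOK_E6 : BraidOK chevE6 := by decide +kernel
set_option maxRecDepth 100000 in
theorem braidOK_E7 : BraidOK chevE7 := by decide +kernel
set_option maxRecDepth 100000 in
theorem braidOK_E8 : BraidOK chevE8 := by decide +kernel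

theorem braidLen_mem (D : ChevalleyDatum) (i j : ℕ) :
    braidLen D i j = 2 ∨ braidLen D i j = 3 ∨ braidLen D i j = 4 ∨ braidLen D i j = 6 := by
  unfold braidLen
  split_ifs <;> simp

set_option maxRecDepth 100000 in
/-- the Coxeter matrices of Mathlib are the matrices of the `braidLen` -/
theorem coxeter_G2 : ∀ i j : Fin 2, CoxeterMatrix.G₂.M i j =
    if i = j then 1 else braidLen chevG2 i j := by
  intro i j; fin_cases i <;> fin_cases j <;> decide +kernel
set_option maxRecDepth 100000 in
theorem coxeter_B2 : ∀ i j : Fin 2, (CoxeterMatrix.B 2).M i j =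
    if i = j then 1 else braidLen chevB2 i j := by
  intro i j; fin_cases i <;> fin_cases j <;> decide +kernel
set_option maxRecDepth 100000 in
theorem coxeter_D4 : ∀ i j : Fin 4, Cfsg.Lie.coxeterD4.M i j =
    if i = j then 1 else braidLen chevD4 i j := by
  intro i j; fin_cases i <;> fin_cases j <;> decide +kernel
set_option maxRecDepth 100000 in
theorem coxeter_F4 : ∀ i j : Fin 4, CoxeterMatrix.F₄.M i j =
    if i = j then 1 else braidLen chevF4 i j := by
  intro i j; fin_cases i <;> fin_cases j <;> decide +kernel
set_option maxRecDepth 100000 in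
theorem coxeter_E6 : ∀ i j : Fin 6, CoxeterMatrix.E₆.M i j =
    if i = j then 1 else braidLen chevE6 i j := by
  intro i j; fin_cases i <;> fin_cases j <;> decide +kernel
set_option maxRecDepth 100000 in
theorem coxeter_E7 : ∀ i j : Fin 7, CoxeterMatrix.E₇.M i j =
    if i = j then 1 else braidLen chevE7 i j := by
  intro i j; fin_cases i <;> fin_cases j <;> decide +kernel
set_option maxRecDepth 100000 in
theorem coxeter_E8 : ∀ i j : Fin 8, CoxeterMatrix.E₈.M i j =
    if i = j then 1 else braidLen chevE8 i j := by
  intro i j; fin_cases i <;> fin_cases j <;> decide +kernel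

end Cfsg.Agent.Lib.Helper5.ChevTits
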