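import Mathlib
import Cfsg.Agent.Lib.Helper5.ChevTitsI
import Cfsg.Agent.Lib.Helper5.ChevTitsR

/-!
# Words in the `n_{p_i}`: monomial structure and conjugation formula (helper5)
-/

set_option autoImplicit false
set_option linter.style.haveILetI false
set_option linter.unusedSectionVars false

namespace Cfsg.Agent.Lib.Helper5.ChevTits

open Cfsg.Lie Cfsg.Agent.Lib.Helper5.ChevSym Cfsg.Agent.Lib.Helper5.ChevBN
  Cfsg.Agent.Lib.Helper5.ChevGen

variable {F : Type*} [Field F]

/-- `n_{p_a}` as an element of `GL` -/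
noncomputable def nG (D : ChevalleyDatum)
    (hD : D ∈ [chevG2, chevB2, chevD4, chevF4, chevE6, chevE7, chevE8]) (a : ℕ) : GL D.Idx F :=
  wordGL D hD (D.nWord (D.simple a) (1 : F))

theorem nG_val (D : ChevalleyDatum)
    (hD : D ∈ [chevG2, chevB2, chevD4, chevF4, chevE6, chevE7, chevE8]) (a : ℕ) :
    ((nG D hD a : GL D.Idx F) : Matrix D.Idx D.Idx F) = D.nMat F (D.simple a) 1 :=
  wordGL_val D hD _

/-- the product of the `n_{p_a}` along a word -/
noncomputable def wordNG (D : ChevalleyDatum)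
    (hD : D ∈ [chevG2, chevB2, chevD4, chevF4, chevE6, chevE7, chevE8]) (l : List ℕ) : GL D.Idx F :=
  (l.map (nG D hD)).prod

theorem wordNG_cons (D : ChevalleyDatum)
    (hD : D ∈ [chevG2, chevB2, chevD4, chevF4, chevE6, chevE7, chevE8]) (a : ℕ) (l : List ℕ) :
    (wordNG D hD (a :: l) : GL D.Idx F) = nG D hD a * wordNG D hD l := by
  unfold wordNG
  rw [List.map_cons, List.prod_cons]

theorem wordNG_nil (D : ChevalleyDatum)
    (hD : D ∈ [chevG2, chevB2, chevD4, chevF4, chevE6, chevE7, chevE8]) :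
    (wordNG D hD [] : GL D.Idx F) = 1 := rfl

theorem wordRefl_cons (D : ChevalleyDatum) (a : ℕ) (l : List ℕ) (r : ℕ) :
    wordRefl D (a :: l) r = D.reflectRoot a (wordRefl D l r) := rfl

theorem wordNG_mem_monomial (D : ChevalleyDatum) (H : Hyp D F) (l : List ℕ)
    (hl : ∀ a ∈ l, a < D.rank) : wordNG D H.mem l ∈ D.monomialSubgroup F := by
  unfold wordNG
  apply Subgroup.list_prod_mem
  intro g hg
  rw [List.mem_map] at hg
  obtain ⟨a, ha, rfl⟩ := hg
  exact simple_mem_monomial D H a (hl a ha) _ (nG_val D H.mem a)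

/-- the non-zero entry of a word in the `n_{p_i}` in the column of `e_r` -/
theorem wordNG_entry (D : ChevalleyDatum) (H : Hyp D F) (l : List ℕ)
    (hl : ∀ a ∈ l, a < D.rank) (r : Fin D.nroots) :
    ∃ hlt : wordRefl D l r < D.nroots,
      ((wordNG D H.mem l : GL D.Idx F) : Matrix D.Idx D.Idx F)
        (Sum.inr ⟨wordRefl D l r, hlt⟩) (Sum.inr r) ≠ 0 := by
  induction l with
  | nil =>
    refine ⟨r.2, ?_⟩
    rw [wordNG_nil, Units.val_one]
    have : (⟨wordRefl D [] r, r.2⟩ : Fin D.nroots) = r := Fin.ext rfl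
    rw [this, Matrix.one_apply_eq]
    exact one_ne_zero
  | cons a l ih =>
    have ha : a < D.rank := hl a (List.mem_cons_self)
    obtain ⟨hlt, hne⟩ := ih (fun b hb => hl b (List.mem_cons_of_mem _ hb))
    have hN := nSimpleAll_of_mem D H.mem a ha
    have hlt' : wordRefl D (a :: l) r < D.nroots := (H.refl a ha _ hlt).1
    refine ⟨hlt', ?_⟩
    rw [wordNG_cons, Units.val_mul, nG_val, Matrix.mul_apply, Fintype.sum_sum_type]
    simp only [nSimple_apply_inr_inl D a ha hN, nSimple_apply_inr_inr D a ha hN, zero_mul,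
      Finset.sum_const_zero, zero_add]
    rw [Finset.sum_eq_single (⟨wordRefl D l r, hlt⟩ : Fin D.nroots)]
    · rw [if_pos (wordRefl_cons D a l r)]
      refine mul_ne_zero ?_ hne
      rcases etaF_cases D H a _ ha hlt with e | e <;> rw [e]
      · exact one_ne_zero
      · exact neg_ne_zero.mpr one_ne_zero
    · intro b _ hb
      rw [if_neg, zero_mul]
      intro h'
      apply hb
      apply Fin.ext
      show (b : ℕ) = wordRefl D l r
      have h1 := (H.refl a ha b b.2).2.1
      have h2 := (H.refl a ha _ hlt).2.1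
      rw [wordRefl_cons] at h'
      rw [← h1, ← h', h2]
    · intro h'; exact absurd (Finset.mem_univ _) h'

/-- a word in the `n_{p_i}` lying in `H` fixes every root -/
theorem wordNG_diag (D : ChevalleyDatum) (H : Hyp D F) (l : List ℕ)
    (hl : ∀ a ∈ l, a < D.rank) (hmem : wordNG D H.mem l ∈ D.diagonalSubgroup F) (r : ℕ)
    (hr : r < D.nroots) : wordRefl D l r = r := by
  obtain ⟨c, hc⟩ := mem_diagonalSubgroup D H.mem _ hmem
  obtain ⟨hlt, hne⟩ := wordNG_entry D H l hl ⟨r, hr⟩
  by_contra hne'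
  apply hne
  rw [hc]
  unfold ChevalleyDatum.charDiag
  apply Matrix.diagonal_apply_ne
  intro h
  apply hne'
  have := Sum.inr.inj h
  exact congrArg Fin.val this

/-- conjugation of `n_s(t)` by a word in the `n_{p_i}` -/
theorem wordNG_mul_nMat (D : ChevalleyDatum) (H : Hyp D F) (l : List ℕ)
    (hl : ∀ a ∈ l, a < D.rank) (s : ℕ) (hs : s < D.nroots) :
    ∃ ε : F, (ε = 1 ∨ ε = -1) ∧ wordRefl D l s < D.nroots ∧
      ∀ t : F, ((wordNG D H.mem l : GL D.Idx F) : Matrix D.Idx D.Idx F) * D.nMat F s t =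
        D.nMat F (wordRefl D l s) (ε * t) *
          ((wordNG D H.mem l : GL D.Idx F) : Matrix D.Idx D.Idx F) := by
  induction l with
  | nil =>
    refine ⟨1, Or.inl rfl, hs, fun t => ?_⟩
    rw [wordNG_nil, Units.val_one, Matrix.one_mul, Matrix.mul_one, one_mul]
    rfl
  | cons a l ih =>
    have ha : a < D.rank := hl a (List.mem_cons_self)
    obtain ⟨ε, hε, hlt, h⟩ := ih (fun b hb => hl b (List.mem_cons_of_mem _ hb))
    refine ⟨((etaOf D a (wordRefl D l s) : ℤ) : F) * ε, ?_, (H.refl a ha _ hlt).1, fun t => ?_⟩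
    · rcases etaF_cases D H a _ ha hlt with e | e <;> rcases hε with rfl | rfl <;> rw [e] <;> simp
    · rw [wordNG_cons, Units.val_mul, nG_val, Matrix.mul_assoc, h t, ← Matrix.mul_assoc,
        nSimple_mul_nMat D H a _ ha hlt (ε * t), Matrix.mul_assoc, wordRefl_cons, mul_assoc]

theorem altWord_mem (i j : ℕ) : ∀ (n : ℕ) (a : ℕ), a ∈ altWord i j n → a = i ∨ a = j := by
  intro n
  induction n generalizing i j with
  | zero => intro a ha; simp [altWord] at ha
  | succ n ih =>
    intro a ha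
    rw [altWord, List.mem_cons] at ha
    rcases ha with rfl | ha
    · exact Or.inl rfl
    · exact (ih j i a ha).symm

theorem altWord_lt (D : ChevalleyDatum) (i j : ℕ) (hi : i < D.rank) (hj : j < D.rank) (n : ℕ) :
    ∀ a ∈ altWord i j n, a < D.rank := by
  intro a ha
  rcases altWord_mem i j n a ha with rfl | rfl <;> assumption

theorem pow_eq_wordNG (D : ChevalleyDatum)
    (hD : D ∈ [chevG2, chevB2, chevD4, chevF4, chevE6, chevE7, chevE8]) (i j : ℕ) (k : ℕ) :
    ((nG D hD i * nG D hD j) ^ k : GL D.Idx F) = wordNG D hD (altWord i j (2 * k)) := by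
  induction k with
  | zero => rw [pow_zero]; rfl
  | succ k ih =>
    have : altWord i j (2 * (k + 1)) = i :: j :: altWord i j (2 * k) := rfl
    rw [this, wordNG_cons, wordNG_cons, pow_succ', ih, mul_assoc]

/-- `(n_i n_j)^k ∉ B` for `0 < k < m_{ij}` -/
theorem pow_not_mem_borel (D : ChevalleyDatum) (H : Hyp D F) (hB : BraidOK D) (i j : ℕ)
    (hi : i < D.rank) (hj : j < D.rank) (hij : i ≠ j) (k : ℕ) (hk : 0 < k)
    (hkm : k < braidLen D i j) :
    ((nG D H.mem i * nG D H.mem j) ^ k : GL D.Idx F) ∉ D.borelSubgroup F := by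
  intro hmem
  rw [pow_eq_wordNG] at hmem
  have hl := altWord_lt D i j hi hj (2 * k)
  have hN := wordNG_mem_monomial D H _ hl
  have hH : wordNG D H.mem (altWord i j (2 * k)) ∈ D.diagonalSubgroup F := by
    rw [← borel_inf_monomial' D H.mem]; exact ⟨hmem, hN⟩
  have hpj : D.simple j < D.nroots := (H.simple j hj).2.2.1.1
  exact (braidOK_spec D hB i j hi hj hij).2 k hkm hk (wordNG_diag D H _ hl hH _ hpj)

/-- the braid relation in the form `u n_z = n_i(±1) u` -/
theorem braid_conj (D : ChevalleyDatum) (H : Hyp D F) (hB : BraidOK D) (i j : ℕ)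
    (hi : i < D.rank) (hj : j < D.rank) (hij : i ≠ j) :
    ∃ ε : F, (ε = 1 ∨ ε = -1) ∧
      (wordNG D H.mem (altWord j i (braidLen D i j - 1)) : GL D.Idx F) *
          nG D H.mem (if braidLen D i j % 2 = 1 then j else i) =
        wordGL D H.mem (D.nWord (D.simple i) ε) *
          wordNG D H.mem (altWord j i (braidLen D i j - 1)) := by
  have hz : (if braidLen D i j % 2 = 1 then j else i) < D.rank := by
    split_ifs <;> assumption
  have hpz : D.simple (if braidLen D i j % 2 = 1 then j else i) < D.nroots :=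
    (H.simple _ hz).2.2.1.1
  obtain ⟨ε, hε, -, h⟩ := wordNG_mul_nMat D H (altWord j i (braidLen D i j - 1))
    (altWord_lt D j i hj hi _) _ hpz
  refine ⟨ε, hε, ?_⟩
  apply Units.ext
  have h1 := h 1
  rw [(braidOK_spec D hB i j hi hj hij).1, mul_one] at h1
  rw [Units.val_mul, Units.val_mul, nG_val, wordGL_val]
  exact h1

end Cfsg.Agent.Lib.Helper5.ChevTits
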