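import Mathlib
import Cfsg.Agent.Lib.Helper5.ChevTitsS
import Cfsg.Agent.Lib.Helper10.CoxExchC
import Cfsg.Agent.Lib.Helper10.CoxExchE

/-!
# `N / H` is the Coxeter group of the type (helper5)

The Weyl group of the (B, N)-pair is a Coxeter group on the `n_{p_i}` (helper10's exchange-condition
argument, repeated here with the Coxeter matrix exposed as the matrix of orders); the orders of the
products `n_{p_i} n_{p_j}` modulo `H` are computed from the action on the roots.
-/

set_option autoImplicit false
set_option linter.style.haveILetI false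
set_option linter.unusedSectionVars false

namespace Cfsg.Agent.Lib.Helper5.ChevTits

open Cfsg.Lie Cfsg.Agent.Lib.Helper5.ChevSym Cfsg.Agent.Lib.Helper5.ChevBN
  Cfsg.Agent.Lib.Helper5.ChevGen Cfsg.Agent.Lib.Helper10.CoxExch

section abstract

variable {W : Type*} [Group W]

/-- the alternating product `a b a b …` with `k` factors -/
def altProd (a b : W) : ℕ → W
  | 0 => 1
  | k + 1 => a * altProd b a k

theorem pow_eq_one_of_braid (a b : W) (ha : a * a = 1) (hb : b * b = 1) (m : ℕ)
    (hm : m = 2 ∨ m = 3 ∨ m = 4 ∨ m = 6)
    (h : altProd b a (m - 1) * (if m % 2 = 1 then b else a) = a * altProd b a (m - 1)) :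
    (a * b) ^ m = 1 := by
  rcases hm with rfl | rfl | rfl | rfl
  · have h' : b * a = a * b := by simpa [altProd] using h
    calc (a * b) ^ 2 = a * (b * a) * b := by simp only [pow_succ, pow_zero, one_mul, mul_assoc]
      _ = a * (a * b) * b := by rw [h']
      _ = (a * a) * (b * b) := by group
      _ = 1 := by rw [ha, hb, one_mul]
  · have h' : (b * a) * b = a * (b * a) := by simpa [altProd, mul_assoc] using h
    calc (a * b) ^ 3 = a * ((b * a) * b) * (a * b) := by simp only [pow_succ, pow_zero, one_mul, mul_assoc]
      _ = a * (a * (b * a)) * (a * b) := by rw [h']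
      _ = (a * a) * b * (a * a) * b := by group
      _ = 1 := by rw [ha, one_mul, mul_one, hb]
  · have h' : (b * (a * b)) * a = a * (b * (a * b)) := by simpa [altProd, mul_assoc] using h
    have hX : (b * (a * b)) * (b * (a * b)) = 1 := by
      calc (b * (a * b)) * (b * (a * b)) = b * (a * (b * b) * a) * b := by group
        _ = b * (a * a) * b := by rw [hb, mul_one]
        _ = 1 := by rw [ha, mul_one, hb]
    calc (a * b) ^ 4 = a * ((b * (a * b)) * a) * (b * (a * b)) := by simp only [pow_succ, pow_zero, one_mul, mul_assoc]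
      _ = a * (a * (b * (a * b))) * (b * (a * b)) := by rw [h']
      _ = (a * a) * ((b * (a * b)) * (b * (a * b))) := by group
      _ = 1 := by rw [ha, hX, one_mul]
  · have h' : (b * (a * (b * (a * b)))) * a = a * (b * (a * (b * (a * b)))) := by
      simpa [altProd, mul_assoc] using h
    have hX : (b * (a * (b * (a * b)))) * (b * (a * (b * (a * b)))) = 1 := by
      calc (b * (a * (b * (a * b)))) * (b * (a * (b * (a * b))))
          = b * (a * (b * (a * (b * b) * a) * b) * a) * b := by group
        _ = b * (a * (b * (a * a) * b) * a) * b := by rw [hb, mul_one]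
        _ = b * (a * (b * b) * a) * b := by rw [ha, mul_one]
        _ = b * (a * a) * b := by rw [hb, mul_one]
        _ = 1 := by rw [ha, mul_one, hb]
    calc (a * b) ^ 6 = a * ((b * (a * (b * (a * b)))) * a) * (b * (a * (b * (a * b)))) := by simp only [pow_succ, pow_zero, one_mul, mul_assoc]
      _ = a * (a * (b * (a * (b * (a * b))))) * (b * (a * (b * (a * b)))) := by rw [h']
      _ = (a * a) * ((b * (a * (b * (a * b)))) * (b * (a * (b * (a * b))))) := by group
      _ = 1 := by rw [ha, hX, one_mul]

/-- helper10's Coxeter system on a group with the deletion property, with the Coxeter matrix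
exposed as the matrix of the orders of the products of two generators -/
theorem exists_coxeterSystem_order {ι : Type*} (σ : ι → W)
    (h2 : ∀ i, σ i * σ i = 1) (hinj : Function.Injective σ)
    (hgen : Subgroup.closure (Set.range σ) = ⊤)
    (hdel : ∀ ω : List ι, (∃ ω' : List ι, val σ ω' = val σ ω ∧ ω'.length < ω.length) →
      ∃ (a : List ι) (s : ι) (b : List ι) (t : ι) (c : List ι),
        ω = a ++ (s :: (b ++ (t :: c))) ∧ σ s * val σ b = val σ b * σ t) :
    ∃ (M : CoxeterMatrix ι) (cs : CoxeterSystem M W),
      (∀ i j, M.M i j = orderOf (σ i * σ j)) ∧ ∀ i, cs.simple i = σ i := by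
  classical
  have hinv : ∀ i, (σ i)⁻¹ = σ i := fun i => inv_eq_of_mul_eq_one_left (h2 i)
  let M : CoxeterMatrix ι :=
    { M := fun i j => orderOf (σ i * σ j)
      isSymm := by
        apply Matrix.IsSymm.ext
        intro i j
        exact orderOf_mul_comm' (σ j) (σ i)
      diagonal := by
        intro i
        show orderOf (σ i * σ i) = 1
        rw [h2, orderOf_one]
      off_diagonal := by
        intro i j hij h1
        have h3 : orderOf (σ i * σ j) = 1 := h1
        rw [orderOf_eq_one_iff] at h3
        apply hij
        apply hinj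
        rw [← hinv j]
        exact eq_inv_of_mul_eq_one_left h3 }
  have hM : ∀ i j, M i j = orderOf (σ i * σ j) := fun i j => rfl
  let cs0 : CoxeterSystem M M.Group := M.toCoxeterSystem
  have hlift : M.IsLiftable σ := by
    intro i j
    rw [hM]
    exact pow_orderOf_eq_one _
  let φ : M.Group →* W := cs0.lift ⟨σ, hlift⟩
  have hφ : ∀ i, φ (cs0.simple i) = σ i := fun i => cs0.lift_apply_simple hlift i
  have hφw : ∀ ω : List ι, φ (cs0.wordProd ω) = val σ ω := by
    intro ω
    induction ω with
    | nil => simp [CoxeterSystem.wordProd]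
    | cons i ω ih => rw [CoxeterSystem.wordProd_cons, map_mul, ih, hφ, val_cons]
  have hyp : Cfsg.Agent.Lib.Helper10.CoxExch.Hyp σ cs0.simple :=
    { σ2 := h2
      τ2 := fun i => cs0.simple_mul_simple_self i
      inj := hinj
      braid := by
        intro i j q hq
        have h1 : orderOf (σ i * σ j) ∣ q := orderOf_dvd_of_pow_eq_one hq
        obtain ⟨c, hc⟩ := h1
        have h3 := cs0.simple_mul_simple_pow i j
        rw [hM] at h3
        rw [hc, pow_mul, h3, one_pow]
      del := hdel }
  have hmain := Cfsg.Agent.Lib.Helper10.CoxExch.main hyp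
  have hφinj : Function.Injective φ := by
    rw [injective_iff_map_eq_one]
    intro x hx
    obtain ⟨ω, rfl⟩ := cs0.wordProd_surjective x
    rw [hφw] at hx
    exact hmain ω hx
  have hφsurj : Function.Surjective φ := by
    rw [← MonoidHom.range_eq_top, ← top_le_iff, ← hgen, Subgroup.closure_le]
    rintro _ ⟨i, rfl⟩
    exact ⟨cs0.simple i, hφ i⟩
  let e : M.Group ≃* W := MulEquiv.ofBijective φ ⟨hφinj, hφsurj⟩
  refine ⟨M, ⟨e.symm⟩, fun i j => rfl, ?_⟩
  intro i
  show e.symm.symm (PresentedGroup.of i) = σ i
  rw [MulEquiv.symm_symm]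
  exact hφ i

end abstract

end Cfsg.Agent.Lib.Helper5.ChevTits
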