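import Mathlib
import Cfsg.Agent.Lib.Helper5.ChevTitsH
import Cfsg.Agent.Lib.Helper5.ChevTitsT

/-!
# `N / H` is the Coxeter group of the type: the concrete part (helper5)
-/

set_option autoImplicit false
set_option linter.style.haveILetI false
set_option linter.unusedSectionVars false

namespace Cfsg.Agent.Lib.Helper5.ChevTits

open Cfsg.Lie Cfsg.Agent.Lib.Helper5.ChevSym Cfsg.Agent.Lib.Helper5.ChevBN
  Cfsg.Agent.Lib.Helper5.ChevGen Cfsg.Agent.Lib.Helper10.CoxExch

/-- `B ⊓ N` is normal in `N` -/
instance bnNormal {G : Type*} [Group G] (P : Cfsg.BNPair G) :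
    ((P.B ⊓ P.N).subgroupOf P.N).Normal := by
  constructor
  intro t ht n
  rw [Subgroup.mem_subgroupOf] at ht ⊢
  exact ⟨P.conj_mem n.1 n.2 t.1 ht, (n * t * n⁻¹).2⟩

variable {F : Type*} [Field F]

/-- the Weyl group of the (B, N)-pair of a Chevalley group -/
abbrev WeylQ (D : ChevalleyDatum) (H : Hyp D F) (hdec : Decomp D F) : Type _ :=
  ↥(bnPair D H hdec).N ⧸ ((bnPair D H hdec).B ⊓ (bnPair D H hdec).N).subgroupOf (bnPair D H hdec).N

/-- `N` (in `GL`) to `N` (in the Chevalley group) -/
noncomputable def toN (D : ChevalleyDatum) (H : Hyp D F) (hdec : Decomp D F) :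
    ↥(D.monomialSubgroup F) →* ↥(bnPair D H hdec).N where
  toFun x := ⟨⟨x.1, monomial_le_group D H.mem x.2⟩, Subgroup.mem_subgroupOf.mpr x.2⟩
  map_one' := rfl
  map_mul' _ _ := rfl

/-- the projection of `N` onto the Weyl group -/
noncomputable def psi (D : ChevalleyDatum) (H : Hyp D F) (hdec : Decomp D F) :
    ↥(D.monomialSubgroup F) →* WeylQ D H hdec :=
  (QuotientGroup.mk' _).comp (toN D H hdec)

theorem psi_eq_one_iff (D : ChevalleyDatum) (H : Hyp D F) (hdec : Decomp D F)
    (x : ↥(D.monomialSubgroup F)) :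
    psi D H hdec x = 1 ↔ (x : GL D.Idx F) ∈ D.borelSubgroup F := by
  show (QuotientGroup.mk (toN D H hdec x) : WeylQ D H hdec) = 1 ↔ _
  rw [mk_eq_one_iff]
  exact Subgroup.mem_subgroupOf

theorem psi_surjective (D : ChevalleyDatum) (H : Hyp D F) (hdec : Decomp D F) :
    Function.Surjective (psi D H hdec) := by
  intro w
  obtain ⟨y, rfl⟩ := QuotientGroup.mk_surjective w
  have hy : ((y : ↥(D.group F)) : GL D.Idx F) ∈ D.monomialSubgroup F :=
    Subgroup.mem_subgroupOf.mp y.2
  exact ⟨⟨_, hy⟩, rfl⟩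

theorem psi_ker (D : ChevalleyDatum) (H : Hyp D F) (hdec : Decomp D F) :
    (psi D H hdec).ker = (D.diagonalSubgroup F).subgroupOf (D.monomialSubgroup F) := by
  ext x
  rw [MonoidHom.mem_ker, psi_eq_one_iff, Subgroup.mem_subgroupOf, ← borel_inf_monomial' D H.mem,
    Subgroup.mem_inf]
  exact ⟨fun h => ⟨h, x.2⟩, fun h => h.1⟩


/-- `n_{p_a}` as an element of `N` -/
noncomputable def nN (D : ChevalleyDatum) (H : Hyp D F) (a : ℕ) : ↥(D.monomialSubgroup F) :=
  if h : a < D.rank then ⟨nG D H.mem a, simple_mem_monomial D H a h _ (nG_val D H.mem a)⟩ else 1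

theorem nN_val (D : ChevalleyDatum) (H : Hyp D F) (a : ℕ) (ha : a < D.rank) :
    ((nN D H a : ↥(D.monomialSubgroup F)) : GL D.Idx F) = nG D H.mem a := by
  unfold nN
  rw [dif_pos ha]

/-- the image of `n_{p_a}` in the Weyl group -/
noncomputable def sigN (D : ChevalleyDatum) (H : Hyp D F) (hdec : Decomp D F) (a : ℕ) :
    WeylQ D H hdec := psi D H hdec (nN D H a)

theorem sigN_sq (D : ChevalleyDatum) (H : Hyp D F) (hdec : Decomp D F) (a : ℕ) (ha : a < D.rank) :
    sigN D H hdec a * sigN D H hdec a = 1 := by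
  unfold sigN
  rw [← map_mul, psi_eq_one_iff, Subgroup.coe_mul, nN_val D H a ha]
  exact diag_le_borel D (s_sq_mem D H a ha _ (nG_val D H.mem a))

theorem sigN_inv (D : ChevalleyDatum) (H : Hyp D F) (hdec : Decomp D F) (a : ℕ) (ha : a < D.rank) :
    (sigN D H hdec a)⁻¹ = sigN D H hdec a :=
  inv_eq_of_mul_eq_one_left (sigN_sq D H hdec a ha)

/-- the image of an alternating word -/
theorem psi_altWord (D : ChevalleyDatum) (H : Hyp D F) (hdec : Decomp D F) :
    ∀ (n : ℕ) (a b : ℕ) (ha : a < D.rank) (hb : b < D.rank)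
      (hmem : wordNG D H.mem (altWord a b n) ∈ D.monomialSubgroup F),
      psi D H hdec ⟨_, hmem⟩ = altProd (sigN D H hdec a) (sigN D H hdec b) n := by
  intro n
  induction n with
  | zero =>
    intro a b ha hb hmem
    have : (⟨_, hmem⟩ : ↥(D.monomialSubgroup F)) = 1 := Subtype.ext rfl
    rw [this, map_one]
    rfl
  | succ n ih =>
    intro a b ha hb hmem
    have hmem' : wordNG D H.mem (altWord b a n) ∈ D.monomialSubgroup F :=
      wordNG_mem_monomial D H _ (altWord_lt D b a hb ha n)
    have : (⟨_, hmem⟩ : ↥(D.monomialSubgroup F)) = nN D H a * ⟨_, hmem'⟩ := by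
      apply Subtype.ext
      rw [Subgroup.coe_mul, nN_val D H a ha]
      exact wordNG_cons D H.mem a _
    rw [this, map_mul, ih b a hb ha hmem']
    rfl

/-- the order of `w_i w_j` -/
theorem orderOf_sigN (D : ChevalleyDatum) (H : Hyp D F) (hdec : Decomp D F) (hB : BraidOK D)
    (i j : ℕ) (hi : i < D.rank) (hj : j < D.rank) (hij : i ≠ j) :
    orderOf (sigN D H hdec i * sigN D H hdec j) = braidLen D i j := by
  have hmpos : 0 < braidLen D i j := by
    rcases braidLen_mem D i j with h | h | h | h <;> rw [h] <;> norm_num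
  rw [orderOf_eq_iff hmpos]
  constructor
  · apply pow_eq_one_of_braid _ _ (sigN_sq D H hdec i hi) (sigN_sq D H hdec j hj) _
      (braidLen_mem D i j)
    obtain ⟨ε, hε, h⟩ := braid_conj D H hB i j hi hj hij
    have hz : (if braidLen D i j % 2 = 1 then j else i) < D.rank := by
      split_ifs <;> assumption
    have hpi : D.simple i < D.nroots := (H.simple i hi).2.2.1.1
    have hu : wordNG D H.mem (altWord j i (braidLen D i j - 1)) ∈ D.monomialSubgroup F :=
      wordNG_mem_monomial D H _ (altWord_lt D j i hj hi _)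
    have hε0 : ε ≠ 0 := by
      rcases hε with rfl | rfl
      · exact one_ne_zero
      · exact neg_ne_zero.mpr one_ne_zero
    have hy : wordGL D H.mem (D.nWord (D.simple i) ε) ∈ D.monomialSubgroup F :=
      nGL_mem_monomial D H.mem _ hpi ε hε0
    have e1 : (⟨_, hu⟩ : ↥(D.monomialSubgroup F)) *
        nN D H (if braidLen D i j % 2 = 1 then j else i) = ⟨_, hy⟩ * ⟨_, hu⟩ := by
      apply Subtype.ext
      rw [Subgroup.coe_mul, Subgroup.coe_mul, nN_val D H _ hz]
      exact h
    have e2 := congrArg (psi D H hdec) e1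
    rw [map_mul, map_mul, psi_altWord D H hdec _ j i hj hi hu] at e2
    have e3 : psi D H hdec (nN D H (if braidLen D i j % 2 = 1 then j else i)) =
        if braidLen D i j % 2 = 1 then sigN D H hdec j else sigN D H hdec i := by
      split_ifs <;> rfl
    have e4 : psi D H hdec ⟨_, hy⟩ = sigN D H hdec i := by
      rcases hε with rfl | rfl
      · have : (⟨_, hy⟩ : ↥(D.monomialSubgroup F)) = nN D H i := by
          apply Subtype.ext
          rw [nN_val D H i hi]
          rfl
        rw [this]
        rfl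
      · have : (⟨_, hy⟩ : ↥(D.monomialSubgroup F)) = (nN D H i)⁻¹ := by
          apply Subtype.ext
          rw [Subgroup.coe_inv, nN_val D H i hi, eq_inv_iff_mul_eq_one]
          apply Units.ext
          rw [Units.val_mul, wordGL_val, nG_val, Units.val_one]
          exact nMat_neg_mul D H.mem _ hpi
        rw [this, map_inv]
        exact sigN_inv D H hdec i hi
    rw [e3, e4] at e2
    exact e2
  · intro k hk hk0 h1
    have h2 : (sigN D H hdec i * sigN D H hdec j) ^ k =
        psi D H hdec ((nN D H i * nN D H j) ^ k) := by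
      rw [map_pow, map_mul]
      rfl
    rw [h2, psi_eq_one_iff, Subgroup.coe_pow, Subgroup.coe_mul, nN_val D H i hi,
      nN_val D H j hj] at h1
    exact pow_not_mem_borel D H hB i j hi hj hij k hk0 hk h1


/-- `N / H` is the Coxeter group with Coxeter matrix the matrix of the `braidLen` -/
theorem weyl_coxeter (D : ChevalleyDatum) (H : Hyp D F) (hdec : Decomp D F) (hB : BraidOK D)
    (Mx : CoxeterMatrix (Fin D.rank))
    (hMx : ∀ i j : Fin D.rank, Mx.M i j = if i = j then 1 else braidLen D i j) :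
    ∃ φ : ↥(D.monomialSubgroup F) →* Mx.Group, Function.Surjective φ ∧
      φ.ker = (D.diagonalSubgroup F).subgroupOf (D.monomialSubgroup F) ∧
      ∀ (i : Fin D.rank) (g : ↥(D.monomialSubgroup F)),
        ((g : GL D.Idx F) : Matrix D.Idx D.Idx F) = D.nMat F (D.simple i) 1 →
          φ g = Mx.simple i := by
  classical
  let f0 : Fin D.rank → (bnPair D H hdec).S := fun i =>
    ⟨⟨nG D H.mem i, mem_group_of_word D H.mem _ (D.nWord (D.simple i) 1) (nG_val D H.mem i)⟩,
      ⟨i, i.2, nG_val D H.mem i⟩⟩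
  have hf0 : Function.Bijective f0 := by
    constructor
    · intro i j hij
      have h1 : (nG D H.mem i : GL D.Idx F) = nG D H.mem j :=
        congrArg (fun s : (bnPair D H hdec).S => ((s : ↥(D.group F)) : GL D.Idx F)) hij
      apply Fin.ext
      apply simple_inj D H i j i.2 j.2 _ _ (nG_val D H.mem i) (nG_val D H.mem j)
      rw [h1, inv_mul_cancel]
      exact one_mem _
    · rintro ⟨s, i, hi, hs⟩
      refine ⟨⟨i, hi⟩, ?_⟩
      apply Subtype.ext
      apply Subtype.ext
      apply Units.ext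
      exact (nG_val D H.mem i).trans hs.symm
  let f : Fin D.rank ≃ (bnPair D H hdec).S := Equiv.ofBijective f0 hf0
  have hsig : ∀ i : Fin D.rank, sig (bnPair D H hdec) (f i) = sigN D H hdec i := by
    intro i
    unfold sigN nN
    rw [dif_pos i.2]
    rfl
  obtain ⟨M', cs', hM', hcs'⟩ := exists_coxeterSystem_order (sig (bnPair D H hdec)) sig_sq
    sig_inj sig_gen deletion
  have hM : M'.reindex f.symm = Mx := by
    apply CoxeterMatrix.ext
    ext i j
    rw [hMx]
    show (M'.reindex f.symm) i j = _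
    rw [CoxeterMatrix.reindex_apply, Equiv.symm_symm]
    show M'.M (f i) (f j) = _
    rw [hM', hsig, hsig]
    split_ifs with h
    · subst h
      rw [sigN_sq D H hdec i i.2, orderOf_one]
    · exact orderOf_sigN D H hdec hB i j i.2 j.2 (fun h' => h (Fin.ext h'))
  subst hM
  refine ⟨(cs'.reindex f.symm).mulEquiv.toMonoidHom.comp (psi D H hdec), ?_, ?_, ?_⟩
  · exact (cs'.reindex f.symm).mulEquiv.surjective.comp (psi_surjective D H hdec)
  · rw [← psi_ker D H hdec]
    ext x
    rw [MonoidHom.mem_ker, MonoidHom.mem_ker, MonoidHom.comp_apply]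
    exact (cs'.reindex f.symm).mulEquiv.map_eq_one_iff
  · intro i g hg
    have hg' : g = nN D H i := by
      apply Subtype.ext
      rw [nN_val D H i i.2]
      apply Units.ext
      rw [hg, nG_val]
    have h1 : psi D H hdec g = (cs'.reindex f.symm).simple i := by
      rw [CoxeterSystem.reindex_simple, Equiv.symm_symm, hcs', hsig, hg']
      rfl
    rw [MonoidHom.comp_apply, h1]
    exact (cs'.reindex f.symm).mulEquiv.apply_symm_apply _

end Cfsg.Agent.Lib.Helper5.ChevTits
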