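import Mathlib
import Cfsg.Agent.Lib.Helper5.ChevTitsU

/-!
# Bruhat normal form: the `GL`-level steps (helper5)

`U_n⁻ = ⟨X_r : r > 0, n X_r n⁻¹ ≤ V⟩`.  For `m = s_1 ⋯ s_k` reduced, `U m ⊆ U_{m⁻¹}⁻ m B`, by
induction peeling off `s_1`.
-/

set_option autoImplicit false
set_option linter.style.haveILetI false
set_option linter.unusedSectionVars false

namespace Cfsg.Agent.Lib.Helper5.ChevTits

open Cfsg.Lie Cfsg.Agent.Lib.Helper5.ChevSym Cfsg.Agent.Lib.Helper5.ChevBN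
  Cfsg.Agent.Lib.Helper5.ChevGen

/-- table property: the negative of a positive root is negative -/
def PosNeg (D : ChevalleyDatum) : Prop :=
  ∀ r, r < D.nroots → D.IsPosRoot r → D.IsNegRoot (D.neg r)

instance (D : ChevalleyDatum) : Decidable (PosNeg D) := by
  unfold PosNeg
  infer_instance

theorem posNeg_G2 : PosNeg chevG2 := by decide +kernel
theorem posNeg_B2 : PosNeg chevB2 := by decide +kernel
theorem posNeg_D4 : PosNeg chevD4 := by decide +kernel
theorem posNeg_F4 : PosNeg chevF4 := by decide +kernel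
theorem posNeg_E6 : PosNeg chevE6 := by decide +kernel
theorem posNeg_E7 : PosNeg chevE7 := by decide +kernel
theorem posNeg_E8 : PosNeg chevE8 := by decide +kernel

theorem posNeg_of_mem (D : ChevalleyDatum)
    (hD : D ∈ [chevG2, chevB2, chevD4, chevF4, chevE6, chevE7, chevE8]) : PosNeg D := by
  simp only [List.mem_cons, List.not_mem_nil, or_false] at hD
  rcases hD with rfl | rfl | rfl | rfl | rfl | rfl | rfl
  · exact posNeg_G2
  · exact posNeg_B2
  · exact posNeg_D4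
  · exact posNeg_F4
  · exact posNeg_E6
  · exact posNeg_E7
  · exact posNeg_E8

variable {F : Type*} [Field F]

/-- the action of `n` on root elements, in `GL` -/
theorem rootAct_GL (D : ChevalleyDatum)
    (hD : D ∈ [chevG2, chevB2, chevD4, chevF4, chevE6, chevE7, chevE8]) (n : GL D.Idx F)
    (σ : ℕ → ℕ) (hσ : RootAct D (n : Matrix D.Idx D.Idx F) σ) (r : ℕ) (hr : r < D.nroots) :
    σ r < D.nroots ∧ σ (D.neg r) = D.neg (σ r) ∧
      ∃ c : F, c ≠ 0 ∧ ∀ t : F, n * xGL D hD r t * n⁻¹ = xGL D hD (σ r) (c * t) := by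
  obtain ⟨h1, h2, c, hc, h3⟩ := hσ r hr
  refine ⟨h1, h2, c, hc, fun t => ?_⟩
  rw [mul_inv_eq_iff_eq_mul]
  apply Units.ext
  rw [Units.val_mul, Units.val_mul, xGL_val, xGL_val]
  exact h3 t

theorem xGL_neg_mem (D : ChevalleyDatum)
    (hD : D ∈ [chevG2, chevB2, chevD4, chevF4, chevE6, chevE7, chevE8]) (r : ℕ) (hr : D.IsNegRoot r)
    (a : F) : xGL D hD r a ∈ D.negUnipotent F :=
  Subgroup.subset_closure ⟨r, a, hr, xGL_val D hD r a⟩

theorem xGL_mem_rootSubgroup (D : ChevalleyDatum)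
    (hD : D ∈ [chevG2, chevB2, chevD4, chevF4, chevE6, chevE7, chevE8]) (r : ℕ) (a : F) :
    xGL D hD r a ∈ D.rootSubgroup F r :=
  Subgroup.subset_closure ⟨a, xGL_val D hD r a⟩

/-- a criterion for `n X_r n⁻¹ ≤ K` -/
theorem map_conj_le (D : ChevalleyDatum)
    (hD : D ∈ [chevG2, chevB2, chevD4, chevF4, chevE6, chevE7, chevE8]) (n : GL D.Idx F)
    (K : Subgroup (GL D.Idx F)) (r : ℕ) (h : ∀ t : F, n * xGL D hD r t * n⁻¹ ∈ K) :
    (D.rootSubgroup F r).map (MulAut.conj n).toMonoidHom ≤ K := by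
  rw [Subgroup.map_le_iff_le_comap]
  unfold ChevalleyDatum.rootSubgroup
  rw [Subgroup.closure_le]
  rintro g ⟨t, hg⟩
  have hg' : g = xGL D hD r t := Units.ext hg
  show n * g * n⁻¹ ∈ K
  rw [hg']
  exact h t

/-- the subgroup `U_n⁻` generated by the positive root subgroups that `n` conjugates into `V` -/
def Uminus (D : ChevalleyDatum) (F : Type*) [Field F] (n : GL D.Idx F) : Subgroup (GL D.Idx F) :=
  Subgroup.closure {x : GL D.Idx F | ∃ (r : ℕ) (t : F), D.IsPosRoot r ∧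
    (D.rootSubgroup F r).map (MulAut.conj n).toMonoidHom ≤ D.negUnipotent F ∧
    (x : Matrix D.Idx D.Idx F) = D.x F r t}

theorem uminus_le_pos (D : ChevalleyDatum) (n : GL D.Idx F) :
    Uminus D F n ≤ D.posUnipotent F := by
  unfold Uminus ChevalleyDatum.posUnipotent
  apply Subgroup.closure_mono
  rintro g ⟨r, t, hr, -, hg⟩
  exact ⟨r, t, hr, hg⟩

/-- `n U_n⁻ n⁻¹ ≤ V` -/
theorem conj_uminus_mem (D : ChevalleyDatum)
    (hD : D ∈ [chevG2, chevB2, chevD4, chevF4, chevE6, chevE7, chevE8]) (n u : GL D.Idx F)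
    (hu : u ∈ Uminus D F n) : n * u * n⁻¹ ∈ D.negUnipotent F := by
  have hle : Uminus D F n ≤ (D.negUnipotent F).comap (MulAut.conj n).toMonoidHom := by
    unfold Uminus
    rw [Subgroup.closure_le]
    rintro g ⟨r, t, -, hmap, hg⟩
    have hg' : g = xGL D hD r t := Units.ext hg
    apply hmap
    exact Subgroup.mem_map_of_mem _ (by rw [hg']; exact xGL_mem_rootSubgroup D hD r t)
  exact hle hu

/-- `U m ⊆ U_{m⁻¹}⁻ m B` -/
def GoodL (D : ChevalleyDatum) (F : Type*) [Field F] (m : GL D.Idx F) : Prop :=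
  ∀ u ∈ D.posUnipotent F, ∃ u₁ ∈ Uminus D F m⁻¹, ∃ b ∈ D.borelSubgroup F, u * m = u₁ * m * b

theorem goodL_one (D : ChevalleyDatum) : GoodL D F 1 := by
  intro u hu
  exact ⟨1, one_mem _, u, pos_le_borel D hu, by group⟩

/-- `n_p⁻¹ U_p n_p ≤ U` -/
theorem conj_inv_Up_mem (D : ChevalleyDatum) (H : Hyp D F) (i : ℕ) (hi : i < D.rank)
    (s : GL D.Idx F) (hs : (s : Matrix D.Idx D.Idx F) = D.nMat F (D.simple i) 1)
    (u : GL D.Idx F) (hu : u ∈ Up D F i) : s⁻¹ * u * s ∈ D.posUnipotent F := by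
  have h1 := conj_Up_mem D H i hi s hs u hu
  have h2 : (s * s)⁻¹ ∈ D.diagonalSubgroup F := inv_mem (s_sq_mem D H i hi s hs)
  have h3 := (Subgroup.mem_normalizer_iff.mp (diagonal_le_normalizer_pos D H.mem h2) _).mp h1
  have e : s⁻¹ * u * s = (s * s)⁻¹ * (s * u * s⁻¹) * ((s * s)⁻¹)⁻¹ := by group
  rw [e]
  exact h3

/-- the inductive step: if `m'⁻¹(p) > 0` then `U m' ⊆ U⁻ m' B` gives `U n_p m' ⊆ U⁻ n_p m' B` -/
theorem goodL_step (D : ChevalleyDatum) (H : Hyp D F) (hdec : Decomp D F) (i : ℕ)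
    (hi : i < D.rank) (s : GL D.Idx F)
    (hs : (s : Matrix D.Idx D.Idx F) = D.nMat F (D.simple i) 1) (m' : GL D.Idx F) (τ : ℕ → ℕ)
    (hτ : RootAct D ((m'⁻¹ : GL D.Idx F) : Matrix D.Idx D.Idx F) τ)
    (hpos : D.IsPosRoot (τ (D.simple i))) (hgood : GoodL D F m') : GoodL D F (s * m') := by
  have hD := H.mem
  obtain ⟨hS1, hS2, hSpos, hSneg, hSnn, -⟩ := H.simple i hi
  have hp : D.simple i < D.nroots := hSpos.1
  -- the action of `(s m')⁻¹`
  have hsinv : ((s⁻¹ : GL D.Idx F) : Matrix D.Idx D.Idx F) = D.nMat F (D.simple i) (-1) := by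
    rw [Matrix.coe_units_inv, hs]
    exact Matrix.inv_eq_right_inv (nMat_mul_neg D hD _ hp)
  have hact : RootAct D (((s * m')⁻¹ : GL D.Idx F) : Matrix D.Idx D.Idx F)
      (τ ∘ D.reflectRoot i) := by
    rw [mul_inv_rev, Units.val_mul, hsinv]
    exact rootAct_mul D _ _ τ _ hτ (rootAct_simple_inv D H i hi)
  intro u hu
  obtain ⟨u', hu', t, x, hx, e⟩ := hdec i hi u⁻¹ (inv_mem hu)
  have hx' : x = xGL D hD (D.simple i) t := Units.ext hx
  have hueq : u = x⁻¹ * u'⁻¹ := by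
    rw [← mul_inv_rev, ← e, inv_inv]
  have hv : s⁻¹ * u'⁻¹ * s ∈ D.posUnipotent F :=
    conj_inv_Up_mem D H i hi s hs _ (inv_mem hu')
  obtain ⟨u₁, hu₁, b, hb, e1⟩ := hgood _ hv
  refine ⟨x⁻¹ * (s * u₁ * s⁻¹), ?_, b, hb, ?_⟩
  · apply mul_mem
    · apply inv_mem
      apply Subgroup.subset_closure
      refine ⟨D.simple i, t, hSpos, ?_, hx⟩
      apply map_conj_le D hD
      intro a
      obtain ⟨-, -, c, -, hc⟩ := rootAct_GL D hD _ _ hact (D.simple i) hp
      rw [hc a]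
      apply xGL_neg_mem D hD
      show D.IsNegRoot (τ (D.reflectRoot i (D.simple i)))
      rw [hS1, (hτ (D.simple i) hp).2.1]
      exact posNeg_of_mem D hD _ hpos.1 hpos
    · have hle : Uminus D F m'⁻¹ ≤
          (Uminus D F (s * m')⁻¹).comap (MulAut.conj s).toMonoidHom := by
        unfold Uminus
        rw [Subgroup.closure_le]
        rintro g ⟨r, a, hr, hmap, hg⟩
        have hg' : g = xGL D hD r a := Units.ext hg
        show s * g * s⁻¹ ∈ Subgroup.closure {x : GL D.Idx F | ∃ (r : ℕ) (t : F), D.IsPosRoot r ∧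
          (D.rootSubgroup F r).map (MulAut.conj (s * m')⁻¹).toMonoidHom ≤ D.negUnipotent F ∧
          (x : Matrix D.Idx D.Idx F) = D.x F r t}
        rw [hg', s_mul_xGL D H i hi s hs r hr.1 a, mul_inv_cancel_right]
        obtain ⟨hr1, hr2, -, hr4, -⟩ := H.refl i hi r hr.1
        have hne : r ≠ D.simple i := by
          rintro rfl
          obtain ⟨hq, -, c, hc0, hc⟩ := rootAct_GL D hD _ _ hτ (D.simple i) hp
          have h1 : m'⁻¹ * xGL D hD (D.simple i) 1 * m'⁻¹⁻¹ ∈ D.negUnipotent F :=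
            hmap (Subgroup.mem_map_of_mem _ (xGL_mem_rootSubgroup D hD _ 1))
          rw [hc 1, mul_one] at h1
          have h2 : xGL D hD (τ (D.simple i)) c ∈ D.borelSubgroup F ⊓ D.negUnipotent F :=
            ⟨pos_le_borel D (xGL_pos_mem D hD _ hpos _), h1⟩
          rw [borel_inf_neg D hD, Subgroup.mem_bot] at h2
          have h3 : D.x F (τ (D.simple i)) c = 1 := by
            rw [← xGL_val D hD, h2, Units.val_one]
          exact hc0 ((Cfsg.Agent.S1024.result D hD _ hq c).mp h3)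
        apply Subgroup.subset_closure
        refine ⟨D.reflectRoot i r, _, hr4 hr hne, ?_, xGL_val D hD _ _⟩
        apply map_conj_le D hD
        intro a'
        obtain ⟨-, -, c, -, hc⟩ := rootAct_GL D hD _ _ hact (D.reflectRoot i r) hr1
        rw [hc a']
        show xGL D hD (τ (D.reflectRoot i (D.reflectRoot i r))) (c * a') ∈ D.negUnipotent F
        rw [hr2]
        -- `x_{τ r}(c a') ∈ m'⁻¹ X_r m' ≤ V`
        obtain ⟨-, -, c', hc'0, hc'⟩ := rootAct_GL D hD _ _ hτ r hr.1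
        have h1 : m'⁻¹ * xGL D hD r (c'⁻¹ * (c * a')) * m'⁻¹⁻¹ ∈ D.negUnipotent F :=
          hmap (Subgroup.mem_map_of_mem _ (xGL_mem_rootSubgroup D hD _ _))
        rw [hc', ← mul_assoc, mul_inv_cancel₀ hc'0, one_mul] at h1
        exact h1
      exact hle hu₁
  · calc u * (s * m') = x⁻¹ * s * (s⁻¹ * u'⁻¹ * s * m') := by rw [hueq]; group
      _ = x⁻¹ * s * (u₁ * m' * b) := by rw [e1]
      _ = x⁻¹ * (s * u₁ * s⁻¹) * (s * m') * b := by group

end Cfsg.Agent.Lib.Helper5.ChevTits
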