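import Mathlib
import Cfsg.Agent.Lib.Helper5.ChevTitsW

/-!
# Bruhat normal form: reduced words and assembly (helper5)
-/

set_option autoImplicit false
set_option linter.style.haveILetI false
set_option linter.unusedSectionVars false

namespace Cfsg.Agent.Lib.Helper5.ChevTits

open Cfsg.Lie Cfsg.Agent.Lib.Helper5.ChevSym Cfsg.Agent.Lib.Helper5.ChevBN
  Cfsg.Agent.Lib.Helper5.ChevGen Cfsg.Agent.Lib.Helper10.CoxExch

variable {F : Type*} [Field F]

/-- the action of `(n_p m')⁻¹` on the roots -/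
theorem rootAct_inv_smul (D : ChevalleyDatum) (H : Hyp D F) (i : ℕ) (hi : i < D.rank)
    (s : GL D.Idx F) (hs : (s : Matrix D.Idx D.Idx F) = D.nMat F (D.simple i) 1)
    (m' : GL D.Idx F) (τ : ℕ → ℕ)
    (hτ : RootAct D ((m'⁻¹ : GL D.Idx F) : Matrix D.Idx D.Idx F) τ) :
    RootAct D (((s * m')⁻¹ : GL D.Idx F) : Matrix D.Idx D.Idx F) (τ ∘ D.reflectRoot i) := by
  have hp : D.simple i < D.nroots := (H.simple i hi).2.2.1.1
  have hsinv : ((s⁻¹ : GL D.Idx F) : Matrix D.Idx D.Idx F) = D.nMat F (D.simple i) (-1) := by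
    rw [Matrix.coe_units_inv, hs]
    exact Matrix.inv_eq_right_inv (nMat_mul_neg D H.mem _ hp)
  rw [mul_inv_rev, Units.val_mul, hsinv]
  exact rootAct_mul D _ _ τ _ hτ (rootAct_simple_inv D H i hi)

/-- if `n⁻¹(p) > 0` then `n_p B n ⊆ B n_p n B` -/
theorem ps_of_pos (D : ChevalleyDatum) (H : Hyp D F) (hdec : Decomp D F) (i : ℕ)
    (hi : i < D.rank) (s : GL D.Idx F)
    (hs : (s : Matrix D.Idx D.Idx F) = D.nMat F (D.simple i) 1) (n : GL D.Idx F)
    (hn : n ∈ D.monomialSubgroup F) (τ : ℕ → ℕ)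
    (hτ : RootAct D ((n⁻¹ : GL D.Idx F) : Matrix D.Idx D.Idx F) τ)
    (hpos : D.IsPosRoot (τ (D.simple i))) (b : GL D.Idx F) (hb : b ∈ D.borelSubgroup F) :
    ∃ b1 ∈ D.borelSubgroup F, ∃ b2 ∈ D.borelSubgroup F, s * b * n = b1 * (s * n) * b2 := by
  have hD := H.mem
  have hp : D.simple i < D.nroots := (H.simple i hi).2.2.1.1
  obtain ⟨u, hu, h, hh, e⟩ := (mem_borel D hD b).mp hb
  obtain ⟨u', hu', t, x, hx, e2⟩ := hdec i hi u hu
  have hx' : x = xGL D hD (D.simple i) t := Units.ext hx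
  obtain ⟨-, -, c, -, hc⟩ := rootAct_GL D hD _ _ hτ (D.simple i) hp
  refine ⟨s * u' * s⁻¹, pos_le_borel D (conj_Up_mem D H i hi s hs u' hu'),
    xGL D hD (τ (D.simple i)) (c * t) * (n⁻¹ * h * n), ?_, ?_⟩
  · exact mul_mem (pos_le_borel D (xGL_pos_mem D hD _ hpos _))
      (diag_le_borel D (conj_inv_mem_diagonal D hD n h hn hh))
  · rw [← hc t, ← e, e2, hx']
    group

section words

variable (D : ChevalleyDatum) (H : Hyp D F) (hdec : Decomp D F)

/-- a word of minimal length among those with the same image in the Weyl group -/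
def Minimal (ω : List (bnPair D H hdec).S) : Prop :=
  ∀ ω' : List (bnPair D H hdec).S,
    val (sig (bnPair D H hdec)) ω' = val (sig (bnPair D H hdec)) ω → ω.length ≤ ω'.length

/-- the product of a word, in `GL` -/
def wGL (ω : List (bnPair D H hdec).S) : GL D.Idx F :=
  (((val (sN' (bnPair D H hdec)) ω : (bnPair D H hdec).N) : ↥(D.group F)) : GL D.Idx F)

theorem wGL_nil : wGL D H hdec [] = 1 := rfl

theorem wGL_cons (s : (bnPair D H hdec).S) (ω : List (bnPair D H hdec).S) :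
    wGL D H hdec (s :: ω) = ((s : ↥(D.group F)) : GL D.Idx F) * wGL D H hdec ω := by
  unfold wGL
  rw [coe_val_cons]
  rfl

theorem wGL_mem (ω : List (bnPair D H hdec).S) : wGL D H hdec ω ∈ D.monomialSubgroup F :=
  Subgroup.mem_subgroupOf.mp (val (sN' (bnPair D H hdec)) ω).2

theorem minimal_tail (s : (bnPair D H hdec).S) (ρ : List (bnPair D H hdec).S)
    (h : Minimal D H hdec (s :: ρ)) : Minimal D H hdec ρ := by
  intro ω' hω'
  have h1 := h (s :: ω') (by rw [val_cons, val_cons, hω'])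
  simp only [List.length_cons] at h1
  omega

theorem minimal_PsW (s : (bnPair D H hdec).S) (ρ : List (bnPair D H hdec).S)
    (h : Minimal D H hdec (s :: ρ)) :
    PsW (bnPair D H hdec) s (val (sig (bnPair D H hdec)) ρ) := by
  by_contra hne
  obtain ⟨b, t, c, hρ, hrel⟩ := exch_of_not_PsW s ρ hne
  have h2 : val (sig (bnPair D H hdec)) (b ++ c) = val (sig (bnPair D H hdec)) (s :: ρ) := by
    rw [hρ, val_cons, val_append, val_append, val_cons, ← mul_assoc (sig _ s), hrel,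
      mul_assoc (val _ b), ← mul_assoc (sig _ t), sig_sq, one_mul]
  have h3 := h (b ++ c) h2
  rw [hρ] at h3
  simp only [List.length_cons, List.length_append] at h3
  omega

/-- `ℓ(s ρ) > ℓ(ρ)` forces `ρ⁻¹(p) > 0` -/
theorem pos_of_PsW (s : (bnPair D H hdec).S) (ρ : List (bnPair D H hdec).S) (i : ℕ)
    (hi : i < D.rank)
    (hs : (((s : ↥(D.group F)) : GL D.Idx F) : Matrix D.Idx D.Idx F) = D.nMat F (D.simple i) 1)
    (h1 : PsW (bnPair D H hdec) s (val (sig (bnPair D H hdec)) ρ)) (τ : ℕ → ℕ)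
    (hτ : RootAct D (((wGL D H hdec ρ)⁻¹ : GL D.Idx F) : Matrix D.Idx D.Idx F) τ) :
    D.IsPosRoot (τ (D.simple i)) := by
  have hD := H.mem
  obtain ⟨hS1, -, hSpos, -, -, -⟩ := H.simple i hi
  have hp : D.simple i < D.nroots := hSpos.1
  obtain ⟨hq, hqn, -⟩ := hτ (D.simple i) hp
  rcases Cfsg.Agent.S1041.pos_or_neg D hD _ hq with hpos | hneg
  · exact hpos
  · exfalso
    obtain ⟨hq'pos, -⟩ := negPos_of_mem D hD _ hq hneg
    set nρ : (bnPair D H hdec).N := val (sN' (bnPair D H hdec)) ρ with hnρ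
    rw [← mk_val] at h1
    have hact := rootAct_inv_smul D H i hi _ hs (wGL D H hdec ρ) τ hτ
    have hpos' : D.IsPosRoot ((τ ∘ D.reflectRoot i) (D.simple i)) := by
      show D.IsPosRoot (τ (D.reflectRoot i (D.simple i)))
      rw [hS1, hqn]
      exact hq'pos
    have hPs : Ps (bnPair D H hdec) (s : ↥(D.group F))
        ((sN' (bnPair D H hdec) s * nρ : (bnPair D H hdec).N) : ↥(D.group F)) := by
      intro b hb
      have hbB : (b : GL D.Idx F) ∈ D.borelSubgroup F := Subgroup.mem_subgroupOf.mp hb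
      have hnN : ((s : ↥(D.group F)) : GL D.Idx F) * wGL D H hdec ρ ∈ D.monomialSubgroup F :=
        mul_mem (Subgroup.mem_subgroupOf.mp ((bnPair D H hdec).subset s.2)) (wGL_mem D H hdec ρ)
      obtain ⟨b1, hb1, b2, hb2, e⟩ := ps_of_pos D H hdec i hi _ hs _ hnN _ hact hpos' _ hbB
      refine ⟨⟨b1, borel_le_group D hD hb1⟩, Subgroup.mem_subgroupOf.mpr hb1,
        ⟨b2, borel_le_group D hD hb2⟩, Subgroup.mem_subgroupOf.mpr hb2, ?_⟩
      apply Subtype.ext
      exact e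
    have h2 : PsW (bnPair D H hdec) s
        (sig (bnPair D H hdec) s * QuotientGroup.mk nρ) := by
      have : sig (bnPair D H hdec) s * QuotientGroup.mk nρ =
          QuotientGroup.mk (sN' (bnPair D H hdec) s * nρ) := rfl
      rw [this, PsW_iff]
      exact hPs
    exact not_PsW_both s _ h1 h2

/-- reduced words are good -/
theorem goodL_of_minimal : ∀ ω : List (bnPair D H hdec).S, Minimal D H hdec ω →
    GoodL D F (wGL D H hdec ω) := by
  intro ω
  induction ω with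
  | nil =>
    intro _
    rw [wGL_nil]
    exact goodL_one D
  | cons s ρ ih =>
    intro hmin
    have hgood := ih (minimal_tail D H hdec s ρ hmin)
    have hPsW := minimal_PsW D H hdec s ρ hmin
    obtain ⟨i, hi, hs⟩ := s.2
    obtain ⟨-, ⟨τ, hτ⟩⟩ := monomial_le_acts D H (wGL_mem D H hdec ρ)
    have hpos := pos_of_PsW D H hdec s ρ i hi hs hPsW τ hτ
    rw [wGL_cons]
    exact goodL_step D H hdec i hi _ hs _ τ hτ hpos hgood

end words


/-- existence of the Bruhat normal form -/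
theorem bruhat_exists (D : ChevalleyDatum) (H : Hyp D F) (hdec : Decomp D F)
    (hbruhat : ∀ g : ↥(D.group F), ∃ n ∈ (bnPair D H hdec).N,
      g ∈ DoubleCoset.doubleCoset n ((bnPair D H hdec).B : Set ↥(D.group F)) (bnPair D H hdec).B)
    (g : GL D.Idx F) (hg : g ∈ D.group F) :
    ∃ b ∈ D.borelSubgroup F, ∃ n ∈ D.monomialSubgroup F, ∃ u ∈ Uminus D F n, g = b * n * u := by
  have hD := H.mem
  obtain ⟨m, hm, hgC⟩ := hbruhat ⟨g⁻¹, inv_mem hg⟩
  rw [DoubleCoset.mem_doubleCoset] at hgC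
  obtain ⟨x, hx, y, hy, hxy⟩ := hgC
  have hxB : (x : GL D.Idx F) ∈ D.borelSubgroup F := Subgroup.mem_subgroupOf.mp hx
  have hyB : (y : GL D.Idx F) ∈ D.borelSubgroup F := Subgroup.mem_subgroupOf.mp hy
  have hg' : g⁻¹ = (x : GL D.Idx F) * (m : GL D.Idx F) * (y : GL D.Idx F) :=
    congrArg Subtype.val hxy
  obtain ⟨ω, hω, hmin⟩ := exists_min_word (P := bnPair D H hdec)
    (QuotientGroup.mk (⟨m, hm⟩ : (bnPair D H hdec).N))
  have hmin' : Minimal D H hdec ω := fun ω' h' => hmin ω' (h'.trans hω)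
  have hgood := goodL_of_minimal D H hdec ω hmin'
  have h1 : (QuotientGroup.mk (val (sN' (bnPair D H hdec)) ω) :
      (bnPair D H hdec).N ⧸ ((bnPair D H hdec).B ⊓ (bnPair D H hdec).N).subgroupOf
        (bnPair D H hdec).N) = QuotientGroup.mk (⟨m, hm⟩ : (bnPair D H hdec).N) :=
    (mk_val ω).trans hω
  rw [mk_eq_iff] at h1
  have h0 : (wGL D H hdec ω)⁻¹ * (m : GL D.Idx F) ∈ D.borelSubgroup F :=
    Subgroup.mem_subgroupOf.mp h1
  have hnN := wGL_mem D H hdec ω
  obtain ⟨u₁, hu₁, h₁, hh₁, e⟩ := (mem_borel D hD _).mp hxB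
  obtain ⟨u₁', hu₁', b', hb', e1⟩ := hgood u₁ hu₁
  have hβ : b' * ((wGL D H hdec ω)⁻¹ * h₁ * wGL D H hdec ω) *
      ((wGL D H hdec ω)⁻¹ * (m : GL D.Idx F)) * (y : GL D.Idx F) ∈ D.borelSubgroup F :=
    mul_mem (mul_mem (mul_mem hb' (diag_le_borel D (conj_inv_mem_diagonal D hD _ _ hnN hh₁))) h0)
      hyB
  refine ⟨_, inv_mem hβ, (wGL D H hdec ω)⁻¹, inv_mem hnN, u₁'⁻¹, inv_mem hu₁', ?_⟩
  have e2 : g⁻¹ = u₁' * wGL D H hdec ω * (b' * ((wGL D H hdec ω)⁻¹ * h₁ * wGL D H hdec ω) *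
      ((wGL D H hdec ω)⁻¹ * (m : GL D.Idx F)) * (y : GL D.Idx F)) := by
    calc g⁻¹ = u₁ * wGL D H hdec ω * (((wGL D H hdec ω)⁻¹ * h₁ * wGL D H hdec ω) *
          ((wGL D H hdec ω)⁻¹ * (m : GL D.Idx F)) * (y : GL D.Idx F)) := by
          rw [hg', ← e]; group
      _ = _ := by rw [e1]; group
  rw [← inv_inv g, e2]
  group

/-- uniqueness of the Bruhat normal form -/
theorem bruhat_unique (D : ChevalleyDatum) (H : Hyp D F) (hdec : Decomp D F)
    (b b' n n' u u' : GL D.Idx F) (hb : b ∈ D.borelSubgroup F) (hb' : b' ∈ D.borelSubgroup F)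
    (hn : n ∈ D.monomialSubgroup F) (hn' : n' ∈ D.monomialSubgroup F)
    (hu : u ∈ Uminus D F n) (hu' : u' ∈ Uminus D F n') (e : b * n * u = b' * n' * u') :
    n⁻¹ * n' ∈ D.diagonalSubgroup F ∧ (n = n' → b = b' ∧ u = u') := by
  have hD := H.mem
  have hBG := borel_le_group D hD (F := F)
  have hNG := monomial_le_group D hD (F := F)
  have huB : u ∈ D.borelSubgroup F := pos_le_borel D (uminus_le_pos D n hu)
  have hu'B : u' ∈ D.borelSubgroup F := pos_le_borel D (uminus_le_pos D n' hu')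
  constructor
  · set nG : (bnPair D H hdec).N := ⟨⟨n, hNG hn⟩, Subgroup.mem_subgroupOf.mpr hn⟩ with hnG
    set n'G : (bnPair D H hdec).N := ⟨⟨n', hNG hn'⟩, Subgroup.mem_subgroupOf.mpr hn'⟩ with hn'G
    have hDC : DC (bnPair D H hdec) (nG : ↥(D.group F)) (n'G : ↥(D.group F)) := by
      refine ⟨⟨b'⁻¹ * b, hBG (mul_mem (inv_mem hb') hb)⟩,
        Subgroup.mem_subgroupOf.mpr (mul_mem (inv_mem hb') hb),
        ⟨u * u'⁻¹, hBG (mul_mem huB (inv_mem hu'B))⟩,
        Subgroup.mem_subgroupOf.mpr (mul_mem huB (inv_mem hu'B)), ?_⟩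
      apply Subtype.ext
      show n' = b'⁻¹ * b * n * (u * u'⁻¹)
      have : b'⁻¹ * b * n * (u * u'⁻¹) = b'⁻¹ * (b * n * u) * u'⁻¹ := by group
      rw [this, e]
      group
    have h1 := bruhat nG n'G hDC
    rw [mk_eq_iff] at h1
    have h2 : n⁻¹ * n' ∈ D.borelSubgroup F := Subgroup.mem_subgroupOf.mp h1
    rw [← borel_inf_monomial' D hD]
    exact Subgroup.mem_inf.mpr ⟨h2, mul_mem (inv_mem hn) hn'⟩
  · intro hnn
    subst hnn
    have h1 : b'⁻¹ * b = n * (u' * u⁻¹) * n⁻¹ := by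
      have : b'⁻¹ * b = b'⁻¹ * (b * n * u) * u⁻¹ * n⁻¹ := by group
      rw [this, e]
      group
    have h2 : b'⁻¹ * b ∈ D.borelSubgroup F ⊓ D.negUnipotent F := by
      refine Subgroup.mem_inf.mpr ⟨mul_mem (inv_mem hb') hb, ?_⟩
      rw [h1]
      exact conj_uminus_mem D hD n _ (mul_mem hu' (inv_mem hu))
    rw [borel_inf_neg D hD, Subgroup.mem_bot] at h2
    have hbb : b = b' := by
      have : b = b' * (b'⁻¹ * b) := by group
      rw [this, h2, mul_one]
    subst hbb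
    exact ⟨rfl, mul_left_cancel e⟩

end Cfsg.Agent.Lib.Helper5.ChevTits
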