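import Mathlib
import Cfsg.Agent.Lib.Helper5.ChevTitsX

/-!
# Bruhat cells of reduced words: cardinalities (helper5)

For a table-reduced word `l` (each letter `a` prepended to `l'` with `l'⁻¹(p_a) > 0`), the group
`U_{n⁻¹}⁻`, `n = n_l`, is in bijection with `F^{|l|}`.
-/

set_option autoImplicit false
set_option linter.style.haveILetI false
set_option linter.unusedSectionVars false

namespace Cfsg.Agent.Lib.Helper5.ChevTits

open Cfsg.Lie Cfsg.Agent.Lib.Helper5.ChevSym Cfsg.Agent.Lib.Helper5.ChevBN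
  Cfsg.Agent.Lib.Helper5.ChevGen

variable {F : Type*} [Field F]

theorem wordNG_append (D : ChevalleyDatum)
    (hD : D ∈ [chevG2, chevB2, chevD4, chevF4, chevE6, chevE7, chevE8]) (l l' : List ℕ) :
    (wordNG D hD (l ++ l') : GL D.Idx F) = wordNG D hD l * wordNG D hD l' := by
  unfold wordNG
  rw [List.map_append, List.prod_append]

theorem wordRefl_append (D : ChevalleyDatum) (l l' : List ℕ) (r : ℕ) :
    wordRefl D (l ++ l') r = wordRefl D l (wordRefl D l' r) := by
  unfold wordRefl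
  rw [List.foldr_append]

theorem wordRefl_lt (D : ChevalleyDatum) (hR : ReflOK D) (l : List ℕ)
    (hl : ∀ a ∈ l, a < D.rank) (r : ℕ) (hr : r < D.nroots) : wordRefl D l r < D.nroots := by
  induction l with
  | nil => exact hr
  | cons a l ih =>
    rw [wordRefl_cons]
    exact (hR a (hl a List.mem_cons_self) _
      (ih (fun b hb => hl b (List.mem_cons_of_mem _ hb)))).1

theorem wordRefl_reverse_cancel (D : ChevalleyDatum) (hR : ReflOK D) (l : List ℕ)
    (hl : ∀ a ∈ l, a < D.rank) (r : ℕ) (hr : r < D.nroots) :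
    wordRefl D l.reverse (wordRefl D l r) = r := by
  induction l with
  | nil => rfl
  | cons a l ih =>
    have hl' : ∀ b ∈ l, b < D.rank := fun b hb => hl b (List.mem_cons_of_mem _ hb)
    rw [List.reverse_cons, wordRefl_append]
    have h1 : wordRefl D [a] (wordRefl D (a :: l) r) = wordRefl D l r := by
      show D.reflectRoot a (D.reflectRoot a (wordRefl D l r)) = _
      exact (hR a (hl a List.mem_cons_self) _ (wordRefl_lt D hR l hl' r hr)).2.1
    rw [h1]
    exact ih hl'

theorem mem_reverse_lt (D : ChevalleyDatum) (l : List ℕ) (hl : ∀ a ∈ l, a < D.rank) :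
    ∀ a ∈ l.reverse, a < D.rank := fun a ha => hl a (List.mem_reverse.mp ha)

theorem wordRefl_cancel_reverse (D : ChevalleyDatum) (hR : ReflOK D) (l : List ℕ)
    (hl : ∀ a ∈ l, a < D.rank) (r : ℕ) (hr : r < D.nroots) :
    wordRefl D l (wordRefl D l.reverse r) = r := by
  have := wordRefl_reverse_cancel D hR l.reverse (mem_reverse_lt D l hl) r hr
  rwa [List.reverse_reverse] at this

theorem rootAct_wordNG (D : ChevalleyDatum) (H : Hyp D F) (l : List ℕ)
    (hl : ∀ a ∈ l, a < D.rank) :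
    RootAct D ((wordNG D H.mem l : GL D.Idx F) : Matrix D.Idx D.Idx F) (wordRefl D l) := by
  induction l with
  | nil =>
    rw [wordNG_nil, Units.val_one]
    exact rootAct_one D
  | cons a l ih =>
    rw [wordNG_cons, Units.val_mul, nG_val]
    exact rootAct_mul D _ _ _ _ (rootAct_simple D H a (hl a List.mem_cons_self))
      (ih (fun b hb => hl b (List.mem_cons_of_mem _ hb)))

theorem rootAct_wordNG_inv (D : ChevalleyDatum) (H : Hyp D F) (l : List ℕ)
    (hl : ∀ a ∈ l, a < D.rank) :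
    RootAct D (((wordNG D H.mem l)⁻¹ : GL D.Idx F) : Matrix D.Idx D.Idx F)
      (wordRefl D l.reverse) := by
  induction l with
  | nil =>
    rw [wordNG_nil, inv_one, Units.val_one]
    exact rootAct_one D
  | cons a l ih =>
    have h1 : wordRefl D (a :: l).reverse = wordRefl D l.reverse ∘ D.reflectRoot a := by
      funext r
      rw [List.reverse_cons, wordRefl_append]
      rfl
    rw [wordNG_cons, h1]
    exact rootAct_inv_smul D H a (hl a List.mem_cons_self) _ (nG_val D H.mem a) _ _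
      (ih (fun b hb => hl b (List.mem_cons_of_mem _ hb)))

/-- table-reduced words -/
def redB (D : ChevalleyDatum) : List ℕ → Bool
  | [] => true
  | a :: l => decide (a < D.rank) &&
      decide (D.IsPosRoot (wordRefl D l.reverse (D.simple a))) && redB D l

theorem redB_cons (D : ChevalleyDatum) (a : ℕ) (l : List ℕ) (h : redB D (a :: l) = true) :
    a < D.rank ∧ D.IsPosRoot (wordRefl D l.reverse (D.simple a)) ∧ redB D l = true := by
  simp only [redB, Bool.and_eq_true, decide_eq_true_eq] at h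
  exact ⟨h.1.1, h.1.2, h.2⟩

theorem redB_lt (D : ChevalleyDatum) : ∀ l : List ℕ, redB D l = true → ∀ a ∈ l, a < D.rank := by
  intro l
  induction l with
  | nil => intro _ a ha; simp at ha
  | cons b l ih =>
    intro h a ha
    obtain ⟨h1, -, h3⟩ := redB_cons D b l h
    rcases List.mem_cons.mp ha with rfl | ha
    · exact h1
    · exact ih h3 a ha

theorem goodL_of_red (D : ChevalleyDatum) (H : Hyp D F) (hdec : Decomp D F) :
    ∀ l : List ℕ, redB D l = true → GoodL D F (wordNG D H.mem l) := by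
  intro l
  induction l with
  | nil =>
    intro _
    rw [wordNG_nil]
    exact goodL_one D
  | cons a l ih =>
    intro h
    obtain ⟨h1, h2, h3⟩ := redB_cons D a l h
    rw [wordNG_cons]
    exact goodL_step D H hdec a h1 _ (nG_val D H.mem a) _ _
      (rootAct_wordNG_inv D H l (redB_lt D l h3)) h2 (ih h3)


section step

variable (D : ChevalleyDatum) (H : Hyp D F) (hdec : Decomp D F) (i : ℕ) (hi : i < D.rank)
  (s : GL D.Idx F) (hs : (s : Matrix D.Idx D.Idx F) = D.nMat F (D.simple i) 1) (m' : GL D.Idx F)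
  (τ : ℕ → ℕ) (hτ : RootAct D ((m'⁻¹ : GL D.Idx F) : Matrix D.Idx D.Idx F) τ)
  (hpos : D.IsPosRoot (τ (D.simple i)))

include H hi hs hτ hpos in
/-- the elements `x_p(t) · n_p u₁ n_p⁻¹` of `U_{(n_p m')⁻¹}⁻` -/
theorem step_mem (t : F) (u₁ : GL D.Idx F) (hu₁ : u₁ ∈ Uminus D F m'⁻¹) :
    xGL D H.mem (D.simple i) t * (s * u₁ * s⁻¹) ∈ Uminus D F (s * m')⁻¹ := by
  have hD := H.mem
  obtain ⟨hS1, hS2, hSpos, hSneg, hSnn, -⟩ := H.simple i hi
  have hp : D.simple i < D.nroots := hSpos.1
  have hact := rootAct_inv_smul D H i hi s hs m' τ hτ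
  apply mul_mem
  · apply Subgroup.subset_closure
    refine ⟨D.simple i, t, hSpos, ?_, xGL_val D hD _ _⟩
    apply map_conj_le D hD
    intro a
    obtain ⟨-, -, c, -, hc⟩ := rootAct_GL D hD _ _ hact (D.simple i) hp
    rw [hc a]
    apply xGL_neg_mem D hD
    show D.IsNegRoot (τ (D.reflectRoot i (D.simple i)))
    rw [hS1, (hτ (D.simple i) hp).2.1]
    exact posNeg_of_mem D hD _ hpos.1 hpos
  · have hle : Uminus D F m'⁻¹ ≤
        (Uminus D F (s * m')⁻¹).comap (MulAut.conj s).toMonoidHom := by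
      unfold Uminus
      rw [Subgroup.closure_le]
      rintro g ⟨r, a, hr, hmap, hg⟩
      have hg' : g = xGL D hD r a := Units.ext hg
      show s * g * s⁻¹ ∈ Subgroup.closure {x : GL D.Idx F | ∃ (r : ℕ) (t : F), D.IsPosRoot r ∧
        (D.rootSubgroup F r).map (MulAut.conj (s * m')⁻¹).toMonoidHom ≤ D.negUnipotent F ∧
        (x : Matrix D.Idx D.Idx F) = D.x F r t}
      rw [hg', s_mul_xGL D H i hi s hs r hr.1 a, mul_inv_cancel_right]
      obtain ⟨hr1, hr2, -, hr4, -⟩ := H.refl i hi r hr.1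
      have hne : r ≠ D.simple i := by
        rintro rfl
        obtain ⟨hq, -, c, hc0, hc⟩ := rootAct_GL D hD _ _ hτ (D.simple i) hp
        have h1 : m'⁻¹ * xGL D hD (D.simple i) 1 * m'⁻¹⁻¹ ∈ D.negUnipotent F :=
          hmap (Subgroup.mem_map_of_mem _ (xGL_mem_rootSubgroup D hD _ 1))
        rw [hc 1, mul_one] at h1
        have h2 : xGL D hD (τ (D.simple i)) c ∈ D.borelSubgroup F ⊓ D.negUnipotent F :=
          Subgroup.mem_inf.mpr ⟨pos_le_borel D (xGL_pos_mem D hD _ hpos _), h1⟩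
        rw [borel_inf_neg D hD, Subgroup.mem_bot] at h2
        have h3 : D.x F (τ (D.simple i)) c = 1 := by
          rw [← xGL_val D hD, h2, Units.val_one]
        exact hc0 ((Cfsg.Agent.S1024.result D hD _ hq c).mp h3)
      apply Subgroup.subset_closure
      refine ⟨D.reflectRoot i r, _, hr4 hr hne, ?_, xGL_val D hD _ _⟩
      apply map_conj_le D hD
      intro a'
      obtain ⟨-, -, c, -, hc⟩ := rootAct_GL D hD _ _ hact (D.reflectRoot i r) hr1
      rw [hc a']
      show xGL D hD (τ (D.reflectRoot i (D.reflectRoot i r))) (c * a') ∈ D.negUnipotent F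
      rw [hr2]
      obtain ⟨-, -, c', hc'0, hc'⟩ := rootAct_GL D hD _ _ hτ r hr.1
      have h1 : m'⁻¹ * xGL D hD r (c'⁻¹ * (c * a')) * m'⁻¹⁻¹ ∈ D.negUnipotent F :=
        hmap (Subgroup.mem_map_of_mem _ (xGL_mem_rootSubgroup D hD _ _))
      rw [hc', ← mul_assoc, mul_inv_cancel₀ hc'0, one_mul] at h1
      exact h1
    exact hle hu₁

include H hdec hi hs in
/-- every `u n_p m'` has the form `x_p(t) · n_p u₁ n_p⁻¹ · n_p m' · b` -/
theorem step_exists (hgood : GoodL D F m') (u : GL D.Idx F) (hu : u ∈ D.posUnipotent F) :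
    ∃ t : F, ∃ u₁ ∈ Uminus D F m'⁻¹, ∃ b ∈ D.borelSubgroup F,
      u * (s * m') = xGL D H.mem (D.simple i) t * (s * u₁ * s⁻¹) * (s * m') * b := by
  have hD := H.mem
  have hp : D.simple i < D.nroots := (H.simple i hi).2.2.1.1
  obtain ⟨u', hu', t, x, hx, e⟩ := hdec i hi u⁻¹ (inv_mem hu)
  have hx' : x = xGL D hD (D.simple i) t := Units.ext hx
  have hueq : u = x⁻¹ * u'⁻¹ := by
    rw [← mul_inv_rev, ← e, inv_inv]
  have hv : s⁻¹ * u'⁻¹ * s ∈ D.posUnipotent F :=
    conj_inv_Up_mem D H i hi s hs _ (inv_mem hu')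
  obtain ⟨u₁, hu₁, b, hb, e1⟩ := hgood _ hv
  refine ⟨-t, u₁, hu₁, b, hb, ?_⟩
  rw [← xGL_inv D hD _ hp, ← hx']
  calc u * (s * m') = x⁻¹ * s * (s⁻¹ * u'⁻¹ * s * m') := by rw [hueq]; group
    _ = x⁻¹ * s * (u₁ * m' * b) := by rw [e1]
    _ = x⁻¹ * (s * u₁ * s⁻¹) * (s * m') * b := by group

include H hdec hi hs hτ hpos in
/-- `|U_{(n_p m')⁻¹}⁻| = q · |U_{m'⁻¹}⁻|` -/
theorem uminus_card_step [Finite F] (hm' : m' ∈ D.monomialSubgroup F) (hgood : GoodL D F m') :
    Nat.card ↥(Uminus D F (s * m')⁻¹) = Nat.card F * Nat.card ↥(Uminus D F m'⁻¹) := by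
  have hD := H.mem
  obtain ⟨hS1, hS2, hSpos, hSneg, hSnn, -⟩ := H.simple i hi
  have hp : D.simple i < D.nroots := hSpos.1
  have hsinv : ((s⁻¹ : GL D.Idx F) : Matrix D.Idx D.Idx F) = D.nMat F (D.simple i) (-1) := by
    rw [Matrix.coe_units_inv, hs]
    exact Matrix.inv_eq_right_inv (nMat_mul_neg D hD _ hp)
  have hsact : RootAct D ((s⁻¹ : GL D.Idx F) : Matrix D.Idx D.Idx F) (D.reflectRoot i) := by
    rw [hsinv]; exact rootAct_simple_inv D H i hi
  let f : F × ↥(Uminus D F m'⁻¹) → ↥(Uminus D F (s * m')⁻¹) := fun x =>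
    ⟨xGL D hD (D.simple i) x.1 * (s * (x.2 : GL D.Idx F) * s⁻¹),
      step_mem D H i hi s hs m' τ hτ hpos x.1 x.2 x.2.2⟩
  have hf : Function.Bijective f := by
    constructor
    · rintro ⟨t, u⟩ ⟨t', u'⟩ hEq
      have h1 : xGL D hD (D.simple i) t * (s * (u : GL D.Idx F) * s⁻¹) =
          xGL D hD (D.simple i) t' * (s * (u' : GL D.Idx F) * s⁻¹) := congrArg Subtype.val hEq
      -- `s⁻¹ x_p(t - t') s = u' u⁻¹`
      have h2 : s⁻¹ * xGL D hD (D.simple i) (-t' + t) * s⁻¹⁻¹ =
          (u' : GL D.Idx F) * (u : GL D.Idx F)⁻¹ := by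
        rw [← xGL_add D hD _ hp, ← xGL_inv D hD _ hp, inv_inv]
        have : (xGL D hD (D.simple i) t')⁻¹ * xGL D hD (D.simple i) t =
            s * (u' : GL D.Idx F) * s⁻¹ * (s * (u : GL D.Idx F) * s⁻¹)⁻¹ := by
          rw [eq_mul_inv_iff_mul_eq, mul_assoc, h1]
          group
        rw [this]
        group
      obtain ⟨-, -, c, hc0, hc⟩ := rootAct_GL D hD _ _ hsact (D.simple i) hp
      rw [hc, hS1] at h2
      have h3 : xGL D hD (D.neg (D.simple i)) (c * (-t' + t)) ∈
          D.borelSubgroup F ⊓ D.negUnipotent F := by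
        refine Subgroup.mem_inf.mpr ⟨?_, xGL_neg_mem D hD _ hSneg _⟩
        rw [h2]
        exact pos_le_borel D (mul_mem (uminus_le_pos D _ u'.2) (inv_mem (uminus_le_pos D _ u.2)))
      rw [borel_inf_neg D hD, Subgroup.mem_bot] at h3
      have h4 : D.x F (D.neg (D.simple i)) (c * (-t' + t)) = 1 := by
        rw [← xGL_val D hD, h3, Units.val_one]
      have h5 := (Cfsg.Agent.S1024.result D hD _ hSneg.1 _).mp h4
      have h6 : -t' + t = 0 := by
        rcases mul_eq_zero.mp h5 with h | h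
        · exact absurd h hc0
        · exact h
      have htt : t = t' := by
        have := neg_add_eq_zero.mp h6
        exact this.symm
      subst htt
      have h7 : (u : GL D.Idx F) = u' := by
        have := mul_left_cancel h1
        have h8 := mul_right_cancel this
        exact mul_left_cancel h8
      rw [Prod.mk.injEq]
      exact ⟨rfl, Subtype.ext h7⟩
    · rintro ⟨v, hv⟩
      obtain ⟨t, u₁, hu₁, b, hb, e⟩ := step_exists D H hdec i hi s hs m' hgood v
        (uminus_le_pos D _ hv)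
      refine ⟨⟨t, ⟨u₁, hu₁⟩⟩, ?_⟩
      apply Subtype.ext
      show xGL D hD (D.simple i) t * (s * u₁ * s⁻¹) = v
      have hy := step_mem D H i hi s hs m' τ hτ hpos t u₁ hu₁
      have hn : (s * m')⁻¹ ∈ D.monomialSubgroup F :=
        inv_mem (mul_mem (simple_mem_monomial D H i hi s hs) hm')
      have e' : 1 * (s * m')⁻¹ * v⁻¹ =
          b⁻¹ * (s * m')⁻¹ * (xGL D hD (D.simple i) t * (s * u₁ * s⁻¹))⁻¹ := by
        have h9 : v = xGL D hD (D.simple i) t * (s * u₁ * s⁻¹) * (s * m') * b * (s * m')⁻¹ := by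
          rw [← e]; group
        rw [h9]
        group
      have h10 := (bruhat_unique D H hdec 1 b⁻¹ _ _ _ _ (one_mem _) (inv_mem hb) hn hn
        (inv_mem hv) (inv_mem hy) e').2 rfl
      exact (inv_injective h10.2).symm
  rw [← Nat.card_congr (Equiv.ofBijective f hf), Nat.card_prod]

end step


theorem uminus_one (D : ChevalleyDatum)
    (hD : D ∈ [chevG2, chevB2, chevD4, chevF4, chevE6, chevE7, chevE8]) :
    Uminus D F 1 = ⊥ := by
  rw [eq_bot_iff]
  unfold Uminus
  rw [Subgroup.closure_le]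
  rintro g ⟨r, t, hr, hmap, hg⟩
  have hg' : g = xGL D hD r t := Units.ext hg
  have h1 : (1 : GL D.Idx F) * g * 1⁻¹ ∈ D.negUnipotent F :=
    hmap (Subgroup.mem_map_of_mem _ (by rw [hg']; exact xGL_mem_rootSubgroup D hD r t))
  rw [one_mul, inv_one, mul_one] at h1
  have h2 : g ∈ D.borelSubgroup F ⊓ D.negUnipotent F :=
    Subgroup.mem_inf.mpr ⟨by rw [hg']; exact pos_le_borel D (xGL_pos_mem D hD r hr t), h1⟩
  rw [borel_inf_neg D hD] at h2
  exact h2

/-- `|U_{n⁻¹}⁻| = q^{|l|}` for a reduced word `l`, `n = n_l` -/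
theorem uminus_card_of_red [Finite F] (D : ChevalleyDatum) (H : Hyp D F) (hdec : Decomp D F) :
    ∀ l : List ℕ, redB D l = true →
      Nat.card ↥(Uminus D F (wordNG D H.mem l)⁻¹) = Nat.card F ^ l.length := by
  intro l
  induction l with
  | nil =>
    intro _
    rw [wordNG_nil, inv_one, uminus_one D H.mem, List.length_nil, pow_zero]
    exact Nat.card_unique
  | cons a l ih =>
    intro h
    obtain ⟨h1, h2, h3⟩ := redB_cons D a l h
    have hl := redB_lt D l h3
    rw [wordNG_cons, uminus_card_step D H hdec a h1 _ (nG_val D H.mem a) _ _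
      (rootAct_wordNG_inv D H l hl) h2 (wordNG_mem_monomial D H l hl) (goodL_of_red D H hdec l h3),
      ih h3, List.length_cons, pow_succ, mul_comm]

end Cfsg.Agent.Lib.Helper5.ChevTits
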