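import Mathlib
import Cfsg.Agent.Lib.Helper5.ChevTitsY
import Cfsg.Agent.Lib.Helper5.ChevTitsV

/-!
# The order of a Chevalley group from the Bruhat decomposition (helper5)

`|G| = |U| |H| Σ_w q^{ℓ(w)}`, the sum over an explicit list of table-reduced words representing
the Weyl group.
-/

set_option autoImplicit false
set_option linter.style.haveILetI false
set_option linter.unusedSectionVars false

namespace Cfsg.Agent.Lib.Helper5.ChevTits

open Cfsg.Lie Cfsg.Agent.Lib.Helper5.ChevSym Cfsg.Agent.Lib.Helper5.ChevBN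
  Cfsg.Agent.Lib.Helper5.ChevGen Cfsg.Agent.Lib.Helper10.CoxExch

variable {F : Type*} [Field F]

/-- the product of a word in the distinguished generators is a word in the `n_{p_i}` -/
theorem wGL_eq_wordNG (D : ChevalleyDatum) (H : Hyp D F) (hdec : Decomp D F)
    (ω : List (bnPair D H hdec).S) :
    ∃ l : List ℕ, (∀ a ∈ l, a < D.rank) ∧ wGL D H hdec ω = wordNG D H.mem l := by
  induction ω with
  | nil => exact ⟨[], by simp, rfl⟩
  | cons s ω ih =>
    obtain ⟨l, hl, e⟩ := ih
    obtain ⟨i, hi, hs⟩ := s.2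
    refine ⟨i :: l, ?_, ?_⟩
    · intro a ha
      rcases List.mem_cons.mp ha with rfl | ha
      · exact hi
      · exact hl a ha
    · rw [wGL_cons, wordNG_cons, e]
      congr 1
      apply Units.ext
      rw [hs, nG_val]

/-- `N = ⋃_l n_l H` -/
theorem monomial_eq_word (D : ChevalleyDatum) (H : Hyp D F) (hdec : Decomp D F)
    (m : GL D.Idx F) (hm : m ∈ D.monomialSubgroup F) :
    ∃ l : List ℕ, (∀ a ∈ l, a < D.rank) ∧ (wordNG D H.mem l)⁻¹ * m ∈ D.diagonalSubgroup F := by
  have hD := H.mem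
  set mN : (bnPair D H hdec).N :=
    ⟨⟨m, monomial_le_group D hD hm⟩, Subgroup.mem_subgroupOf.mpr hm⟩ with hmN
  obtain ⟨ω, hω⟩ := exists_word (P := bnPair D H hdec) (QuotientGroup.mk mN)
  have h1 : (QuotientGroup.mk (val (sN' (bnPair D H hdec)) ω) :
      (bnPair D H hdec).N ⧸ ((bnPair D H hdec).B ⊓ (bnPair D H hdec).N).subgroupOf
        (bnPair D H hdec).N) = QuotientGroup.mk mN := (mk_val ω).trans hω
  rw [mk_eq_iff] at h1
  have h0 : (wGL D H hdec ω)⁻¹ * m ∈ D.borelSubgroup F := Subgroup.mem_subgroupOf.mp h1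
  obtain ⟨l, hl, e⟩ := wGL_eq_wordNG D H hdec ω
  refine ⟨l, hl, ?_⟩
  rw [← e, ← borel_inf_monomial' D hD]
  exact Subgroup.mem_inf.mpr ⟨h0, mul_mem (inv_mem (wGL_mem D H hdec ω)) hm⟩

/-- an element acting trivially on the roots maps `U` into `U` -/
theorem conj_pos_of_fix (D : ChevalleyDatum)
    (hD : D ∈ [chevG2, chevB2, chevD4, chevF4, chevE6, chevE7, chevE8]) (n : GL D.Idx F)
    (σ : ℕ → ℕ) (hσ : RootAct D (n : Matrix D.Idx D.Idx F) σ)
    (hfix : ∀ r, r < D.nroots → σ r = r) (u : GL D.Idx F) (hu : u ∈ D.posUnipotent F) :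
    n * u * n⁻¹ ∈ D.posUnipotent F := by
  have hle : D.posUnipotent F ≤ (D.posUnipotent F).comap (MulAut.conj n).toMonoidHom := by
    unfold ChevalleyDatum.posUnipotent
    rw [Subgroup.closure_le]
    rintro g ⟨r, t, hr, hg⟩
    have hg' : g = xGL D hD r t := Units.ext hg
    show n * g * n⁻¹ ∈ Subgroup.closure {g : GL D.Idx F | ∃ (r : ℕ) (t : F), D.IsPosRoot r ∧
      (g : Matrix D.Idx D.Idx F) = D.x F r t}
    obtain ⟨-, -, c, -, hc⟩ := rootAct_GL D hD n σ hσ r hr.1
    rw [hg', hc, hfix r hr.1]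
    exact xGL_pos_mem D hD r hr _
  exact hle hu

/-- words with the same action on the roots give the same coset of `H` -/
theorem word_same_action (D : ChevalleyDatum) (H : Hyp D F) (hdec : Decomp D F)
    (hpar : ∀ M : Subgroup ↥(D.group F), (bnPair D H hdec).B ≤ M →
      ∃ K ⊆ (bnPair D H hdec).S, M = (bnPair D H hdec).parabolic K)
    (l l' : List ℕ) (hl : ∀ a ∈ l, a < D.rank) (hl' : ∀ a ∈ l', a < D.rank)
    (hact : ∀ r, r < D.nroots → wordRefl D l r = wordRefl D l' r) :
    (wordNG D H.mem l)⁻¹ * wordNG D H.mem l' ∈ D.diagonalSubgroup F := by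
  have hD := H.mem
  set n : GL D.Idx F := (wordNG D hD l)⁻¹ * wordNG D hD l' with hn
  have hnN : n ∈ D.monomialSubgroup F :=
    mul_mem (inv_mem (wordNG_mem_monomial D H l hl)) (wordNG_mem_monomial D H l' hl')
  have hσ : RootAct D (n : Matrix D.Idx D.Idx F) (wordRefl D l.reverse ∘ wordRefl D l') := by
    rw [hn, Units.val_mul]
    exact rootAct_mul D _ _ _ _ (rootAct_wordNG_inv D H l hl) (rootAct_wordNG D H l' hl')
  have hfix : ∀ r, r < D.nroots → (wordRefl D l.reverse ∘ wordRefl D l') r = r := by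
    intro r hr
    show wordRefl D l.reverse (wordRefl D l' r) = r
    rw [← hact r hr]
    exact wordRefl_reverse_cancel D H.refl l hl r hr
  have hninv : n⁻¹ = (wordNG D hD l')⁻¹ * wordNG D hD l := by
    rw [hn, mul_inv_rev, inv_inv]
  have hσ' : RootAct D ((n⁻¹ : GL D.Idx F) : Matrix D.Idx D.Idx F)
      (wordRefl D l'.reverse ∘ wordRefl D l) := by
    rw [hninv, Units.val_mul]
    exact rootAct_mul D _ _ _ _ (rootAct_wordNG_inv D H l' hl') (rootAct_wordNG D H l hl)
  have hfix' : ∀ r, r < D.nroots → (wordRefl D l'.reverse ∘ wordRefl D l) r = r := by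
    intro r hr
    show wordRefl D l'.reverse (wordRefl D l r) = r
    rw [hact r hr]
    exact wordRefl_reverse_cancel D H.refl l' hl' r hr
  have hnorm : n ∈ Subgroup.normalizer (D.posUnipotent F : Set (GL D.Idx F)) := by
    rw [Subgroup.mem_normalizer_iff]
    intro u
    constructor
    · exact conj_pos_of_fix D hD n _ hσ hfix u
    · intro hu
      have := conj_pos_of_fix D hD n⁻¹ _ hσ' hfix' _ hu
      rw [inv_inv] at this
      have e : n⁻¹ * (n * u * n⁻¹) * n = u := by group
      rwa [e] at this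
  have hB := normalizer_posUnipotent_le D H hdec hpar
    (Subgroup.mem_inf.mpr ⟨hnorm, monomial_le_group D hD hnN⟩)
  rw [← borel_inf_monomial' D hD]
  exact Subgroup.mem_inf.mpr ⟨hB, hnN⟩

/-- `n_l n_{l reversed} ∈ H` -/
theorem wordNG_reverse_mem (D : ChevalleyDatum) (H : Hyp D F) (l : List ℕ)
    (hl : ∀ a ∈ l, a < D.rank) :
    wordNG D H.mem l * wordNG D H.mem l.reverse ∈ D.diagonalSubgroup F := by
  have hD := H.mem
  induction l with
  | nil =>
    rw [List.reverse_nil, wordNG_nil, mul_one]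
    exact one_mem _
  | cons a l ih =>
    have ha : a < D.rank := hl a List.mem_cons_self
    have hl' : ∀ b ∈ l, b < D.rank := fun b hb => hl b (List.mem_cons_of_mem _ hb)
    have h1 := ih hl'
    have hs := nG_val D hD a (F := F)
    have hsN := simple_mem_monomial D H a ha _ hs
    have e : (wordNG D hD (a :: l) * wordNG D hD (a :: l).reverse : GL D.Idx F) =
        nG D hD a * (wordNG D hD l * wordNG D hD l.reverse) * (nG D hD a)⁻¹ *
          (nG D hD a * nG D hD a) := by
      rw [List.reverse_cons, wordNG_append, wordNG_cons, wordNG_cons, wordNG_nil, mul_one]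
      group
    rw [e]
    exact mul_mem (conj_mem_diagonal' D hD _ _ hsN h1) (s_sq_mem D H a ha _ hs)

/-- words in the same coset of `H` act in the same way on the roots -/
theorem act_eq_of_mem (D : ChevalleyDatum) (H : Hyp D F) (l l' : List ℕ)
    (hl : ∀ a ∈ l, a < D.rank) (hl' : ∀ a ∈ l', a < D.rank)
    (h : wordNG D H.mem l * (wordNG D H.mem l')⁻¹ ∈ D.diagonalSubgroup F) (r : ℕ)
    (hr : r < D.nroots) : wordRefl D l r = wordRefl D l' r := by
  have hD := H.mem
  have h1 := wordNG_reverse_mem D H l' hl'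
  have h2 : (wordNG D hD (l ++ l'.reverse) : GL D.Idx F) ∈ D.diagonalSubgroup F := by
    have e : (wordNG D hD (l ++ l'.reverse) : GL D.Idx F) = wordNG D hD l * (wordNG D hD l')⁻¹ *
        (wordNG D hD l' * wordNG D hD l'.reverse) := by
      rw [wordNG_append]; group
    rw [e]
    exact mul_mem h h1
  have hlall : ∀ a ∈ l ++ l'.reverse, a < D.rank := by
    intro a ha
    rcases List.mem_append.mp ha with ha | ha
    · exact hl a ha
    · exact hl' a (List.mem_reverse.mp ha)
  have hr' : wordRefl D l' r < D.nroots := wordRefl_lt D H.refl l' hl' r hr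
  have h3 := wordNG_diag D H _ hlall h2 _ hr'
  rw [wordRefl_append, wordRefl_reverse_cancel D H.refl l' hl' r hr] at h3
  exact h3

end Cfsg.Agent.Lib.Helper5.ChevTits
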