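import Mathlib
import Cfsg.Agent.Lib.Helper5.ChevTitsZ

/-!
# The order of a Chevalley group: the counting argument (helper5)
-/

set_option autoImplicit false
set_option linter.style.haveILetI false
set_option linter.unusedSectionVars false

namespace Cfsg.Agent.Lib.Helper5.ChevTits

open Cfsg.Lie Cfsg.Agent.Lib.Helper5.ChevSym Cfsg.Agent.Lib.Helper5.ChevBN
  Cfsg.Agent.Lib.Helper5.ChevGen Cfsg.Agent.Lib.Helper5.ChevGrad

/-- the action of a word on the roots, as a list -/
def actL (D : ChevalleyDatum) (l : List ℕ) : List ℕ := (List.range D.nroots).map (wordRefl D l)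

theorem actL_eq_iff (D : ChevalleyDatum) (l l' : List ℕ) :
    actL D l = actL D l' ↔ ∀ r, r < D.nroots → wordRefl D l r = wordRefl D l' r := by
  unfold actL
  rw [List.map_inj_left]
  constructor
  · intro h r hr; exact h r (List.mem_range.mpr hr)
  · intro h r hr; exact h r (List.mem_range.mp hr)

theorem actL_cons (D : ChevalleyDatum) (a : ℕ) (l : List ℕ) :
    actL D (a :: l) = (actL D l).map (D.reflectRoot a) := by
  unfold actL
  rw [List.map_map]
  rfl

/-- `reps` is a list of table-reduced words representing every element of the Weyl group once;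
`acts` is the list of their actions -/
def coverB (D : ChevalleyDatum) (reps acts : List (List ℕ)) : Bool :=
  decide (acts = reps.map (actL D)) && reps.all (redB D) && reps.contains [] &&
  acts.all (fun act => (List.range D.rank).all
    (fun a => acts.contains (act.map (D.reflectRoot a)))) &&
  decide acts.Nodup

theorem coverB_spec (D : ChevalleyDatum) (reps acts : List (List ℕ))
    (h : coverB D reps acts = true) :
    acts = reps.map (actL D) ∧ (∀ l ∈ reps, redB D l = true) ∧ [] ∈ reps ∧
      (∀ act ∈ acts, ∀ a, a < D.rank → act.map (D.reflectRoot a) ∈ acts) ∧ acts.Nodup := by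
  unfold coverB at h
  simp only [Bool.and_eq_true, decide_eq_true_eq, List.all_eq_true, List.contains_iff_mem,
    List.mem_range] at h
  obtain ⟨⟨⟨⟨h1, h2⟩, h3⟩, h4⟩, h5⟩ := h
  exact ⟨h1, h2, h3, h4, h5⟩

theorem cover_exists (D : ChevalleyDatum) (reps acts : List (List ℕ))
    (h : coverB D reps acts = true) :
    ∀ l : List ℕ, (∀ a ∈ l, a < D.rank) → ∃ l' ∈ reps, actL D l = actL D l' := by
  obtain ⟨h1, -, h3, h4, -⟩ := coverB_spec D reps acts h
  intro l
  induction l with
  | nil => intro _; exact ⟨[], h3, rfl⟩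
  | cons a l ih =>
    intro hl
    obtain ⟨l', hl', e⟩ := ih (fun b hb => hl b (List.mem_cons_of_mem _ hb))
    have h5 : (actL D l').map (D.reflectRoot a) ∈ acts := by
      apply h4 _ _ a (hl a List.mem_cons_self)
      rw [h1]
      exact List.mem_map_of_mem hl'
    rw [h1, List.mem_map] at h5
    obtain ⟨l'', hl'', e2⟩ := h5
    exact ⟨l'', hl'', by rw [actL_cons, e, e2]⟩

variable {F : Type*} [Field F]

/-- `|G| = |B| Σ_w q^{ℓ(w)}` -/
theorem card_group_eq [Fintype F] (D : ChevalleyDatum) (H : Hyp D F) (hdec : Decomp D F)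
    (hpar : ∀ M : Subgroup ↥(D.group F), (bnPair D H hdec).B ≤ M →
      ∃ K ⊆ (bnPair D H hdec).S, M = (bnPair D H hdec).parabolic K)
    (hbruhat : ∀ g : ↥(D.group F), ∃ n ∈ (bnPair D H hdec).N,
      g ∈ DoubleCoset.doubleCoset n ((bnPair D H hdec).B : Set ↥(D.group F)) (bnPair D H hdec).B)
    (reps acts : List (List ℕ)) (hc : coverB D reps acts = true) :
    Nat.card ↥(D.group F) = Nat.card ↥(D.borelSubgroup F) *
      (reps.map (fun l => Nat.card F ^ l.length)).sum := by
  classical
  have hD := H.mem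
  obtain ⟨h1, h2, h3, h4, h5⟩ := coverB_spec D reps acts hc
  have hBG := borel_le_group D hD (F := F)
  have hNG := monomial_le_group D hD (F := F)
  have hUG := posUnipotent_le_group D (F := F)
  have hvalid : ∀ k : Fin reps.length, ∀ a ∈ reps[k.1], a < D.rank := fun k =>
    redB_lt D _ (h2 _ (List.getElem_mem k.2))
  let Ψ : (Σ k : Fin reps.length,
      ↥(D.borelSubgroup F) × ↥(Uminus D F (wordNG D hD reps[k.1])⁻¹)) → ↥(D.group F) :=
    fun x => ⟨(x.2.1 : GL D.Idx F) * (wordNG D hD reps[x.1.1])⁻¹ * (x.2.2 : GL D.Idx F),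
      mul_mem (mul_mem (hBG x.2.1.2)
        (inv_mem (hNG (wordNG_mem_monomial D H _ (hvalid x.1)))))
        (hUG (uminus_le_pos D _ x.2.2.2))⟩
  have hΨ : Function.Bijective Ψ := by
    constructor
    · rintro ⟨k, b, u⟩ ⟨k', b', u'⟩ hEq
      have e : (b : GL D.Idx F) * (wordNG D hD reps[k.1])⁻¹ * (u : GL D.Idx F) =
          (b' : GL D.Idx F) * (wordNG D hD reps[k'.1])⁻¹ * (u' : GL D.Idx F) :=
        congrArg Subtype.val hEq
      have hu := bruhat_unique D H hdec _ _ _ _ _ _ b.2 b'.2
        (inv_mem (wordNG_mem_monomial D H _ (hvalid k)))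
        (inv_mem (wordNG_mem_monomial D H _ (hvalid k'))) u.2 u'.2 e
      have hkk : k = k' := by
        have hH := hu.1
        rw [inv_inv] at hH
        have hact := act_eq_of_mem D H _ _ (hvalid k) (hvalid k') hH
        have hA : actL D reps[k.1] = actL D reps[k'.1] := (actL_eq_iff D _ _).mpr hact
        have hlen : acts.length = reps.length := by rw [h1, List.length_map]
        have hk1 : k.1 < acts.length := by rw [hlen]; exact k.2
        have hk2 : k'.1 < acts.length := by rw [hlen]; exact k'.2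
        have hg1 : acts[k.1] = actL D reps[k.1] := by
          simp only [h1, List.getElem_map]
        have hg2 : acts[k'.1] = actL D reps[k'.1] := by
          simp only [h1, List.getElem_map]
        have := (h5.getElem_inj_iff (hi := hk1) (hj := hk2)).mp (by rw [hg1, hg2, hA])
        exact Fin.ext this
      subst hkk
      obtain ⟨hb, huu⟩ := hu.2 rfl
      have hb' : b = b' := Subtype.ext hb
      have hu' : u = u' := Subtype.ext huu
      rw [hb', hu']
    · intro g
      obtain ⟨m, hm, hgC⟩ := hbruhat g⁻¹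
      rw [DoubleCoset.mem_doubleCoset] at hgC
      obtain ⟨x, hx, y, hy, hxy⟩ := hgC
      have hxB : (x : GL D.Idx F) ∈ D.borelSubgroup F := Subgroup.mem_subgroupOf.mp hx
      have hyB : (y : GL D.Idx F) ∈ D.borelSubgroup F := Subgroup.mem_subgroupOf.mp hy
      have hmN : (m : GL D.Idx F) ∈ D.monomialSubgroup F := Subgroup.mem_subgroupOf.mp hm
      have hg' : (g : GL D.Idx F)⁻¹ = (x : GL D.Idx F) * (m : GL D.Idx F) * (y : GL D.Idx F) :=
        congrArg Subtype.val hxy
      obtain ⟨l₀, hl₀, hm0⟩ := monomial_eq_word D H hdec _ hmN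
      obtain ⟨l', hl', hA⟩ := cover_exists D reps acts hc l₀ hl₀
      obtain ⟨k, hk, rfl⟩ := List.getElem_of_mem hl'
      set l' : List ℕ := reps[k] with hl'def
      have hl'v : ∀ a ∈ l', a < D.rank := redB_lt D _ (h2 _ hl')
      have hsame := word_same_action D H hdec hpar l' l₀ hl'v hl₀
        (fun r hr => ((actL_eq_iff D _ _).mp hA r hr).symm)
      have hh' : (wordNG D hD l')⁻¹ * (m : GL D.Idx F) ∈ D.diagonalSubgroup F := by
        have e : (wordNG D hD l')⁻¹ * (m : GL D.Idx F) =
            ((wordNG D hD l')⁻¹ * wordNG D hD l₀) * ((wordNG D hD l₀)⁻¹ * (m : GL D.Idx F)) := by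
          group
        rw [e]
        exact mul_mem hsame hm0
      have hgood := goodL_of_red D H hdec l' (h2 _ hl')
      have hnN := wordNG_mem_monomial D H l' hl'v
      obtain ⟨u₁, hu₁, h₁, hh₁, e⟩ := (mem_borel D hD _).mp hxB
      obtain ⟨u₁', hu₁', b', hb', e1⟩ := hgood u₁ hu₁
      have hβ : b' * ((wordNG D hD l')⁻¹ * h₁ * wordNG D hD l') *
          ((wordNG D hD l')⁻¹ * (m : GL D.Idx F)) * (y : GL D.Idx F) ∈ D.borelSubgroup F :=
        mul_mem (mul_mem (mul_mem hb'
          (diag_le_borel D (conj_inv_mem_diagonal D hD _ _ hnN hh₁))) (diag_le_borel D hh')) hyB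
      have e2 : (g : GL D.Idx F)⁻¹ = u₁' * wordNG D hD l' *
          (b' * ((wordNG D hD l')⁻¹ * h₁ * wordNG D hD l') *
            ((wordNG D hD l')⁻¹ * (m : GL D.Idx F)) * (y : GL D.Idx F)) := by
        calc (g : GL D.Idx F)⁻¹ = u₁ * wordNG D hD l' *
              (((wordNG D hD l')⁻¹ * h₁ * wordNG D hD l') *
                ((wordNG D hD l')⁻¹ * (m : GL D.Idx F)) * (y : GL D.Idx F)) := by
              rw [hg', ← e]; group
          _ = _ := by rw [e1]; group
      refine ⟨⟨⟨k, hk⟩, ⟨_, inv_mem hβ⟩, ⟨u₁'⁻¹, inv_mem hu₁'⟩⟩, ?_⟩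
      apply Subtype.ext
      show _ * (wordNG D hD l')⁻¹ * u₁'⁻¹ = (g : GL D.Idx F)
      rw [← inv_inv (g : GL D.Idx F), e2]
      group
  rw [← Nat.card_congr (Equiv.ofBijective Ψ hΨ), Nat.card_sigma]
  have hterm : ∀ k : Fin reps.length,
      Nat.card (↥(D.borelSubgroup F) × ↥(Uminus D F (wordNG D hD reps[k.1])⁻¹)) =
        Nat.card ↥(D.borelSubgroup F) * Nat.card F ^ (reps[k.1]).length := by
    intro k
    rw [Nat.card_prod, uminus_card_of_red D H hdec _ (h2 _ (List.getElem_mem k.2))]
  rw [Finset.sum_congr rfl (fun k _ => hterm k), ← Finset.mul_sum,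
    Fin.sum_univ_fun_getElem reps (fun l => Nat.card F ^ l.length)]


/-- `U ∩ H = 1` -/
theorem pos_inf_diagonal (D : ChevalleyDatum)
    (hD : D ∈ [chevG2, chevB2, chevD4, chevF4, chevE6, chevE7, chevE8]) (x : GL D.Idx F)
    (hU : x ∈ D.posUnipotent F) (hH : x ∈ D.diagonalSubgroup F) : x = 1 := by
  have h := posUnipotent_unipotent D (tabOK_of_mem D hD) x hU
  apply diag_part_eq_one D hD x 1 hH (one_mem _) (D.rank + D.nroots)
  rw [mul_one]
  exact h

/-- `|B| = |U| |H|` -/
theorem card_borel [Fintype F] (D : ChevalleyDatum)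
    (hD : D ∈ [chevG2, chevB2, chevD4, chevF4, chevE6, chevE7, chevE8]) :
    Nat.card ↥(D.borelSubgroup F) =
      Nat.card ↥(D.posUnipotent F) * Nat.card ↥(D.diagonalSubgroup F) := by
  classical
  let f : ↥(D.posUnipotent F) × ↥(D.diagonalSubgroup F) → ↥(D.borelSubgroup F) := fun x =>
    ⟨(x.1 : GL D.Idx F) * (x.2 : GL D.Idx F),
      mul_mem (pos_le_borel D x.1.2) (diag_le_borel D x.2.2)⟩
  have hf : Function.Bijective f := by
    constructor
    · rintro ⟨u, h⟩ ⟨u', h'⟩ hEq
      have e : (u : GL D.Idx F) * (h : GL D.Idx F) = (u' : GL D.Idx F) * (h' : GL D.Idx F) :=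
        congrArg Subtype.val hEq
      have e2 : (u' : GL D.Idx F)⁻¹ * (u : GL D.Idx F) =
          (h' : GL D.Idx F) * (h : GL D.Idx F)⁻¹ := by
        rw [inv_mul_eq_iff_eq_mul, ← mul_assoc, eq_mul_inv_iff_mul_eq]
        exact e
      have h1 := pos_inf_diagonal D hD _ (mul_mem (inv_mem u'.2) u.2)
        (by rw [e2]; exact mul_mem h'.2 (inv_mem h.2))
      have hu : (u : GL D.Idx F) = u' := by
        rw [inv_mul_eq_one] at h1
        exact h1.symm
      have hh : (h : GL D.Idx F) = h' := by
        rw [hu] at e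
        exact mul_left_cancel e
      rw [Prod.mk.injEq]
      exact ⟨Subtype.ext hu, Subtype.ext hh⟩
    · rintro ⟨b, hb⟩
      obtain ⟨u, hu, h, hh, e⟩ := (mem_borel D hD b).mp hb
      exact ⟨⟨⟨u, hu⟩, ⟨h, hh⟩⟩, Subtype.ext e⟩
  rw [← Nat.card_congr (Equiv.ofBijective f hf), Nat.card_prod]

/-- the longest element: a table-reduced word of length `N` mapping every positive root to a
negative root -/
def longB (D : ChevalleyDatum) (l₀ : List ℕ) : Bool :=
  redB D l₀ && (List.range D.nroots).all (fun r => !(decide (D.IsPosRoot r)) ||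
    decide (D.IsNegRoot (wordRefl D l₀.reverse r))) && decide (l₀.length = D.nroots / 2)

/-- `|U| = q^N` -/
theorem card_posUnipotent' [Fintype F] (D : ChevalleyDatum) (H : Hyp D F) (hdec : Decomp D F)
    (l₀ : List ℕ) (hl₀ : longB D l₀ = true) :
    Nat.card ↥(D.posUnipotent F) = Nat.card F ^ (D.nroots / 2) := by
  have hD := H.mem
  unfold longB at hl₀
  simp only [Bool.and_eq_true, decide_eq_true_eq, List.all_eq_true, List.mem_range,
    Bool.or_eq_true, Bool.not_eq_true', decide_eq_false_iff_not] at hl₀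
  obtain ⟨⟨h1, h2⟩, h3⟩ := hl₀
  have hl := redB_lt D l₀ h1
  have heq : D.posUnipotent F = Uminus D F (wordNG D hD l₀)⁻¹ := by
    apply le_antisymm
    · unfold ChevalleyDatum.posUnipotent Uminus
      apply Subgroup.closure_mono
      rintro g ⟨r, t, hr, hg⟩
      refine ⟨r, t, hr, ?_, hg⟩
      apply map_conj_le D hD
      intro a
      obtain ⟨-, -, c, -, hc⟩ := rootAct_GL D hD _ _ (rootAct_wordNG_inv D H l₀ hl) r hr.1
      rw [hc a]
      apply xGL_neg_mem D hD
      rcases h2 r hr.1 with h | h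
      · exact absurd hr h
      · exact h
    · exact uminus_le_pos D _
  rw [heq, uminus_card_of_red D H hdec l₀ h1, h3]


/-- `|G| = q^N |H| Σ_w q^{ℓ(w)}` -/
theorem card_group_formula [Fintype F] (D : ChevalleyDatum) (H : Hyp D F) (hdec : Decomp D F)
    (hpar : ∀ M : Subgroup ↥(D.group F), (bnPair D H hdec).B ≤ M →
      ∃ K ⊆ (bnPair D H hdec).S, M = (bnPair D H hdec).parabolic K)
    (hbruhat : ∀ g : ↥(D.group F), ∃ n ∈ (bnPair D H hdec).N,
      g ∈ DoubleCoset.doubleCoset n ((bnPair D H hdec).B : Set ↥(D.group F)) (bnPair D H hdec).B)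
    (reps acts : List (List ℕ)) (hc : coverB D reps acts = true)
    (l₀ : List ℕ) (hl₀ : longB D l₀ = true) :
    Nat.card ↥(D.group F) = Nat.card F ^ (D.nroots / 2) * Nat.card ↥(D.diagonalSubgroup F) *
      (reps.map (fun l => Nat.card F ^ l.length)).sum := by
  rw [card_group_eq D H hdec hpar hbruhat reps acts hc, card_borel D H.mem,
    card_posUnipotent' D H hdec l₀ hl₀]

/-- the sum of `q^{|l|}` over a list of words from the list of the lengths -/
theorem sum_pow_length (reps : List (List ℕ)) (q : ℕ) :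
    (reps.map (fun l => q ^ l.length)).sum = ((reps.map List.length).map (fun k => q ^ k)).sum := by
  rw [List.map_map]
  rfl

/-- a list of lengths in blocks -/
theorem sum_pow_blocks (ps : List (ℕ × ℕ)) (q : ℕ) :
    ((ps.flatMap (fun p => List.replicate p.1 p.2)).map (fun k => q ^ k)).sum =
      (ps.map (fun p => p.1 * q ^ p.2)).sum := by
  induction ps with
  | nil => rfl
  | cons p ps ih =>
    rw [List.flatMap_cons, List.map_append, List.sum_append, ih, List.map_cons, List.sum_cons,
      List.map_replicate, List.sum_replicate, smul_eq_mul]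

end Cfsg.Agent.Lib.Helper5.ChevTits
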