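import Mathlib
import Cfsg.Agent.Lib.Helper5.ChevOrd

/-!
# Reduced words for the Weyl group of type B2 (helper5; generated)
-/

set_option autoImplicit false

namespace Cfsg.Agent.Lib.Helper5.ChevTits

open Cfsg.Lie

def repsB2 : List (List ℕ) :=
  [[],
  [0],
  [1],
  [1, 0],
  [0, 1],
  [0, 1, 0],
  [1, 0, 1],
  [1, 0, 1, 0]]

def actsB2 : List (List ℕ) :=
  [[0, 1, 2, 3, 4, 5, 6, 7],
  [3, 1, 5, 0, 7, 2, 6, 4],
  [0, 2, 1, 4, 3, 6, 5, 7],
  [4, 2, 6, 0, 7, 1, 5, 3],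
  [3, 5, 1, 7, 0, 6, 2, 4],
  [7, 5, 6, 3, 4, 1, 2, 0],
  [4, 6, 2, 7, 0, 5, 1, 3],
  [7, 6, 5, 4, 3, 2, 1, 0]]

def longB2 : List ℕ := [1, 0, 1, 0]


set_option maxRecDepth 1000000 in
theorem coverB2 : coverB chevB2 repsB2 actsB2 = true := by decide +kernel

set_option maxRecDepth 1000000 in
theorem longOKB2 : longB chevB2 longB2 = true := by decide +kernel

set_option maxRecDepth 1000000 in
theorem lengthsB2 : repsB2.map List.length =
    [(1, 0), (2, 1), (2, 2), (2, 3), (1, 4)].flatMap (fun p => List.replicate p.1 p.2) := by decide +kernel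

theorem poincareB2 (q : ℕ) : (repsB2.map (fun l => q ^ l.length)).sum =
    1 * q ^ 0 + 2 * q ^ 1 + 2 * q ^ 2 + 2 * q ^ 3 + 1 * q ^ 4 := by
  rw [sum_pow_length, lengthsB2, sum_pow_blocks]
  simp only [List.map_cons, List.map_nil, List.sum_cons, List.sum_nil]
  ring

end Cfsg.Agent.Lib.Helper5.ChevTits
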