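import Mathlib
import Cfsg.Agent.Lib.Helper5.ChevOrd

/-!
# Enumerating the Weyl group along a chain of parabolic subgroups (helper5)

`Enum D J w`: the words `w i` are table-reduced words in the letters `J`, representing every
element of the group generated by the reflections in `J` exactly once.  The step from `J'` to
`J ⊇ J'` uses a list of minimal coset representatives checked on the tables.
-/

set_option autoImplicit false
set_option linter.style.haveILetI false
set_option linter.unusedSectionVars false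

namespace Cfsg.Agent.Lib.Helper5.ChevTits

open Cfsg.Lie Cfsg.Agent.Lib.Helper5.ChevSym Cfsg.Agent.Lib.Helper5.ChevBN
  Cfsg.Agent.Lib.Helper5.ChevGen Cfsg.Agent.Lib.Helper5.ChevGrad

/-- two words act in the same way on the roots -/
def SameAct (D : ChevalleyDatum) (l l' : List ℕ) : Prop :=
  ∀ r, r < D.nroots → wordRefl D l r = wordRefl D l' r

theorem SameAct.symm {D : ChevalleyDatum} {l l' : List ℕ} (h : SameAct D l l') :
    SameAct D l' l := fun r hr => (h r hr).symm

theorem SameAct.trans {D : ChevalleyDatum} {l l' l'' : List ℕ} (h : SameAct D l l')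
    (h' : SameAct D l' l'') : SameAct D l l'' := fun r hr => (h r hr).trans (h' r hr)

theorem sameAct_iff (D : ChevalleyDatum) (l l' : List ℕ) :
    SameAct D l l' ↔ actL D l = actL D l' := (actL_eq_iff D l l').symm

/-- words enumerating the group generated by the reflections in `J` -/
structure Enum (D : ChevalleyDatum) (J : ℕ → Prop) {ι : Type*} (w : ι → List ℕ) : Prop where
  mem : ∀ i, ∀ a ∈ w i, J a
  red : ∀ i, redB D (w i) = true
  cover : ∀ l : List ℕ, (∀ a ∈ l, J a) → ∃ i, SameAct D l (w i)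
  inj : ∀ i j, SameAct D (w i) (w j) → i = j

theorem enum_empty (D : ChevalleyDatum) :
    Enum D (fun _ => False) (fun _ : Unit => ([] : List ℕ)) where
  mem := by intro i a ha; simp at ha
  red := fun _ => rfl
  cover := by
    intro l hl
    refine ⟨(), ?_⟩
    cases l with
    | nil => exact fun r _ => rfl
    | cons a l => exact absurd (hl a List.mem_cons_self) id
  inj := fun _ _ _ => rfl

variable {F : Type*} [Field F]

/-- `|G| = |B| Σ_w q^{ℓ(w)}` from an enumeration of the Weyl group -/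
theorem card_group_enum [Fintype F] (D : ChevalleyDatum) (H : Hyp D F) (hdec : Decomp D F)
    (hpar : ∀ M : Subgroup ↥(D.group F), (bnPair D H hdec).B ≤ M →
      ∃ K ⊆ (bnPair D H hdec).S, M = (bnPair D H hdec).parabolic K)
    (hbruhat : ∀ g : ↥(D.group F), ∃ n ∈ (bnPair D H hdec).N,
      g ∈ DoubleCoset.doubleCoset n ((bnPair D H hdec).B : Set ↥(D.group F)) (bnPair D H hdec).B)
    {ι : Type} [Fintype ι] (w : ι → List ℕ) (hE : Enum D (fun a => a < D.rank) w) :
    Nat.card ↥(D.group F) = Nat.card ↥(D.borelSubgroup F) *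
      ∑ i, Nat.card F ^ (w i).length := by
  classical
  have hD := H.mem
  have hBG := borel_le_group D hD (F := F)
  have hNG := monomial_le_group D hD (F := F)
  have hUG := posUnipotent_le_group D (F := F)
  have hvalid : ∀ k : ι, ∀ a ∈ w k, a < D.rank := hE.mem
  let Ψ : (Σ k : ι,
      ↥(D.borelSubgroup F) × ↥(Uminus D F (wordNG D hD (w k))⁻¹)) → ↥(D.group F) :=
    fun x => ⟨(x.2.1 : GL D.Idx F) * (wordNG D hD (w x.1))⁻¹ * (x.2.2 : GL D.Idx F),
      mul_mem (mul_mem (hBG x.2.1.2)
        (inv_mem (hNG (wordNG_mem_monomial D H _ (hvalid x.1)))))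
        (hUG (uminus_le_pos D _ x.2.2.2))⟩
  have hΨ : Function.Bijective Ψ := by
    constructor
    · rintro ⟨k, b, u⟩ ⟨k', b', u'⟩ hEq
      have e : (b : GL D.Idx F) * (wordNG D hD (w k))⁻¹ * (u : GL D.Idx F) =
          (b' : GL D.Idx F) * (wordNG D hD (w k'))⁻¹ * (u' : GL D.Idx F) :=
        congrArg Subtype.val hEq
      have hu := bruhat_unique D H hdec _ _ _ _ _ _ b.2 b'.2
        (inv_mem (wordNG_mem_monomial D H _ (hvalid k)))
        (inv_mem (wordNG_mem_monomial D H _ (hvalid k'))) u.2 u'.2 e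
      have hkk : k = k' := by
        have hH := hu.1
        rw [inv_inv] at hH
        exact hE.inj k k' (act_eq_of_mem D H _ _ (hvalid k) (hvalid k') hH)
      subst hkk
      obtain ⟨hb, huu⟩ := hu.2 rfl
      have hb' : b = b' := Subtype.ext hb
      have hu' : u = u' := Subtype.ext huu
      rw [hb', hu']
    · intro g
      obtain ⟨m, hm, hgC⟩ := hbruhat g⁻¹
      rw [DoubleCoset.mem_doubleCoset] at hgC
      obtain ⟨x, hx, y, hy, hxy⟩ := hgC
      have hxB : (x : GL D.Idx F) ∈ D.borelSubgroup F := Subgroup.mem_subgroupOf.mp hx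
      have hyB : (y : GL D.Idx F) ∈ D.borelSubgroup F := Subgroup.mem_subgroupOf.mp hy
      have hmN : (m : GL D.Idx F) ∈ D.monomialSubgroup F := Subgroup.mem_subgroupOf.mp hm
      have hg' : (g : GL D.Idx F)⁻¹ = (x : GL D.Idx F) * (m : GL D.Idx F) * (y : GL D.Idx F) :=
        congrArg Subtype.val hxy
      obtain ⟨l₀, hl₀, hm0⟩ := monomial_eq_word D H hdec _ hmN
      obtain ⟨k, hA⟩ := hE.cover l₀ hl₀
      set l' : List ℕ := w k with hl'def
      have hl'v : ∀ a ∈ l', a < D.rank := hvalid k
      have hsame := word_same_action D H hdec hpar l' l₀ hl'v hl₀ hA.symm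
      have hh' : (wordNG D hD l')⁻¹ * (m : GL D.Idx F) ∈ D.diagonalSubgroup F := by
        have e : (wordNG D hD l')⁻¹ * (m : GL D.Idx F) =
            ((wordNG D hD l')⁻¹ * wordNG D hD l₀) * ((wordNG D hD l₀)⁻¹ * (m : GL D.Idx F)) := by
          group
        rw [e]
        exact mul_mem hsame hm0
      have hgood := goodL_of_red D H hdec l' (hE.red k)
      have hnN := wordNG_mem_monomial D H l' hl'v
      obtain ⟨u₁, hu₁, h₁, hh₁, e⟩ := (mem_borel D hD _).mp hxB
      obtain ⟨u₁', hu₁', b', hb', e1⟩ := hgood u₁ hu₁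
      have hβ : b' * ((wordNG D hD l')⁻¹ * h₁ * wordNG D hD l') *
          ((wordNG D hD l')⁻¹ * (m : GL D.Idx F)) * (y : GL D.Idx F) ∈ D.borelSubgroup F :=
        mul_mem (mul_mem (mul_mem hb'
          (diag_le_borel D (conj_inv_mem_diagonal D hD _ _ hnN hh₁))) (diag_le_borel D hh')) hyB
      have e2 : (g : GL D.Idx F)⁻¹ = u₁' * wordNG D hD l' *
          (b' * ((wordNG D hD l')⁻¹ * h₁ * wordNG D hD l') *
            ((wordNG D hD l')⁻¹ * (m : GL D.Idx F)) * (y : GL D.Idx F)) := by
        calc (g : GL D.Idx F)⁻¹ = u₁ * wordNG D hD l' *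
              (((wordNG D hD l')⁻¹ * h₁ * wordNG D hD l') *
                ((wordNG D hD l')⁻¹ * (m : GL D.Idx F)) * (y : GL D.Idx F)) := by
              rw [hg', ← e]; group
          _ = _ := by rw [e1]; group
      refine ⟨⟨k, ⟨_, inv_mem hβ⟩, ⟨u₁'⁻¹, inv_mem hu₁'⟩⟩, ?_⟩
      apply Subtype.ext
      show _ * (wordNG D hD l')⁻¹ * u₁'⁻¹ = (g : GL D.Idx F)
      rw [← inv_inv (g : GL D.Idx F), e2]
      group
  rw [← Nat.card_congr (Equiv.ofBijective Ψ hΨ), Nat.card_sigma]
  have hterm : ∀ k : ι,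
      Nat.card (↥(D.borelSubgroup F) × ↥(Uminus D F (wordNG D hD (w k))⁻¹)) =
        Nat.card ↥(D.borelSubgroup F) * Nat.card F ^ (w k).length := by
    intro k
    rw [Nat.card_prod, uminus_card_of_red D H hdec _ (hE.red k)]
  rw [Finset.sum_congr rfl (fun k _ => hterm k), ← Finset.mul_sum]

end Cfsg.Agent.Lib.Helper5.ChevTits
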