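import Mathlib
import Cfsg.Agent.Lib.Helper5.ChevOrdE

/-!
# One step along the chain of parabolic subgroups (helper5)
-/

set_option autoImplicit false
set_option linter.style.haveILetI false
set_option linter.unusedSectionVars false

namespace Cfsg.Agent.Lib.Helper5.ChevTits

open Cfsg.Lie

/-- table property: no root is both positive and negative -/
def Excl (D : ChevalleyDatum) : Prop :=
  ∀ r, r < D.nroots → ¬ (D.IsPosRoot r ∧ D.IsNegRoot r)

instance (D : ChevalleyDatum) : Decidable (Excl D) := by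
  unfold Excl
  infer_instance

theorem excl_G2 : Excl chevG2 := by decide +kernel
theorem excl_B2 : Excl chevB2 := by decide +kernel
theorem excl_D4 : Excl chevD4 := by decide +kernel
theorem excl_F4 : Excl chevF4 := by decide +kernel
theorem excl_E6 : Excl chevE6 := by decide +kernel
theorem excl_E7 : Excl chevE7 := by decide +kernel
theorem excl_E8 : Excl chevE8 := by decide +kernel

theorem excl_of_mem (D : ChevalleyDatum)
    (hD : D ∈ [chevG2, chevB2, chevD4, chevF4, chevE6, chevE7, chevE8]) : Excl D := by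
  simp only [List.mem_cons, List.not_mem_nil, or_false] at hD
  rcases hD with rfl | rfl | rfl | rfl | rfl | rfl | rfl
  · exact excl_G2
  · exact excl_B2
  · exact excl_D4
  · exact excl_F4
  · exact excl_E6
  · exact excl_E7
  · exact excl_E8

theorem wordRefl_neg (D : ChevalleyDatum) (hR : ReflOK D) (l : List ℕ)
    (hl : ∀ a ∈ l, a < D.rank) (r : ℕ) (hr : r < D.nroots) :
    wordRefl D l (D.neg r) = D.neg (wordRefl D l r) := by
  induction l with
  | nil => rfl
  | cons a l ih =>
    have hl' : ∀ b ∈ l, b < D.rank := fun b hb => hl b (List.mem_cons_of_mem _ hb)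
    rw [wordRefl_cons, wordRefl_cons, ih hl']
    exact (hR a (hl a List.mem_cons_self) _ (wordRefl_lt D hR l hl' r hr)).2.2.1

theorem sameAct_append_left (D : ChevalleyDatum) (hR : ReflOK D) (l₁ l₂ u : List ℕ)
    (hu : ∀ a ∈ u, a < D.rank) (h : SameAct D l₁ l₂) : SameAct D (l₁ ++ u) (l₂ ++ u) := by
  intro r hr
  rw [wordRefl_append, wordRefl_append]
  exact h _ (wordRefl_lt D hR u hu r hr)

theorem sameAct_append_right (D : ChevalleyDatum) (d u₁ u₂ : List ℕ)
    (h : SameAct D u₁ u₂) : SameAct D (d ++ u₁) (d ++ u₂) := by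
  intro r hr
  rw [wordRefl_append, wordRefl_append, h r hr]

theorem sameAct_reverse (D : ChevalleyDatum) (hR : ReflOK D) (l₁ l₂ : List ℕ)
    (h1 : ∀ a ∈ l₁, a < D.rank) (h2 : ∀ a ∈ l₂, a < D.rank) (h : SameAct D l₁ l₂) :
    SameAct D l₁.reverse l₂.reverse := by
  intro r hr
  have hr2 : wordRefl D l₂.reverse r < D.nroots :=
    wordRefl_lt D hR _ (mem_reverse_lt D l₂ h2) r hr
  have e1 : wordRefl D l₁.reverse (wordRefl D l₁ (wordRefl D l₂.reverse r)) =
      wordRefl D l₂.reverse r := wordRefl_reverse_cancel D hR l₁ h1 _ hr2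
  rw [h _ hr2, wordRefl_cancel_reverse D hR l₂ h2 r hr] at e1
  exact e1

theorem sameAct_cancel_left (D : ChevalleyDatum) (hR : ReflOK D) (d u₁ u₂ : List ℕ)
    (hd : ∀ a ∈ d, a < D.rank) (h1 : ∀ a ∈ u₁, a < D.rank) (h2 : ∀ a ∈ u₂, a < D.rank)
    (h : SameAct D (d ++ u₁) (d ++ u₂)) : SameAct D u₁ u₂ := by
  intro r hr
  have e := h r hr
  rw [wordRefl_append, wordRefl_append] at e
  have e2 := congrArg (wordRefl D d.reverse) e
  rwa [wordRefl_reverse_cancel D hR d hd _ (wordRefl_lt D hR u₁ h1 r hr),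
    wordRefl_reverse_cancel D hR d hd _ (wordRefl_lt D hR u₂ h2 r hr)] at e2

/-- the table conditions for a list `R` of minimal coset representatives of `W_J / W_{J'}`;
`Q` is the root subsystem of `J'` -/
structure LevelOK (D : ChevalleyDatum) (J J' : ℕ → Prop) (Q : ℕ → Prop)
    (R : List (List ℕ)) : Prop where
  jlt : ∀ a, J a → a < D.rank
  sub : ∀ a, J' a → J a
  mem : ∀ d ∈ R, ∀ a ∈ d, J a
  red : ∀ d ∈ R, redB D d = true
  minPos : ∀ d ∈ R, ∀ r, Q r → D.IsPosRoot r → D.IsPosRoot (wordRefl D d r)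
  minNeg : ∀ d ∈ R, ∀ r, Q r → D.IsNegRoot r → D.IsNegRoot (wordRefl D d r)
  suffix : ∀ a d, a :: d ∈ R → d ∈ R
  nil : [] ∈ R
  closure : ∀ d ∈ R, ∀ a, J a → (∃ d' ∈ R, SameAct D (a :: d) d') ∨
    (∃ j, J' j ∧ SameAct D (a :: d) (d ++ [j]))
  nodup : ∀ d ∈ R, ∀ d' ∈ R, SameAct D d d' → d = d'
  rnodup : R.Nodup
  qlt : ∀ r, Q r → r < D.nroots
  qsimple : ∀ j, J' j → Q (D.simple j)
  qrefl : ∀ j, J' j → ∀ r, Q r → Q (D.reflectRoot j r)

/-- `W_{J'}` stabilises the positive roots outside the subsystem of `J'` -/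
theorem stab_outside (D : ChevalleyDatum) (hR : ReflOK D) (hS : SimpleNe D)
    {J J' : ℕ → Prop} {Q : ℕ → Prop} {R : List (List ℕ)} (hL : LevelOK D J J' Q R)
    (v : List ℕ) (hv : ∀ a ∈ v, J' a) (r : ℕ) (hr : D.IsPosRoot r) (hQ : ¬ Q r) :
    D.IsPosRoot (wordRefl D v r) ∧ ¬ Q (wordRefl D v r) := by
  induction v with
  | nil => exact ⟨hr, hQ⟩
  | cons j v ih =>
    have hj : J' j := hv j List.mem_cons_self
    have hjr : j < D.rank := hL.jlt j (hL.sub j hj)
    obtain ⟨h1, h2⟩ := ih (fun b hb => hv b (List.mem_cons_of_mem _ hb))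
    rw [wordRefl_cons]
    obtain ⟨-, k2, -, k4, -⟩ := hR j hjr _ h1.1
    have hne : wordRefl D v r ≠ D.simple j := by
      intro e
      exact h2 (e ▸ hL.qsimple j hj)
    refine ⟨k4 h1 hne, ?_⟩
    intro hq
    apply h2
    have := hL.qrefl j hj _ hq
    rwa [k2] at this

theorem q_word (D : ChevalleyDatum) {J J' : ℕ → Prop} {Q : ℕ → Prop} {R : List (List ℕ)}
    (hL : LevelOK D J J' Q R) (v : List ℕ) (hv : ∀ a ∈ v, J' a) (r : ℕ) (hq : Q r) :
    Q (wordRefl D v r) := by
  induction v with
  | nil => exact hq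
  | cons j v ih =>
    rw [wordRefl_cons]
    exact hL.qrefl j (hv j List.mem_cons_self) _
      (ih (fun b hb => hv b (List.mem_cons_of_mem _ hb)))


theorem redB_cons_intro (D : ChevalleyDatum) (a : ℕ) (l : List ℕ) (h1 : a < D.rank)
    (h2 : D.IsPosRoot (wordRefl D l.reverse (D.simple a))) (h3 : redB D l = true) :
    redB D (a :: l) = true := by
  simp only [redB, Bool.and_eq_true, decide_eq_true_eq]
  exact ⟨⟨h1, h2⟩, h3⟩

/-- the step along the chain of parabolic subgroups -/
theorem enum_step (D : ChevalleyDatum) (hR : ReflOK D) (hS : SimpleNe D) (hX : Excl D)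
    (hPN : PosNeg D) (hpn : ∀ r, r < D.nroots → D.IsPosRoot r ∨ D.IsNegRoot r)
    {J J' : ℕ → Prop} {Q : ℕ → Prop} {R : List (List ℕ)}
    (hL : LevelOK D J J' Q R) {ι : Type} (w : ι → List ℕ) (hE : Enum D J' w) :
    Enum D J (fun x : Fin R.length × ι => R[x.1.1] ++ w x.2) := by
  have hJ'lt : ∀ a, J' a → a < D.rank := fun a ha => hL.jlt a (hL.sub a ha)
  have hwlt : ∀ i, ∀ a ∈ w i, a < D.rank := fun i a ha => hJ'lt a (hE.mem i a ha)
  have hRlt : ∀ d ∈ R, ∀ a ∈ d, a < D.rank := fun d hd a ha => hL.jlt a (hL.mem d hd a ha)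
  have hRmem : ∀ k : Fin R.length, R[k.1] ∈ R := fun k => List.getElem_mem k.2
  -- reducedness
  have hred : ∀ (u : List ℕ), (∀ a ∈ u, J' a) → redB D u = true →
      ∀ d : List ℕ, d ∈ R → redB D (d ++ u) = true := by
    intro u hu hured d
    induction d with
    | nil => intro _; exact hured
    | cons a d₂ ih =>
      intro hmem
      have hd₂ : d₂ ∈ R := hL.suffix a d₂ hmem
      have ih' := ih hd₂
      obtain ⟨h1, h2, -⟩ := redB_cons D a d₂ (hL.red _ hmem)
      obtain ⟨hS1, -, hSpos, hSneg, -, -⟩ := hS a h1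
      have hd₂lt := hRlt d₂ hd₂
      show redB D (a :: (d₂ ++ u)) = true
      apply redB_cons_intro D a _ h1 _ ih'
      rw [List.reverse_append, wordRefl_append]
      have hnq : ¬ Q (wordRefl D d₂.reverse (D.simple a)) := by
        intro hq
        have h3 := hL.minPos _ hmem _ hq h2
        rw [wordRefl_cons, wordRefl_cancel_reverse D hR d₂ hd₂lt _ hSpos.1, hS1] at h3
        exact hX _ hSneg.1 ⟨h3, hSneg⟩
      exact (stab_outside D hR hS hL u.reverse
        (fun b hb => hu b (List.mem_reverse.mp hb)) _ h2 hnq).1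
  refine ⟨?_, ?_, ?_, ?_⟩
  · rintro ⟨k, i⟩ a ha
    rcases List.mem_append.mp ha with ha | ha
    · exact hL.mem _ (hRmem k) a ha
    · exact hL.sub a (hE.mem i a ha)
  · rintro ⟨k, i⟩
    exact hred (w i) (hE.mem i) (hE.red i) _ (hRmem k)
  · intro l
    induction l with
    | nil =>
      intro _
      obtain ⟨k, hk, e⟩ := List.getElem_of_mem hL.nil
      obtain ⟨i, hi⟩ := hE.cover [] (by simp)
      refine ⟨(⟨k, hk⟩, i), ?_⟩
      show SameAct D [] (R[k] ++ w i)
      rw [e]
      exact hi
    | cons a l ih =>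
      intro hl
      have ha : J a := hl a List.mem_cons_self
      obtain ⟨⟨k, i⟩, hki⟩ := ih (fun b hb => hl b (List.mem_cons_of_mem _ hb))
      have h1 : SameAct D (a :: l) (a :: (R[k.1] ++ w i)) := by
        intro r hr
        rw [wordRefl_cons, wordRefl_cons, hki r hr]
      rcases hL.closure _ (hRmem k) a ha with ⟨d', hd', h2⟩ | ⟨j, hj, h2⟩
      · obtain ⟨k', hk', e⟩ := List.getElem_of_mem hd'
        refine ⟨(⟨k', hk'⟩, i), h1.trans ?_⟩
        show SameAct D ((a :: R[k.1]) ++ w i) (R[k'] ++ w i)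
        rw [e]
        exact sameAct_append_left D hR _ _ _ (hwlt i) h2
      · obtain ⟨i', hi'⟩ := hE.cover (j :: w i) (by
          intro b hb
          rcases List.mem_cons.mp hb with rfl | hb
          · exact hj
          · exact hE.mem i b hb)
        refine ⟨(k, i'), h1.trans ?_⟩
        have h3 : SameAct D ((a :: R[k.1]) ++ w i) ((R[k.1] ++ [j]) ++ w i) :=
          sameAct_append_left D hR _ _ _ (hwlt i) h2
        have h4 : (R[k.1] ++ [j]) ++ w i = R[k.1] ++ (j :: w i) := by
          rw [List.append_assoc]; rfl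
        rw [h4] at h3
        exact h3.trans (sameAct_append_right D _ _ _ hi')
  · rintro ⟨k, i⟩ ⟨k', i'⟩ hsame
    set d := R[k.1] with hd
    set d' := R[k'.1] with hd'
    set u := w i with hu
    set u' := w i' with hu'
    have hdR : d ∈ R := hRmem k
    have hd'R : d' ∈ R := hRmem k'
    have hdlt := hRlt d hdR
    have hd'lt := hRlt d' hd'R
    have hult := hwlt i
    have hu'lt := hwlt i'
    -- `d' = d v` with `v = u u'⁻¹`, and `d = d' v'` with `v' = u' u⁻¹`
    have key : ∀ (d d' u u' : List ℕ), d ∈ R → d' ∈ R → (∀ a ∈ u, J' a) → (∀ a ∈ u', J' a) →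
        SameAct D (d ++ u) (d' ++ u') →
        (∀ r, r < D.nroots → wordRefl D d' r = wordRefl D d (wordRefl D (u ++ u'.reverse) r)) ∧
          ∀ j, J' j → D.IsPosRoot (wordRefl D (u ++ u'.reverse) (D.simple j)) := by
      intro d d' u u' hdR hd'R hu hu' hsame
      have hult : ∀ a ∈ u, a < D.rank := fun a ha => hJ'lt a (hu a ha)
      have hu'lt : ∀ a ∈ u', a < D.rank := fun a ha => hJ'lt a (hu' a ha)
      have h1 : ∀ r, r < D.nroots →
          wordRefl D d' r = wordRefl D d (wordRefl D (u ++ u'.reverse) r) := by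
        intro r hr
        have hr' : wordRefl D u'.reverse r < D.nroots :=
          wordRefl_lt D hR _ (mem_reverse_lt D u' hu'lt) r hr
        have e := hsame _ hr'
        rw [wordRefl_append, wordRefl_append, wordRefl_cancel_reverse D hR u' hu'lt r hr] at e
        rw [wordRefl_append, e]
      refine ⟨h1, ?_⟩
      intro j hj
      obtain ⟨-, -, hSpos, -, -, -⟩ := hS j (hJ'lt j hj)
      have hv : ∀ a ∈ u ++ u'.reverse, J' a := by
        intro a ha
        rcases List.mem_append.mp ha with ha | ha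
        · exact hu a ha
        · exact hu' a (List.mem_reverse.mp ha)
      have hq : Q (wordRefl D (u ++ u'.reverse) (D.simple j)) :=
        q_word D hL _ hv _ (hL.qsimple j hj)
      rcases hpn _ (hL.qlt _ hq) with hp | hn
      · exact hp
      · exfalso
        have h2 := hL.minNeg d hdR _ hq hn
        rw [← h1 _ hSpos.1] at h2
        have h3 := hL.minPos d' hd'R _ (hL.qsimple j hj) hSpos
        exact hX _ h3.1 ⟨h3, h2⟩
    obtain ⟨-, hpos⟩ := key d d' u u' hdR hd'R (hE.mem i) (hE.mem i') hsame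
    obtain ⟨h1', -⟩ := key d' d u' u hd'R hdR (hE.mem i') (hE.mem i) hsame.symm
    -- `v' = u' u⁻¹` acts trivially
    have hv'J : ∀ a ∈ u' ++ u.reverse, J' a := by
      intro a ha
      rcases List.mem_append.mp ha with ha | ha
      · exact hE.mem i' a ha
      · exact hE.mem i a (List.mem_reverse.mp ha)
    have hv'lt : ∀ a ∈ u' ++ u.reverse, a < D.rank := fun a ha => hJ'lt a (hv'J a ha)
    obtain ⟨i₀, hi₀⟩ := hE.cover _ hv'J
    have htriv : SameAct D (u' ++ u.reverse) [] := by
      cases hx : w i₀ with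
      | nil => rw [hx] at hi₀; exact hi₀
      | cons a x' =>
        exfalso
        have haJ : J' a := hE.mem i₀ a (by rw [hx]; exact List.mem_cons_self)
        have hxred := hE.red i₀
        rw [hx] at hxred hi₀
        obtain ⟨ha, hxpos, hx'red⟩ := redB_cons D a x' hxred
        obtain ⟨hS1, -, hSpos, -, -, -⟩ := hS a ha
        have hxlt : ∀ b ∈ a :: x', b < D.rank := by
          intro b hb
          exact hwlt i₀ b (by rw [hx]; exact hb)
        have hx'lt : ∀ b ∈ x', b < D.rank := fun b hb => hxlt b (List.mem_cons_of_mem _ hb)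
        have hrev := sameAct_reverse D hR _ _ hv'lt hxlt hi₀
        have e1 : (u' ++ u.reverse).reverse = u ++ u'.reverse := by
          rw [List.reverse_append, List.reverse_reverse]
        rw [e1] at hrev
        have e2 := hrev _ hSpos.1
        have e3 : wordRefl D (a :: x').reverse (D.simple a) =
            D.neg (wordRefl D x'.reverse (D.simple a)) := by
          rw [List.reverse_cons, wordRefl_append]
          show wordRefl D x'.reverse (D.reflectRoot a (D.simple a)) = _
          rw [hS1]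
          exact wordRefl_neg D hR _ (mem_reverse_lt D x' hx'lt) _ hSpos.1
        have h5 := hpos a haJ
        rw [e2, e3] at h5
        exact hX _ h5.1 ⟨h5, hPN _ hxpos.1 hxpos⟩
    have hdd : SameAct D d d' := by
      intro r hr
      rw [h1' r hr, htriv r hr]
      rfl
    have hdeq : d = d' := hL.nodup d hdR d' hd'R hdd
    have hkk : k = k' := by
      apply Fin.ext
      exact (hL.rnodup.getElem_inj_iff (hi := k.2) (hj := k'.2)).mp hdeq
    subst hkk
    have huu : SameAct D u u' := sameAct_cancel_left D hR d u u' hdlt hult hu'lt hsame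
    have hii : i = i' := hE.inj i i' huu
    rw [hii]

end Cfsg.Agent.Lib.Helper5.ChevTits
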