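import Mathlib
import Cfsg.Agent.Lib.Helper5.ChevOrdL

/-!
# Boolean checks for a level of the chain of parabolic subgroups (helper5)
-/

set_option autoImplicit false
set_option linter.style.haveILetI false
set_option linter.unusedSectionVars false

namespace Cfsg.Agent.Lib.Helper5.ChevTits

open Cfsg.Lie

/-- letters -/
def chkJ (D : ChevalleyDatum) (Jl J'l : List ℕ) : Bool :=
  Jl.all (fun a => decide (a < D.rank)) && J'l.all (fun a => Jl.contains a)

/-- the representatives are reduced words in the letters of `J`, closed under suffixes -/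
def chkR (D : ChevalleyDatum) (Jl : List ℕ) (R : List (List ℕ)) : Bool :=
  R.all (fun d => d.all (fun a => Jl.contains a) && redB D d) &&
  R.all (fun d => match d with
    | [] => true
    | _ :: d₂ => R.contains d₂) && R.contains []

/-- the representatives keep the signs of the roots of the subsystem -/
def chkMin (D : ChevalleyDatum) (Ql : List ℕ) (R : List (List ℕ)) : Bool :=
  R.all (fun d => Ql.all (fun r =>
    (!(decide (D.IsPosRoot r)) || decide (D.IsPosRoot (wordRefl D d r))) &&
    (!(decide (D.IsNegRoot r)) || decide (D.IsNegRoot (wordRefl D d r)))))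

/-- closure under left multiplication by the generators, modulo `W_{J'}` -/
def chkClosure (D : ChevalleyDatum) (Jl J'l : List ℕ) (A : List (List ℕ)) : Bool :=
  A.all (fun act => Jl.all (fun a =>
    A.contains (act.map (D.reflectRoot a)) ||
      J'l.any (fun j => act.map (D.reflectRoot a) ==
        (List.range D.nroots).map (fun r => act.getD (D.reflectRoot j r) 0))))

/-- the subsystem -/
def chkQ (D : ChevalleyDatum) (J'l Ql : List ℕ) : Bool :=
  Ql.all (fun r => decide (r < D.nroots)) && J'l.all (fun j => Ql.contains (D.simple j)) &&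
  J'l.all (fun j => Ql.all (fun r => Ql.contains (D.reflectRoot j r)))

theorem actL_getD (D : ChevalleyDatum) (d : List ℕ) (s : ℕ) (hs : s < D.nroots) :
    (actL D d).getD s 0 = wordRefl D d s := by
  unfold actL
  rw [List.getD_eq_getElem _ _ (by rw [List.length_map, List.length_range]; exact hs),
    List.getElem_map, List.getElem_range]

theorem levelOK_of (D : ChevalleyDatum) (hR : ReflOK D) (Jl J'l Ql : List ℕ)
    (R A : List (List ℕ)) (h1 : chkJ D Jl J'l = true) (h2 : chkR D Jl R = true)
    (h3 : chkMin D Ql R = true) (h5 : A = R.map (actL D))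
    (h6 : chkClosure D Jl J'l A = true) (h7 : A.Nodup) (h8 : chkQ D J'l Ql = true) :
    LevelOK D (fun a => a ∈ Jl) (fun a => a ∈ J'l) (fun r => r ∈ Ql) R := by
  simp only [chkJ, Bool.and_eq_true, List.all_eq_true, decide_eq_true_eq,
    List.contains_iff_mem] at h1
  obtain ⟨hj1, hj2⟩ := h1
  simp only [chkR, Bool.and_eq_true, List.all_eq_true, List.contains_iff_mem] at h2
  obtain ⟨⟨hr1, hr2⟩, hr3⟩ := h2
  simp only [chkMin, List.all_eq_true, Bool.and_eq_true, Bool.or_eq_true, Bool.not_eq_true',
    decide_eq_false_iff_not, decide_eq_true_eq] at h3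
  simp only [chkQ, Bool.and_eq_true, List.all_eq_true, decide_eq_true_eq,
    List.contains_iff_mem] at h8
  obtain ⟨⟨hq1, hq2⟩, hq3⟩ := h8
  have hsame : ∀ d ∈ R, ∀ d' ∈ R, SameAct D d d' → d = d' := by
    intro d hd d' hd' h
    have hA := (sameAct_iff D d d').mp h
    rw [h5] at h7
    exact List.inj_on_of_nodup_map h7 hd hd' hA
  refine
    { jlt := hj1
      sub := hj2
      mem := fun d hd a ha => (hr1 d hd).1 a ha
      red := fun d hd => (hr1 d hd).2
      minPos := ?_
      minNeg := ?_
      suffix := ?_
      nil := hr3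
      closure := ?_
      nodup := hsame
      rnodup := ?_
      qlt := hq1
      qsimple := hq2
      qrefl := hq3 }
  · intro d hd r hq hp
    rcases (h3 d hd r hq).1 with h | h
    · exact absurd hp h
    · exact h
  · intro d hd r hq hn
    rcases (h3 d hd r hq).2 with h | h
    · exact absurd hn h
    · exact h
  · intro a d had
    have := hr2 (a :: d) had
    exact List.contains_iff_mem.mp this
  · intro d hd a ha
    have haR : a < D.rank := hj1 a ha
    have hact : actL D d ∈ A := by rw [h5]; exact List.mem_map_of_mem hd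
    simp only [chkClosure, List.all_eq_true, Bool.or_eq_true, List.contains_iff_mem,
      List.any_eq_true, beq_iff_eq] at h6
    rcases h6 _ hact a ha with h | ⟨j, hj, h⟩
    · left
      rw [h5, List.mem_map] at h
      obtain ⟨d', hd', e⟩ := h
      refine ⟨d', hd', (sameAct_iff D _ _).mpr ?_⟩
      rw [actL_cons, e]
    · right
      refine ⟨j, hj, ?_⟩
      have hjR : j < D.rank := hj1 j (hj2 j hj)
      intro r hr
      have hjr : D.reflectRoot j r < D.nroots := (hR j hjR r hr).1
      have e1 : ((actL D d).map (D.reflectRoot a)).getD r 0 =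
          ((List.range D.nroots).map (fun r => (actL D d).getD (D.reflectRoot j r) 0)).getD r 0 := by
        rw [h]
      rw [← actL_cons, actL_getD D _ r hr] at e1
      rw [e1, List.getD_eq_getElem _ _ (by rw [List.length_map, List.length_range]; exact hr),
        List.getElem_map, List.getElem_range, actL_getD D d _ hjr, wordRefl_append]
      rfl
  · rw [h5] at h7
    exact List.Nodup.of_map _ h7


theorem enum_nil (D : ChevalleyDatum) :
    Enum D (fun a => a ∈ ([] : List ℕ)) (fun _ : Unit => ([] : List ℕ)) where
  mem := by intro i a ha; simp at ha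
  red := fun _ => rfl
  cover := by
    intro l hl
    refine ⟨(), ?_⟩
    cases l with
    | nil => exact fun r _ => rfl
    | cons a l => exact absurd (hl a List.mem_cons_self) (by simp)
  inj := fun _ _ _ => rfl

theorem enum_of_iff (D : ChevalleyDatum) {J J' : ℕ → Prop} (h : ∀ a, J a ↔ J' a) {ι : Type}
    (w : ι → List ℕ) (hE : Enum D J w) : Enum D J' w where
  mem := fun i a ha => (h a).mp (hE.mem i a ha)
  red := hE.red
  cover := fun l hl => hE.cover l (fun a ha => (h a).mpr (hl a ha))
  inj := hE.inj

theorem sum_step (R : List (List ℕ)) {ι : Type} [Fintype ι] (w : ι → List ℕ) (q : ℕ) :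
    ∑ x : Fin R.length × ι, q ^ (R[x.1.1] ++ w x.2).length =
      (R.map (fun l => q ^ l.length)).sum * ∑ i, q ^ (w i).length := by
  rw [Fintype.sum_prod_type, ← Fin.sum_univ_fun_getElem R (fun l => q ^ l.length),
    Finset.sum_mul]
  apply Finset.sum_congr rfl
  intro k _
  rw [Finset.mul_sum]
  apply Finset.sum_congr rfl
  intro i _
  rw [List.length_append, pow_add]


/-- `|G| = q^N |H| Σ_w q^{ℓ(w)}` from an enumeration of the Weyl group -/
theorem card_group_formula_enum {F : Type*} [Field F] [Fintype F] (D : ChevalleyDatum)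
    (H : Hyp D F) (hdec : Decomp D F)
    (hpar : ∀ M : Subgroup ↥(D.group F), (bnPair D H hdec).B ≤ M →
      ∃ K ⊆ (bnPair D H hdec).S, M = (bnPair D H hdec).parabolic K)
    (hbruhat : ∀ g : ↥(D.group F), ∃ n ∈ (bnPair D H hdec).N,
      g ∈ DoubleCoset.doubleCoset n ((bnPair D H hdec).B : Set ↥(D.group F)) (bnPair D H hdec).B)
    {ι : Type} [Fintype ι] (w : ι → List ℕ) (hE : Enum D (fun a => a < D.rank) w)
    (l₀ : List ℕ) (hl₀ : longB D l₀ = true) :
    Nat.card ↥(D.group F) = Nat.card F ^ (D.nroots / 2) * Nat.card ↥(D.diagonalSubgroup F) *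
      ∑ i, Nat.card F ^ (w i).length := by
  rw [card_group_enum D H hdec hpar hbruhat w hE, card_borel D H.mem,
    card_posUnipotent' D H hdec l₀ hl₀]

end Cfsg.Agent.Lib.Helper5.ChevTits
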