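import Mathlib
import Cfsg.Agent.Lib.Helper5.ChevTitsA
import Cfsg.Agent.Lib.Helper5.ChevTitsAE8x1a

set_option autoImplicit false

namespace Cfsg.Agent.Lib.Helper5.ChevTits

open Cfsg.Lie

set_option maxRecDepth 100000 in
theorem reflE8_1b : reflRangeB chevE8 1 120 120 = true := by decide +kernel

end Cfsg.Agent.Lib.Helper5.ChevTits
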