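import Mathlib
import Cfsg.Agent.Lib.Helper5.ChevTitsAE8x0a
import Cfsg.Agent.Lib.Helper5.ChevTitsAE8x0b
import Cfsg.Agent.Lib.Helper5.ChevTitsAE8x1a
import Cfsg.Agent.Lib.Helper5.ChevTitsAE8x1b
import Cfsg.Agent.Lib.Helper5.ChevTitsAE8x2a
import Cfsg.Agent.Lib.Helper5.ChevTitsAE8x2b
import Cfsg.Agent.Lib.Helper5.ChevTitsAE8x3a
import Cfsg.Agent.Lib.Helper5.ChevTitsAE8x3b
import Cfsg.Agent.Lib.Helper5.ChevTitsAE8x4a
import Cfsg.Agent.Lib.Helper5.ChevTitsAE8x4b
import Cfsg.Agent.Lib.Helper5.ChevTitsAE8x5a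
import Cfsg.Agent.Lib.Helper5.ChevTitsAE8x5b
import Cfsg.Agent.Lib.Helper5.ChevTitsAE8x6a
import Cfsg.Agent.Lib.Helper5.ChevTitsAE8x6b
import Cfsg.Agent.Lib.Helper5.ChevTitsAE8x7a
import Cfsg.Agent.Lib.Helper5.ChevTitsAE8x7b

set_option autoImplicit false

namespace Cfsg.Agent.Lib.Helper5.ChevTits

open Cfsg.Lie

theorem reflRangeB_append (D : ChevalleyDatum) (i a n m : ℕ) (h1 : reflRangeB D i a n = true)
    (h2 : reflRangeB D i (a + n) m = true) : reflRangeB D i a (n + m) = true := by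
  unfold reflRangeB at *
  rw [List.all_eq_true] at *
  intro k hk
  rw [List.mem_range] at hk
  by_cases hkn : k < n
  · exact h1 k (List.mem_range.mpr hkn)
  · have := h2 (k - n) (List.mem_range.mpr (by omega))
    rwa [show a + n + (k - n) = a + k by omega] at this

theorem reflOK_E8 : ReflOK chevE8 := by
  apply reflOK_of_reflRangeB
  intro i hi
  have hi' : i < 8 := hi
  show reflRangeB chevE8 i 0 (120 + 120) = true
  interval_cases i
  · exact reflRangeB_append _ _ _ _ _ reflE8_0a reflE8_0b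
  · exact reflRangeB_append _ _ _ _ _ reflE8_1a reflE8_1b
  · exact reflRangeB_append _ _ _ _ _ reflE8_2a reflE8_2b
  · exact reflRangeB_append _ _ _ _ _ reflE8_3a reflE8_3b
  · exact reflRangeB_append _ _ _ _ _ reflE8_4a reflE8_4b
  · exact reflRangeB_append _ _ _ _ _ reflE8_5a reflE8_5b
  · exact reflRangeB_append _ _ _ _ _ reflE8_6a reflE8_6b
  · exact reflRangeB_append _ _ _ _ _ reflE8_7a reflE8_7b

end Cfsg.Agent.Lib.Helper5.ChevTits
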