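import Mathlib
import Cfsg.Agent.Lib.Helper5.ChevTitsAE6
import Cfsg.Agent.Lib.Helper5.ChevTitsAE7
import Cfsg.Agent.Lib.Helper5.ChevTitsAE8
import Cfsg.Agent.Lib.Helper5.ChevTitsBE6
import Cfsg.Agent.Lib.Helper5.ChevTitsBE7
import Cfsg.Agent.Lib.Helper5.ChevTitsBE8
import Cfsg.Agent.Lib.Helper5.ChevTitsI

/-!
# The table facts for all seven data (helper5)
-/

set_option autoImplicit false

namespace Cfsg.Agent.Lib.Helper5.ChevTits

open Cfsg.Lie

theorem reflOK_of_mem (D : ChevalleyDatum)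
    (hD : D ∈ [chevG2, chevB2, chevD4, chevF4, chevE6, chevE7, chevE8]) : ReflOK D := by
  simp only [List.mem_cons, List.not_mem_nil, or_false] at hD
  rcases hD with rfl | rfl | rfl | rfl | rfl | rfl | rfl
  · exact reflOK_G2
  · exact reflOK_B2
  · exact reflOK_D4
  · exact reflOK_F4
  · exact reflOK_E6
  · exact reflOK_E7
  · exact reflOK_E8

theorem cartanUnit_of_mem (D : ChevalleyDatum)
    (hD : D ∈ [chevG2, chevB2, chevD4, chevF4, chevE6, chevE7, chevE8]) : CartanUnit D := by
  simp only [List.mem_cons, List.not_mem_nil, or_false] at hD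
  rcases hD with rfl | rfl | rfl | rfl | rfl | rfl | rfl
  · exact cartanUnit_G2
  · exact cartanUnit_B2
  · exact cartanUnit_D4
  · exact cartanUnit_F4
  · exact cartanUnit_E6
  · exact cartanUnit_E7
  · exact cartanUnit_E8

theorem simpleNe_of_mem (D : ChevalleyDatum)
    (hD : D ∈ [chevG2, chevB2, chevD4, chevF4, chevE6, chevE7, chevE8]) : SimpleNe D := by
  simp only [List.mem_cons, List.not_mem_nil, or_false] at hD
  rcases hD with rfl | rfl | rfl | rfl | rfl | rfl | rfl
  · exact simpleNe_G2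
  · exact simpleNe_B2
  · exact simpleNe_D4
  · exact simpleNe_F4
  · exact simpleNe_E6
  · exact simpleNe_E7
  · exact simpleNe_E8

variable {F : Type*} [Field F]

theorem hyp_of (D : ChevalleyDatum)
    (hD : D ∈ [chevG2, chevB2, chevD4, chevF4, chevE6, chevE7, chevE8])
    (hconj : Cfsg.Agent.Lib.Helper5.ChevGen.ConjFormula D F) : Hyp D F :=
  ⟨hD, reflOK_of_mem D hD, cartanUnit_of_mem D hD, simpleNe_of_mem D hD, hconj⟩

end Cfsg.Agent.Lib.Helper5.ChevTits
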