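import Mathlib
import Cfsg.Agent.Lib.Helper5.ChevOrdT
import Cfsg.Agent.Lib.Helper5.ChevTitsJ

/-!
# The Weyl group of type E6 along a chain of parabolic subgroups (helper5; generated)
-/

set_option autoImplicit false

namespace Cfsg.Agent.Lib.Helper5.ChevTits

open Cfsg.Lie

def rtE6 : List (List ℕ) :=
  [[0, 1, 2, 3, 4, 16, 17, 18, 19, 20, 21, 26, 27, 28, 29, 56, 5, 6, 7, 8, 9, 10, 22, 23, 24, 25, 11, 12, 13, 14, 30, 31, 32, 33, 34, 35, 36, 37, 38, 39, 40, 41, 57, 58, 59, 60, 46, 47, 48, 49, 61, 62, 63, 64, 65, 66, 15, 42, 43, 44, 45, 50, 51, 52, 53, 54, 55, 67, 68, 69, 70, 71],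
  [1, 0, 2, 3, 4, 5, 6, 7, 11, 12, 13, 8, 9, 10, 14, 15, 16, 17, 18, 26, 27, 28, 30, 31, 32, 46, 19, 20, 21, 29, 22, 23, 24, 33, 34, 35, 36, 37, 38, 47, 48, 49, 42, 50, 51, 52, 25, 39, 40, 41, 43, 44, 45, 53, 54, 55, 56, 57, 61, 62, 63, 58, 59, 60, 64, 65, 66, 67, 68, 69, 71, 70],
  [0, 1, 5, 6, 7, 2, 3, 4, 8, 9, 10, 11, 12, 13, 15, 14, 16, 17, 18, 22, 23, 24, 19, 20, 21, 25, 30, 31, 32, 42, 26, 27, 28, 33, 34, 35, 36, 37, 38, 43, 44, 45, 29, 39, 40, 41, 46, 50, 51, 52, 47, 48, 49, 53, 54, 55, 57, 56, 58, 59, 60, 61, 62, 63, 67, 68, 69, 64, 65, 66, 70, 71],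
  [0, 2, 1, 3, 4, 5, 8, 9, 6, 7, 10, 11, 12, 14, 13, 15, 16, 19, 20, 17, 18, 21, 22, 23, 25, 24, 26, 27, 29, 28, 33, 34, 39, 30, 31, 35, 36, 40, 41, 32, 37, 38, 43, 42, 44, 45, 47, 46, 48, 49, 50, 53, 54, 51, 52, 55, 56, 58, 57, 59, 60, 61, 64, 65, 62, 63, 66, 67, 68, 70, 69, 71],
  [0, 1, 3, 2, 4, 6, 5, 7, 8, 10, 9, 11, 13, 12, 14, 15, 17, 16, 18, 19, 21, 20, 22, 24, 23, 25, 26, 28, 27, 29, 30, 32, 31, 35, 37, 33, 38, 34, 36, 40, 39, 41, 42, 44, 43, 45, 46, 48, 47, 49, 51, 50, 52, 53, 55, 54, 56, 57, 59, 58, 60, 62, 61, 63, 64, 66, 65, 67, 69, 68, 70, 71],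
  [0, 1, 2, 4, 3, 5, 7, 6, 9, 8, 10, 12, 11, 13, 14, 15, 16, 18, 17, 20, 19, 21, 23, 22, 24, 25, 27, 26, 28, 29, 31, 30, 32, 34, 33, 36, 35, 38, 37, 39, 41, 40, 42, 43, 45, 44, 46, 47, 49, 48, 50, 52, 51, 54, 53, 55, 56, 57, 58, 60, 59, 61, 63, 62, 65, 64, 66, 68, 67, 69, 70, 71]]

def ptE6 : List Bool :=
  [false, false, false, false, false, false, false, false, false, false, false, false, false, false, false, false, false, false, false, false, false, false, false, false, false, false, false, false, false, false, false, false, false, false, false, false, true, true, true, true, true, true, true, true, true, true, true, true, true, true, true, true, true, true, true, true, true, true, true, true, true, true, true, true, true, true, true, true, true, true, true, true]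

def JE6_0 : List ℕ := [0, 1, 2, 3, 4, 5]

def QE6_0 : List ℕ := [16, 17, 18, 19, 20, 21, 22, 23, 24, 25, 26, 27, 28, 29, 30, 31, 32, 33, 34, 35, 36, 37, 38, 39, 40, 41, 42, 43, 44, 45, 46, 47, 48, 49, 50, 51, 52, 53, 54, 55]

def RE6_0 : List (List ℕ) :=
  [[],
  [0],
  [2, 0],
  [3, 2, 0],
  [1, 3, 2, 0],
  [4, 3, 2, 0],
  [4, 1, 3, 2, 0],
  [5, 4, 3, 2, 0],
  [3, 4, 1, 3, 2, 0],
  [5, 4, 1, 3, 2, 0],
  [2, 3, 4, 1, 3, 2, 0],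
  [5, 3, 4, 1, 3, 2, 0],
  [0, 2, 3, 4, 1, 3, 2, 0],
  [5, 2, 3, 4, 1, 3, 2, 0],
  [4, 5, 3, 4, 1, 3, 2, 0],
  [5, 0, 2, 3, 4, 1, 3, 2, 0],
  [4, 5, 2, 3, 4, 1, 3, 2, 0],
  [4, 5, 0, 2, 3, 4, 1, 3, 2, 0],
  [3, 4, 5, 2, 3, 4, 1, 3, 2, 0],
  [3, 4, 5, 0, 2, 3, 4, 1, 3, 2, 0],
  [1, 3, 4, 5, 2, 3, 4, 1, 3, 2, 0],
  [1, 3, 4, 5, 0, 2, 3, 4, 1, 3, 2, 0],
  [2, 3, 4, 5, 0, 2, 3, 4, 1, 3, 2, 0],
  [2, 1, 3, 4, 5, 0, 2, 3, 4, 1, 3, 2, 0],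
  [3, 2, 1, 3, 4, 5, 0, 2, 3, 4, 1, 3, 2, 0],
  [4, 3, 2, 1, 3, 4, 5, 0, 2, 3, 4, 1, 3, 2, 0],
  [5, 4, 3, 2, 1, 3, 4, 5, 0, 2, 3, 4, 1, 3, 2, 0]]

def AE6_0 : List (List ℕ) :=
  [[0, 1, 2, 3, 4, 5, 6, 7, 8, 9, 10, 11, 12, 13, 14, 15, 16, 17, 18, 19, 20, 21, 22, 23, 24, 25, 26, 27, 28, 29, 30, 31, 32, 33, 34, 35, 36, 37, 38, 39, 40, 41, 42, 43, 44, 45, 46, 47, 48, 49, 50, 51, 52, 53, 54, 55, 56, 57, 58, 59, 60, 61, 62, 63, 64, 65, 66, 67, 68, 69, 70, 71],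
  [0, 1, 2, 3, 4, 16, 17, 18, 19, 20, 21, 26, 27, 28, 29, 56, 5, 6, 7, 8, 9, 10, 22, 23, 24, 25, 11, 12, 13, 14, 30, 31, 32, 33, 34, 35, 36, 37, 38, 39, 40, 41, 57, 58, 59, 60, 46, 47, 48, 49, 61, 62, 63, 64, 65, 66, 15, 42, 43, 44, 45, 50, 51, 52, 53, 54, 55, 67, 68, 69, 70, 71],
  [0, 1, 5, 6, 7, 16, 17, 18, 22, 23, 24, 30, 31, 32, 42, 57, 2, 3, 4, 8, 9, 10, 19, 20, 21, 25, 11, 12, 13, 15, 26, 27, 28, 33, 34, 35, 36, 37, 38, 43, 44, 45, 56, 58, 59, 60, 46, 50, 51, 52, 61, 62, 63, 67, 68, 69, 14, 29, 39, 40, 41, 47, 48, 49, 53, 54, 55, 64, 65, 66, 70, 71],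
  [0, 2, 5, 8, 9, 16, 19, 20, 22, 23, 25, 33, 34, 39, 43, 58, 1, 3, 4, 6, 7, 10, 17, 18, 21, 24, 11, 12, 14, 15, 26, 27, 29, 30, 31, 35, 36, 40, 41, 42, 44, 45, 56, 57, 59, 60, 47, 50, 53, 54, 61, 64, 65, 67, 68, 70, 13, 28, 32, 37, 38, 46, 48, 49, 51, 52, 55, 62, 63, 66, 69, 71],
  [1, 2, 5, 11, 12, 16, 26, 27, 30, 31, 46, 33, 34, 47, 50, 61, 0, 3, 4, 6, 7, 13, 17, 18, 28, 32, 8, 9, 14, 15, 19, 20, 29, 22, 23, 35, 36, 48, 49, 42, 51, 52, 56, 57, 62, 63, 39, 43, 53, 54, 58, 64, 65, 67, 68, 71, 10, 21, 24, 37, 38, 25, 40, 41, 44, 45, 55, 59, 60, 66, 69, 70],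
  [0, 3, 6, 8, 10, 17, 19, 21, 22, 24, 25, 35, 37, 40, 44, 59, 1, 2, 4, 5, 7, 9, 16, 18, 20, 23, 11, 13, 14, 15, 26, 28, 29, 30, 32, 33, 38, 39, 41, 42, 43, 45, 56, 57, 58, 60, 48, 51, 53, 55, 62, 64, 66, 67, 69, 70, 12, 27, 31, 34, 36, 46, 47, 49, 50, 52, 54, 61, 63, 65, 68, 71],
  [1, 3, 6, 11, 13, 17, 26, 28, 30, 32, 46, 35, 37, 48, 51, 62, 0, 2, 4, 5, 7, 12, 16, 18, 27, 31, 8, 10, 14, 15, 19, 21, 29, 22, 24, 33, 38, 47, 49, 42, 50, 52, 56, 57, 61, 63, 40, 44, 53, 55, 59, 64, 66, 67, 69, 71, 9, 20, 23, 34, 36, 25, 39, 41, 43, 45, 54, 58, 60, 65, 68, 70],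
  [0, 4, 7, 9, 10, 18, 20, 21, 23, 24, 25, 36, 38, 41, 45, 60, 1, 2, 3, 5, 6, 8, 16, 17, 19, 22, 12, 13, 14, 15, 27, 28, 29, 31, 32, 34, 37, 39, 40, 42, 43, 44, 56, 57, 58, 59, 49, 52, 54, 55, 63, 65, 66, 68, 69, 70, 11, 26, 30, 33, 35, 46, 47, 48, 50, 51, 53, 61, 62, 64, 67, 71],
  [2, 3, 8, 11, 14, 19, 26, 29, 33, 39, 47, 35, 40, 48, 53, 64, 0, 1, 4, 5, 9, 12, 16, 20, 27, 34, 6, 10, 13, 15, 17, 21, 28, 22, 25, 30, 41, 46, 49, 43, 50, 54, 56, 58, 61, 65, 37, 44, 51, 55, 59, 62, 66, 67, 70, 71, 7, 18, 23, 31, 36, 24, 32, 38, 42, 45, 52, 57, 60, 63, 68, 69],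
  [1, 4, 7, 12, 13, 18, 27, 28, 31, 32, 46, 36, 38, 49, 52, 63, 0, 2, 3, 5, 6, 11, 16, 17, 26, 30, 9, 10, 14, 15, 20, 21, 29, 23, 24, 34, 37, 47, 48, 42, 50, 51, 56, 57, 61, 62, 41, 45, 54, 55, 60, 65, 66, 68, 69, 71, 8, 19, 22, 33, 35, 25, 39, 40, 43, 44, 53, 58, 59, 64, 67, 70],
  [5, 6, 8, 11, 15, 22, 30, 42, 33, 43, 50, 35, 44, 51, 53, 67, 0, 1, 7, 2, 9, 12, 16, 23, 31, 34, 3, 10, 13, 14, 17, 24, 32, 19, 25, 26, 45, 46, 52, 39, 47, 54, 57, 58, 61, 68, 37, 40, 48, 55, 59, 62, 69, 64, 70, 71, 4, 18, 20, 27, 36, 21, 28, 38, 29, 41, 49, 56, 60, 63, 65, 66],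
  [2, 4, 9, 12, 14, 20, 27, 29, 34, 39, 47, 36, 41, 49, 54, 65, 0, 1, 3, 5, 8, 11, 16, 19, 26, 33, 7, 10, 13, 15, 18, 21, 28, 23, 25, 31, 40, 46, 48, 43, 50, 53, 56, 58, 61, 64, 38, 45, 52, 55, 60, 63, 66, 68, 70, 71, 6, 17, 22, 30, 35, 24, 32, 37, 42, 44, 51, 57, 59, 62, 67, 69],
  [16, 17, 19, 26, 56, 22, 30, 57, 33, 58, 61, 35, 59, 62, 64, 67, 0, 1, 18, 2, 20, 27, 5, 23, 31, 34, 3, 21, 28, 29, 6, 24, 32, 8, 25, 11, 60, 46, 63, 39, 47, 65, 42, 43, 50, 68, 37, 40, 48, 66, 44, 51, 69, 53, 70, 71, 4, 7, 9, 12, 36, 10, 13, 38, 14, 41, 49, 15, 45, 52, 54, 55],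
  [5, 7, 9, 12, 15, 23, 31, 42, 34, 43, 50, 36, 45, 52, 54, 68, 0, 1, 6, 2, 8, 11, 16, 22, 30, 33, 4, 10, 13, 14, 18, 24, 32, 20, 25, 27, 44, 46, 51, 39, 47, 53, 57, 58, 61, 67, 38, 41, 49, 55, 60, 63, 69, 65, 70, 71, 3, 17, 19, 26, 35, 21, 28, 37, 29, 40, 48, 56, 59, 62, 64, 66],
  [3, 4, 10, 13, 14, 21, 28, 29, 37, 40, 48, 38, 41, 49, 55, 66, 0, 1, 2, 6, 8, 11, 17, 19, 26, 35, 7, 9, 12, 15, 18, 20, 27, 24, 25, 32, 39, 46, 47, 44, 51, 53, 56, 59, 62, 64, 36, 45, 52, 54, 60, 63, 65, 69, 70, 71, 5, 16, 22, 30, 33, 23, 31, 34, 42, 43, 50, 57, 58, 61, 67, 68],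
  [16, 18, 20, 27, 56, 23, 31, 57, 34, 58, 61, 36, 60, 63, 65, 68, 0, 1, 17, 2, 19, 26, 5, 22, 30, 33, 4, 21, 28, 29, 7, 24, 32, 9, 25, 12, 59, 46, 62, 39, 47, 64, 42, 43, 50, 67, 38, 41, 49, 66, 45, 52, 69, 54, 70, 71, 3, 6, 8, 11, 35, 10, 13, 37, 14, 40, 48, 15, 44, 51, 53, 55],
  [6, 7, 10, 13, 15, 24, 32, 42, 37, 44, 51, 38, 45, 52, 55, 69, 0, 1, 5, 3, 8, 11, 17, 22, 30, 35, 4, 9, 12, 14, 18, 23, 31, 21, 25, 28, 43, 46, 50, 40, 48, 53, 57, 59, 62, 67, 36, 41, 49, 54, 60, 63, 68, 66, 70, 71, 2, 16, 19, 26, 33, 20, 27, 34, 29, 39, 47, 56, 58, 61, 64, 65],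
  [17, 18, 21, 28, 56, 24, 32, 57, 37, 59, 62, 38, 60, 63, 66, 69, 0, 1, 16, 3, 19, 26, 6, 22, 30, 35, 4, 20, 27, 29, 7, 23, 31, 10, 25, 13, 58, 46, 61, 40, 48, 64, 42, 44, 51, 67, 36, 41, 49, 65, 45, 52, 68, 55, 70, 71, 2, 5, 8, 11, 33, 9, 12, 34, 14, 39, 47, 15, 43, 50, 53, 54],
  [8, 9, 10, 14, 15, 25, 39, 43, 40, 44, 53, 41, 45, 54, 55, 70, 0, 2, 5, 3, 6, 11, 19, 22, 33, 35, 4, 7, 12, 13, 20, 23, 34, 21, 24, 29, 42, 47, 50, 37, 48, 51, 58, 59, 64, 67, 36, 38, 49, 52, 60, 65, 68, 66, 69, 71, 1, 16, 17, 26, 30, 18, 27, 31, 28, 32, 46, 56, 57, 61, 62, 63],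
  [19, 20, 21, 29, 56, 25, 39, 58, 40, 59, 64, 41, 60, 65, 66, 70, 0, 2, 16, 3, 17, 26, 8, 22, 33, 35, 4, 18, 27, 28, 9, 23, 34, 10, 24, 14, 57, 47, 61, 37, 48, 62, 43, 44, 53, 67, 36, 38, 49, 63, 45, 54, 68, 55, 69, 71, 1, 5, 6, 11, 30, 7, 12, 31, 13, 32, 46, 15, 42, 50, 51, 52],
  [11, 12, 13, 14, 15, 46, 47, 50, 48, 51, 53, 49, 52, 54, 55, 71, 1, 2, 5, 3, 6, 8, 26, 30, 33, 35, 4, 7, 9, 10, 27, 31, 34, 28, 32, 29, 42, 39, 43, 37, 40, 44, 61, 62, 64, 67, 36, 38, 41, 45, 63, 65, 68, 66, 69, 70, 0, 16, 17, 19, 22, 18, 20, 23, 21, 24, 25, 56, 57, 58, 59, 60],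
  [26, 27, 28, 29, 56, 46, 47, 61, 48, 62, 64, 49, 63, 65, 66, 71, 1, 2, 16, 3, 17, 19, 11, 30, 33, 35, 4, 18, 20, 21, 12, 31, 34, 13, 32, 14, 57, 39, 58, 37, 40, 59, 50, 51, 53, 67, 36, 38, 41, 60, 52, 54, 68, 55, 69, 70, 0, 5, 6, 8, 22, 7, 9, 23, 10, 24, 25, 15, 42, 43, 44, 45],
  [22, 23, 24, 42, 57, 25, 43, 58, 44, 59, 67, 45, 60, 68, 69, 70, 0, 5, 16, 6, 17, 30, 8, 19, 33, 35, 7, 18, 31, 32, 9, 20, 34, 10, 21, 15, 56, 50, 61, 37, 51, 62, 39, 40, 53, 64, 36, 38, 52, 63, 41, 54, 65, 55, 66, 71, 1, 2, 3, 11, 26, 4, 12, 27, 13, 28, 46, 14, 29, 47, 48, 49],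
  [30, 31, 32, 42, 57, 46, 50, 61, 51, 62, 67, 52, 63, 68, 69, 71, 1, 5, 16, 6, 17, 22, 11, 26, 33, 35, 7, 18, 23, 24, 12, 27, 34, 13, 28, 15, 56, 43, 58, 37, 44, 59, 47, 48, 53, 64, 36, 38, 45, 60, 49, 54, 65, 55, 66, 70, 0, 2, 3, 8, 19, 4, 9, 20, 10, 21, 25, 14, 29, 39, 40, 41],
  [33, 34, 39, 43, 58, 47, 50, 61, 53, 64, 67, 54, 65, 68, 70, 71, 2, 5, 16, 8, 19, 22, 11, 26, 30, 35, 9, 20, 23, 25, 12, 27, 31, 14, 29, 15, 56, 42, 57, 40, 44, 59, 46, 48, 51, 62, 36, 41, 45, 60, 49, 52, 63, 55, 66, 69, 0, 1, 3, 6, 17, 4, 7, 18, 10, 21, 24, 13, 28, 32, 37, 38],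
  [35, 37, 40, 44, 59, 48, 51, 62, 53, 64, 67, 55, 66, 69, 70, 71, 3, 6, 17, 8, 19, 22, 11, 26, 30, 33, 10, 21, 24, 25, 13, 28, 32, 14, 29, 15, 56, 42, 57, 39, 43, 58, 46, 47, 50, 61, 38, 41, 45, 60, 49, 52, 63, 54, 65, 68, 0, 1, 2, 5, 16, 4, 7, 18, 9, 20, 23, 12, 27, 31, 34, 36],
  [36, 38, 41, 45, 60, 49, 52, 63, 54, 65, 68, 55, 66, 69, 70, 71, 4, 7, 18, 9, 20, 23, 12, 27, 31, 34, 10, 21, 24, 25, 13, 28, 32, 14, 29, 15, 56, 42, 57, 39, 43, 58, 46, 47, 50, 61, 37, 40, 44, 59, 48, 51, 62, 53, 64, 67, 0, 1, 2, 5, 16, 3, 6, 17, 8, 19, 22, 11, 26, 30, 33, 35]]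

def JE6_1 : List ℕ := [1, 2, 3, 4, 5]

def QE6_1 : List ℕ := [18, 20, 21, 23, 24, 25, 27, 28, 29, 31, 32, 34, 37, 39, 40, 42, 43, 44, 46, 47, 48, 50, 51, 53]

def RE6_1 : List (List ℕ) :=
  [[],
  [5],
  [4, 5],
  [3, 4, 5],
  [1, 3, 4, 5],
  [2, 3, 4, 5],
  [2, 1, 3, 4, 5],
  [3, 2, 1, 3, 4, 5],
  [4, 3, 2, 1, 3, 4, 5],
  [5, 4, 3, 2, 1, 3, 4, 5]]

def AE6_1 : List (List ℕ) :=
  [[0, 1, 2, 3, 4, 5, 6, 7, 8, 9, 10, 11, 12, 13, 14, 15, 16, 17, 18, 19, 20, 21, 22, 23, 24, 25, 26, 27, 28, 29, 30, 31, 32, 33, 34, 35, 36, 37, 38, 39, 40, 41, 42, 43, 44, 45, 46, 47, 48, 49, 50, 51, 52, 53, 54, 55, 56, 57, 58, 59, 60, 61, 62, 63, 64, 65, 66, 67, 68, 69, 70, 71],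
  [0, 1, 2, 4, 3, 5, 7, 6, 9, 8, 10, 12, 11, 13, 14, 15, 16, 18, 17, 20, 19, 21, 23, 22, 24, 25, 27, 26, 28, 29, 31, 30, 32, 34, 33, 36, 35, 38, 37, 39, 41, 40, 42, 43, 45, 44, 46, 47, 49, 48, 50, 52, 51, 54, 53, 55, 56, 57, 58, 60, 59, 61, 63, 62, 65, 64, 66, 68, 67, 69, 70, 71],
  [0, 1, 3, 4, 2, 6, 7, 5, 10, 8, 9, 13, 11, 12, 14, 15, 17, 18, 16, 21, 19, 20, 24, 22, 23, 25, 28, 26, 27, 29, 32, 30, 31, 37, 35, 38, 33, 36, 34, 40, 41, 39, 42, 44, 45, 43, 46, 48, 49, 47, 51, 52, 50, 55, 53, 54, 56, 57, 59, 60, 58, 62, 63, 61, 66, 64, 65, 69, 67, 68, 70, 71],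
  [0, 2, 3, 4, 1, 8, 9, 5, 10, 6, 7, 14, 11, 12, 13, 15, 19, 20, 16, 21, 17, 18, 25, 22, 23, 24, 29, 26, 27, 28, 39, 33, 34, 40, 35, 41, 30, 36, 31, 37, 38, 32, 43, 44, 45, 42, 47, 48, 49, 46, 53, 54, 50, 55, 51, 52, 56, 58, 59, 60, 57, 64, 65, 61, 66, 62, 63, 70, 67, 68, 69, 71],
  [1, 2, 3, 4, 0, 11, 12, 5, 13, 6, 7, 14, 8, 9, 10, 15, 26, 27, 16, 28, 17, 18, 46, 30, 31, 32, 29, 19, 20, 21, 47, 33, 34, 48, 35, 49, 22, 36, 23, 37, 38, 24, 50, 51, 52, 42, 39, 40, 41, 25, 53, 54, 43, 55, 44, 45, 56, 61, 62, 63, 57, 64, 65, 58, 66, 59, 60, 71, 67, 68, 69, 70],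
  [0, 5, 6, 7, 1, 8, 9, 2, 10, 3, 4, 15, 11, 12, 13, 14, 22, 23, 16, 24, 17, 18, 25, 19, 20, 21, 42, 30, 31, 32, 43, 33, 34, 44, 35, 45, 26, 36, 27, 37, 38, 28, 39, 40, 41, 29, 50, 51, 52, 46, 53, 54, 47, 55, 48, 49, 57, 58, 59, 60, 56, 67, 68, 61, 69, 62, 63, 70, 64, 65, 66, 71],
  [1, 5, 6, 7, 0, 11, 12, 2, 13, 3, 4, 15, 8, 9, 10, 14, 30, 31, 16, 32, 17, 18, 46, 26, 27, 28, 42, 22, 23, 24, 50, 33, 34, 51, 35, 52, 19, 36, 20, 37, 38, 21, 47, 48, 49, 29, 43, 44, 45, 25, 53, 54, 39, 55, 40, 41, 57, 61, 62, 63, 56, 67, 68, 58, 69, 59, 60, 71, 64, 65, 66, 70],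
  [2, 5, 8, 9, 0, 11, 12, 1, 14, 3, 4, 15, 6, 7, 10, 13, 33, 34, 16, 39, 19, 20, 47, 26, 27, 29, 43, 22, 23, 25, 50, 30, 31, 53, 35, 54, 17, 36, 18, 40, 41, 21, 46, 48, 49, 28, 42, 44, 45, 24, 51, 52, 32, 55, 37, 38, 58, 61, 64, 65, 56, 67, 68, 57, 70, 59, 60, 71, 62, 63, 66, 69],
  [3, 6, 8, 10, 0, 11, 13, 1, 14, 2, 4, 15, 5, 7, 9, 12, 35, 37, 17, 40, 19, 21, 48, 26, 28, 29, 44, 22, 24, 25, 51, 30, 32, 53, 33, 55, 16, 38, 18, 39, 41, 20, 46, 47, 49, 27, 42, 43, 45, 23, 50, 52, 31, 54, 34, 36, 59, 62, 64, 66, 56, 67, 69, 57, 70, 58, 60, 71, 61, 63, 65, 68],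
  [4, 7, 9, 10, 0, 12, 13, 1, 14, 2, 3, 15, 5, 6, 8, 11, 36, 38, 18, 41, 20, 21, 49, 27, 28, 29, 45, 23, 24, 25, 52, 31, 32, 54, 34, 55, 16, 37, 17, 39, 40, 19, 46, 47, 48, 26, 42, 43, 44, 22, 50, 51, 30, 53, 33, 35, 60, 63, 65, 66, 56, 68, 69, 57, 70, 58, 59, 71, 61, 62, 64, 67]]

def JE6_2 : List ℕ := [1, 2, 3, 4]

def QE6_2 : List ℕ := [27, 28, 29, 31, 32, 34, 37, 39, 40, 42, 43, 44]

def RE6_2 : List (List ℕ) :=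
  [[],
  [1],
  [3, 1],
  [2, 3, 1],
  [4, 3, 1],
  [4, 2, 3, 1],
  [3, 4, 2, 3, 1],
  [1, 3, 4, 2, 3, 1]]

def AE6_2 : List (List ℕ) :=
  [[0, 1, 2, 3, 4, 5, 6, 7, 8, 9, 10, 11, 12, 13, 14, 15, 16, 17, 18, 19, 20, 21, 22, 23, 24, 25, 26, 27, 28, 29, 30, 31, 32, 33, 34, 35, 36, 37, 38, 39, 40, 41, 42, 43, 44, 45, 46, 47, 48, 49, 50, 51, 52, 53, 54, 55, 56, 57, 58, 59, 60, 61, 62, 63, 64, 65, 66, 67, 68, 69, 70, 71],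
  [1, 0, 2, 3, 4, 5, 6, 7, 11, 12, 13, 8, 9, 10, 14, 15, 16, 17, 18, 26, 27, 28, 30, 31, 32, 46, 19, 20, 21, 29, 22, 23, 24, 33, 34, 35, 36, 37, 38, 47, 48, 49, 42, 50, 51, 52, 25, 39, 40, 41, 43, 44, 45, 53, 54, 55, 56, 57, 61, 62, 63, 58, 59, 60, 64, 65, 66, 67, 68, 69, 71, 70],
  [2, 0, 1, 3, 4, 5, 8, 9, 11, 12, 14, 6, 7, 10, 13, 15, 16, 19, 20, 26, 27, 29, 33, 34, 39, 47, 17, 18, 21, 28, 22, 23, 25, 30, 31, 35, 36, 40, 41, 46, 48, 49, 43, 50, 53, 54, 24, 32, 37, 38, 42, 44, 45, 51, 52, 55, 56, 58, 61, 64, 65, 57, 59, 60, 62, 63, 66, 67, 68, 70, 71, 69],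
  [5, 0, 1, 6, 7, 2, 8, 9, 11, 12, 15, 3, 4, 10, 13, 14, 16, 22, 23, 30, 31, 42, 33, 34, 43, 50, 17, 18, 24, 32, 19, 20, 25, 26, 27, 35, 36, 44, 45, 46, 51, 52, 39, 47, 53, 54, 21, 28, 37, 38, 29, 40, 41, 48, 49, 55, 57, 58, 61, 67, 68, 56, 59, 60, 62, 63, 69, 64, 65, 70, 71, 66],
  [3, 0, 1, 2, 4, 6, 8, 10, 11, 13, 14, 5, 7, 9, 12, 15, 17, 19, 21, 26, 28, 29, 35, 37, 40, 48, 16, 18, 20, 27, 22, 24, 25, 30, 32, 33, 38, 39, 41, 46, 47, 49, 44, 51, 53, 55, 23, 31, 34, 36, 42, 43, 45, 50, 52, 54, 56, 59, 62, 64, 66, 57, 58, 60, 61, 63, 65, 67, 69, 70, 71, 68],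
  [6, 0, 1, 5, 7, 3, 8, 10, 11, 13, 15, 2, 4, 9, 12, 14, 17, 22, 24, 30, 32, 42, 35, 37, 44, 51, 16, 18, 23, 31, 19, 21, 25, 26, 28, 33, 38, 43, 45, 46, 50, 52, 40, 48, 53, 55, 20, 27, 34, 36, 29, 39, 41, 47, 49, 54, 57, 59, 62, 67, 69, 56, 58, 60, 61, 63, 68, 64, 66, 70, 71, 65],
  [8, 0, 2, 5, 9, 3, 6, 10, 11, 14, 15, 1, 4, 7, 12, 13, 19, 22, 25, 33, 39, 43, 35, 40, 44, 53, 16, 20, 23, 34, 17, 21, 24, 26, 29, 30, 41, 42, 45, 47, 50, 54, 37, 48, 51, 55, 18, 27, 31, 36, 28, 32, 38, 46, 49, 52, 58, 59, 64, 67, 70, 56, 57, 60, 61, 65, 68, 62, 66, 69, 71, 63],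
  [11, 1, 2, 5, 12, 3, 6, 13, 8, 14, 15, 0, 4, 7, 9, 10, 26, 30, 46, 33, 47, 50, 35, 48, 51, 53, 16, 27, 31, 34, 17, 28, 32, 19, 29, 22, 49, 42, 52, 39, 43, 54, 37, 40, 44, 55, 18, 20, 23, 36, 21, 24, 38, 25, 41, 45, 61, 62, 64, 67, 71, 56, 57, 63, 58, 65, 68, 59, 66, 69, 70, 60]]

def JE6_3 : List ℕ := [2, 3, 4]

def QE6_3 : List ℕ := [31, 32, 34, 37, 39, 40]

def RE6_3 : List (List ℕ) :=
  [[],
  [2],
  [3, 2],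
  [4, 3, 2]]

def AE6_3 : List (List ℕ) :=
  [[0, 1, 2, 3, 4, 5, 6, 7, 8, 9, 10, 11, 12, 13, 14, 15, 16, 17, 18, 19, 20, 21, 22, 23, 24, 25, 26, 27, 28, 29, 30, 31, 32, 33, 34, 35, 36, 37, 38, 39, 40, 41, 42, 43, 44, 45, 46, 47, 48, 49, 50, 51, 52, 53, 54, 55, 56, 57, 58, 59, 60, 61, 62, 63, 64, 65, 66, 67, 68, 69, 70, 71],
  [0, 1, 5, 6, 7, 2, 3, 4, 8, 9, 10, 11, 12, 13, 15, 14, 16, 17, 18, 22, 23, 24, 19, 20, 21, 25, 30, 31, 32, 42, 26, 27, 28, 33, 34, 35, 36, 37, 38, 43, 44, 45, 29, 39, 40, 41, 46, 50, 51, 52, 47, 48, 49, 53, 54, 55, 57, 56, 58, 59, 60, 61, 62, 63, 67, 68, 69, 64, 65, 66, 70, 71],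
  [0, 2, 5, 8, 9, 1, 3, 4, 6, 7, 10, 11, 12, 14, 15, 13, 16, 19, 20, 22, 23, 25, 17, 18, 21, 24, 33, 34, 39, 43, 26, 27, 29, 30, 31, 35, 36, 40, 41, 42, 44, 45, 28, 32, 37, 38, 47, 50, 53, 54, 46, 48, 49, 51, 52, 55, 58, 56, 57, 59, 60, 61, 64, 65, 67, 68, 70, 62, 63, 66, 69, 71],
  [0, 3, 6, 8, 10, 1, 2, 4, 5, 7, 9, 11, 13, 14, 15, 12, 17, 19, 21, 22, 24, 25, 16, 18, 20, 23, 35, 37, 40, 44, 26, 28, 29, 30, 32, 33, 38, 39, 41, 42, 43, 45, 27, 31, 34, 36, 48, 51, 53, 55, 46, 47, 49, 50, 52, 54, 59, 56, 57, 58, 60, 62, 64, 66, 67, 69, 70, 61, 63, 65, 68, 71]]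

def JE6_4 : List ℕ := [3, 4]

def QE6_4 : List ℕ := [34, 37]

def RE6_4 : List (List ℕ) :=
  [[],
  [3],
  [4, 3]]

def AE6_4 : List (List ℕ) :=
  [[0, 1, 2, 3, 4, 5, 6, 7, 8, 9, 10, 11, 12, 13, 14, 15, 16, 17, 18, 19, 20, 21, 22, 23, 24, 25, 26, 27, 28, 29, 30, 31, 32, 33, 34, 35, 36, 37, 38, 39, 40, 41, 42, 43, 44, 45, 46, 47, 48, 49, 50, 51, 52, 53, 54, 55, 56, 57, 58, 59, 60, 61, 62, 63, 64, 65, 66, 67, 68, 69, 70, 71],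
  [0, 2, 1, 3, 4, 5, 8, 9, 6, 7, 10, 11, 12, 14, 13, 15, 16, 19, 20, 17, 18, 21, 22, 23, 25, 24, 26, 27, 29, 28, 33, 34, 39, 30, 31, 35, 36, 40, 41, 32, 37, 38, 43, 42, 44, 45, 47, 46, 48, 49, 50, 53, 54, 51, 52, 55, 56, 58, 57, 59, 60, 61, 64, 65, 62, 63, 66, 67, 68, 70, 69, 71],
  [0, 3, 1, 2, 4, 6, 8, 10, 5, 7, 9, 11, 13, 14, 12, 15, 17, 19, 21, 16, 18, 20, 22, 24, 25, 23, 26, 28, 29, 27, 35, 37, 40, 30, 32, 33, 38, 39, 41, 31, 34, 36, 44, 42, 43, 45, 48, 46, 47, 49, 51, 53, 55, 50, 52, 54, 56, 59, 57, 58, 60, 62, 64, 66, 61, 63, 65, 67, 69, 70, 68, 71]]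

def JE6_5 : List ℕ := [4]

def QE6_5 : List ℕ := []

def RE6_5 : List (List ℕ) :=
  [[],
  [4]]

def AE6_5 : List (List ℕ) :=
  [[0, 1, 2, 3, 4, 5, 6, 7, 8, 9, 10, 11, 12, 13, 14, 15, 16, 17, 18, 19, 20, 21, 22, 23, 24, 25, 26, 27, 28, 29, 30, 31, 32, 33, 34, 35, 36, 37, 38, 39, 40, 41, 42, 43, 44, 45, 46, 47, 48, 49, 50, 51, 52, 53, 54, 55, 56, 57, 58, 59, 60, 61, 62, 63, 64, 65, 66, 67, 68, 69, 70, 71],
  [0, 1, 3, 2, 4, 6, 5, 7, 8, 10, 9, 11, 13, 12, 14, 15, 17, 16, 18, 19, 21, 20, 22, 24, 23, 25, 26, 28, 27, 29, 30, 32, 31, 35, 37, 33, 38, 34, 36, 40, 39, 41, 42, 44, 43, 45, 46, 48, 47, 49, 51, 50, 52, 53, 55, 54, 56, 57, 59, 58, 60, 62, 61, 63, 64, 66, 65, 67, 69, 68, 70, 71]]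


def JE6_6 : List ℕ := []

def longE6 : List ℕ := [5, 4, 3, 2, 1, 3, 4, 5, 0, 2, 3, 4, 1, 3, 2, 0, 5, 4, 3, 2, 1, 3, 4, 5, 1, 3, 4, 2, 3, 1, 4, 3, 2, 4, 3, 4]

theorem hDE6 : chevE6 ∈ [chevG2, chevB2, chevD4, chevF4, chevE6, chevE7, chevE8] := by simp

set_option maxRecDepth 1000000 in
theorem rowE6_0 : rowB chevE6 rtE6 0 = true := by decide +kernel
set_option maxRecDepth 1000000 in
theorem rowE6_1 : rowB chevE6 rtE6 1 = true := by decide +kernel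
set_option maxRecDepth 1000000 in
theorem rowE6_2 : rowB chevE6 rtE6 2 = true := by decide +kernel
set_option maxRecDepth 1000000 in
theorem rowE6_3 : rowB chevE6 rtE6 3 = true := by decide +kernel
set_option maxRecDepth 1000000 in
theorem rowE6_4 : rowB chevE6 rtE6 4 = true := by decide +kernel
set_option maxRecDepth 1000000 in
theorem rowE6_5 : rowB chevE6 rtE6 5 = true := by decide +kernel
set_option maxRecDepth 1000000 in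
theorem posE6 : posB chevE6 ptE6 = true := by decide +kernel

theorem tabE6 : TabOKT chevE6 rtE6 ptE6 := by
  refine tabOKT_of _ _ _ ?_ posE6
  intro i hi
  have hi' : i < 6 := hi
  interval_cases i
  · exact rowE6_0
  · exact rowE6_1
  · exact rowE6_2
  · exact rowE6_3
  · exact rowE6_4
  · exact rowE6_5

set_option maxRecDepth 1000000 in
theorem longOKE6 : longB chevE6 longE6 = true :=
  longBT_imp chevE6 (reflOK_of_mem _ hDE6) (simpleNe_of_mem _ hDE6)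
    (Cfsg.Agent.S1041.pos_or_neg _ hDE6) tabE6 longE6 (by decide +kernel)

set_option maxRecDepth 1000000 in
theorem lvE6_0 : LevelOK chevE6 (fun a => a ∈ JE6_0) (fun a => a ∈ JE6_1)
    (fun r => r ∈ QE6_0) RE6_0 :=
  levelOK_ofT chevE6 (reflOK_of_mem _ hDE6) (simpleNe_of_mem _ hDE6) (excl_of_mem _ hDE6)
    (Cfsg.Agent.S1041.pos_or_neg _ hDE6) tabE6 JE6_0 JE6_1 QE6_0 RE6_0 AE6_0
    (by decide +kernel) (by decide +kernel) (by decide +kernel) (by decide +kernel)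
    (by decide +kernel) (by decide +kernel) (by decide +kernel)

set_option maxRecDepth 1000000 in
theorem lvE6_1 : LevelOK chevE6 (fun a => a ∈ JE6_1) (fun a => a ∈ JE6_2)
    (fun r => r ∈ QE6_1) RE6_1 :=
  levelOK_ofT chevE6 (reflOK_of_mem _ hDE6) (simpleNe_of_mem _ hDE6) (excl_of_mem _ hDE6)
    (Cfsg.Agent.S1041.pos_or_neg _ hDE6) tabE6 JE6_1 JE6_2 QE6_1 RE6_1 AE6_1
    (by decide +kernel) (by decide +kernel) (by decide +kernel) (by decide +kernel)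
    (by decide +kernel) (by decide +kernel) (by decide +kernel)

set_option maxRecDepth 1000000 in
theorem lvE6_2 : LevelOK chevE6 (fun a => a ∈ JE6_2) (fun a => a ∈ JE6_3)
    (fun r => r ∈ QE6_2) RE6_2 :=
  levelOK_ofT chevE6 (reflOK_of_mem _ hDE6) (simpleNe_of_mem _ hDE6) (excl_of_mem _ hDE6)
    (Cfsg.Agent.S1041.pos_or_neg _ hDE6) tabE6 JE6_2 JE6_3 QE6_2 RE6_2 AE6_2
    (by decide +kernel) (by decide +kernel) (by decide +kernel) (by decide +kernel)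
    (by decide +kernel) (by decide +kernel) (by decide +kernel)

set_option maxRecDepth 1000000 in
theorem lvE6_3 : LevelOK chevE6 (fun a => a ∈ JE6_3) (fun a => a ∈ JE6_4)
    (fun r => r ∈ QE6_3) RE6_3 :=
  levelOK_ofT chevE6 (reflOK_of_mem _ hDE6) (simpleNe_of_mem _ hDE6) (excl_of_mem _ hDE6)
    (Cfsg.Agent.S1041.pos_or_neg _ hDE6) tabE6 JE6_3 JE6_4 QE6_3 RE6_3 AE6_3
    (by decide +kernel) (by decide +kernel) (by decide +kernel) (by decide +kernel)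
    (by decide +kernel) (by decide +kernel) (by decide +kernel)

set_option maxRecDepth 1000000 in
theorem lvE6_4 : LevelOK chevE6 (fun a => a ∈ JE6_4) (fun a => a ∈ JE6_5)
    (fun r => r ∈ QE6_4) RE6_4 :=
  levelOK_ofT chevE6 (reflOK_of_mem _ hDE6) (simpleNe_of_mem _ hDE6) (excl_of_mem _ hDE6)
    (Cfsg.Agent.S1041.pos_or_neg _ hDE6) tabE6 JE6_4 JE6_5 QE6_4 RE6_4 AE6_4
    (by decide +kernel) (by decide +kernel) (by decide +kernel) (by decide +kernel)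
    (by decide +kernel) (by decide +kernel) (by decide +kernel)

set_option maxRecDepth 1000000 in
theorem lvE6_5 : LevelOK chevE6 (fun a => a ∈ JE6_5) (fun a => a ∈ JE6_6)
    (fun r => r ∈ QE6_5) RE6_5 :=
  levelOK_ofT chevE6 (reflOK_of_mem _ hDE6) (simpleNe_of_mem _ hDE6) (excl_of_mem _ hDE6)
    (Cfsg.Agent.S1041.pos_or_neg _ hDE6) tabE6 JE6_5 JE6_6 QE6_5 RE6_5 AE6_5
    (by decide +kernel) (by decide +kernel) (by decide +kernel) (by decide +kernel)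
    (by decide +kernel) (by decide +kernel) (by decide +kernel)

abbrev IE6_6 : Type := Unit
def wE6_6 : IE6_6 → List ℕ := fun _ => []
theorem enE6_6 : Enum chevE6 (fun a => a ∈ JE6_6) wE6_6 := enum_nil chevE6

abbrev IE6_5 : Type := Fin RE6_5.length × IE6_6
def wE6_5 : IE6_5 → List ℕ := fun x => RE6_5[x.1.1] ++ wE6_6 x.2
theorem enE6_5 : Enum chevE6 (fun a => a ∈ JE6_5) wE6_5 :=
  enum_step chevE6 (reflOK_of_mem _ hDE6) (simpleNe_of_mem _ hDE6) (excl_of_mem _ hDE6)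
    (posNeg_of_mem _ hDE6) (Cfsg.Agent.S1041.pos_or_neg _ hDE6) lvE6_5 wE6_6 enE6_6

abbrev IE6_4 : Type := Fin RE6_4.length × IE6_5
def wE6_4 : IE6_4 → List ℕ := fun x => RE6_4[x.1.1] ++ wE6_5 x.2
theorem enE6_4 : Enum chevE6 (fun a => a ∈ JE6_4) wE6_4 :=
  enum_step chevE6 (reflOK_of_mem _ hDE6) (simpleNe_of_mem _ hDE6) (excl_of_mem _ hDE6)
    (posNeg_of_mem _ hDE6) (Cfsg.Agent.S1041.pos_or_neg _ hDE6) lvE6_4 wE6_5 enE6_5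

abbrev IE6_3 : Type := Fin RE6_3.length × IE6_4
def wE6_3 : IE6_3 → List ℕ := fun x => RE6_3[x.1.1] ++ wE6_4 x.2
theorem enE6_3 : Enum chevE6 (fun a => a ∈ JE6_3) wE6_3 :=
  enum_step chevE6 (reflOK_of_mem _ hDE6) (simpleNe_of_mem _ hDE6) (excl_of_mem _ hDE6)
    (posNeg_of_mem _ hDE6) (Cfsg.Agent.S1041.pos_or_neg _ hDE6) lvE6_3 wE6_4 enE6_4

abbrev IE6_2 : Type := Fin RE6_2.length × IE6_3
def wE6_2 : IE6_2 → List ℕ := fun x => RE6_2[x.1.1] ++ wE6_3 x.2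
theorem enE6_2 : Enum chevE6 (fun a => a ∈ JE6_2) wE6_2 :=
  enum_step chevE6 (reflOK_of_mem _ hDE6) (simpleNe_of_mem _ hDE6) (excl_of_mem _ hDE6)
    (posNeg_of_mem _ hDE6) (Cfsg.Agent.S1041.pos_or_neg _ hDE6) lvE6_2 wE6_3 enE6_3

abbrev IE6_1 : Type := Fin RE6_1.length × IE6_2
def wE6_1 : IE6_1 → List ℕ := fun x => RE6_1[x.1.1] ++ wE6_2 x.2
theorem enE6_1 : Enum chevE6 (fun a => a ∈ JE6_1) wE6_1 :=
  enum_step chevE6 (reflOK_of_mem _ hDE6) (simpleNe_of_mem _ hDE6) (excl_of_mem _ hDE6)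
    (posNeg_of_mem _ hDE6) (Cfsg.Agent.S1041.pos_or_neg _ hDE6) lvE6_1 wE6_2 enE6_2

abbrev IE6_0 : Type := Fin RE6_0.length × IE6_1
def wE6_0 : IE6_0 → List ℕ := fun x => RE6_0[x.1.1] ++ wE6_1 x.2
theorem enE6_0 : Enum chevE6 (fun a => a ∈ JE6_0) wE6_0 :=
  enum_step chevE6 (reflOK_of_mem _ hDE6) (simpleNe_of_mem _ hDE6) (excl_of_mem _ hDE6)
    (posNeg_of_mem _ hDE6) (Cfsg.Agent.S1041.pos_or_neg _ hDE6) lvE6_0 wE6_1 enE6_1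

theorem enE6 : Enum chevE6 (fun a => a < chevE6.rank) wE6_0 := by
  refine enum_of_iff chevE6 ?_ wE6_0 enE6_0
  intro a
  show a ∈ JE6_0 ↔ a < 6
  simp only [JE6_0, List.mem_cons, List.not_mem_nil, or_false]
  omega

set_option maxRecDepth 1000000 in
theorem lenE6_0 : RE6_0.map List.length =
    [(1, 0), (1, 1), (1, 2), (1, 3), (2, 4), (2, 5), (2, 6), (2, 7), (3, 8), (2, 9), (2, 10), (2, 11), (2, 12), (1, 13), (1, 14), (1, 15), (1, 16)].flatMap (fun p => List.replicate p.1 p.2) := by decide +kernel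

theorem poinE6_0 (q : ℕ) : (RE6_0.map (fun l => q ^ l.length)).sum =
    1 * q ^ 0 + 1 * q ^ 1 + 1 * q ^ 2 + 1 * q ^ 3 + 2 * q ^ 4 + 2 * q ^ 5 + 2 * q ^ 6 + 2 * q ^ 7 + 3 * q ^ 8 + 2 * q ^ 9 + 2 * q ^ 10 + 2 * q ^ 11 + 2 * q ^ 12 + 1 * q ^ 13 + 1 * q ^ 14 + 1 * q ^ 15 + 1 * q ^ 16 := by
  rw [sum_pow_length, lenE6_0, sum_pow_blocks]
  simp only [List.map_cons, List.map_nil, List.sum_cons, List.sum_nil]
  ring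

set_option maxRecDepth 1000000 in
theorem lenE6_1 : RE6_1.map List.length =
    [(1, 0), (1, 1), (1, 2), (1, 3), (2, 4), (1, 5), (1, 6), (1, 7), (1, 8)].flatMap (fun p => List.replicate p.1 p.2) := by decide +kernel

theorem poinE6_1 (q : ℕ) : (RE6_1.map (fun l => q ^ l.length)).sum =
    1 * q ^ 0 + 1 * q ^ 1 + 1 * q ^ 2 + 1 * q ^ 3 + 2 * q ^ 4 + 1 * q ^ 5 + 1 * q ^ 6 + 1 * q ^ 7 + 1 * q ^ 8 := by
  rw [sum_pow_length, lenE6_1, sum_pow_blocks]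
  simp only [List.map_cons, List.map_nil, List.sum_cons, List.sum_nil]
  ring

set_option maxRecDepth 1000000 in
theorem lenE6_2 : RE6_2.map List.length =
    [(1, 0), (1, 1), (1, 2), (2, 3), (1, 4), (1, 5), (1, 6)].flatMap (fun p => List.replicate p.1 p.2) := by decide +kernel

theorem poinE6_2 (q : ℕ) : (RE6_2.map (fun l => q ^ l.length)).sum =
    1 * q ^ 0 + 1 * q ^ 1 + 1 * q ^ 2 + 2 * q ^ 3 + 1 * q ^ 4 + 1 * q ^ 5 + 1 * q ^ 6 := by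
  rw [sum_pow_length, lenE6_2, sum_pow_blocks]
  simp only [List.map_cons, List.map_nil, List.sum_cons, List.sum_nil]
  ring

set_option maxRecDepth 1000000 in
theorem lenE6_3 : RE6_3.map List.length =
    [(1, 0), (1, 1), (1, 2), (1, 3)].flatMap (fun p => List.replicate p.1 p.2) := by decide +kernel

theorem poinE6_3 (q : ℕ) : (RE6_3.map (fun l => q ^ l.length)).sum =
    1 * q ^ 0 + 1 * q ^ 1 + 1 * q ^ 2 + 1 * q ^ 3 := by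
  rw [sum_pow_length, lenE6_3, sum_pow_blocks]
  simp only [List.map_cons, List.map_nil, List.sum_cons, List.sum_nil]
  ring

set_option maxRecDepth 1000000 in
theorem lenE6_4 : RE6_4.map List.length =
    [(1, 0), (1, 1), (1, 2)].flatMap (fun p => List.replicate p.1 p.2) := by decide +kernel

theorem poinE6_4 (q : ℕ) : (RE6_4.map (fun l => q ^ l.length)).sum =
    1 * q ^ 0 + 1 * q ^ 1 + 1 * q ^ 2 := by
  rw [sum_pow_length, lenE6_4, sum_pow_blocks]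
  simp only [List.map_cons, List.map_nil, List.sum_cons, List.sum_nil]
  ring

set_option maxRecDepth 1000000 in
theorem lenE6_5 : RE6_5.map List.length =
    [(1, 0), (1, 1)].flatMap (fun p => List.replicate p.1 p.2) := by decide +kernel

theorem poinE6_5 (q : ℕ) : (RE6_5.map (fun l => q ^ l.length)).sum =
    1 * q ^ 0 + 1 * q ^ 1 := by
  rw [sum_pow_length, lenE6_5, sum_pow_blocks]
  simp only [List.map_cons, List.map_nil, List.sum_cons, List.sum_nil]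
  ring

theorem poincareE6 (q : ℕ) : ∑ x : IE6_0, q ^ (wE6_0 x).length =
    (1 * q ^ 0 + 1 * q ^ 1 + 1 * q ^ 2 + 1 * q ^ 3 + 2 * q ^ 4 + 2 * q ^ 5 + 2 * q ^ 6 + 2 * q ^ 7 + 3 * q ^ 8 + 2 * q ^ 9 + 2 * q ^ 10 + 2 * q ^ 11 + 2 * q ^ 12 + 1 * q ^ 13 + 1 * q ^ 14 + 1 * q ^ 15 + 1 * q ^ 16) *
      (1 * q ^ 0 + 1 * q ^ 1 + 1 * q ^ 2 + 1 * q ^ 3 + 2 * q ^ 4 + 1 * q ^ 5 + 1 * q ^ 6 + 1 * q ^ 7 + 1 * q ^ 8) *
      (1 * q ^ 0 + 1 * q ^ 1 + 1 * q ^ 2 + 2 * q ^ 3 + 1 * q ^ 4 + 1 * q ^ 5 + 1 * q ^ 6) *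
      (1 * q ^ 0 + 1 * q ^ 1 + 1 * q ^ 2 + 1 * q ^ 3) *
      (1 * q ^ 0 + 1 * q ^ 1 + 1 * q ^ 2) *
      (1 * q ^ 0 + 1 * q ^ 1) := by
  have h0 : ∑ x : IE6_0, q ^ (wE6_0 x).length =
      (RE6_0.map (fun l => q ^ l.length)).sum * ∑ x : IE6_1, q ^ (wE6_1 x).length :=
    sum_step RE6_0 wE6_1 q
  have h1 : ∑ x : IE6_1, q ^ (wE6_1 x).length =
      (RE6_1.map (fun l => q ^ l.length)).sum * ∑ x : IE6_2, q ^ (wE6_2 x).length :=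
    sum_step RE6_1 wE6_2 q
  have h2 : ∑ x : IE6_2, q ^ (wE6_2 x).length =
      (RE6_2.map (fun l => q ^ l.length)).sum * ∑ x : IE6_3, q ^ (wE6_3 x).length :=
    sum_step RE6_2 wE6_3 q
  have h3 : ∑ x : IE6_3, q ^ (wE6_3 x).length =
      (RE6_3.map (fun l => q ^ l.length)).sum * ∑ x : IE6_4, q ^ (wE6_4 x).length :=
    sum_step RE6_3 wE6_4 q
  have h4 : ∑ x : IE6_4, q ^ (wE6_4 x).length =
      (RE6_4.map (fun l => q ^ l.length)).sum * ∑ x : IE6_5, q ^ (wE6_5 x).length :=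
    sum_step RE6_4 wE6_5 q
  have h5 : ∑ x : IE6_5, q ^ (wE6_5 x).length =
      (RE6_5.map (fun l => q ^ l.length)).sum * ∑ x : IE6_6, q ^ (wE6_6 x).length :=
    sum_step RE6_5 wE6_6 q
  have hlast : ∑ x : IE6_6, q ^ (wE6_6 x).length = 1 := by
    simp [wE6_6]
  rw [h0, h1, h2, h3, h4, h5, hlast, poinE6_0, poinE6_1, poinE6_2, poinE6_3, poinE6_4, poinE6_5, mul_one]
  simp only [mul_assoc]

end Cfsg.Agent.Lib.Helper5.ChevTits
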