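import Mathlib
import Cfsg.Agent.Lib.Helper5.ChevOrdT
import Cfsg.Agent.Lib.Helper5.ChevTitsJ

/-!
# Reflection table of type E7 (helper5; generated)
-/

set_option autoImplicit false
set_option maxRecDepth 1000000

namespace Cfsg.Agent.Lib.Helper5.ChevTits

open Cfsg.Lie

def rtE7 : List (List ℕ) :=
  [[1, 0, 2, 3, 4, 5, 6, 7, 8, 9, 10, 11, 12, 13, 14, 15, 16, 33, 34, 35, 36, 37, 38, 39, 40, 41, 42, 48, 49, 50, 51, 52, 93, 17, 18, 19, 20, 21, 22, 23, 24, 25, 26, 43, 44, 45, 46, 47, 27, 28, 29, 30, 31, 53, 54, 55, 56, 57, 58, 59, 60, 61, 62, 63, 64, 65, 66, 67, 68, 69, 70, 71, 72, 94, 95, 96, 97, 98, 78, 79, 80, 81, 82, 99, 100, 101, 102, 103, 104, 105, 106, 107, 108, 32, 73, 74, 75, 76, 77, 83, 84, 85, 86, 87, 88, 89, 90, 91, 92, 109, 110, 111, 112, 113, 114, 115, 116, 117, 118, 119, 120, 121, 122, 123, 125, 124],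
  [0, 1, 2, 7, 8, 9, 10, 3, 4, 5, 6, 11, 12, 13, 14, 15, 16, 17, 18, 19, 20, 21, 22, 27, 28, 29, 30, 23, 24, 25, 26, 31, 32, 33, 34, 35, 36, 37, 38, 48, 49, 50, 51, 53, 54, 55, 56, 78, 39, 40, 41, 42, 52, 43, 44, 45, 46, 57, 58, 59, 60, 61, 62, 63, 64, 65, 66, 67, 68, 79, 80, 81, 82, 73, 83, 84, 85, 86, 47, 69, 70, 71, 72, 74, 75, 76, 77, 87, 88, 89, 90, 91, 92, 93, 94, 99, 100, 101, 102, 95, 96, 97, 98, 103, 104, 105, 106, 107, 108, 109, 110, 111, 112, 113, 114, 119, 120, 121, 122, 115, 116, 117, 118, 123, 124, 125],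
  [0, 2, 1, 3, 4, 5, 6, 7, 8, 9, 10, 17, 18, 19, 20, 21, 22, 11, 12, 13, 14, 15, 16, 23, 24, 25, 26, 27, 28, 29, 30, 32, 31, 33, 34, 35, 36, 37, 38, 43, 44, 45, 46, 39, 40, 41, 42, 47, 53, 54, 55, 56, 73, 48, 49, 50, 51, 57, 58, 59, 60, 61, 62, 63, 64, 65, 66, 67, 68, 74, 75, 76, 77, 52, 69, 70, 71, 72, 78, 83, 84, 85, 86, 79, 80, 81, 82, 87, 88, 89, 90, 91, 92, 94, 93, 95, 96, 97, 98, 99, 100, 101, 102, 109, 110, 111, 112, 113, 114, 103, 104, 105, 106, 107, 108, 115, 116, 117, 118, 119, 120, 121, 122, 124, 123, 125],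
  [0, 1, 3, 2, 4, 5, 6, 7, 11, 12, 13, 8, 9, 10, 14, 15, 16, 17, 18, 19, 23, 24, 25, 20, 21, 22, 26, 27, 28, 29, 31, 30, 32, 33, 34, 35, 39, 40, 41, 36, 37, 38, 42, 43, 44, 45, 47, 46, 48, 49, 50, 52, 51, 57, 58, 59, 69, 53, 54, 55, 60, 61, 62, 63, 64, 65, 70, 71, 72, 56, 66, 67, 68, 74, 73, 75, 76, 77, 79, 78, 80, 81, 82, 83, 87, 88, 89, 84, 85, 86, 90, 91, 92, 93, 95, 94, 96, 97, 98, 99, 103, 104, 105, 100, 101, 102, 106, 107, 108, 109, 110, 111, 115, 116, 117, 112, 113, 114, 118, 119, 120, 121, 123, 122, 124, 125],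
  [0, 1, 2, 4, 3, 5, 6, 8, 7, 9, 10, 11, 14, 15, 12, 13, 16, 17, 20, 21, 18, 19, 22, 23, 24, 26, 25, 27, 28, 30, 29, 31, 32, 33, 36, 37, 34, 35, 38, 39, 40, 42, 41, 43, 44, 46, 45, 47, 48, 49, 51, 50, 52, 53, 54, 56, 55, 60, 61, 66, 57, 58, 62, 63, 67, 68, 59, 64, 65, 70, 69, 71, 72, 73, 75, 74, 76, 77, 78, 80, 79, 81, 82, 84, 83, 85, 86, 87, 90, 91, 88, 89, 92, 93, 94, 96, 95, 97, 98, 100, 99, 101, 102, 103, 106, 107, 104, 105, 108, 109, 112, 113, 110, 111, 114, 115, 116, 118, 117, 119, 120, 122, 121, 123, 124, 125],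
  [0, 1, 2, 3, 5, 4, 6, 7, 9, 8, 10, 12, 11, 13, 14, 16, 15, 18, 17, 19, 20, 22, 21, 23, 25, 24, 26, 27, 29, 28, 30, 31, 32, 34, 33, 35, 36, 38, 37, 39, 41, 40, 42, 43, 45, 44, 46, 47, 48, 50, 49, 51, 52, 53, 55, 54, 56, 57, 59, 58, 62, 64, 60, 65, 61, 63, 67, 66, 68, 69, 71, 70, 72, 73, 74, 76, 75, 77, 78, 79, 81, 80, 82, 83, 85, 84, 86, 88, 87, 89, 90, 92, 91, 93, 94, 95, 97, 96, 98, 99, 101, 100, 102, 104, 103, 105, 106, 108, 107, 110, 109, 111, 112, 114, 113, 115, 117, 116, 118, 119, 121, 120, 122, 123, 124, 125],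
  [0, 1, 2, 3, 4, 6, 5, 7, 8, 10, 9, 11, 13, 12, 15, 14, 16, 17, 19, 18, 21, 20, 22, 24, 23, 25, 26, 28, 27, 29, 30, 31, 32, 33, 35, 34, 37, 36, 38, 40, 39, 41, 42, 44, 43, 45, 46, 47, 49, 48, 50, 51, 52, 54, 53, 55, 56, 58, 57, 59, 61, 60, 63, 62, 65, 64, 66, 68, 67, 69, 70, 72, 71, 73, 74, 75, 77, 76, 78, 79, 80, 82, 81, 83, 84, 86, 85, 87, 89, 88, 91, 90, 92, 93, 94, 95, 96, 98, 97, 99, 100, 102, 101, 103, 105, 104, 107, 106, 108, 109, 111, 110, 113, 112, 114, 116, 115, 117, 118, 120, 119, 121, 122, 123, 124, 125]]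

def ptE7 : List Bool :=
  [false, false, false, false, false, false, false, false, false, false, false, false, false, false, false, false, false, false, false, false, false, false, false, false, false, false, false, false, false, false, false, false, false, false, false, false, false, false, false, false, false, false, false, false, false, false, false, false, false, false, false, false, false, false, false, false, false, false, false, false, false, false, false, true, true, true, true, true, true, true, true, true, true, true, true, true, true, true, true, true, true, true, true, true, true, true, true, true, true, true, true, true, true, true, true, true, true, true, true, true, true, true, true, true, true, true, true, true, true, true, true, true, true, true, true, true, true, true, true, true, true, true, true, true, true, true]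

def JE7_0 : List ℕ := [0, 1, 2, 3, 4, 5, 6]

def JE7_1 : List ℕ := [0, 1, 2, 3, 4, 5]

def JE7_2 : List ℕ := [1, 2, 3, 4, 5]

def JE7_3 : List ℕ := [1, 2, 3, 4]

def JE7_4 : List ℕ := [2, 3, 4]

def JE7_5 : List ℕ := [3, 4]

def JE7_6 : List ℕ := [4]

def JE7_7 : List ℕ := []

theorem hDE7 : chevE7 ∈ [chevG2, chevB2, chevD4, chevF4, chevE6, chevE7, chevE8] := by simp

theorem rowE7_0 : rowB chevE7 rtE7 0 = true := by decide +kernel
theorem rowE7_1 : rowB chevE7 rtE7 1 = true := by decide +kernel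
theorem rowE7_2 : rowB chevE7 rtE7 2 = true := by decide +kernel
theorem rowE7_3 : rowB chevE7 rtE7 3 = true := by decide +kernel
theorem rowE7_4 : rowB chevE7 rtE7 4 = true := by decide +kernel
theorem rowE7_5 : rowB chevE7 rtE7 5 = true := by decide +kernel
theorem rowE7_6 : rowB chevE7 rtE7 6 = true := by decide +kernel
theorem posE7 : posB chevE7 ptE7 = true := by decide +kernel

theorem tabE7 : TabOKT chevE7 rtE7 ptE7 := by
  refine tabOKT_of _ _ _ ?_ posE7
  intro i hi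
  have hi' : i < 7 := hi
  interval_cases i
  · exact rowE7_0
  · exact rowE7_1
  · exact rowE7_2
  · exact rowE7_3
  · exact rowE7_4
  · exact rowE7_5
  · exact rowE7_6

end Cfsg.Agent.Lib.Helper5.ChevTits
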