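import Mathlib
import Cfsg.Agent.Lib.Helper5.ChevOrdCE7a

/-!
# A reduced word of the longest element, type E7 (helper5; generated)
-/

set_option autoImplicit false
set_option maxRecDepth 1000000

namespace Cfsg.Agent.Lib.Helper5.ChevTits

open Cfsg.Lie

def longE7 : List ℕ := [6, 5, 4, 3, 2, 1, 3, 4, 5, 6, 0, 2, 3, 4, 5, 1, 3, 4, 2, 3, 0, 2, 1, 3, 4, 5, 6, 5, 4, 3, 2, 1, 3, 4, 5, 0, 2, 3, 4, 1, 3, 2, 0, 5, 4, 3, 2, 1, 3, 4, 5, 1, 3, 4, 2, 3, 1, 4, 3, 2, 4, 3, 4]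

theorem longOKE7 : longB chevE7 longE7 = true :=
  longBT_imp chevE7 (reflOK_of_mem _ hDE7) (simpleNe_of_mem _ hDE7)
    (Cfsg.Agent.S1041.pos_or_neg _ hDE7) tabE7 longE7 (by decide +kernel)

end Cfsg.Agent.Lib.Helper5.ChevTits
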