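import Mathlib
import Cfsg.Agent.Lib.Helper5.ChevOrdCE7a

/-!
# Level 6 of the parabolic chain, type E7 (helper5; generated)
-/

set_option autoImplicit false
set_option maxRecDepth 1000000

namespace Cfsg.Agent.Lib.Helper5.ChevTits

open Cfsg.Lie

def QE7_6 : List ℕ := []

def RE7_6 : List (List ℕ) :=
  [[],
  [4]]

def AE7_6 : List (List ℕ) :=
  [[0, 1, 2, 3, 4, 5, 6, 7, 8, 9, 10, 11, 12, 13, 14, 15, 16, 17, 18, 19, 20, 21, 22, 23, 24, 25, 26, 27, 28, 29, 30, 31, 32, 33, 34, 35, 36, 37, 38, 39, 40, 41, 42, 43, 44, 45, 46, 47, 48, 49, 50, 51, 52, 53, 54, 55, 56, 57, 58, 59, 60, 61, 62, 63, 64, 65, 66, 67, 68, 69, 70, 71, 72, 73, 74, 75, 76, 77, 78, 79, 80, 81, 82, 83, 84, 85, 86, 87, 88, 89, 90, 91, 92, 93, 94, 95, 96, 97, 98, 99, 100, 101, 102, 103, 104, 105, 106, 107, 108, 109, 110, 111, 112, 113, 114, 115, 116, 117, 118, 119, 120, 121, 122, 123, 124, 125],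
  [0, 1, 2, 4, 3, 5, 6, 8, 7, 9, 10, 11, 14, 15, 12, 13, 16, 17, 20, 21, 18, 19, 22, 23, 24, 26, 25, 27, 28, 30, 29, 31, 32, 33, 36, 37, 34, 35, 38, 39, 40, 42, 41, 43, 44, 46, 45, 47, 48, 49, 51, 50, 52, 53, 54, 56, 55, 60, 61, 66, 57, 58, 62, 63, 67, 68, 59, 64, 65, 70, 69, 71, 72, 73, 75, 74, 76, 77, 78, 80, 79, 81, 82, 84, 83, 85, 86, 87, 90, 91, 88, 89, 92, 93, 94, 96, 95, 97, 98, 100, 99, 101, 102, 103, 106, 107, 104, 105, 108, 109, 112, 113, 110, 111, 114, 115, 116, 118, 117, 119, 120, 122, 121, 123, 124, 125]]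

theorem lvE7_6 : LevelOK chevE7 (fun a => a ∈ JE7_6) (fun a => a ∈ JE7_7)
    (fun r => r ∈ QE7_6) RE7_6 :=
  levelOK_ofT chevE7 (reflOK_of_mem _ hDE7) (simpleNe_of_mem _ hDE7) (excl_of_mem _ hDE7)
    (Cfsg.Agent.S1041.pos_or_neg _ hDE7) tabE7 JE7_6 JE7_7 QE7_6 RE7_6 AE7_6
    (by decide +kernel) (by decide +kernel) (by decide +kernel) (by decide +kernel)
    (by decide +kernel) (by decide +kernel) (by decide +kernel)

theorem lenE7_6 : RE7_6.map List.length =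
    [(1, 0), (1, 1)].flatMap (fun p => List.replicate p.1 p.2) := by decide +kernel

theorem poinE7_6 (q : ℕ) : (RE7_6.map (fun l => q ^ l.length)).sum =
    1 * q ^ 0 + 1 * q ^ 1 := by
  rw [sum_pow_length, lenE7_6, sum_pow_blocks]
  simp only [List.map_cons, List.map_nil, List.sum_cons, List.sum_nil]
  ring

end Cfsg.Agent.Lib.Helper5.ChevTits
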