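import Mathlib
import Cfsg.Agent.Lib.Helper5.ChevOrdCE7b
import Cfsg.Agent.Lib.Helper5.ChevOrdCE7l0
import Cfsg.Agent.Lib.Helper5.ChevOrdCE7l1
import Cfsg.Agent.Lib.Helper5.ChevOrdCE7l2
import Cfsg.Agent.Lib.Helper5.ChevOrdCE7l3
import Cfsg.Agent.Lib.Helper5.ChevOrdCE7l4
import Cfsg.Agent.Lib.Helper5.ChevOrdCE7l5
import Cfsg.Agent.Lib.Helper5.ChevOrdCE7l6

/-!
# The Weyl group of type E7 along a chain of parabolic subgroups (helper5; generated)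
-/

set_option autoImplicit false
set_option maxRecDepth 1000000

namespace Cfsg.Agent.Lib.Helper5.ChevTits

open Cfsg.Lie

abbrev IE7_7 : Type := Unit
def wE7_7 : IE7_7 → List ℕ := fun _ => []
theorem enE7_7 : Enum chevE7 (fun a => a ∈ JE7_7) wE7_7 := enum_nil chevE7

abbrev IE7_6 : Type := Fin RE7_6.length × IE7_7
def wE7_6 : IE7_6 → List ℕ := fun x => RE7_6[x.1.1] ++ wE7_7 x.2
theorem enE7_6 : Enum chevE7 (fun a => a ∈ JE7_6) wE7_6 :=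
  enum_step chevE7 (reflOK_of_mem _ hDE7) (simpleNe_of_mem _ hDE7) (excl_of_mem _ hDE7)
    (posNeg_of_mem _ hDE7) (Cfsg.Agent.S1041.pos_or_neg _ hDE7) lvE7_6 wE7_7 enE7_7

abbrev IE7_5 : Type := Fin RE7_5.length × IE7_6
def wE7_5 : IE7_5 → List ℕ := fun x => RE7_5[x.1.1] ++ wE7_6 x.2
theorem enE7_5 : Enum chevE7 (fun a => a ∈ JE7_5) wE7_5 :=
  enum_step chevE7 (reflOK_of_mem _ hDE7) (simpleNe_of_mem _ hDE7) (excl_of_mem _ hDE7)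
    (posNeg_of_mem _ hDE7) (Cfsg.Agent.S1041.pos_or_neg _ hDE7) lvE7_5 wE7_6 enE7_6

abbrev IE7_4 : Type := Fin RE7_4.length × IE7_5
def wE7_4 : IE7_4 → List ℕ := fun x => RE7_4[x.1.1] ++ wE7_5 x.2
theorem enE7_4 : Enum chevE7 (fun a => a ∈ JE7_4) wE7_4 :=
  enum_step chevE7 (reflOK_of_mem _ hDE7) (simpleNe_of_mem _ hDE7) (excl_of_mem _ hDE7)
    (posNeg_of_mem _ hDE7) (Cfsg.Agent.S1041.pos_or_neg _ hDE7) lvE7_4 wE7_5 enE7_5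

abbrev IE7_3 : Type := Fin RE7_3.length × IE7_4
def wE7_3 : IE7_3 → List ℕ := fun x => RE7_3[x.1.1] ++ wE7_4 x.2
theorem enE7_3 : Enum chevE7 (fun a => a ∈ JE7_3) wE7_3 :=
  enum_step chevE7 (reflOK_of_mem _ hDE7) (simpleNe_of_mem _ hDE7) (excl_of_mem _ hDE7)
    (posNeg_of_mem _ hDE7) (Cfsg.Agent.S1041.pos_or_neg _ hDE7) lvE7_3 wE7_4 enE7_4

abbrev IE7_2 : Type := Fin RE7_2.length × IE7_3
def wE7_2 : IE7_2 → List ℕ := fun x => RE7_2[x.1.1] ++ wE7_3 x.2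
theorem enE7_2 : Enum chevE7 (fun a => a ∈ JE7_2) wE7_2 :=
  enum_step chevE7 (reflOK_of_mem _ hDE7) (simpleNe_of_mem _ hDE7) (excl_of_mem _ hDE7)
    (posNeg_of_mem _ hDE7) (Cfsg.Agent.S1041.pos_or_neg _ hDE7) lvE7_2 wE7_3 enE7_3

abbrev IE7_1 : Type := Fin RE7_1.length × IE7_2
def wE7_1 : IE7_1 → List ℕ := fun x => RE7_1[x.1.1] ++ wE7_2 x.2
theorem enE7_1 : Enum chevE7 (fun a => a ∈ JE7_1) wE7_1 :=
  enum_step chevE7 (reflOK_of_mem _ hDE7) (simpleNe_of_mem _ hDE7) (excl_of_mem _ hDE7)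
    (posNeg_of_mem _ hDE7) (Cfsg.Agent.S1041.pos_or_neg _ hDE7) lvE7_1 wE7_2 enE7_2

abbrev IE7_0 : Type := Fin RE7_0.length × IE7_1
def wE7_0 : IE7_0 → List ℕ := fun x => RE7_0[x.1.1] ++ wE7_1 x.2
theorem enE7_0 : Enum chevE7 (fun a => a ∈ JE7_0) wE7_0 :=
  enum_step chevE7 (reflOK_of_mem _ hDE7) (simpleNe_of_mem _ hDE7) (excl_of_mem _ hDE7)
    (posNeg_of_mem _ hDE7) (Cfsg.Agent.S1041.pos_or_neg _ hDE7) lvE7_0 wE7_1 enE7_1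

theorem enE7 : Enum chevE7 (fun a => a < chevE7.rank) wE7_0 := by
  refine enum_of_iff chevE7 ?_ wE7_0 enE7_0
  intro a
  show a ∈ JE7_0 ↔ a < 7
  simp only [JE7_0, List.mem_cons, List.not_mem_nil, or_false]
  omega

theorem poincareE7 (q : ℕ) : ∑ x : IE7_0, q ^ (wE7_0 x).length =
    (1 * q ^ 0 + 1 * q ^ 1 + 1 * q ^ 2 + 1 * q ^ 3 + 1 * q ^ 4 + 2 * q ^ 5 + 2 * q ^ 6 + 2 * q ^ 7 + 2 * q ^ 8 + 3 * q ^ 9 + 3 * q ^ 10 + 3 * q ^ 11 + 3 * q ^ 12 + 3 * q ^ 13 + 3 * q ^ 14 + 3 * q ^ 15 + 3 * q ^ 16 + 3 * q ^ 17 + 3 * q ^ 18 + 2 * q ^ 19 + 2 * q ^ 20 + 2 * q ^ 21 + 2 * q ^ 22 + 1 * q ^ 23 + 1 * q ^ 24 + 1 * q ^ 25 + 1 * q ^ 26 + 1 * q ^ 27) *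
      (1 * q ^ 0 + 1 * q ^ 1 + 1 * q ^ 2 + 1 * q ^ 3 + 2 * q ^ 4 + 2 * q ^ 5 + 2 * q ^ 6 + 2 * q ^ 7 + 3 * q ^ 8 + 2 * q ^ 9 + 2 * q ^ 10 + 2 * q ^ 11 + 2 * q ^ 12 + 1 * q ^ 13 + 1 * q ^ 14 + 1 * q ^ 15 + 1 * q ^ 16) *
      (1 * q ^ 0 + 1 * q ^ 1 + 1 * q ^ 2 + 1 * q ^ 3 + 2 * q ^ 4 + 1 * q ^ 5 + 1 * q ^ 6 + 1 * q ^ 7 + 1 * q ^ 8) *
      (1 * q ^ 0 + 1 * q ^ 1 + 1 * q ^ 2 + 2 * q ^ 3 + 1 * q ^ 4 + 1 * q ^ 5 + 1 * q ^ 6) *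
      (1 * q ^ 0 + 1 * q ^ 1 + 1 * q ^ 2 + 1 * q ^ 3) *
      (1 * q ^ 0 + 1 * q ^ 1 + 1 * q ^ 2) *
      (1 * q ^ 0 + 1 * q ^ 1) := by
  have h0 : ∑ x : IE7_0, q ^ (wE7_0 x).length =
      (RE7_0.map (fun l => q ^ l.length)).sum * ∑ x : IE7_1, q ^ (wE7_1 x).length :=
    sum_step RE7_0 wE7_1 q
  have h1 : ∑ x : IE7_1, q ^ (wE7_1 x).length =
      (RE7_1.map (fun l => q ^ l.length)).sum * ∑ x : IE7_2, q ^ (wE7_2 x).length :=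
    sum_step RE7_1 wE7_2 q
  have h2 : ∑ x : IE7_2, q ^ (wE7_2 x).length =
      (RE7_2.map (fun l => q ^ l.length)).sum * ∑ x : IE7_3, q ^ (wE7_3 x).length :=
    sum_step RE7_2 wE7_3 q
  have h3 : ∑ x : IE7_3, q ^ (wE7_3 x).length =
      (RE7_3.map (fun l => q ^ l.length)).sum * ∑ x : IE7_4, q ^ (wE7_4 x).length :=
    sum_step RE7_3 wE7_4 q
  have h4 : ∑ x : IE7_4, q ^ (wE7_4 x).length =
      (RE7_4.map (fun l => q ^ l.length)).sum * ∑ x : IE7_5, q ^ (wE7_5 x).length :=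
    sum_step RE7_4 wE7_5 q
  have h5 : ∑ x : IE7_5, q ^ (wE7_5 x).length =
      (RE7_5.map (fun l => q ^ l.length)).sum * ∑ x : IE7_6, q ^ (wE7_6 x).length :=
    sum_step RE7_5 wE7_6 q
  have h6 : ∑ x : IE7_6, q ^ (wE7_6 x).length =
      (RE7_6.map (fun l => q ^ l.length)).sum * ∑ x : IE7_7, q ^ (wE7_7 x).length :=
    sum_step RE7_6 wE7_7 q
  have hlast : ∑ x : IE7_7, q ^ (wE7_7 x).length = 1 := by
    simp [wE7_7]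
  rw [h0, h1, h2, h3, h4, h5, h6, hlast, poinE7_0, poinE7_1, poinE7_2, poinE7_3, poinE7_4, poinE7_5, poinE7_6, mul_one]
  simp only [mul_assoc]

end Cfsg.Agent.Lib.Helper5.ChevTits
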