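import Mathlib
import Cfsg.Agent.Lib.Helper5.ChevOrdT
import Cfsg.Agent.Lib.Helper5.ChevTitsJ

/-!
# The Weyl group of type F4 along a chain of parabolic subgroups (helper5; generated)
-/

set_option autoImplicit false

namespace Cfsg.Agent.Lib.Helper5.ChevTits

open Cfsg.Lie

def rtF4 : List (List ℕ) :=
  [[0, 1, 2, 7, 15, 16, 17, 3, 8, 9, 10, 18, 19, 20, 33, 4, 5, 6, 11, 12, 13, 21, 22, 23, 24, 25, 26, 34, 35, 36, 41, 42, 43, 14, 27, 28, 29, 37, 38, 39, 44, 30, 31, 32, 40, 45, 46, 47],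
  [0, 1, 4, 3, 2, 5, 6, 8, 7, 11, 12, 9, 10, 14, 13, 15, 21, 22, 18, 19, 27, 16, 17, 23, 24, 30, 31, 20, 28, 29, 25, 26, 32, 34, 33, 37, 38, 35, 36, 40, 39, 41, 42, 45, 44, 43, 46, 47],
  [0, 2, 1, 3, 5, 4, 6, 7, 9, 8, 10, 11, 13, 12, 14, 16, 15, 17, 18, 20, 19, 23, 25, 21, 26, 22, 24, 28, 27, 29, 30, 32, 31, 33, 35, 34, 36, 37, 39, 38, 40, 41, 43, 42, 44, 46, 45, 47],
  [1, 0, 2, 3, 4, 6, 5, 7, 8, 10, 9, 12, 11, 13, 14, 15, 17, 16, 19, 18, 20, 22, 21, 24, 23, 26, 25, 27, 29, 28, 31, 30, 32, 33, 34, 36, 35, 38, 37, 39, 40, 42, 41, 43, 44, 45, 47, 46]]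

def ptF4 : List Bool :=
  [false, false, false, false, false, false, false, false, false, false, false, false, false, false, false, false, false, false, false, false, false, false, false, false, true, true, true, true, true, true, true, true, true, true, true, true, true, true, true, true, true, true, true, true, true, true, true, true]

def JF4_0 : List ℕ := [0, 1, 2, 3]

def QF4_0 : List ℕ := [15, 16, 17, 18, 19, 20, 21, 22, 23, 24, 25, 26, 27, 28, 29, 30, 31, 32]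

def RF4_0 : List (List ℕ) :=
  [[],
  [0],
  [1, 0],
  [2, 1, 0],
  [1, 2, 1, 0],
  [3, 2, 1, 0],
  [0, 1, 2, 1, 0],
  [3, 1, 2, 1, 0],
  [3, 0, 1, 2, 1, 0],
  [2, 3, 1, 2, 1, 0],
  [2, 3, 0, 1, 2, 1, 0],
  [1, 2, 3, 1, 2, 1, 0],
  [1, 2, 3, 0, 1, 2, 1, 0],
  [0, 1, 2, 3, 1, 2, 1, 0],
  [0, 1, 2, 3, 0, 1, 2, 1, 0],
  [2, 1, 2, 3, 0, 1, 2, 1, 0],
  [2, 0, 1, 2, 3, 0, 1, 2, 1, 0],
  [3, 2, 1, 2, 3, 0, 1, 2, 1, 0],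
  [1, 2, 0, 1, 2, 3, 0, 1, 2, 1, 0],
  [3, 2, 0, 1, 2, 3, 0, 1, 2, 1, 0],
  [3, 1, 2, 0, 1, 2, 3, 0, 1, 2, 1, 0],
  [2, 3, 1, 2, 0, 1, 2, 3, 0, 1, 2, 1, 0],
  [1, 2, 3, 1, 2, 0, 1, 2, 3, 0, 1, 2, 1, 0],
  [0, 1, 2, 3, 1, 2, 0, 1, 2, 3, 0, 1, 2, 1, 0]]

def AF4_0 : List (List ℕ) :=
  [[0, 1, 2, 3, 4, 5, 6, 7, 8, 9, 10, 11, 12, 13, 14, 15, 16, 17, 18, 19, 20, 21, 22, 23, 24, 25, 26, 27, 28, 29, 30, 31, 32, 33, 34, 35, 36, 37, 38, 39, 40, 41, 42, 43, 44, 45, 46, 47],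
  [0, 1, 2, 7, 15, 16, 17, 3, 8, 9, 10, 18, 19, 20, 33, 4, 5, 6, 11, 12, 13, 21, 22, 23, 24, 25, 26, 34, 35, 36, 41, 42, 43, 14, 27, 28, 29, 37, 38, 39, 44, 30, 31, 32, 40, 45, 46, 47],
  [0, 1, 4, 8, 15, 21, 22, 3, 7, 11, 12, 18, 19, 27, 34, 2, 5, 6, 9, 10, 14, 16, 17, 23, 24, 30, 31, 33, 37, 38, 41, 42, 45, 13, 20, 28, 29, 35, 36, 40, 44, 25, 26, 32, 39, 43, 46, 47],
  [0, 2, 5, 9, 16, 23, 25, 3, 7, 11, 13, 18, 20, 28, 35, 1, 4, 6, 8, 10, 14, 15, 17, 21, 26, 30, 32, 33, 37, 39, 41, 43, 46, 12, 19, 27, 29, 34, 36, 40, 44, 22, 24, 31, 38, 42, 45, 47],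
  [0, 4, 5, 11, 21, 23, 30, 3, 8, 9, 14, 18, 27, 28, 37, 1, 2, 6, 7, 12, 13, 15, 22, 16, 31, 25, 32, 34, 35, 40, 41, 45, 46, 10, 19, 20, 29, 33, 38, 39, 44, 17, 24, 26, 36, 42, 43, 47],
  [1, 2, 6, 10, 17, 24, 26, 3, 7, 12, 13, 19, 20, 29, 36, 0, 4, 5, 8, 9, 14, 15, 16, 22, 25, 31, 32, 33, 38, 39, 42, 43, 47, 11, 18, 27, 28, 34, 35, 40, 44, 21, 23, 30, 37, 41, 45, 46],
  [0, 15, 16, 18, 21, 23, 41, 7, 8, 9, 33, 11, 34, 35, 37, 1, 2, 17, 3, 19, 20, 4, 22, 5, 42, 25, 43, 27, 28, 44, 30, 45, 46, 10, 12, 13, 36, 14, 38, 39, 40, 6, 24, 26, 29, 31, 32, 47],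
  [1, 4, 6, 12, 22, 24, 31, 3, 8, 10, 14, 19, 27, 29, 38, 0, 2, 5, 7, 11, 13, 15, 21, 17, 30, 26, 32, 34, 36, 40, 42, 45, 47, 9, 18, 20, 28, 33, 37, 39, 44, 16, 23, 25, 35, 41, 43, 46],
  [1, 15, 17, 19, 22, 24, 42, 7, 8, 10, 33, 12, 34, 36, 38, 0, 2, 16, 3, 18, 20, 4, 21, 6, 41, 26, 43, 27, 29, 44, 31, 45, 47, 9, 11, 13, 35, 14, 37, 39, 40, 5, 23, 25, 28, 30, 32, 46],
  [2, 5, 6, 13, 25, 26, 32, 3, 9, 10, 14, 20, 28, 29, 39, 0, 1, 4, 7, 11, 12, 16, 23, 17, 30, 24, 31, 35, 36, 40, 43, 46, 47, 8, 18, 19, 27, 33, 37, 38, 44, 15, 21, 22, 34, 41, 42, 45],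
  [2, 16, 17, 20, 25, 26, 43, 7, 9, 10, 33, 13, 35, 36, 39, 0, 1, 15, 3, 18, 19, 5, 23, 6, 41, 24, 42, 28, 29, 44, 32, 46, 47, 8, 11, 12, 34, 14, 37, 38, 40, 4, 21, 22, 27, 30, 31, 45],
  [4, 5, 6, 14, 30, 31, 32, 3, 11, 12, 13, 27, 28, 29, 40, 0, 1, 2, 8, 9, 10, 21, 23, 22, 25, 24, 26, 37, 38, 39, 45, 46, 47, 7, 18, 19, 20, 34, 35, 36, 44, 15, 16, 17, 33, 41, 42, 43],
  [4, 21, 22, 27, 30, 31, 45, 8, 11, 12, 34, 14, 37, 38, 40, 0, 1, 15, 3, 18, 19, 5, 23, 6, 41, 24, 42, 28, 29, 44, 32, 46, 47, 7, 9, 10, 33, 13, 35, 36, 39, 2, 16, 17, 20, 25, 26, 43],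
  [15, 16, 17, 33, 41, 42, 43, 7, 18, 19, 20, 34, 35, 36, 44, 0, 1, 2, 8, 9, 10, 21, 23, 22, 25, 24, 26, 37, 38, 39, 45, 46, 47, 3, 11, 12, 13, 27, 28, 29, 40, 4, 5, 6, 14, 30, 31, 32],
  [15, 21, 22, 34, 41, 42, 45, 8, 18, 19, 27, 33, 37, 38, 44, 0, 1, 4, 7, 11, 12, 16, 23, 17, 30, 24, 31, 35, 36, 40, 43, 46, 47, 3, 9, 10, 14, 20, 28, 29, 39, 2, 5, 6, 13, 25, 26, 32],
  [5, 23, 25, 28, 30, 32, 46, 9, 11, 13, 35, 14, 37, 39, 40, 0, 2, 16, 3, 18, 20, 4, 21, 6, 41, 26, 43, 27, 29, 44, 31, 45, 47, 7, 8, 10, 33, 12, 34, 36, 38, 1, 15, 17, 19, 22, 24, 42],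
  [16, 23, 25, 35, 41, 43, 46, 9, 18, 20, 28, 33, 37, 39, 44, 0, 2, 5, 7, 11, 13, 15, 21, 17, 30, 26, 32, 34, 36, 40, 42, 45, 47, 3, 8, 10, 14, 19, 27, 29, 38, 1, 4, 6, 12, 22, 24, 31],
  [6, 24, 26, 29, 31, 32, 47, 10, 12, 13, 36, 14, 38, 39, 40, 1, 2, 17, 3, 19, 20, 4, 22, 5, 42, 25, 43, 27, 28, 44, 30, 45, 46, 7, 8, 9, 33, 11, 34, 35, 37, 0, 15, 16, 18, 21, 23, 41],
  [21, 23, 30, 37, 41, 45, 46, 11, 18, 27, 28, 34, 35, 40, 44, 0, 4, 5, 8, 9, 14, 15, 16, 22, 25, 31, 32, 33, 38, 39, 42, 43, 47, 3, 7, 12, 13, 19, 20, 29, 36, 1, 2, 6, 10, 17, 24, 26],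
  [17, 24, 26, 36, 42, 43, 47, 10, 19, 20, 29, 33, 38, 39, 44, 1, 2, 6, 7, 12, 13, 15, 22, 16, 31, 25, 32, 34, 35, 40, 41, 45, 46, 3, 8, 9, 14, 18, 27, 28, 37, 0, 4, 5, 11, 21, 23, 30],
  [22, 24, 31, 38, 42, 45, 47, 12, 19, 27, 29, 34, 36, 40, 44, 1, 4, 6, 8, 10, 14, 15, 17, 21, 26, 30, 32, 33, 37, 39, 41, 43, 46, 3, 7, 11, 13, 18, 20, 28, 35, 0, 2, 5, 9, 16, 23, 25],
  [25, 26, 32, 39, 43, 46, 47, 13, 20, 28, 29, 35, 36, 40, 44, 2, 5, 6, 9, 10, 14, 16, 17, 23, 24, 30, 31, 33, 37, 38, 41, 42, 45, 3, 7, 11, 12, 18, 19, 27, 34, 0, 1, 4, 8, 15, 21, 22],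
  [30, 31, 32, 40, 45, 46, 47, 14, 27, 28, 29, 37, 38, 39, 44, 4, 5, 6, 11, 12, 13, 21, 22, 23, 24, 25, 26, 34, 35, 36, 41, 42, 43, 3, 8, 9, 10, 18, 19, 20, 33, 0, 1, 2, 7, 15, 16, 17],
  [41, 42, 43, 44, 45, 46, 47, 33, 34, 35, 36, 37, 38, 39, 40, 15, 16, 17, 18, 19, 20, 21, 22, 23, 24, 25, 26, 27, 28, 29, 30, 31, 32, 7, 8, 9, 10, 11, 12, 13, 14, 0, 1, 2, 3, 4, 5, 6]]

def JF4_1 : List ℕ := [1, 2, 3]

def QF4_1 : List ℕ := [17, 19, 20, 22, 25, 27, 28, 30]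

def RF4_1 : List (List ℕ) :=
  [[],
  [3],
  [2, 3],
  [1, 2, 3],
  [2, 1, 2, 3],
  [3, 2, 1, 2, 3]]

def AF4_1 : List (List ℕ) :=
  [[0, 1, 2, 3, 4, 5, 6, 7, 8, 9, 10, 11, 12, 13, 14, 15, 16, 17, 18, 19, 20, 21, 22, 23, 24, 25, 26, 27, 28, 29, 30, 31, 32, 33, 34, 35, 36, 37, 38, 39, 40, 41, 42, 43, 44, 45, 46, 47],
  [1, 0, 2, 3, 4, 6, 5, 7, 8, 10, 9, 12, 11, 13, 14, 15, 17, 16, 19, 18, 20, 22, 21, 24, 23, 26, 25, 27, 29, 28, 31, 30, 32, 33, 34, 36, 35, 38, 37, 39, 40, 42, 41, 43, 44, 45, 47, 46],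
  [2, 0, 1, 3, 5, 6, 4, 7, 9, 10, 8, 13, 11, 12, 14, 16, 17, 15, 20, 18, 19, 25, 23, 26, 21, 24, 22, 28, 29, 27, 32, 30, 31, 33, 35, 36, 34, 39, 37, 38, 40, 43, 41, 42, 44, 46, 47, 45],
  [4, 0, 1, 3, 5, 6, 2, 8, 11, 12, 7, 14, 9, 10, 13, 21, 22, 15, 27, 18, 19, 30, 23, 31, 16, 24, 17, 28, 29, 20, 32, 25, 26, 34, 37, 38, 33, 40, 35, 36, 39, 45, 41, 42, 44, 46, 47, 43],
  [5, 0, 2, 3, 4, 6, 1, 9, 11, 13, 7, 14, 8, 10, 12, 23, 25, 16, 28, 18, 20, 30, 21, 32, 15, 26, 17, 27, 29, 19, 31, 22, 24, 35, 37, 39, 33, 40, 34, 36, 38, 46, 41, 43, 44, 45, 47, 42],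
  [6, 1, 2, 3, 4, 5, 0, 10, 12, 13, 7, 14, 8, 9, 11, 24, 26, 17, 29, 19, 20, 31, 22, 32, 15, 25, 16, 27, 28, 18, 30, 21, 23, 36, 38, 39, 33, 40, 34, 35, 37, 47, 42, 43, 44, 45, 46, 41]]

def JF4_2 : List ℕ := [1, 2]

def QF4_2 : List ℕ := [22, 25]

def RF4_2 : List (List ℕ) :=
  [[],
  [1],
  [2, 1],
  [1, 2, 1]]

def AF4_2 : List (List ℕ) :=
  [[0, 1, 2, 3, 4, 5, 6, 7, 8, 9, 10, 11, 12, 13, 14, 15, 16, 17, 18, 19, 20, 21, 22, 23, 24, 25, 26, 27, 28, 29, 30, 31, 32, 33, 34, 35, 36, 37, 38, 39, 40, 41, 42, 43, 44, 45, 46, 47],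
  [0, 1, 4, 3, 2, 5, 6, 8, 7, 11, 12, 9, 10, 14, 13, 15, 21, 22, 18, 19, 27, 16, 17, 23, 24, 30, 31, 20, 28, 29, 25, 26, 32, 34, 33, 37, 38, 35, 36, 40, 39, 41, 42, 45, 44, 43, 46, 47],
  [0, 2, 5, 3, 1, 4, 6, 9, 7, 11, 13, 8, 10, 14, 12, 16, 23, 25, 18, 20, 28, 15, 17, 21, 26, 30, 32, 19, 27, 29, 22, 24, 31, 35, 33, 37, 39, 34, 36, 40, 38, 41, 43, 46, 44, 42, 45, 47],
  [0, 4, 5, 3, 1, 2, 6, 11, 8, 9, 14, 7, 12, 13, 10, 21, 23, 30, 18, 27, 28, 15, 22, 16, 31, 25, 32, 19, 20, 29, 17, 24, 26, 37, 34, 35, 40, 33, 38, 39, 36, 41, 45, 46, 44, 42, 43, 47]]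

def JF4_3 : List ℕ := [2]

def QF4_3 : List ℕ := []

def RF4_3 : List (List ℕ) :=
  [[],
  [2]]

def AF4_3 : List (List ℕ) :=
  [[0, 1, 2, 3, 4, 5, 6, 7, 8, 9, 10, 11, 12, 13, 14, 15, 16, 17, 18, 19, 20, 21, 22, 23, 24, 25, 26, 27, 28, 29, 30, 31, 32, 33, 34, 35, 36, 37, 38, 39, 40, 41, 42, 43, 44, 45, 46, 47],
  [0, 2, 1, 3, 5, 4, 6, 7, 9, 8, 10, 11, 13, 12, 14, 16, 15, 17, 18, 20, 19, 23, 25, 21, 26, 22, 24, 28, 27, 29, 30, 32, 31, 33, 35, 34, 36, 37, 39, 38, 40, 41, 43, 42, 44, 46, 45, 47]]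


def JF4_4 : List ℕ := []

def longF4 : List ℕ := [0, 1, 2, 3, 1, 2, 0, 1, 2, 3, 0, 1, 2, 1, 0, 3, 2, 1, 2, 3, 1, 2, 1, 2]

theorem hDF4 : chevF4 ∈ [chevG2, chevB2, chevD4, chevF4, chevE6, chevE7, chevE8] := by simp

set_option maxRecDepth 1000000 in
theorem rowF4_0 : rowB chevF4 rtF4 0 = true := by decide +kernel
set_option maxRecDepth 1000000 in
theorem rowF4_1 : rowB chevF4 rtF4 1 = true := by decide +kernel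
set_option maxRecDepth 1000000 in
theorem rowF4_2 : rowB chevF4 rtF4 2 = true := by decide +kernel
set_option maxRecDepth 1000000 in
theorem rowF4_3 : rowB chevF4 rtF4 3 = true := by decide +kernel
set_option maxRecDepth 1000000 in
theorem posF4 : posB chevF4 ptF4 = true := by decide +kernel

theorem tabF4 : TabOKT chevF4 rtF4 ptF4 := by
  refine tabOKT_of _ _ _ ?_ posF4
  intro i hi
  have hi' : i < 4 := hi
  interval_cases i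
  · exact rowF4_0
  · exact rowF4_1
  · exact rowF4_2
  · exact rowF4_3

set_option maxRecDepth 1000000 in
theorem longOKF4 : longB chevF4 longF4 = true :=
  longBT_imp chevF4 (reflOK_of_mem _ hDF4) (simpleNe_of_mem _ hDF4)
    (Cfsg.Agent.S1041.pos_or_neg _ hDF4) tabF4 longF4 (by decide +kernel)

set_option maxRecDepth 1000000 in
theorem lvF4_0 : LevelOK chevF4 (fun a => a ∈ JF4_0) (fun a => a ∈ JF4_1)
    (fun r => r ∈ QF4_0) RF4_0 :=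
  levelOK_ofT chevF4 (reflOK_of_mem _ hDF4) (simpleNe_of_mem _ hDF4) (excl_of_mem _ hDF4)
    (Cfsg.Agent.S1041.pos_or_neg _ hDF4) tabF4 JF4_0 JF4_1 QF4_0 RF4_0 AF4_0
    (by decide +kernel) (by decide +kernel) (by decide +kernel) (by decide +kernel)
    (by decide +kernel) (by decide +kernel) (by decide +kernel)

set_option maxRecDepth 1000000 in
theorem lvF4_1 : LevelOK chevF4 (fun a => a ∈ JF4_1) (fun a => a ∈ JF4_2)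
    (fun r => r ∈ QF4_1) RF4_1 :=
  levelOK_ofT chevF4 (reflOK_of_mem _ hDF4) (simpleNe_of_mem _ hDF4) (excl_of_mem _ hDF4)
    (Cfsg.Agent.S1041.pos_or_neg _ hDF4) tabF4 JF4_1 JF4_2 QF4_1 RF4_1 AF4_1
    (by decide +kernel) (by decide +kernel) (by decide +kernel) (by decide +kernel)
    (by decide +kernel) (by decide +kernel) (by decide +kernel)

set_option maxRecDepth 1000000 in
theorem lvF4_2 : LevelOK chevF4 (fun a => a ∈ JF4_2) (fun a => a ∈ JF4_3)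
    (fun r => r ∈ QF4_2) RF4_2 :=
  levelOK_ofT chevF4 (reflOK_of_mem _ hDF4) (simpleNe_of_mem _ hDF4) (excl_of_mem _ hDF4)
    (Cfsg.Agent.S1041.pos_or_neg _ hDF4) tabF4 JF4_2 JF4_3 QF4_2 RF4_2 AF4_2
    (by decide +kernel) (by decide +kernel) (by decide +kernel) (by decide +kernel)
    (by decide +kernel) (by decide +kernel) (by decide +kernel)

set_option maxRecDepth 1000000 in
theorem lvF4_3 : LevelOK chevF4 (fun a => a ∈ JF4_3) (fun a => a ∈ JF4_4)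
    (fun r => r ∈ QF4_3) RF4_3 :=
  levelOK_ofT chevF4 (reflOK_of_mem _ hDF4) (simpleNe_of_mem _ hDF4) (excl_of_mem _ hDF4)
    (Cfsg.Agent.S1041.pos_or_neg _ hDF4) tabF4 JF4_3 JF4_4 QF4_3 RF4_3 AF4_3
    (by decide +kernel) (by decide +kernel) (by decide +kernel) (by decide +kernel)
    (by decide +kernel) (by decide +kernel) (by decide +kernel)

abbrev IF4_4 : Type := Unit
def wF4_4 : IF4_4 → List ℕ := fun _ => []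
theorem enF4_4 : Enum chevF4 (fun a => a ∈ JF4_4) wF4_4 := enum_nil chevF4

abbrev IF4_3 : Type := Fin RF4_3.length × IF4_4
def wF4_3 : IF4_3 → List ℕ := fun x => RF4_3[x.1.1] ++ wF4_4 x.2
theorem enF4_3 : Enum chevF4 (fun a => a ∈ JF4_3) wF4_3 :=
  enum_step chevF4 (reflOK_of_mem _ hDF4) (simpleNe_of_mem _ hDF4) (excl_of_mem _ hDF4)
    (posNeg_of_mem _ hDF4) (Cfsg.Agent.S1041.pos_or_neg _ hDF4) lvF4_3 wF4_4 enF4_4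

abbrev IF4_2 : Type := Fin RF4_2.length × IF4_3
def wF4_2 : IF4_2 → List ℕ := fun x => RF4_2[x.1.1] ++ wF4_3 x.2
theorem enF4_2 : Enum chevF4 (fun a => a ∈ JF4_2) wF4_2 :=
  enum_step chevF4 (reflOK_of_mem _ hDF4) (simpleNe_of_mem _ hDF4) (excl_of_mem _ hDF4)
    (posNeg_of_mem _ hDF4) (Cfsg.Agent.S1041.pos_or_neg _ hDF4) lvF4_2 wF4_3 enF4_3

abbrev IF4_1 : Type := Fin RF4_1.length × IF4_2
def wF4_1 : IF4_1 → List ℕ := fun x => RF4_1[x.1.1] ++ wF4_2 x.2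
theorem enF4_1 : Enum chevF4 (fun a => a ∈ JF4_1) wF4_1 :=
  enum_step chevF4 (reflOK_of_mem _ hDF4) (simpleNe_of_mem _ hDF4) (excl_of_mem _ hDF4)
    (posNeg_of_mem _ hDF4) (Cfsg.Agent.S1041.pos_or_neg _ hDF4) lvF4_1 wF4_2 enF4_2

abbrev IF4_0 : Type := Fin RF4_0.length × IF4_1
def wF4_0 : IF4_0 → List ℕ := fun x => RF4_0[x.1.1] ++ wF4_1 x.2
theorem enF4_0 : Enum chevF4 (fun a => a ∈ JF4_0) wF4_0 :=
  enum_step chevF4 (reflOK_of_mem _ hDF4) (simpleNe_of_mem _ hDF4) (excl_of_mem _ hDF4)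
    (posNeg_of_mem _ hDF4) (Cfsg.Agent.S1041.pos_or_neg _ hDF4) lvF4_0 wF4_1 enF4_1

theorem enF4 : Enum chevF4 (fun a => a < chevF4.rank) wF4_0 := by
  refine enum_of_iff chevF4 ?_ wF4_0 enF4_0
  intro a
  show a ∈ JF4_0 ↔ a < 4
  simp only [JF4_0, List.mem_cons, List.not_mem_nil, or_false]
  omega

set_option maxRecDepth 1000000 in
theorem lenF4_0 : RF4_0.map List.length =
    [(1, 0), (1, 1), (1, 2), (1, 3), (2, 4), (2, 5), (2, 6), (2, 7), (2, 8), (2, 9), (2, 10), (2, 11), (1, 12), (1, 13), (1, 14), (1, 15)].flatMap (fun p => List.replicate p.1 p.2) := by decide +kernel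

theorem poinF4_0 (q : ℕ) : (RF4_0.map (fun l => q ^ l.length)).sum =
    1 * q ^ 0 + 1 * q ^ 1 + 1 * q ^ 2 + 1 * q ^ 3 + 2 * q ^ 4 + 2 * q ^ 5 + 2 * q ^ 6 + 2 * q ^ 7 + 2 * q ^ 8 + 2 * q ^ 9 + 2 * q ^ 10 + 2 * q ^ 11 + 1 * q ^ 12 + 1 * q ^ 13 + 1 * q ^ 14 + 1 * q ^ 15 := by
  rw [sum_pow_length, lenF4_0, sum_pow_blocks]
  simp only [List.map_cons, List.map_nil, List.sum_cons, List.sum_nil]
  ring

set_option maxRecDepth 1000000 in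
theorem lenF4_1 : RF4_1.map List.length =
    [(1, 0), (1, 1), (1, 2), (1, 3), (1, 4), (1, 5)].flatMap (fun p => List.replicate p.1 p.2) := by decide +kernel

theorem poinF4_1 (q : ℕ) : (RF4_1.map (fun l => q ^ l.length)).sum =
    1 * q ^ 0 + 1 * q ^ 1 + 1 * q ^ 2 + 1 * q ^ 3 + 1 * q ^ 4 + 1 * q ^ 5 := by
  rw [sum_pow_length, lenF4_1, sum_pow_blocks]
  simp only [List.map_cons, List.map_nil, List.sum_cons, List.sum_nil]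
  ring

set_option maxRecDepth 1000000 in
theorem lenF4_2 : RF4_2.map List.length =
    [(1, 0), (1, 1), (1, 2), (1, 3)].flatMap (fun p => List.replicate p.1 p.2) := by decide +kernel

theorem poinF4_2 (q : ℕ) : (RF4_2.map (fun l => q ^ l.length)).sum =
    1 * q ^ 0 + 1 * q ^ 1 + 1 * q ^ 2 + 1 * q ^ 3 := by
  rw [sum_pow_length, lenF4_2, sum_pow_blocks]
  simp only [List.map_cons, List.map_nil, List.sum_cons, List.sum_nil]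
  ring

set_option maxRecDepth 1000000 in
theorem lenF4_3 : RF4_3.map List.length =
    [(1, 0), (1, 1)].flatMap (fun p => List.replicate p.1 p.2) := by decide +kernel

theorem poinF4_3 (q : ℕ) : (RF4_3.map (fun l => q ^ l.length)).sum =
    1 * q ^ 0 + 1 * q ^ 1 := by
  rw [sum_pow_length, lenF4_3, sum_pow_blocks]
  simp only [List.map_cons, List.map_nil, List.sum_cons, List.sum_nil]
  ring

theorem poincareF4 (q : ℕ) : ∑ x : IF4_0, q ^ (wF4_0 x).length =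
    (1 * q ^ 0 + 1 * q ^ 1 + 1 * q ^ 2 + 1 * q ^ 3 + 2 * q ^ 4 + 2 * q ^ 5 + 2 * q ^ 6 + 2 * q ^ 7 + 2 * q ^ 8 + 2 * q ^ 9 + 2 * q ^ 10 + 2 * q ^ 11 + 1 * q ^ 12 + 1 * q ^ 13 + 1 * q ^ 14 + 1 * q ^ 15) *
      (1 * q ^ 0 + 1 * q ^ 1 + 1 * q ^ 2 + 1 * q ^ 3 + 1 * q ^ 4 + 1 * q ^ 5) *
      (1 * q ^ 0 + 1 * q ^ 1 + 1 * q ^ 2 + 1 * q ^ 3) *
      (1 * q ^ 0 + 1 * q ^ 1) := by
  have h0 : ∑ x : IF4_0, q ^ (wF4_0 x).length =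
      (RF4_0.map (fun l => q ^ l.length)).sum * ∑ x : IF4_1, q ^ (wF4_1 x).length :=
    sum_step RF4_0 wF4_1 q
  have h1 : ∑ x : IF4_1, q ^ (wF4_1 x).length =
      (RF4_1.map (fun l => q ^ l.length)).sum * ∑ x : IF4_2, q ^ (wF4_2 x).length :=
    sum_step RF4_1 wF4_2 q
  have h2 : ∑ x : IF4_2, q ^ (wF4_2 x).length =
      (RF4_2.map (fun l => q ^ l.length)).sum * ∑ x : IF4_3, q ^ (wF4_3 x).length :=
    sum_step RF4_2 wF4_3 q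
  have h3 : ∑ x : IF4_3, q ^ (wF4_3 x).length =
      (RF4_3.map (fun l => q ^ l.length)).sum * ∑ x : IF4_4, q ^ (wF4_4 x).length :=
    sum_step RF4_3 wF4_4 q
  have hlast : ∑ x : IF4_4, q ^ (wF4_4 x).length = 1 := by
    simp [wF4_4]
  rw [h0, h1, h2, h3, hlast, poinF4_0, poinF4_1, poinF4_2, poinF4_3, mul_one]
  simp only [mul_assoc]

end Cfsg.Agent.Lib.Helper5.ChevTits
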