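import Mathlib
import Cfsg.Agent.Lib.Helper5.ChevOrd

/-!
# Reduced words for the Weyl group of type G2 (helper5; generated)
-/

set_option autoImplicit false

namespace Cfsg.Agent.Lib.Helper5.ChevTits

open Cfsg.Lie

def repsG2 : List (List ℕ) :=
  [[],
  [0],
  [1],
  [1, 0],
  [0, 1],
  [0, 1, 0],
  [1, 0, 1],
  [1, 0, 1, 0],
  [0, 1, 0, 1],
  [0, 1, 0, 1, 0],
  [1, 0, 1, 0, 1],
  [1, 0, 1, 0, 1, 0]]

def actsG2 : List (List ℕ) :=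
  [[0, 1, 2, 3, 4, 5, 6, 7, 8, 9, 10, 11],
  [0, 5, 3, 2, 7, 1, 10, 4, 9, 8, 6, 11],
  [1, 0, 2, 4, 3, 6, 5, 8, 7, 9, 11, 10],
  [1, 6, 4, 2, 8, 0, 11, 3, 9, 7, 5, 10],
  [5, 0, 3, 7, 2, 10, 1, 9, 4, 8, 11, 6],
  [5, 10, 7, 3, 9, 0, 11, 2, 8, 4, 1, 6],
  [6, 1, 4, 8, 2, 11, 0, 9, 3, 7, 10, 5],
  [6, 11, 8, 4, 9, 1, 10, 2, 7, 3, 0, 5],
  [10, 5, 7, 9, 3, 11, 0, 8, 2, 4, 6, 1],
  [10, 11, 9, 7, 8, 5, 6, 3, 4, 2, 0, 1],
  [11, 6, 8, 9, 4, 10, 1, 7, 2, 3, 5, 0],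
  [11, 10, 9, 8, 7, 6, 5, 4, 3, 2, 1, 0]]

def longG2 : List ℕ := [1, 0, 1, 0, 1, 0]


set_option maxRecDepth 1000000 in
theorem coverG2 : coverB chevG2 repsG2 actsG2 = true := by decide +kernel

set_option maxRecDepth 1000000 in
theorem longOKG2 : longB chevG2 longG2 = true := by decide +kernel

set_option maxRecDepth 1000000 in
theorem lengthsG2 : repsG2.map List.length =
    [(1, 0), (2, 1), (2, 2), (2, 3), (2, 4), (2, 5), (1, 6)].flatMap (fun p => List.replicate p.1 p.2) := by decide +kernel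

theorem poincareG2 (q : ℕ) : (repsG2.map (fun l => q ^ l.length)).sum =
    1 * q ^ 0 + 2 * q ^ 1 + 2 * q ^ 2 + 2 * q ^ 3 + 2 * q ^ 4 + 2 * q ^ 5 + 1 * q ^ 6 := by
  rw [sum_pow_length, lengthsG2, sum_pow_blocks]
  simp only [List.map_cons, List.map_nil, List.sum_cons, List.sum_nil]
  ring

end Cfsg.Agent.Lib.Helper5.ChevTits
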