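import Mathlib
import Cfsg.Agent.Lib.Helper5.ChevOrdM

/-!
# Table-driven versions of the level checks, tables encoded as numbers (helper5)

The reflections and the signs of the roots are read off literal tables `rt`, `pt` (checked once
against the datum), so that the kernel does not recompute `reflectRoot`.
-/

set_option autoImplicit false
set_option linter.style.haveILetI false
set_option linter.unusedSectionVars false

namespace Cfsg.Agent.Lib.Helper5.ChevTits.NatTab

open Cfsg.Lie

def reflT (rt : List ℕ) (i s : ℕ) : ℕ := (rt.getD i 0 >>> (8 * s)) % 256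

def posT (pt : ℕ) (r : ℕ) : Bool := (pt >>> r) % 2 == 1

/-- a list of numbers below 256 encoded as one number -/
def encL (l : List ℕ) : ℕ := l.foldr (fun d acc => d + 256 * acc) 0

def digit (N k : ℕ) : ℕ := (N >>> (8 * k)) % 256

theorem digit_encL (l : List ℕ) (hl : ∀ d ∈ l, d < 256) (k : ℕ) :
    digit (encL l) k = l.getD k 0 := by
  induction l generalizing k with
  | nil => simp [digit, encL]
  | cons d t ih =>
    have hd : d < 256 := hl d List.mem_cons_self
    have ht : ∀ e ∈ t, e < 256 := fun e he => hl e (List.mem_cons_of_mem _ he)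
    have henc : encL (d :: t) = d + 256 * encL t := rfl
    cases k with
    | zero =>
      simp only [digit, henc, Nat.mul_zero, Nat.shiftRight_zero, List.getD_cons_zero]
      rw [Nat.add_mul_mod_self_left, Nat.mod_eq_of_lt hd]
    | succ k =>
      rw [List.getD_cons_succ, ← ih ht k]
      simp only [digit, henc, Nat.shiftRight_eq_div_pow]
      have h2 : 2 ^ (8 * (k + 1)) = 256 * 2 ^ (8 * k) := by
        rw [Nat.mul_succ, pow_add]; norm_num [mul_comm]
      rw [h2, ← Nat.div_div_eq_div_mul]
      congr 2
      rw [Nat.add_mul_div_left _ _ (by norm_num : 0 < 256), Nat.div_eq_of_lt hd, zero_add]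

def wordReflT (rt : List ℕ) (l : List ℕ) (r : ℕ) : ℕ :=
  l.foldr (fun a s => reflT rt a s) r

def actLT (rt : List ℕ) (n : ℕ) (l : List ℕ) : List ℕ :=
  (List.range n).map (wordReflT rt l)

/-- the tables are correct -/
structure TabOKT (D : ChevalleyDatum) (rt : List ℕ) (pt : ℕ) : Prop where
  refl : ∀ i, i < D.rank → ∀ s, s < D.nroots → reflT rt i s = D.reflectRoot i s
  pos : ∀ r, r < D.nroots → (posT pt r = true ↔ D.IsPosRoot r)

/-- one row of the table of reflections -/
def rowB (D : ChevalleyDatum) (rt : List ℕ) (i : ℕ) : Bool :=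
  (List.range D.nroots).all (fun s => reflT rt i s == D.reflectRoot i s)

def posB (D : ChevalleyDatum) (pt : ℕ) : Bool :=
  (List.range D.nroots).all (fun r => posT pt r == decide (D.IsPosRoot r))

theorem tabOKT_of (D : ChevalleyDatum) (rt : List ℕ) (pt : ℕ)
    (h1 : ∀ i, i < D.rank → rowB D rt i = true) (h2 : posB D pt = true) : TabOKT D rt pt := by
  constructor
  · intro i hi s hs
    have := h1 i hi
    simp only [rowB, List.all_eq_true, List.mem_range, beq_iff_eq] at this
    exact this s hs
  · intro r hr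
    simp only [posB, List.all_eq_true, List.mem_range, beq_iff_eq] at h2
    rw [h2 r hr, decide_eq_true_eq]

theorem wordReflT_eq (D : ChevalleyDatum) (hR : ReflOK D) {rt : List ℕ} {pt : ℕ}
    (hT : TabOKT D rt pt) (l : List ℕ) (hl : ∀ a ∈ l, a < D.rank) (r : ℕ) (hr : r < D.nroots) :
    wordReflT rt l r = wordRefl D l r := by
  induction l with
  | nil => rfl
  | cons a l ih =>
    have hl' : ∀ b ∈ l, b < D.rank := fun b hb => hl b (List.mem_cons_of_mem _ hb)
    show reflT rt a (wordReflT rt l r) = D.reflectRoot a (wordRefl D l r)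
    rw [ih hl']
    exact hT.refl a (hl a List.mem_cons_self) _ (wordRefl_lt D hR l hl' r hr)

theorem actLT_eq (D : ChevalleyDatum) (hR : ReflOK D) {rt : List ℕ} {pt : ℕ}
    (hT : TabOKT D rt pt) (l : List ℕ) (hl : ∀ a ∈ l, a < D.rank) :
    actLT rt D.nroots l = actL D l := by
  unfold actLT actL
  apply List.map_congr_left
  intro r hr
  exact wordReflT_eq D hR hT l hl r (List.mem_range.mp hr)

/-- table-reduced words, from the tables -/
def redBT (D : ChevalleyDatum) (rt : List ℕ) (pt : ℕ) : List ℕ → Bool
  | [] => true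
  | a :: l => decide (a < D.rank) && posT pt (wordReflT rt l.reverse (D.simple a)) && redBT D rt pt l

theorem redBT_imp (D : ChevalleyDatum) (hR : ReflOK D) (hS : SimpleNe D) {rt : List ℕ}
    {pt : ℕ} (hT : TabOKT D rt pt) :
    ∀ l : List ℕ, redBT D rt pt l = true → redB D l = true := by
  intro l
  induction l with
  | nil => intro _; rfl
  | cons a l ih =>
    intro h
    simp only [redBT, Bool.and_eq_true, decide_eq_true_eq] at h
    obtain ⟨⟨h1, h2⟩, h3⟩ := h
    have h4 := ih h3
    have hl := redB_lt D l h4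
    have hp : D.simple a < D.nroots := (hS a h1).2.2.1.1
    have hlr := mem_reverse_lt D l hl
    apply redB_cons_intro D a l h1 _ h4
    rw [wordReflT_eq D hR hT _ hlr _ hp] at h2
    exact (hT.pos _ (wordRefl_lt D hR _ hlr _ hp)).mp h2

def chkRT (D : ChevalleyDatum) (rt : List ℕ) (pt : ℕ) (Jl : List ℕ)
    (R : List (List ℕ)) : Bool :=
  R.all (fun d => d.all (fun a => Jl.contains a) && redBT D rt pt d) &&
  R.all (fun d => match d with
    | [] => true
    | _ :: d₂ => R.contains d₂) && R.contains []

def chkMinT (rt : List ℕ) (pt : ℕ) (Ql : List ℕ) (R : List (List ℕ)) : Bool :=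
  R.all (fun d => Ql.all (fun r => posT pt r == posT pt (wordReflT rt d r)))

def chkClosureT (D : ChevalleyDatum) (rt : List ℕ) (Jl J'l : List ℕ)
    (A : List (List ℕ)) : Bool :=
  A.all (fun act => Jl.all (fun a =>
    A.contains (act.map (reflT rt a)) ||
      J'l.any (fun j => act.map (reflT rt a) ==
        (List.range D.nroots).map (fun r => digit (encL act) (reflT rt j r)))))

def chkQT (D : ChevalleyDatum) (rt : List ℕ) (J'l Ql : List ℕ) : Bool :=
  Ql.all (fun r => decide (r < D.nroots)) && J'l.all (fun j => Ql.contains (D.simple j)) &&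
  J'l.all (fun j => Ql.all (fun r => Ql.contains (reflT rt j r)))

theorem levelOK_ofT (D : ChevalleyDatum) (hR : ReflOK D) (hS : SimpleNe D) (hX : Excl D)
    (hn : D.nroots ≤ 256)
    (hpn : ∀ r, r < D.nroots → D.IsPosRoot r ∨ D.IsNegRoot r)
    {rt : List ℕ} {pt : ℕ} (hT : TabOKT D rt pt) (Jl J'l Ql : List ℕ)
    (R A : List (List ℕ)) (h1 : chkJ D Jl J'l = true) (h2 : chkRT D rt pt Jl R = true)
    (h3 : chkMinT rt pt Ql R = true) (h5 : A = R.map (actLT rt D.nroots))
    (h6 : chkClosureT D rt Jl J'l A = true) (h7 : A.Nodup) (h8 : chkQT D rt J'l Ql = true) :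
    LevelOK D (fun a => a ∈ Jl) (fun a => a ∈ J'l) (fun r => r ∈ Ql) R := by
  have h1' := h1
  simp only [chkJ, Bool.and_eq_true, List.all_eq_true, decide_eq_true_eq,
    List.contains_iff_mem] at h1'
  obtain ⟨hj1, hj2⟩ := h1'
  have h2' := h2
  simp only [chkRT, Bool.and_eq_true, List.all_eq_true, List.contains_iff_mem] at h2'
  obtain ⟨⟨hr1, hr2⟩, hr3⟩ := h2'
  have hRlt : ∀ d ∈ R, ∀ a ∈ d, a < D.rank := fun d hd a ha => hj1 a ((hr1 d hd).1 a ha)
  have h8' := h8
  simp only [chkQT, Bool.and_eq_true, List.all_eq_true, decide_eq_true_eq,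
    List.contains_iff_mem] at h8'
  obtain ⟨⟨hq1, hq2⟩, hq3⟩ := h8'
  -- transfer to the checks in terms of the datum
  have h5' : A = R.map (actL D) := by
    rw [h5]
    apply List.map_congr_left
    intro d hd
    exact actLT_eq D hR hT d (hRlt d hd)
  have h2D : chkR D Jl R = true := by
    simp only [chkR, Bool.and_eq_true, List.all_eq_true, List.contains_iff_mem]
    exact ⟨⟨fun d hd => ⟨(hr1 d hd).1, redBT_imp D hR hS hT d (hr1 d hd).2⟩, hr2⟩, hr3⟩
  have h3D : chkMin D Ql R = true := by
    simp only [chkMinT, List.all_eq_true, beq_iff_eq] at h3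
    simp only [chkMin, List.all_eq_true, Bool.and_eq_true, Bool.or_eq_true, Bool.not_eq_true',
      decide_eq_false_iff_not, decide_eq_true_eq]
    intro d hd r hq
    have hr : r < D.nroots := hq1 r hq
    have hr' : wordRefl D d r < D.nroots := wordRefl_lt D hR d (hRlt d hd) r hr
    have e := h3 d hd r hq
    rw [wordReflT_eq D hR hT d (hRlt d hd) r hr] at e
    have hiff : D.IsPosRoot r ↔ D.IsPosRoot (wordRefl D d r) := by
      rw [← hT.pos r hr, ← hT.pos _ hr', e]
    constructor
    · by_cases hp : D.IsPosRoot r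
      · exact Or.inr (hiff.mp hp)
      · exact Or.inl hp
    · by_cases hn : D.IsNegRoot r
      · right
        have hnp : ¬ D.IsPosRoot r := fun hp => hX r hr ⟨hp, hn⟩
        rcases hpn _ hr' with hp' | hn'
        · exact absurd (hiff.mpr hp') hnp
        · exact hn'
      · exact Or.inl hn
  have h6D : chkClosure D Jl J'l A = true := by
    simp only [chkClosureT, List.all_eq_true, Bool.or_eq_true, List.contains_iff_mem,
      List.any_eq_true, beq_iff_eq] at h6
    simp only [chkClosure, List.all_eq_true, Bool.or_eq_true, List.contains_iff_mem,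
      List.any_eq_true, beq_iff_eq]
    intro act hact a ha
    -- `act` is the action of some `d ∈ R`, with entries `< nroots`
    rw [h5', List.mem_map] at hact
    obtain ⟨d, hd, rfl⟩ := hact
    have hdlt := hRlt d hd
    have haR : a < D.rank := hj1 a ha
    have hmapa : (actL D d).map (reflT rt a) = (actL D d).map (D.reflectRoot a) := by
      apply List.map_congr_left
      intro s hs
      unfold actL at hs
      rw [List.mem_map] at hs
      obtain ⟨r, hr, rfl⟩ := hs
      exact hT.refl a haR _ (wordRefl_lt D hR d hdlt r (List.mem_range.mp hr))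
    have hact' : actL D d ∈ A := by rw [h5']; exact List.mem_map_of_mem hd
    rcases h6 _ hact' a ha with h | ⟨j, hj, h⟩
    · left
      rw [← hmapa]; exact h
    · right
      refine ⟨j, hj, ?_⟩
      have hjR : j < D.rank := hj1 j (hj2 j hj)
      rw [← hmapa, h]
      apply List.map_congr_left
      intro r hr
      have hlt : ∀ e ∈ actL D d, e < 256 := by
        intro e he
        unfold actL at he
        rw [List.mem_map] at he
        obtain ⟨r', hr', rfl⟩ := he
        exact lt_of_lt_of_le (wordRefl_lt D hR d hdlt r' (List.mem_range.mp hr')) hn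
      rw [digit_encL _ hlt, hT.refl j hjR r (List.mem_range.mp hr)]
  have h8D : chkQ D J'l Ql = true := by
    simp only [chkQ, Bool.and_eq_true, List.all_eq_true, decide_eq_true_eq,
      List.contains_iff_mem]
    refine ⟨⟨hq1, hq2⟩, ?_⟩
    intro j hj r hr
    rw [← hT.refl j (hj1 j (hj2 j hj)) r (hq1 r hr)]
    exact hq3 j hj r hr
  exact levelOK_of D hR Jl J'l Ql R A h1 h2D h3D h5' h6D h7 h8D

/-- the longest element, from the tables -/
def longBT (D : ChevalleyDatum) (rt : List ℕ) (pt : ℕ) (l₀ : List ℕ) : Bool :=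
  redBT D rt pt l₀ && (List.range D.nroots).all (fun r => !(posT pt r) ||
    !(posT pt (wordReflT rt l₀.reverse r))) && decide (l₀.length = D.nroots / 2)

theorem longBT_imp (D : ChevalleyDatum) (hR : ReflOK D) (hS : SimpleNe D)
    (hpn : ∀ r, r < D.nroots → D.IsPosRoot r ∨ D.IsNegRoot r)
    {rt : List ℕ} {pt : ℕ} (hT : TabOKT D rt pt) (l₀ : List ℕ)
    (h : longBT D rt pt l₀ = true) : longB D l₀ = true := by
  simp only [longBT, Bool.and_eq_true, List.all_eq_true, List.mem_range, Bool.or_eq_true,
    Bool.not_eq_true', decide_eq_true_eq] at h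
  obtain ⟨⟨h1, h2⟩, h3⟩ := h
  have hred := redBT_imp D hR hS hT l₀ h1
  have hl := redB_lt D l₀ hred
  have hlr := mem_reverse_lt D l₀ hl
  simp only [longB, Bool.and_eq_true, List.all_eq_true, List.mem_range, Bool.or_eq_true,
    Bool.not_eq_true', decide_eq_false_iff_not, decide_eq_true_eq]
  refine ⟨⟨hred, ?_⟩, h3⟩
  intro r hr
  by_cases hp : D.IsPosRoot r
  · right
    have hr' := wordRefl_lt D hR _ hlr r hr
    rcases h2 r hr with h | h
    · exact absurd ((hT.pos r hr).mpr hp) (by rw [h]; simp)
    · rw [wordReflT_eq D hR hT _ hlr r hr] at h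
      rcases hpn _ hr' with hp' | hn'
      · exact absurd ((hT.pos _ hr').mpr hp') (by rw [h]; simp)
      · exact hn'
  · exact Or.inl hp

/-- the closure check restricted to a chunk `C` of the list of actions -/
def chkClosureC (D : ChevalleyDatum) (rt : List ℕ) (Jl J'l : List ℕ)
    (A C : List (List ℕ)) : Bool :=
  C.all (fun act => Jl.all (fun a =>
    A.contains (act.map (reflT rt a)) ||
      J'l.any (fun j => act.map (reflT rt a) ==
        (List.range D.nroots).map (fun r => digit (encL act) (reflT rt j r)))))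

theorem all_flatten_of {α : Type*} (f : α → Bool) (Cs : List (List α))
    (h : ∀ C ∈ Cs, C.all f = true) : Cs.flatten.all f = true := by
  simp only [List.all_eq_true, List.mem_flatten] at *
  rintro x ⟨C, hC, hx⟩
  exact h C hC x hx

theorem chkClosureT_of_chunks (D : ChevalleyDatum) (rt : List ℕ) (Jl J'l : List ℕ)
    (A : List (List ℕ)) (Cs : List (List (List ℕ))) (hA : A = Cs.flatten)
    (h : ∀ C ∈ Cs, chkClosureC D rt Jl J'l A C = true) : chkClosureT D rt Jl J'l A = true := by
  have h1 : chkClosureT D rt Jl J'l A = chkClosureC D rt Jl J'l A A := rfl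
  rw [h1]
  conv_lhs => rw [chkClosureC]; arg 1; rw [hA]
  exact all_flatten_of _ Cs h

theorem chkMinT_of_chunks (rt : List ℕ) (pt : ℕ) (Ql : List ℕ)
    (R : List (List ℕ)) (Cs : List (List (List ℕ))) (hR : R = Cs.flatten)
    (h : ∀ C ∈ Cs, chkMinT rt pt Ql C = true) : chkMinT rt pt Ql R = true := by
  subst hR
  exact all_flatten_of _ Cs h

theorem map_flatten_of {α β : Type*} (g : α → β) (As : List (List β)) (Rs : List (List α))
    (h : List.Forall₂ (fun A R => A = R.map g) As Rs) : As.flatten = Rs.flatten.map g := by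
  induction h with
  | nil => rfl
  | cons h1 _ ih => rw [List.flatten_cons, List.flatten_cons, List.map_append, ← ih, ← h1]

end Cfsg.Agent.Lib.Helper5.ChevTits.NatTab
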