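import Mathlib
import Cfsg.Agent.Lib.Helper5.ChevOrdNE8a

/-!
# A reduced word of the longest element, type E8 (helper5; generated)
-/

set_option autoImplicit false
set_option maxRecDepth 1000000

namespace Cfsg.Agent.Lib.Helper5.ChevTits.NatTab

open Cfsg.Lie

def longE8 : List ℕ := [7, 6, 5, 4, 3, 2, 1, 3, 4, 5, 6, 0, 2, 3, 4, 5, 1, 3, 4, 2, 3, 0, 2, 1, 3, 4, 5, 6, 7, 6, 5, 4, 3, 2, 1, 3, 4, 5, 6, 0, 2, 3, 4, 5, 1, 3, 4, 2, 3, 0, 2, 1, 3, 4, 5, 6, 7, 6, 5, 4, 3, 2, 1, 3, 4, 5, 6, 0, 2, 3, 4, 5, 1, 3, 4, 2, 3, 0, 2, 1, 3, 4, 5, 6, 5, 4, 3, 2, 1, 3, 4, 5, 0, 2, 3, 4, 1, 3, 2, 0, 5, 4, 3, 2, 1, 3, 4, 5, 1, 3, 4, 2, 3, 1, 4, 3, 2, 4, 3, 4]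

theorem longOKE8 : longB chevE8 longE8 = true :=
  longBT_imp chevE8 (reflOK_of_mem _ hDE8) (simpleNe_of_mem _ hDE8)
    (Cfsg.Agent.S1041.pos_or_neg _ hDE8) tabE8 longE8 (by decide +kernel)

end Cfsg.Agent.Lib.Helper5.ChevTits.NatTab
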