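import Mathlib
import Cfsg.Agent.Lib.Helper5.ChevOrdNE8l0c0
import Cfsg.Agent.Lib.Helper5.ChevOrdNE8l0c1
import Cfsg.Agent.Lib.Helper5.ChevOrdNE8l0c2
import Cfsg.Agent.Lib.Helper5.ChevOrdNE8l0c3
import Cfsg.Agent.Lib.Helper5.ChevOrdNE8l0c4
import Cfsg.Agent.Lib.Helper5.ChevOrdNE8l0c5

/-!
# Level 0 of the parabolic chain, type E8 (helper5; generated)
-/

set_option autoImplicit false
set_option maxRecDepth 1000000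

namespace Cfsg.Agent.Lib.Helper5.ChevTits.NatTab

open Cfsg.Lie

theorem h2E8_0 : chkRT chevE8 rtE8 ptE8 JE8_0 RE8_0 = true := by decide +kernel

theorem h7E8_0 : AE8_0.Nodup := by decide +kernel

theorem lvE8_0 : LevelOK chevE8 (fun a => a ∈ JE8_0) (fun a => a ∈ JE8_1)
    (fun r => r ∈ QE8_0) RE8_0 :=
  levelOK_ofT chevE8 (reflOK_of_mem _ hDE8) (simpleNe_of_mem _ hDE8) (excl_of_mem _ hDE8)
    (by decide) (Cfsg.Agent.S1041.pos_or_neg _ hDE8) tabE8 JE8_0 JE8_1 QE8_0 RE8_0 AE8_0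
    (by decide +kernel) h2E8_0
    (chkMinT_of_chunks _ _ _ _ [RE8_0_c0, RE8_0_c1, RE8_0_c2, RE8_0_c3, RE8_0_c4, RE8_0_c5] rfl (by
      intro C hC
      simp only [List.mem_cons, List.not_mem_nil, or_false] at hC
      rcases hC with rfl | rfl | rfl | rfl | rfl | rfl
      exacts [h3E8_0_c0, h3E8_0_c1, h3E8_0_c2, h3E8_0_c3, h3E8_0_c4, h3E8_0_c5]))
    (map_flatten_of _ [AE8_0_c0, AE8_0_c1, AE8_0_c2, AE8_0_c3, AE8_0_c4, AE8_0_c5] [RE8_0_c0, RE8_0_c1, RE8_0_c2, RE8_0_c3, RE8_0_c4, RE8_0_c5]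
      (List.Forall₂.cons h5E8_0_c0 (List.Forall₂.cons h5E8_0_c1 (List.Forall₂.cons h5E8_0_c2 (List.Forall₂.cons h5E8_0_c3 (List.Forall₂.cons h5E8_0_c4 (List.Forall₂.cons h5E8_0_c5 List.Forall₂.nil)))))))
    (chkClosureT_of_chunks _ _ _ _ _ [AE8_0_c0, AE8_0_c1, AE8_0_c2, AE8_0_c3, AE8_0_c4, AE8_0_c5] rfl (by
      intro C hC
      simp only [List.mem_cons, List.not_mem_nil, or_false] at hC
      rcases hC with rfl | rfl | rfl | rfl | rfl | rfl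
      exacts [h6E8_0_c0, h6E8_0_c1, h6E8_0_c2, h6E8_0_c3, h6E8_0_c4, h6E8_0_c5]))
    h7E8_0 (by decide +kernel)

theorem lenE8_0 : RE8_0.map List.length =
    [(1, 0), (1, 1), (1, 2), (1, 3), (1, 4), (1, 5), (2, 6), (2, 7), (2, 8), (2, 9), (3, 10), (3, 11), (4, 12), (4, 13), (4, 14), (4, 15), (5, 16), (5, 17), (6, 18), (6, 19), (6, 20), (6, 21), (7, 22), (7, 23), (7, 24), (7, 25), (7, 26), (7, 27), (8, 28), (8, 29), (7, 30), (7, 31), (7, 32), (7, 33), (7, 34), (7, 35), (6, 36), (6, 37), (6, 38), (6, 39), (5, 40), (5, 41), (4, 42), (4, 43), (4, 44), (4, 45), (3, 46), (3, 47), (2, 48), (2, 49), (2, 50), (2, 51), (1, 52), (1, 53), (1, 54), (1, 55), (1, 56), (1, 57)].flatMap (fun p => List.replicate p.1 p.2) := by decide +kernel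

theorem poinE8_0 (q : ℕ) : (RE8_0.map (fun l => q ^ l.length)).sum =
    1 * q ^ 0 + 1 * q ^ 1 + 1 * q ^ 2 + 1 * q ^ 3 + 1 * q ^ 4 + 1 * q ^ 5 + 2 * q ^ 6 + 2 * q ^ 7 + 2 * q ^ 8 + 2 * q ^ 9 + 3 * q ^ 10 + 3 * q ^ 11 + 4 * q ^ 12 + 4 * q ^ 13 + 4 * q ^ 14 + 4 * q ^ 15 + 5 * q ^ 16 + 5 * q ^ 17 + 6 * q ^ 18 + 6 * q ^ 19 + 6 * q ^ 20 + 6 * q ^ 21 + 7 * q ^ 22 + 7 * q ^ 23 + 7 * q ^ 24 + 7 * q ^ 25 + 7 * q ^ 26 + 7 * q ^ 27 + 8 * q ^ 28 + 8 * q ^ 29 + 7 * q ^ 30 + 7 * q ^ 31 + 7 * q ^ 32 + 7 * q ^ 33 + 7 * q ^ 34 + 7 * q ^ 35 + 6 * q ^ 36 + 6 * q ^ 37 + 6 * q ^ 38 + 6 * q ^ 39 + 5 * q ^ 40 + 5 * q ^ 41 + 4 * q ^ 42 + 4 * q ^ 43 + 4 * q ^ 44 + 4 * q ^ 45 + 3 * q ^ 46 + 3 * q ^ 47 + 2 * q ^ 48 + 2 * q ^ 49 + 2 * q ^ 50 + 2 * q ^ 51 + 1 * q ^ 52 + 1 * q ^ 53 + 1 * q ^ 54 + 1 * q ^ 55 + 1 * q ^ 56 + 1 * q ^ 57 := by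
  rw [sum_pow_length, lenE8_0, sum_pow_blocks]
  simp only [List.map_cons, List.map_nil, List.sum_cons, List.sum_nil]
  ring

end Cfsg.Agent.Lib.Helper5.ChevTits.NatTab
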