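import Mathlib
import Cfsg.Agent.Lib.Helper5.ChevOrdNE8l1d

/-!
# Level 1 of the parabolic chain, type E8: chunk 1 (helper5; generated)
-/

set_option autoImplicit false
set_option maxRecDepth 1000000

namespace Cfsg.Agent.Lib.Helper5.ChevTits.NatTab

open Cfsg.Lie

theorem h5E8_1_c1 : AE8_1_c1 = RE8_1_c1.map (actLT rtE8 chevE8.nroots) := by
  decide +kernel

theorem h6E8_1_c1 :
    chkClosureC chevE8 rtE8 JE8_1 JE8_2 AE8_1 AE8_1_c1 = true := by
  decide +kernel

theorem h3E8_1_c1 : chkMinT rtE8 ptE8 QE8_1 RE8_1_c1 = true := by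
  decide +kernel

end Cfsg.Agent.Lib.Helper5.ChevTits.NatTab
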