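import Mathlib
import Cfsg.Agent.Lib.Helper5.ChevOrdNE8l1c0
import Cfsg.Agent.Lib.Helper5.ChevOrdNE8l1c1

/-!
# Level 1 of the parabolic chain, type E8 (helper5; generated)
-/

set_option autoImplicit false
set_option maxRecDepth 1000000

namespace Cfsg.Agent.Lib.Helper5.ChevTits.NatTab

open Cfsg.Lie

theorem h2E8_1 : chkRT chevE8 rtE8 ptE8 JE8_1 RE8_1 = true := by decide +kernel

theorem h7E8_1 : AE8_1.Nodup := by decide +kernel

theorem lvE8_1 : LevelOK chevE8 (fun a => a ∈ JE8_1) (fun a => a ∈ JE8_2)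
    (fun r => r ∈ QE8_1) RE8_1 :=
  levelOK_ofT chevE8 (reflOK_of_mem _ hDE8) (simpleNe_of_mem _ hDE8) (excl_of_mem _ hDE8)
    (by decide) (Cfsg.Agent.S1041.pos_or_neg _ hDE8) tabE8 JE8_1 JE8_2 QE8_1 RE8_1 AE8_1
    (by decide +kernel) h2E8_1
    (chkMinT_of_chunks _ _ _ _ [RE8_1_c0, RE8_1_c1] rfl (by
      intro C hC
      simp only [List.mem_cons, List.not_mem_nil, or_false] at hC
      rcases hC with rfl | rfl
      exacts [h3E8_1_c0, h3E8_1_c1]))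
    (map_flatten_of _ [AE8_1_c0, AE8_1_c1] [RE8_1_c0, RE8_1_c1]
      (List.Forall₂.cons h5E8_1_c0 (List.Forall₂.cons h5E8_1_c1 List.Forall₂.nil)))
    (chkClosureT_of_chunks _ _ _ _ _ [AE8_1_c0, AE8_1_c1] rfl (by
      intro C hC
      simp only [List.mem_cons, List.not_mem_nil, or_false] at hC
      rcases hC with rfl | rfl
      exacts [h6E8_1_c0, h6E8_1_c1]))
    h7E8_1 (by decide +kernel)

theorem lenE8_1 : RE8_1.map List.length =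
    [(1, 0), (1, 1), (1, 2), (1, 3), (1, 4), (2, 5), (2, 6), (2, 7), (2, 8), (3, 9), (3, 10), (3, 11), (3, 12), (3, 13), (3, 14), (3, 15), (3, 16), (3, 17), (3, 18), (2, 19), (2, 20), (2, 21), (2, 22), (1, 23), (1, 24), (1, 25), (1, 26), (1, 27)].flatMap (fun p => List.replicate p.1 p.2) := by decide +kernel

theorem poinE8_1 (q : ℕ) : (RE8_1.map (fun l => q ^ l.length)).sum =
    1 * q ^ 0 + 1 * q ^ 1 + 1 * q ^ 2 + 1 * q ^ 3 + 1 * q ^ 4 + 2 * q ^ 5 + 2 * q ^ 6 + 2 * q ^ 7 + 2 * q ^ 8 + 3 * q ^ 9 + 3 * q ^ 10 + 3 * q ^ 11 + 3 * q ^ 12 + 3 * q ^ 13 + 3 * q ^ 14 + 3 * q ^ 15 + 3 * q ^ 16 + 3 * q ^ 17 + 3 * q ^ 18 + 2 * q ^ 19 + 2 * q ^ 20 + 2 * q ^ 21 + 2 * q ^ 22 + 1 * q ^ 23 + 1 * q ^ 24 + 1 * q ^ 25 + 1 * q ^ 26 + 1 * q ^ 27 := by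
  rw [sum_pow_length, lenE8_1, sum_pow_blocks]
  simp only [List.map_cons, List.map_nil, List.sum_cons, List.sum_nil]
  ring

end Cfsg.Agent.Lib.Helper5.ChevTits.NatTab
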