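import Mathlib
import Cfsg.Agent.Lib.Helper5.ChevOrdNE8b
import Cfsg.Agent.Lib.Helper5.ChevOrdNE8l0
import Cfsg.Agent.Lib.Helper5.ChevOrdNE8l1
import Cfsg.Agent.Lib.Helper5.ChevOrdNE8l2
import Cfsg.Agent.Lib.Helper5.ChevOrdNE8l3
import Cfsg.Agent.Lib.Helper5.ChevOrdNE8l4
import Cfsg.Agent.Lib.Helper5.ChevOrdNE8l5
import Cfsg.Agent.Lib.Helper5.ChevOrdNE8l6
import Cfsg.Agent.Lib.Helper5.ChevOrdNE8l7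

/-!
# The Weyl group of type E8 along a chain of parabolic subgroups (helper5; generated)
-/

set_option autoImplicit false
set_option maxRecDepth 1000000

namespace Cfsg.Agent.Lib.Helper5.ChevTits.NatTab

open Cfsg.Lie

abbrev IE8_8 : Type := Unit
def wE8_8 : IE8_8 → List ℕ := fun _ => []
theorem enE8_8 : Enum chevE8 (fun a => a ∈ JE8_8) wE8_8 := enum_nil chevE8

abbrev IE8_7 : Type := Fin RE8_7.length × IE8_8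
def wE8_7 : IE8_7 → List ℕ := fun x => RE8_7[x.1.1] ++ wE8_8 x.2
theorem enE8_7 : Enum chevE8 (fun a => a ∈ JE8_7) wE8_7 :=
  enum_step chevE8 (reflOK_of_mem _ hDE8) (simpleNe_of_mem _ hDE8) (excl_of_mem _ hDE8)
    (posNeg_of_mem _ hDE8) (Cfsg.Agent.S1041.pos_or_neg _ hDE8) lvE8_7 wE8_8 enE8_8

abbrev IE8_6 : Type := Fin RE8_6.length × IE8_7
def wE8_6 : IE8_6 → List ℕ := fun x => RE8_6[x.1.1] ++ wE8_7 x.2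
theorem enE8_6 : Enum chevE8 (fun a => a ∈ JE8_6) wE8_6 :=
  enum_step chevE8 (reflOK_of_mem _ hDE8) (simpleNe_of_mem _ hDE8) (excl_of_mem _ hDE8)
    (posNeg_of_mem _ hDE8) (Cfsg.Agent.S1041.pos_or_neg _ hDE8) lvE8_6 wE8_7 enE8_7

abbrev IE8_5 : Type := Fin RE8_5.length × IE8_6
def wE8_5 : IE8_5 → List ℕ := fun x => RE8_5[x.1.1] ++ wE8_6 x.2
theorem enE8_5 : Enum chevE8 (fun a => a ∈ JE8_5) wE8_5 :=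
  enum_step chevE8 (reflOK_of_mem _ hDE8) (simpleNe_of_mem _ hDE8) (excl_of_mem _ hDE8)
    (posNeg_of_mem _ hDE8) (Cfsg.Agent.S1041.pos_or_neg _ hDE8) lvE8_5 wE8_6 enE8_6

abbrev IE8_4 : Type := Fin RE8_4.length × IE8_5
def wE8_4 : IE8_4 → List ℕ := fun x => RE8_4[x.1.1] ++ wE8_5 x.2
theorem enE8_4 : Enum chevE8 (fun a => a ∈ JE8_4) wE8_4 :=
  enum_step chevE8 (reflOK_of_mem _ hDE8) (simpleNe_of_mem _ hDE8) (excl_of_mem _ hDE8)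
    (posNeg_of_mem _ hDE8) (Cfsg.Agent.S1041.pos_or_neg _ hDE8) lvE8_4 wE8_5 enE8_5

abbrev IE8_3 : Type := Fin RE8_3.length × IE8_4
def wE8_3 : IE8_3 → List ℕ := fun x => RE8_3[x.1.1] ++ wE8_4 x.2
theorem enE8_3 : Enum chevE8 (fun a => a ∈ JE8_3) wE8_3 :=
  enum_step chevE8 (reflOK_of_mem _ hDE8) (simpleNe_of_mem _ hDE8) (excl_of_mem _ hDE8)
    (posNeg_of_mem _ hDE8) (Cfsg.Agent.S1041.pos_or_neg _ hDE8) lvE8_3 wE8_4 enE8_4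

abbrev IE8_2 : Type := Fin RE8_2.length × IE8_3
def wE8_2 : IE8_2 → List ℕ := fun x => RE8_2[x.1.1] ++ wE8_3 x.2
theorem enE8_2 : Enum chevE8 (fun a => a ∈ JE8_2) wE8_2 :=
  enum_step chevE8 (reflOK_of_mem _ hDE8) (simpleNe_of_mem _ hDE8) (excl_of_mem _ hDE8)
    (posNeg_of_mem _ hDE8) (Cfsg.Agent.S1041.pos_or_neg _ hDE8) lvE8_2 wE8_3 enE8_3

abbrev IE8_1 : Type := Fin RE8_1.length × IE8_2
def wE8_1 : IE8_1 → List ℕ := fun x => RE8_1[x.1.1] ++ wE8_2 x.2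
theorem enE8_1 : Enum chevE8 (fun a => a ∈ JE8_1) wE8_1 :=
  enum_step chevE8 (reflOK_of_mem _ hDE8) (simpleNe_of_mem _ hDE8) (excl_of_mem _ hDE8)
    (posNeg_of_mem _ hDE8) (Cfsg.Agent.S1041.pos_or_neg _ hDE8) lvE8_1 wE8_2 enE8_2

abbrev IE8_0 : Type := Fin RE8_0.length × IE8_1
def wE8_0 : IE8_0 → List ℕ := fun x => RE8_0[x.1.1] ++ wE8_1 x.2
theorem enE8_0 : Enum chevE8 (fun a => a ∈ JE8_0) wE8_0 :=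
  enum_step chevE8 (reflOK_of_mem _ hDE8) (simpleNe_of_mem _ hDE8) (excl_of_mem _ hDE8)
    (posNeg_of_mem _ hDE8) (Cfsg.Agent.S1041.pos_or_neg _ hDE8) lvE8_0 wE8_1 enE8_1

theorem enE8 : Enum chevE8 (fun a => a < chevE8.rank) wE8_0 := by
  refine enum_of_iff chevE8 ?_ wE8_0 enE8_0
  intro a
  show a ∈ JE8_0 ↔ a < 8
  simp only [JE8_0, List.mem_cons, List.not_mem_nil, or_false]
  omega

theorem poincareE8 (q : ℕ) : ∑ x : IE8_0, q ^ (wE8_0 x).length =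
    (1 * q ^ 0 + 1 * q ^ 1 + 1 * q ^ 2 + 1 * q ^ 3 + 1 * q ^ 4 + 1 * q ^ 5 + 2 * q ^ 6 + 2 * q ^ 7 + 2 * q ^ 8 + 2 * q ^ 9 + 3 * q ^ 10 + 3 * q ^ 11 + 4 * q ^ 12 + 4 * q ^ 13 + 4 * q ^ 14 + 4 * q ^ 15 + 5 * q ^ 16 + 5 * q ^ 17 + 6 * q ^ 18 + 6 * q ^ 19 + 6 * q ^ 20 + 6 * q ^ 21 + 7 * q ^ 22 + 7 * q ^ 23 + 7 * q ^ 24 + 7 * q ^ 25 + 7 * q ^ 26 + 7 * q ^ 27 + 8 * q ^ 28 + 8 * q ^ 29 + 7 * q ^ 30 + 7 * q ^ 31 + 7 * q ^ 32 + 7 * q ^ 33 + 7 * q ^ 34 + 7 * q ^ 35 + 6 * q ^ 36 + 6 * q ^ 37 + 6 * q ^ 38 + 6 * q ^ 39 + 5 * q ^ 40 + 5 * q ^ 41 + 4 * q ^ 42 + 4 * q ^ 43 + 4 * q ^ 44 + 4 * q ^ 45 + 3 * q ^ 46 + 3 * q ^ 47 + 2 * q ^ 48 + 2 * q ^ 49 + 2 * q ^ 50 + 2 * q ^ 51 + 1 * q ^ 52 + 1 * q ^ 53 + 1 * q ^ 54 + 1 * q ^ 55 + 1 * q ^ 56 + 1 * q ^ 57) *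
      (1 * q ^ 0 + 1 * q ^ 1 + 1 * q ^ 2 + 1 * q ^ 3 + 1 * q ^ 4 + 2 * q ^ 5 + 2 * q ^ 6 + 2 * q ^ 7 + 2 * q ^ 8 + 3 * q ^ 9 + 3 * q ^ 10 + 3 * q ^ 11 + 3 * q ^ 12 + 3 * q ^ 13 + 3 * q ^ 14 + 3 * q ^ 15 + 3 * q ^ 16 + 3 * q ^ 17 + 3 * q ^ 18 + 2 * q ^ 19 + 2 * q ^ 20 + 2 * q ^ 21 + 2 * q ^ 22 + 1 * q ^ 23 + 1 * q ^ 24 + 1 * q ^ 25 + 1 * q ^ 26 + 1 * q ^ 27) *
      (1 * q ^ 0 + 1 * q ^ 1 + 1 * q ^ 2 + 1 * q ^ 3 + 2 * q ^ 4 + 2 * q ^ 5 + 2 * q ^ 6 + 2 * q ^ 7 + 3 * q ^ 8 + 2 * q ^ 9 + 2 * q ^ 10 + 2 * q ^ 11 + 2 * q ^ 12 + 1 * q ^ 13 + 1 * q ^ 14 + 1 * q ^ 15 + 1 * q ^ 16) *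
      (1 * q ^ 0 + 1 * q ^ 1 + 1 * q ^ 2 + 1 * q ^ 3 + 2 * q ^ 4 + 1 * q ^ 5 + 1 * q ^ 6 + 1 * q ^ 7 + 1 * q ^ 8) *
      (1 * q ^ 0 + 1 * q ^ 1 + 1 * q ^ 2 + 2 * q ^ 3 + 1 * q ^ 4 + 1 * q ^ 5 + 1 * q ^ 6) *
      (1 * q ^ 0 + 1 * q ^ 1 + 1 * q ^ 2 + 1 * q ^ 3) *
      (1 * q ^ 0 + 1 * q ^ 1 + 1 * q ^ 2) *
      (1 * q ^ 0 + 1 * q ^ 1) := by
  have h0 : ∑ x : IE8_0, q ^ (wE8_0 x).length =
      (RE8_0.map (fun l => q ^ l.length)).sum * ∑ x : IE8_1, q ^ (wE8_1 x).length :=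
    sum_step RE8_0 wE8_1 q
  have h1 : ∑ x : IE8_1, q ^ (wE8_1 x).length =
      (RE8_1.map (fun l => q ^ l.length)).sum * ∑ x : IE8_2, q ^ (wE8_2 x).length :=
    sum_step RE8_1 wE8_2 q
  have h2 : ∑ x : IE8_2, q ^ (wE8_2 x).length =
      (RE8_2.map (fun l => q ^ l.length)).sum * ∑ x : IE8_3, q ^ (wE8_3 x).length :=
    sum_step RE8_2 wE8_3 q
  have h3 : ∑ x : IE8_3, q ^ (wE8_3 x).length =
      (RE8_3.map (fun l => q ^ l.length)).sum * ∑ x : IE8_4, q ^ (wE8_4 x).length :=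
    sum_step RE8_3 wE8_4 q
  have h4 : ∑ x : IE8_4, q ^ (wE8_4 x).length =
      (RE8_4.map (fun l => q ^ l.length)).sum * ∑ x : IE8_5, q ^ (wE8_5 x).length :=
    sum_step RE8_4 wE8_5 q
  have h5 : ∑ x : IE8_5, q ^ (wE8_5 x).length =
      (RE8_5.map (fun l => q ^ l.length)).sum * ∑ x : IE8_6, q ^ (wE8_6 x).length :=
    sum_step RE8_5 wE8_6 q
  have h6 : ∑ x : IE8_6, q ^ (wE8_6 x).length =
      (RE8_6.map (fun l => q ^ l.length)).sum * ∑ x : IE8_7, q ^ (wE8_7 x).length :=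
    sum_step RE8_6 wE8_7 q
  have h7 : ∑ x : IE8_7, q ^ (wE8_7 x).length =
      (RE8_7.map (fun l => q ^ l.length)).sum * ∑ x : IE8_8, q ^ (wE8_8 x).length :=
    sum_step RE8_7 wE8_8 q
  have hlast : ∑ x : IE8_8, q ^ (wE8_8 x).length = 1 := by
    simp [wE8_8]
  rw [h0, h1, h2, h3, h4, h5, h6, h7, hlast, poinE8_0, poinE8_1, poinE8_2, poinE8_3, poinE8_4, poinE8_5, poinE8_6, poinE8_7, mul_one]
  simp only [mul_assoc]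

end Cfsg.Agent.Lib.Helper5.ChevTits.NatTab
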