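import Mathlib
import Cfsg.Agent.Lib.Helper5.ChevOrdNE8a

/-!
# Level 7 of the parabolic chain, type E8 (helper5; generated)
-/

set_option autoImplicit false
set_option maxRecDepth 1000000

namespace Cfsg.Agent.Lib.Helper5.ChevTits.NatTab

open Cfsg.Lie

def QE8_7 : List ℕ := []

def RE8_7 : List (List ℕ) :=
  [[],
  [4]]

def AE8_7 : List (List ℕ) :=
  [[0, 1, 2, 3, 4, 5, 6, 7, 8, 9, 10, 11, 12, 13, 14, 15, 16, 17, 18, 19, 20, 21, 22, 23, 24, 25, 26, 27, 28, 29, 30, 31, 32, 33, 34, 35, 36, 37, 38, 39, 40, 41, 42, 43, 44, 45, 46, 47, 48, 49, 50, 51, 52, 53, 54, 55, 56, 57, 58, 59, 60, 61, 62, 63, 64, 65, 66, 67, 68, 69, 70, 71, 72, 73, 74, 75, 76, 77, 78, 79, 80, 81, 82, 83, 84, 85, 86, 87, 88, 89, 90, 91, 92, 93, 94, 95, 96, 97, 98, 99, 100, 101, 102, 103, 104, 105, 106, 107, 108, 109, 110, 111, 112, 113, 114, 115, 116, 117, 118, 119, 120, 121, 122, 123, 124, 125, 126, 127, 128, 129, 130, 131, 132, 133, 134, 135, 136,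 137, 138, 139, 140, 141, 142, 143, 144, 145, 146, 147, 148, 149, 150, 151, 152, 153, 154, 155, 156, 157, 158, 159, 160, 161, 162, 163, 164, 165, 166, 167, 168, 169, 170, 171, 172, 173, 174, 175, 176, 177, 178, 179, 180, 181, 182, 183, 184, 185, 186, 187, 188, 189, 190, 191, 192, 193, 194, 195, 196, 197, 198, 199, 200, 201, 202, 203, 204, 205, 206, 207, 208, 209, 210, 211, 212, 213, 214, 215, 216, 217, 218, 219, 220, 221, 222, 223, 224, 225, 226, 227, 228, 229, 230, 231, 232, 233, 234, 235, 236, 237, 238, 239],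
  [0, 1, 2, 4, 3, 5, 6, 7, 8, 10, 9, 11, 12, 13, 14, 15, 17, 16, 18, 19, 20, 22, 21, 23, 24, 25, 26, 30, 31, 32, 27, 28, 29, 33, 34, 35, 36, 40, 41, 42, 37, 38, 39, 43, 44, 45, 46, 47, 48, 52, 53, 54, 49, 50, 51, 55, 56, 57, 58, 62, 63, 64, 59, 60, 61, 65, 66, 67, 68, 70, 69, 71, 72, 73, 75, 74, 76, 77, 78, 79, 80, 84, 85, 86, 81, 82, 83, 87, 88, 89, 90, 92, 91, 93, 94, 95, 97, 96, 98, 99, 100, 101, 103, 102, 104, 105, 106, 107, 109, 108, 114, 115, 116, 126, 110, 111, 112, 117, 118, 119, 120, 121, 122, 127, 128, 129, 113, 123, 124, 125, 131, 130, 132, 133, 134, 135, 137, 136, 138, 139, 140, 141, 143, 142, 144, 145, 146, 148, 147, 149, 150, 151, 152, 156, 157, 158, 153, 154, 155, 159, 160, 161, 162, 163, 165, 164, 166, 167, 168, 170, 169, 171, 172, 173, 174, 178, 179, 180, 175, 176, 177, 181, 182, 183, 184, 188, 189, 190, 185, 186, 187, 191, 192, 193, 194, 195, 196, 200, 201, 202, 197, 198, 199, 203, 204, 205, 206, 210,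 211, 212, 207, 208, 209, 213, 214, 215, 216, 218, 217, 219, 220, 221, 223, 222, 224, 225, 226, 227, 228, 230, 229, 231, 232, 233, 234, 236, 235, 237, 238, 239]]

theorem lvE8_7 : LevelOK chevE8 (fun a => a ∈ JE8_7) (fun a => a ∈ JE8_8)
    (fun r => r ∈ QE8_7) RE8_7 :=
  levelOK_ofT chevE8 (reflOK_of_mem _ hDE8) (simpleNe_of_mem _ hDE8) (excl_of_mem _ hDE8)
    (by decide) (Cfsg.Agent.S1041.pos_or_neg _ hDE8) tabE8 JE8_7 JE8_8 QE8_7 RE8_7 AE8_7
    (by decide +kernel) (by decide +kernel) (by decide +kernel) (by decide +kernel)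
    (by decide +kernel) (by decide +kernel) (by decide +kernel)

theorem lenE8_7 : RE8_7.map List.length =
    [(1, 0), (1, 1)].flatMap (fun p => List.replicate p.1 p.2) := by decide +kernel

theorem poinE8_7 (q : ℕ) : (RE8_7.map (fun l => q ^ l.length)).sum =
    1 * q ^ 0 + 1 * q ^ 1 := by
  rw [sum_pow_length, lenE8_7, sum_pow_blocks]
  simp only [List.map_cons, List.map_nil, List.sum_cons, List.sum_nil]
  ring

end Cfsg.Agent.Lib.Helper5.ChevTits.NatTab
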