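import Mathlib
import Cfsg.Agent.Lib.Helper5.ChevSymM
import Cfsg.Prelude.Def_ChevAutomorphisms

set_option autoImplicit false

namespace Cfsg.Agent.Lib.Helper5.ChevSym

open Cfsg.Lie

/-- the pairing is invariant under the fundamental reflection `w_{p_i}` (checked against `h_{p_j}`) -/
def ConjOKi (D : ChevalleyDatum) (i : ℕ) : Prop :=
  ∀ j, j < D.rank →
    D.reflectRoot i (D.simple j) < D.nroots ∧
    ∀ s, s < D.nroots →
      D.pairing (D.simple j) s = D.pairing (D.reflectRoot i (D.simple j)) (D.reflectRoot i s)

instance (D : ChevalleyDatum) (i : ℕ) : Decidable (ConjOKi D i) := by unfold ConjOKi; infer_instance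

def ConjOK (D : ChevalleyDatum) : Prop := ∀ i, i < D.rank → ConjOKi D i

instance (D : ChevalleyDatum) : Decidable (ConjOK D) := by unfold ConjOK; infer_instance

set_option maxRecDepth 100000 in
theorem conj_G2 : ConjOK chevG2 := by decide +kernel
set_option maxRecDepth 100000 in
theorem conj_B2 : ConjOK chevB2 := by decide +kernel
set_option maxRecDepth 100000 in
theorem conj_D4 : ConjOK chevD4 := by decide +kernel
set_option maxRecDepth 100000 in
theorem conj_F4 : ConjOK chevF4 := by decide +kernel
set_option maxRecDepth 100000 in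
theorem conj_E6 : ConjOK chevE6 := by decide +kernel

end Cfsg.Agent.Lib.Helper5.ChevSym
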