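import Mathlib
import Cfsg.Agent.Lib.Helper5.ChevSymY7

set_option autoImplicit false

namespace Cfsg.Agent.Lib.Helper5.ChevSym

open Cfsg.Lie

set_option maxRecDepth 100000 in
theorem conj_E8_0 : ConjOKi chevE8 0 := by decide +kernel

set_option maxRecDepth 100000 in
theorem conj_E8_1 : ConjOKi chevE8 1 := by decide +kernel

set_option maxRecDepth 100000 in
theorem conj_E8_2 : ConjOKi chevE8 2 := by decide +kernel

set_option maxRecDepth 100000 in
theorem conj_E8_3 : ConjOKi chevE8 3 := by decide +kernel

set_option maxRecDepth 100000 in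
theorem conj_E8_4 : ConjOKi chevE8 4 := by decide +kernel

set_option maxRecDepth 100000 in
theorem conj_E8_5 : ConjOKi chevE8 5 := by decide +kernel

set_option maxRecDepth 100000 in
theorem conj_E8_6 : ConjOKi chevE8 6 := by decide +kernel

set_option maxRecDepth 100000 in
theorem conj_E8_7 : ConjOKi chevE8 7 := by decide +kernel

theorem conj_E8 : ConjOK chevE8 := by
  intro i hi
  have hn : chevE8.rank = 8 := rfl
  rw [hn] at hi
  interval_cases i
  · exact conj_E8_0
  · exact conj_E8_1
  · exact conj_E8_2
  · exact conj_E8_3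
  · exact conj_E8_4
  · exact conj_E8_5
  · exact conj_E8_6
  · exact conj_E8_7

end Cfsg.Agent.Lib.Helper5.ChevSym
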