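import Mathlib
import Cfsg.Agent.Lib.Helper5.ChevSymQ
import Cfsg.Agent.Lib.Helper5.ChevSymM
import Cfsg.Agent.Lib.Helper5.ChevSymY0
import Cfsg.Agent.Lib.Helper5.ChevSymY7
import Cfsg.Agent.Lib.Helper5.ChevSymY8

set_option autoImplicit false
set_option linter.style.haveILetI false
set_option linter.unusedSectionVars false

namespace Cfsg.Agent.Lib.Helper5.ChevSym

open Cfsg.Lie

variable {F : Type*} [Field F]

theorem conjOK_of_mem (D : ChevalleyDatum)
    (hD : D ∈ [chevG2, chevB2, chevD4, chevF4, chevE6, chevE7, chevE8]) : ConjOK D := by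
  simp only [List.mem_cons, List.not_mem_nil, or_false] at hD
  rcases hD with rfl | rfl | rfl | rfl | rfl | rfl | rfl
  · exact conj_G2
  · exact conj_B2
  · exact conj_D4
  · exact conj_F4
  · exact conj_E6
  · exact conj_E7
  · exact conj_E8

/-- `n_p h_{p_j}(t) = h_{w_p(p_j)}(t) n_p` -/
theorem nMat_hMat_conj (D : ChevalleyDatum)
    (hD : D ∈ [chevG2, chevB2, chevD4, chevF4, chevE6, chevE7, chevE8])
    (i j : ℕ) (hi : i < D.rank) (hj : j < D.rank) (t : F) (ht : t ≠ 0) :
    D.nMat F (D.simple i) 1 * D.hMat F (D.simple j) t =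
      D.hMat F (D.reflectRoot i (D.simple j)) t * D.nMat F (D.simple i) 1 := by
  have hN := nSimpleAll_of_mem D hD
  have hsj : D.simple j < D.nroots := (hN j hj).1
  obtain ⟨hr', hpair⟩ := conjOK_of_mem D hD i hi j hj
  rw [hMat_all D hD _ hsj t ht, hMat_all D hD _ hr' t ht, nMat_simple D i hi (hN i hi)]
  ext row col
  rw [Matrix.mul_diagonal, Matrix.diagonal_mul]
  rcases row with j' | s' <;> rcases col with j'' | s
  · simp
  · simp
  · simp
  · simp only [Matrix.of_apply, Sum.elim_inr]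
    by_cases h : (s' : ℕ) = D.reflectRoot i s
    · rw [if_pos h, hpair s s.2, h, mul_comm]
    · rw [if_neg h]; simp

end Cfsg.Agent.Lib.Helper5.ChevSym
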