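import Mathlib
import Cfsg.Agent.Lib.Helper5.ChevTitsI

/-!
# The rank one parabolic subgroups `B ∪ B n_p B` (helper5)
-/

set_option autoImplicit false
set_option linter.style.haveILetI false
set_option linter.unusedSectionVars false

namespace Cfsg.Agent.Lib.Helper5.ChevTits

open Cfsg.Lie Cfsg.Agent.Lib.Helper5.ChevSym Cfsg.Agent.Lib.Helper5.ChevBN
  Cfsg.Agent.Lib.Helper5.ChevGen

variable {F : Type*} [Field F]

/-- `B ∪ B n_p B` is a subgroup -/
theorem rank_one_parabolic (D : ChevalleyDatum) (H : Hyp D F) (hdec : Decomp D F) (i : ℕ)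
    (hi : i < D.rank) (n : GL D.Idx F)
    (hn : (n : Matrix D.Idx D.Idx F) = D.nMat F (D.simple i) 1) :
    ∃ P : Subgroup (GL D.Idx F), (P : Set (GL D.Idx F)) =
      (D.borelSubgroup F : Set (GL D.Idx F)) ∪
        DoubleCoset.doubleCoset n (D.borelSubgroup F : Set (GL D.Idx F)) (D.borelSubgroup F) := by
  have hnN : n ∈ D.monomialSubgroup F := simple_mem_monomial D H i hi n hn
  have hnn : n * n ∈ D.borelSubgroup F := diag_le_borel D (s_sq_mem D H i hi n hn)
  have key : ∀ b ∈ D.borelSubgroup F, n * b * n ∈ D.borelSubgroup F ∨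
      ∃ b₁ ∈ D.borelSubgroup F, ∃ b₂ ∈ D.borelSubgroup F, n * b * n = b₁ * n * b₂ := by
    intro b hb
    rcases mul_mem_union_GL D H hdec i hi n hn n hnN b hb with
      ⟨b₁, hb₁, b₂, hb₂, e⟩ | ⟨b₁, hb₁, b₂, hb₂, e⟩
    · left
      rw [e]
      exact mul_mem (mul_mem hb₁ hnn) hb₂
    · right
      exact ⟨b₁, hb₁, b₂, hb₂, e⟩
  have hmem : ∀ g : GL D.Idx F, g ∈ DoubleCoset.doubleCoset n
      (D.borelSubgroup F : Set (GL D.Idx F)) (D.borelSubgroup F) ↔
      ∃ x ∈ D.borelSubgroup F, ∃ y ∈ D.borelSubgroup F, g = x * n * y := by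
    intro g
    rw [DoubleCoset.mem_doubleCoset]
    rfl
  refine ⟨{ carrier := (D.borelSubgroup F : Set (GL D.Idx F)) ∪
      DoubleCoset.doubleCoset n (D.borelSubgroup F : Set (GL D.Idx F)) (D.borelSubgroup F)
            mul_mem' := ?_
            one_mem' := Or.inl (one_mem _)
            inv_mem' := ?_ }, rfl⟩
  · rintro a b (ha | ha) (hb | hb)
    · exact Or.inl (mul_mem ha hb)
    · right
      obtain ⟨x, hx, y, hy, rfl⟩ := (hmem b).mp hb
      exact (hmem _).mpr ⟨a * x, mul_mem ha hx, y, hy, by group⟩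
    · right
      obtain ⟨x, hx, y, hy, rfl⟩ := (hmem a).mp ha
      exact (hmem _).mpr ⟨x, hx, y * b, mul_mem hy hb, by group⟩
    · obtain ⟨x, hx, y, hy, rfl⟩ := (hmem a).mp ha
      obtain ⟨x', hx', y', hy', rfl⟩ := (hmem b).mp hb
      rcases key (y * x') (mul_mem hy hx') with h | ⟨b₁, hb₁, b₂, hb₂, e⟩
      · left
        have : x * n * y * (x' * n * y') = x * (n * (y * x') * n) * y' := by group
        rw [this]
        exact mul_mem (mul_mem hx h) hy'
      · right
        refine (hmem _).mpr ⟨x * b₁, mul_mem hx hb₁, b₂ * y', mul_mem hb₂ hy', ?_⟩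
        have : x * n * y * (x' * n * y') = x * (n * (y * x') * n) * y' := by group
        rw [this, e]; group
  · rintro a (ha | ha)
    · exact Or.inl (inv_mem ha)
    · right
      obtain ⟨x, hx, y, hy, rfl⟩ := (hmem a).mp ha
      refine (hmem _).mpr ⟨y⁻¹, inv_mem hy, (n * n)⁻¹ * x⁻¹, mul_mem (inv_mem hnn) (inv_mem hx), ?_⟩
      group

end Cfsg.Agent.Lib.Helper5.ChevTits
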