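import Mathlib
import Cfsg.Agent.Lib.Helper5.ChevTitsI

/-!
# Irreducibility of the (B, N)-pair of a Chevalley group (helper5)
-/

set_option autoImplicit false
set_option linter.style.haveILetI false
set_option linter.unusedSectionVars false

namespace Cfsg.Agent.Lib.Helper5.ChevTits

open Cfsg.Lie Cfsg.Agent.Lib.Helper5.ChevSym Cfsg.Agent.Lib.Helper5.ChevBN
  Cfsg.Agent.Lib.Helper5.ChevGen

/-- adjacency in the Dynkin diagram -/
def adj (D : ChevalleyDatum) (i j : ℕ) : Bool :=
  decide (D.cartan i (D.simple j) ≠ 0) || decide (D.cartan j (D.simple i) ≠ 0)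

/-- the fundamental reflections of adjacent nodes do not commute -/
def AdjOK (D : ChevalleyDatum) : Prop :=
  ∀ i, i < D.rank → ∀ j, j < D.rank → i ≠ j → adj D i j = true →
    D.reflectRoot i (D.reflectRoot j (D.simple j)) ≠ D.reflectRoot j (D.reflectRoot i (D.simple j))

instance (D : ChevalleyDatum) : Decidable (AdjOK D) := by
  unfold AdjOK
  infer_instance

/-- one step of the search through the Dynkin diagram -/
def grow (D : ChevalleyDatum) (l : List ℕ) : List ℕ :=
  l ++ (List.range D.rank).filter (fun j => l.any (fun i => adj D i j))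

/-- the Dynkin diagram is connected -/
def ConnOK (D : ChevalleyDatum) : Prop :=
  0 < D.rank ∧ ∀ j, j < D.rank → j ∈ (grow D)^[D.rank] [0]

instance (D : ChevalleyDatum) : Decidable (ConnOK D) := by
  unfold ConnOK
  infer_instance

set_option maxRecDepth 100000 in
theorem adjOK_G2 : AdjOK chevG2 := by decide +kernel
set_option maxRecDepth 100000 in
theorem adjOK_B2 : AdjOK chevB2 := by decide +kernel
set_option maxRecDepth 100000 in
theorem adjOK_D4 : AdjOK chevD4 := by decide +kernel
set_option maxRecDepth 100000 in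
theorem adjOK_F4 : AdjOK chevF4 := by decide +kernel
set_option maxRecDepth 100000 in
theorem adjOK_E6 : AdjOK chevE6 := by decide +kernel
set_option maxRecDepth 100000 in
theorem adjOK_E7 : AdjOK chevE7 := by decide +kernel
set_option maxRecDepth 100000 in
theorem adjOK_E8 : AdjOK chevE8 := by decide +kernel

set_option maxRecDepth 100000 in
theorem connOK_G2 : ConnOK chevG2 := by decide +kernel
set_option maxRecDepth 100000 in
theorem connOK_B2 : ConnOK chevB2 := by decide +kernel
set_option maxRecDepth 100000 in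
theorem connOK_D4 : ConnOK chevD4 := by decide +kernel
set_option maxRecDepth 100000 in
theorem connOK_F4 : ConnOK chevF4 := by decide +kernel
set_option maxRecDepth 100000 in
theorem connOK_E6 : ConnOK chevE6 := by decide +kernel
set_option maxRecDepth 100000 in
theorem connOK_E7 : ConnOK chevE7 := by decide +kernel
set_option maxRecDepth 100000 in
theorem connOK_E8 : ConnOK chevE8 := by decide +kernel

theorem adjOK_of_mem (D : ChevalleyDatum)
    (hD : D ∈ [chevG2, chevB2, chevD4, chevF4, chevE6, chevE7, chevE8]) : AdjOK D := by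
  simp only [List.mem_cons, List.not_mem_nil, or_false] at hD
  rcases hD with rfl | rfl | rfl | rfl | rfl | rfl | rfl
  · exact adjOK_G2
  · exact adjOK_B2
  · exact adjOK_D4
  · exact adjOK_F4
  · exact adjOK_E6
  · exact adjOK_E7
  · exact adjOK_E8

theorem connOK_of_mem (D : ChevalleyDatum)
    (hD : D ∈ [chevG2, chevB2, chevD4, chevF4, chevE6, chevE7, chevE8]) : ConnOK D := by
  simp only [List.mem_cons, List.not_mem_nil, or_false] at hD
  rcases hD with rfl | rfl | rfl | rfl | rfl | rfl | rfl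
  · exact connOK_G2
  · exact connOK_B2
  · exact connOK_D4
  · exact connOK_F4
  · exact connOK_E6
  · exact connOK_E7
  · exact connOK_E8

/-- a property of the nodes that is constant along the edges is constant -/
theorem conn_const (D : ChevalleyDatum) (hC : ConnOK D) (P : ℕ → Prop)
    (hP : ∀ i, i < D.rank → ∀ j, j < D.rank → adj D i j = true → (P i ↔ P j)) :
    ∀ j, j < D.rank → (P j ↔ P 0) := by
  obtain ⟨h0, hall⟩ := hC
  have step : ∀ l : List ℕ, (∀ k ∈ l, k < D.rank ∧ (P k ↔ P 0)) →
      ∀ k ∈ grow D l, k < D.rank ∧ (P k ↔ P 0) := by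
    intro l hl k hk
    unfold grow at hk
    rw [List.mem_append] at hk
    rcases hk with hk | hk
    · exact hl k hk
    · rw [List.mem_filter, List.mem_range, List.any_eq_true] at hk
      obtain ⟨hk1, i, hi, hadj⟩ := hk
      obtain ⟨hi1, hi2⟩ := hl i hi
      exact ⟨hk1, (hP i hi1 k hk1 hadj).symm.trans hi2⟩
  have iter : ∀ n : ℕ, ∀ k ∈ (grow D)^[n] [0], k < D.rank ∧ (P k ↔ P 0) := by
    intro n
    induction n with
    | zero =>
      intro k hk
      simp only [Function.iterate_zero, id_eq, List.mem_singleton] at hk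
      subst hk
      exact ⟨h0, Iff.rfl⟩
    | succ n ih =>
      intro k hk
      rw [Function.iterate_succ_apply'] at hk
      exact step _ ih k hk
  intro j hj
  exact (iter D.rank j (hall j hj)).2

variable {F : Type*} [Field F]

/-- entries of `n_{p_i} n_{p_j}` -/
theorem nn_apply (D : ChevalleyDatum) (H : Hyp D F) (i j : ℕ) (hi : i < D.rank)
    (hj : j < D.rank) (a r : Fin D.nroots) :
    (D.nMat F (D.simple i) 1 * D.nMat F (D.simple j) 1) (Sum.inr a) (Sum.inr r) =
      if (a : ℕ) = D.reflectRoot i (D.reflectRoot j r) then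
        ((etaOf D i (D.reflectRoot j r) : ℤ) : F) * ((etaOf D j r : ℤ) : F) else 0 := by
  have hNi := nSimpleAll_of_mem D H.mem i hi
  have hNj := nSimpleAll_of_mem D H.mem j hj
  have hr := (H.refl j hj r r.2).1
  rw [Matrix.mul_apply, Fintype.sum_sum_type]
  simp only [nSimple_apply_inl_inr D j hj hNj, nSimple_apply_inr_inr D i hi hNi,
    nSimple_apply_inr_inr D j hj hNj, mul_zero, Finset.sum_const_zero, zero_add]
  rw [Finset.sum_eq_single (⟨D.reflectRoot j r, hr⟩ : Fin D.nroots)]
  · simp only [if_true]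
    split_ifs <;> simp
  · intro b _ hb
    rw [if_neg (fun h' => hb (Fin.ext h')), mul_zero]
  · intro h'; exact absurd (Finset.mem_univ _) h'

/-- the commutator of `n_{p_i}` and `n_{p_j}` is not in `B` for adjacent nodes -/
theorem comm_not_mem (D : ChevalleyDatum) (H : Hyp D F) (hA : AdjOK D) (i j : ℕ) (hi : i < D.rank)
    (hj : j < D.rank) (hij : i ≠ j) (hadj : adj D i j = true) (s s' : GL D.Idx F)
    (hs : (s : Matrix D.Idx D.Idx F) = D.nMat F (D.simple i) 1)
    (hs' : (s' : Matrix D.Idx D.Idx F) = D.nMat F (D.simple j) 1) :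
    s * s' * s⁻¹ * s'⁻¹ ∉ D.borelSubgroup F := by
  have hD := H.mem
  intro hB
  have hsN := simple_mem_monomial D H i hi s hs
  have hs'N := simple_mem_monomial D H j hj s' hs'
  have hN : s * s' * s⁻¹ * s'⁻¹ ∈ D.monomialSubgroup F :=
    mul_mem (mul_mem (mul_mem hsN hs'N) (inv_mem hsN)) (inv_mem hs'N)
  have hH : s * s' * s⁻¹ * s'⁻¹ ∈ D.diagonalSubgroup F := by
    rw [← borel_inf_monomial' D hD]; exact ⟨hB, hN⟩
  obtain ⟨c, hc⟩ := mem_diagonalSubgroup D hD _ hH
  have e : (s : Matrix D.Idx D.Idx F) * (s' : Matrix D.Idx D.Idx F) =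
      D.charDiag F (chiC D c) * ((s' : Matrix D.Idx D.Idx F) * (s : Matrix D.Idx D.Idx F)) := by
    rw [← hc, ← Units.val_mul, ← Units.val_mul, ← Units.val_mul]
    congr 1
    group
  have hpj : D.simple j < D.nroots := (H.simple j hj).2.2.1.1
  have h1 := (H.refl j hj _ hpj).1
  have h2 := (H.refl i hi _ h1).1
  have e1 := congrFun (congrFun e
    (Sum.inr ⟨D.reflectRoot i (D.reflectRoot j (D.simple j)), h2⟩)) (Sum.inr ⟨D.simple j, hpj⟩)
  rw [hs, hs', nn_apply D H i j hi hj] at e1
  unfold ChevalleyDatum.charDiag at e1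
  rw [Matrix.diagonal_mul, nn_apply D H j i hj hi] at e1
  simp only [] at e1
  rw [if_pos trivial, if_neg (hA i hi j hj hij hadj), mul_zero] at e1
  rcases etaF_cases D H i _ hi h1 with h | h <;> rcases etaF_cases D H j _ hj hpj with h' | h' <;>
    rw [h, h'] at e1 <;> simp at e1

/-- the (B, N)-pair of a Chevalley group is irreducible -/
theorem bnPair_irreducible (D : ChevalleyDatum) (H : Hyp D F) (hdec : Decomp D F)
    (hA : AdjOK D) (hC : ConnOK D) : (bnPair D H hdec).Irreducible := by
  have hD := H.mem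
  intro J hJ hJne hJc
  by_contra hcon
  push_neg at hcon
  -- the generator with index `k`
  have gen : ∀ k, k < D.rank → ∃ g : ↥(D.group F),
      ((g : GL D.Idx F) : Matrix D.Idx D.Idx F) = D.nMat F (D.simple k) 1 := by
    intro k _
    exact ⟨⟨wordGL D hD (D.nWord (D.simple k) (1 : F)), wordGL_mem_group D hD _⟩,
      wordGL_val D hD _⟩
  let P : ℕ → Prop := fun k => ∃ s ∈ J,
    ((s : GL D.Idx F) : Matrix D.Idx D.Idx F) = D.nMat F (D.simple k) 1
  have huniq : ∀ (g g' : ↥(D.group F)) (k : ℕ),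
      ((g : GL D.Idx F) : Matrix D.Idx D.Idx F) = D.nMat F (D.simple k) 1 →
      ((g' : GL D.Idx F) : Matrix D.Idx D.Idx F) = D.nMat F (D.simple k) 1 → g = g' :=
    fun g g' k h h' => Subtype.ext (Units.ext (h.trans h'.symm))
  -- `P` is constant along the edges
  have hedge : ∀ i, i < D.rank → ∀ j, j < D.rank → adj D i j = true → P i → P j := by
    intro i hi j hj hadj hPi
    by_contra hPj
    have hij : i ≠ j := by
      rintro rfl; exact hPj hPi
    obtain ⟨s, hsJ, hs⟩ := hPi
    obtain ⟨s', hs'⟩ := gen j hj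
    have hs'S : s' ∈ (bnPair D H hdec).S \ J := by
      refine ⟨⟨j, hj, hs'⟩, fun h => hPj ⟨s', h, hs'⟩⟩
    have := hcon s hsJ s' hs'S
    have h2 : ((s * s' * s⁻¹ * s'⁻¹ : ↥(D.group F)) : GL D.Idx F) ∈ D.borelSubgroup F :=
      Subgroup.mem_subgroupOf.mp this
    exact comm_not_mem D H hA i j hi hj hij hadj _ _ hs hs' h2
  have hsymm : ∀ i j, adj D i j = true → adj D j i = true := by
    intro i j h
    unfold adj at h ⊢
    rw [Bool.or_comm]; exact h
  have hconst := conn_const D hC P (fun i hi j hj hadj =>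
    ⟨hedge i hi j hj hadj, hedge j hj i hi (hsymm i j hadj)⟩)
  obtain ⟨s, hsJ⟩ := hJne
  obtain ⟨k, hk, hsk⟩ := hJ hsJ
  obtain ⟨s', hs'S, hs'J⟩ := hJc
  obtain ⟨k', hk', hsk'⟩ := hs'S
  have hPk : P k := ⟨s, hsJ, hsk⟩
  have hPk' : P k' := (hconst k' hk').mpr ((hconst k hk).mp hPk)
  obtain ⟨s'', hs''J, hs''⟩ := hPk'
  rw [huniq s' s'' k' hsk' hs''] at hs'J
  exact hs'J hs''J

end Cfsg.Agent.Lib.Helper5.ChevTits
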