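import Mathlib
import Cfsg.Agent.Lib.Helper5.ChevTitsL

/-!
# Auxiliary facts for the simplicity of the Chevalley groups (helper5)
-/

set_option autoImplicit false
set_option linter.style.haveILetI false
set_option linter.unusedSectionVars false

namespace Cfsg.Agent.Lib.Helper5.ChevTits

open Cfsg.Lie Cfsg.Agent.Lib.Helper5.ChevSym Cfsg.Agent.Lib.Helper5.ChevBN
  Cfsg.Agent.Lib.Helper5.ChevGen

variable {F : Type*} [Field F]

theorem nontrivial_group (D : ChevalleyDatum) (H : Hyp D F) (hC : ConnOK D) :
    Nontrivial ↥(D.group F) := by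
  have hD := H.mem
  have hpos := (H.simple 0 hC.1).2.2.1
  refine ⟨⟨⟨xGL D hD (D.simple 0) (1 : F), xGL_mem_group D hD _ _⟩, 1, ?_⟩⟩
  intro h
  have h1 : xGL D hD (D.simple 0) (1 : F) = 1 := congrArg Subtype.val h
  have h2 : D.x F (D.simple 0) (1 : F) = 1 := by
    rw [← xGL_val D hD, h1, Units.val_one]
  exact one_ne_zero ((Cfsg.Agent.S1024.result D hD _ hpos.1 (1 : F)).mp h2)

theorem borel_subgroupOf_solvable (D : ChevalleyDatum)
    (hD : D ∈ [chevG2, chevB2, chevD4, chevF4, chevE6, chevE7, chevE8]) :
    Group.IsSolvable ↥((D.borelSubgroup F).subgroupOf (D.group F)) := by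
  haveI := borel_isSolvable D hD (F := F)
  exact Group.isSolvable_of_isSolvable_injective
    (f := (Subgroup.subgroupOfEquivOfLe (borel_le_group D hD)).toMonoidHom)
    (MulEquiv.injective _)

theorem not_comm_of_perfect (G : Type*) [Group G] [Nontrivial G] (hperf : commutator G = ⊤) :
    ¬ IsMulCommutative G := by
  intro h
  have hcomm : ∀ a b : G, a * b = b * a := isMulCommutative_iff.mp h
  have hbot : commutator G = ⊥ := by
    rw [commutator_def, Subgroup.commutator_eq_bot_iff_le_centralizer]
    intro x _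
    rw [Subgroup.mem_centralizer_iff]
    intro y _
    exact hcomm y x
  rw [hbot] at hperf
  exact bot_ne_top hperf

end Cfsg.Agent.Lib.Helper5.ChevTits
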