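import Mathlib
import Cfsg.Agent.Lib.Helper5.ChevTitsJ
import Cfsg.Agent.Lib.Helper5.ChevTitsM
import Cfsg.Agent.S0319
import Cfsg.Agent.S1031
import Cfsg.Agent.S1045
import Cfsg.Agent.S1051
import Cfsg.Agent.S1052

/-!
# Simplicity of the Chevalley groups (helper5)

Tits' criterion (S0319, helper29) applied to the (B, N)-pair, with `B` solvable, the group perfect
(S1052, helper6) and the core of `B` trivial (S1051).
-/

set_option autoImplicit false

namespace Cfsg.Agent.Lib.Helper5.ChevTits

open Cfsg.Lie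

variable {F : Type*} [Field F]

theorem simple_all (D : ChevalleyDatum)
    (hD : D ∈ [chevG2, chevB2, chevD4, chevF4, chevE6, chevE7, chevE8])
    (h2 : D = chevG2 ∨ D = chevB2 → ∃ a : F, a ≠ 0 ∧ a ≠ 1) :
    IsSimpleGroup ↥(D.group F) ∧ ¬ IsMulCommutative ↥(D.group F) := by
  have H : Hyp D F := hyp_of D hD (fun i s hi hs => Cfsg.Agent.S1031.result D hD i s hi hs)
  have hdec : Decomp D F :=
    decomp_of D hD H.simple (fun i hi => Cfsg.Agent.S1045.result D hD i hi)
  have hC := connOK_of_mem D hD
  haveI : Nontrivial ↥(D.group F) := nontrivial_group D H hC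
  have hperf : commutator ↥(D.group F) = ⊤ := Cfsg.Agent.S1052.result D hD h2
  refine ⟨?_, not_comm_of_perfect _ hperf⟩
  exact Cfsg.Agent.S0319.result (bnPair D H hdec)
    (bnPair_irreducible D H hdec (adjOK_of_mem D hD) hC)
    (borel_subgroupOf_solvable D hD) hperf (Cfsg.Agent.S1051.result D hD)

end Cfsg.Agent.Lib.Helper5.ChevTits
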