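import Mathlib
import Cfsg.Agent.Lib.Helper5.ChevTitsI

/-!
# `G ∩ Ĥ ≤ H` for the Chevalley groups (helper5)

An element of the group that is the diagonal matrix of a root character normalises `B`, hence lies in
`B = N_G(B)`; its unipotent part is diagonal, hence trivial.
-/

set_option autoImplicit false
set_option linter.style.haveILetI false
set_option linter.unusedSectionVars false

namespace Cfsg.Agent.Lib.Helper5.ChevTits

open Cfsg.Lie Cfsg.Agent.Lib.Helper5.ChevSym Cfsg.Agent.Lib.Helper5.ChevBN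
  Cfsg.Agent.Lib.Helper5.ChevGen

variable {F : Type*} [Field F]

theorem isRootCharacter_inv (D : ChevalleyDatum) (χ : ℕ → Fˣ) (hχ : D.IsRootCharacter χ) :
    D.IsRootCharacter (fun s => (χ s)⁻¹) := by
  refine ⟨fun r hr => ?_, fun r s k hr hs hk => ?_⟩
  · show (χ (D.neg r))⁻¹ = ((χ r)⁻¹)⁻¹
    rw [hχ.1 r hr]
  · show (χ k)⁻¹ = (χ r)⁻¹ * (χ s)⁻¹
    rw [hχ.2 r s k hr hs hk, mul_inv]

/-- the diagonal matrix of a root character normalises `B` -/
theorem charDiag_conj_borel (D : ChevalleyDatum)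
    (hD : D ∈ [chevG2, chevB2, chevD4, chevF4, chevE6, chevE7, chevE8]) (χ : ℕ → Fˣ)
    (hχ : D.IsRootCharacter χ) (g : GL D.Idx F)
    (hgχ : (g : Matrix D.Idx D.Idx F) = D.charDiag F χ) (b : GL D.Idx F)
    (hb : b ∈ D.borelSubgroup F) : g * b * g⁻¹ ∈ D.borelSubgroup F := by
  have hle : D.borelSubgroup F ≤ (D.borelSubgroup F).comap (MulAut.conj g).toMonoidHom := by
    conv_lhs => unfold ChevalleyDatum.borelSubgroup
    refine sup_le ?_ ?_
    · unfold ChevalleyDatum.posUnipotent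
      rw [Subgroup.closure_le]
      rintro x ⟨r, t, hr, hx⟩
      show g * x * g⁻¹ ∈ D.borelSubgroup F
      have e : g * x * g⁻¹ = xGL D hD r ((χ r : F) * t) := by
        apply Units.ext
        rw [Units.val_mul, Units.val_mul, hgχ, hx, inv_of_charDiag D g χ hgχ, xGL_val]
        exact Cfsg.Agent.S2157.result D hD χ hχ r hr.1 t
      rw [e]
      exact pos_le_borel D (xGL_pos_mem D hD r hr _)
    · intro h hh
      show g * h * g⁻¹ ∈ D.borelSubgroup F
      obtain ⟨c, hc⟩ := mem_diagonalSubgroup D hD h hh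
      have e : g * h = h * g := by
        apply Units.ext
        rw [Units.val_mul, Units.val_mul, hgχ, hc, charDiag_mul, charDiag_mul]
        congr 1
        funext s
        exact mul_comm _ _
      rw [e, mul_inv_cancel_right]
      exact diag_le_borel D hh
  exact hle hb

/-- `G ∩ Ĥ ≤ H` -/
theorem group_inf_charDiag (D : ChevalleyDatum) (H : Hyp D F) (hdec : Decomp D F)
    (hnorm : Subgroup.normalizer ((bnPair D H hdec).parabolic ∅ : Set ↥(D.group F)) =
      (bnPair D H hdec).parabolic ∅)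
    (χ : ℕ → Fˣ) (hχ : D.IsRootCharacter χ) (g : GL D.Idx F) (hg : g ∈ D.group F)
    (hgχ : (g : Matrix D.Idx D.Idx F) = D.charDiag F χ) : g ∈ D.diagonalSubgroup F := by
  have hD := H.mem
  have hpar : (bnPair D H hdec).parabolic ∅ = (D.borelSubgroup F).subgroupOf (D.group F) := by
    unfold Cfsg.BNPair.parabolic
    rw [Subgroup.closure_empty, sup_bot_eq]
    rfl
  rw [hpar] at hnorm
  have hginv : ((g⁻¹ : GL D.Idx F) : Matrix D.Idx D.Idx F) = D.charDiag F (fun s => (χ s)⁻¹) :=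
    inv_of_charDiag D g χ hgχ
  have hmemN : (⟨g, hg⟩ : ↥(D.group F)) ∈
      Subgroup.normalizer (((D.borelSubgroup F).subgroupOf (D.group F) : Subgroup ↥(D.group F)) :
        Set ↥(D.group F)) := by
    rw [Subgroup.mem_normalizer_iff]
    intro b
    rw [Subgroup.mem_subgroupOf, Subgroup.mem_subgroupOf]
    constructor
    · intro hb
      exact charDiag_conj_borel D hD χ hχ g hgχ _ hb
    · intro hb
      have := charDiag_conj_borel D hD _ (isRootCharacter_inv D χ hχ) g⁻¹ hginv _ hb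
      have e : g⁻¹ * ((⟨g, hg⟩ * b * (⟨g, hg⟩ : ↥(D.group F))⁻¹ : ↥(D.group F)) : GL D.Idx F) *
          g⁻¹⁻¹ = (b : GL D.Idx F) := by
        show g⁻¹ * (g * (b : GL D.Idx F) * g⁻¹) * g⁻¹⁻¹ = (b : GL D.Idx F)
        group
      rwa [e] at this
  rw [hnorm, Subgroup.mem_subgroupOf] at hmemN
  have hgB : g ∈ D.borelSubgroup F := hmemN
  obtain ⟨u, hu, h, hh, e⟩ := (mem_borel D hD g).mp hgB
  obtain ⟨c, hc⟩ := mem_diagonalSubgroup D hD h hh
  have hlev : ChevGrad.Lev (ChevGrad.grD D) 1 ((u : Matrix D.Idx D.Idx F) - 1) :=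
    ChevGrad.posUnipotent_le_uni D (ChevGrad.tabOK_of_mem D hD) hu
  have hu' : u = g * h⁻¹ := by rw [← e]; group
  have hum : (u : Matrix D.Idx D.Idx F) = D.charDiag F (fun s => χ s * (chiC D c s)⁻¹) := by
    rw [hu', Units.val_mul, hgχ, inv_of_charDiag D h _ hc, charDiag_mul]
  rw [hum] at hlev
  have h1 := charDiag_eq_one_of_lev D _ _ hlev
  have hu1 : u = 1 := by
    apply Units.ext
    rw [hum, h1]; rfl
  rw [← e, hu1, one_mul]
  exact hh

end Cfsg.Agent.Lib.Helper5.ChevTits
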