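import Mathlib


set_option autoImplicit false

namespace Cfsg.Agent.Lib.Helper5.Compl

open Subgroup

theorem complemented_quotient {G : Type*} [Group G] (N : Subgroup G) [N.Normal]
    (h : ComplementedLattice (Subgroup G)) : ComplementedLattice (Subgroup (G ⧸ N)) := by
  refine ⟨fun Hb => ?_⟩
  obtain ⟨X, hX⟩ := h.exists_isCompl (Hb.comap (QuotientGroup.mk' N))
  refine ⟨X.map (QuotientGroup.mk' N), ?_⟩
  have hsurj : Function.Surjective (QuotientGroup.mk' N) := QuotientGroup.mk'_surjective N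
  rw [isCompl_iff]
  constructor
  · rw [disjoint_iff, eq_bot_iff]
    intro y hy
    obtain ⟨hy1, hy2⟩ := hy
    obtain ⟨x, hx, rfl⟩ := hy2
    have hx2 : x ∈ Hb.comap (QuotientGroup.mk' N) := hy1
    have : x ∈ (Hb.comap (QuotientGroup.mk' N)) ⊓ X := ⟨hx2, hx⟩
    rw [hX.inf_eq_bot] at this
    rw [Subgroup.mem_bot] at this
    rw [this, map_one]
    exact Subgroup.one_mem _
  · rw [codisjoint_iff]
    have h1 : (Hb.comap (QuotientGroup.mk' N)).map (QuotientGroup.mk' N) = Hb :=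
      Subgroup.map_comap_eq_self_of_surjective hsurj Hb
    rw [← h1, ← Subgroup.map_sup, hX.sup_eq_top, ← MonoidHom.range_eq_map,
      MonoidHom.range_eq_top]
    exact hsurj

theorem quaternion_not_complemented : ¬ ComplementedLattice (Subgroup (QuaternionGroup 2)) := by
  intro h
  obtain ⟨X, hX⟩ := h.exists_isCompl (Subgroup.zpowers (QuaternionGroup.a (2 : ZMod (2 * 2))))
  have key : ∀ g : QuaternionGroup 2, g ≠ 1 → g ^ 2 = QuaternionGroup.a 2 ∨ g = QuaternionGroup.a 2 := by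
    decide
  have hXbot : X = ⊥ := by
    rw [eq_bot_iff]
    intro g hg
    rw [Subgroup.mem_bot]
    by_contra hne
    have h2 : QuaternionGroup.a (2 : ZMod (2 * 2)) ∈ X := by
      rcases key g hne with h1 | h1
      · rw [← h1]; exact X.pow_mem hg 2
      · rw [← h1]; exact hg
    have h3 : QuaternionGroup.a (2 : ZMod (2 * 2)) ∈ Subgroup.zpowers (QuaternionGroup.a (2 : ZMod (2 * 2))) ⊓ X :=
      ⟨Subgroup.mem_zpowers _, h2⟩
    rw [hX.inf_eq_bot, Subgroup.mem_bot] at h3
    revert h3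
    decide
  have htop := hX.sup_eq_top
  rw [hXbot, sup_bot_eq] at htop
  have hmem : QuaternionGroup.a (1 : ZMod (2 * 2)) ∈ Subgroup.zpowers (QuaternionGroup.a (2 : ZMod (2 * 2))) := by
    rw [htop]; exact Subgroup.mem_top _
  rw [Subgroup.mem_zpowers_iff] at hmem
  obtain ⟨k, hk⟩ := hmem
  have hpow : ∀ k : ℤ, (QuaternionGroup.a (2 : ZMod (2 * 2))) ^ k = 1 ∨ (QuaternionGroup.a (2 : ZMod (2 * 2))) ^ k = QuaternionGroup.a 2 := by
    intro k
    have h2 : (QuaternionGroup.a (2 : ZMod (2 * 2))) ^ (2 : ℤ) = 1 := by decide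
    obtain ⟨m, rfl | rfl⟩ := Int.even_or_odd' k
    · left; rw [zpow_mul, h2, one_zpow]
    · right; rw [zpow_add, zpow_mul, h2, one_zpow, one_mul, zpow_one]
  rcases hpow k with h1 | h1
  · rw [h1] at hk; revert hk; decide
  · rw [h1] at hk; revert hk; decide

end Cfsg.Agent.Lib.Helper5.Compl
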