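import Mathlib

set_option autoImplicit false

open Polynomial

namespace Cfsg.Agent.Lib.Helper5.Cubic

variable (p : ℕ) [Fact p.Prime]

/-- a monic irreducible polynomial of degree `n` over `ZMod p` has a root in `GaloisField p n`. -/
theorem exists_root_of_irreducible (g : (ZMod p)[X]) (hg : Irreducible g) (n : ℕ)
    (hn : g.natDegree = n) : ∃ w : GaloisField p n, aeval w g = 0 := by
  have : Fact (Irreducible g) := ⟨hg⟩
  let pb := AdjoinRoot.powerBasis hg.ne_zero
  have hfin : Module.Finite (ZMod p) (AdjoinRoot g) := pb.finite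
  have hrank : Module.finrank (ZMod p) (AdjoinRoot g) = n := by
    rw [pb.finrank]; exact hn
  have hcard : Nat.card (AdjoinRoot g) = p ^ n := by
    rw [Module.natCard_eq_pow_finrank (K := ZMod p), Nat.card_zmod, hrank]
  let e := GaloisField.algEquivGaloisField p n hcard
  refine ⟨e (AdjoinRoot.root g), ?_⟩
  rw [← AlgEquiv.coe_toAlgHom, aeval_algHom_apply, AdjoinRoot.aeval_eq, AdjoinRoot.mk_self, map_zero]

/-- there is a cubic `X^3 - t X^2 + t` without roots in `ZMod p`. -/
theorem exists_cubic : ∃ t : ZMod p, ∀ x : ZMod p, x ^ 3 - t * x ^ 2 + t ≠ 0 := by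
  classical
  let S : Finset (ZMod p) := Finset.univ.filter (fun x => x ^ 2 ≠ 1)
  let r : ZMod p → ZMod p := fun x => x ^ 3 / (x ^ 2 - 1)
  have hS : S.card < Fintype.card (ZMod p) := by
    apply Finset.card_lt_univ_of_notMem (x := 1)
    simp [S]
  have him : (S.image r).card < Fintype.card (ZMod p) := lt_of_le_of_lt Finset.card_image_le hS
  obtain ⟨t, ht⟩ : ∃ t, t ∉ S.image r := by
    by_contra hcon
    push Not at hcon
    have : S.image r = Finset.univ := Finset.eq_univ_iff_forall.mpr hcon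
    rw [this, Finset.card_univ] at him
    exact lt_irrefl _ him
  refine ⟨t, ?_⟩
  intro x hx
  by_cases h1 : x ^ 2 = 1
  · have : x ^ 3 = x := by rw [pow_succ, h1, one_mul]
    rw [this, h1, mul_one, sub_add_cancel] at hx
    rw [hx] at h1
    simp at h1
  · apply ht
    rw [Finset.mem_image]
    refine ⟨x, Finset.mem_filter.mpr ⟨Finset.mem_univ _, h1⟩, ?_⟩
    have h2 : x ^ 2 - 1 ≠ 0 := sub_ne_zero.mpr h1
    show x ^ 3 / (x ^ 2 - 1) = t
    rw [div_eq_iff h2]
    linear_combination hx

end Cfsg.Agent.Lib.Helper5.Cubic
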