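import Mathlib
import Cfsg.Agent.Lib.Helper5.CubicA

set_option autoImplicit false

open Polynomial

namespace Cfsg.Agent.Lib.Helper5.Cubic

variable (p : ℕ) [Fact p.Prime]

theorem algebraMap_pow_p {L : Type*} [Field L] [Algebra (ZMod p) L] (c : ZMod p) :
    (algebraMap (ZMod p) L c) ^ p = algebraMap (ZMod p) L c := by
  rw [← map_pow, ZMod.pow_card]

/-- an element fixed by Frobenius lies in the prime field. -/
theorem mem_range_of_pow_p {L : Type*} [Field L] [Algebra (ZMod p) L] (x : L) (hx : x ^ p = x) :
    ∃ c : ZMod p, algebraMap (ZMod p) L c = x := by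
  classical
  by_contra hcon
  push Not at hcon
  have hp1 : 1 < p := (Fact.out : p.Prime).one_lt
  have hP0 : (X ^ p - X : L[X]) ≠ 0 := FiniteField.X_pow_card_sub_X_ne_zero L hp1
  have hPdeg : (X ^ p - X : L[X]).natDegree = p := FiniteField.X_pow_card_sub_X_natDegree_eq L hp1
  let Z : Finset L := insert x (Finset.univ.image (algebraMap (ZMod p) L))
  have hZcard : Z.card = p + 1 := by
    rw [Finset.card_insert_of_notMem, Finset.card_image_of_injective _ (algebraMap (ZMod p) L).injective,
      Finset.card_univ, ZMod.card]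
    intro hmem
    rw [Finset.mem_image] at hmem
    obtain ⟨c, _, hc⟩ := hmem
    exact hcon c hc
  have hZroots : Z.val ⊆ (X ^ p - X : L[X]).roots := by
    intro y hy
    rw [Finset.mem_val, Finset.mem_insert, Finset.mem_image] at hy
    rw [mem_roots hP0, IsRoot.def, eval_sub, eval_pow, eval_X, sub_eq_zero]
    rcases hy with rfl | ⟨c, _, rfl⟩
    · exact hx
    · exact algebraMap_pow_p p c
  have := card_le_degree_of_subset_roots hZroots
  rw [hZcard, hPdeg] at this
  omega

end Cfsg.Agent.Lib.Helper5.Cubic
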