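import Mathlib
import Cfsg.Agent.Lib.Helper5.CubicB

set_option autoImplicit false

open Polynomial

namespace Cfsg.Agent.Lib.Helper5.Cubic

variable (p : ℕ) [Fact p.Prime]

theorem norm_sub_root {L : Type*} [Field L] [Algebra (ZMod p) L] [Finite L] [CharP L p]
    (h3 : Module.finrank (ZMod p) L = 3)
    (t : ZMod p) (hroot : ∀ x : ZMod p, x ^ 3 - t * x ^ 2 + t ≠ 0)
    (w : L) (hw : w ^ 3 - algebraMap (ZMod p) L t * w ^ 2 + algebraMap (ZMod p) L t = 0)
    (c : ZMod p) :
    Algebra.norm (ZMod p) (algebraMap (ZMod p) L c - w) = c ^ 3 - t * c ^ 2 + t := by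
  set τ := algebraMap (ZMod p) L t with hτ
  have hτp : τ ^ p = τ := algebraMap_pow_p p t
  -- Frobenius preserves roots
  have frob : ∀ x : L, x ^ 3 - τ * x ^ 2 + τ = 0 → (x ^ p) ^ 3 - τ * (x ^ p) ^ 2 + τ = 0 := by
    intro x hx
    have : (x ^ 3 - τ * x ^ 2 + τ) ^ p = (x ^ p) ^ 3 - τ * (x ^ p) ^ 2 + τ := by
      rw [add_pow_char, sub_pow_char, mul_pow, hτp]
      ring
    rw [← this, hx, zero_pow (Fact.out : p.Prime).ne_zero]
  have nofix : ∀ x : L, x ^ 3 - τ * x ^ 2 + τ = 0 → x ^ p ≠ x := by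
    intro x hx hfix
    obtain ⟨d, rfl⟩ := mem_range_of_pow_p p x hfix
    apply hroot d
    apply (algebraMap (ZMod p) L).injective
    rw [map_zero, map_add, map_sub, map_mul, map_pow, map_pow]
    exact hx
  set w1 := w ^ p with hw1def
  set w2 := w1 ^ p with hw2def
  have hw1 : w1 ^ 3 - τ * w1 ^ 2 + τ = 0 := frob w hw
  have hw2 : w2 ^ 3 - τ * w2 ^ 2 + τ = 0 := frob w1 hw1
  have h01 : w1 ≠ w := nofix w hw
  have h12 : w2 ≠ w1 := nofix w1 hw1
  have hcard : Nat.card L = p ^ 3 := by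
    have : Module.Finite (ZMod p) L := Module.Finite.of_finite
    rw [Module.natCard_eq_pow_finrank (K := ZMod p), Nat.card_zmod, h3]
  have hw2p : w2 ^ p = w := by
    have := Fintype.ofFinite L
    have hpc := FiniteField.pow_card w
    rw [← Nat.card_eq_fintype_card, hcard] at hpc
    rw [hw2def, hw1def, ← pow_mul, ← pow_mul]
    rw [show p * (p * p) = p ^ 3 by ring]
    exact hpc
  have h20 : w2 ≠ w := by
    intro h
    apply h01
    rw [hw1def, ← h, hw2p, h]
  -- Vieta
  have hA : w ^ 2 + w * w1 + w1 ^ 2 - τ * (w + w1) = 0 := by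
    have : (w - w1) * (w ^ 2 + w * w1 + w1 ^ 2 - τ * (w + w1)) = 0 := by
      linear_combination hw - hw1
    exact (mul_eq_zero.mp this).resolve_left (sub_ne_zero.mpr h01.symm)
  have hB : w ^ 2 + w * w2 + w2 ^ 2 - τ * (w + w2) = 0 := by
    have : (w - w2) * (w ^ 2 + w * w2 + w2 ^ 2 - τ * (w + w2)) = 0 := by
      linear_combination hw - hw2
    exact (mul_eq_zero.mp this).resolve_left (sub_ne_zero.mpr h20.symm)
  have he1 : w + w1 + w2 - τ = 0 := by
    have : (w1 - w2) * (w + w1 + w2 - τ) = 0 := by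
      linear_combination hA - hB
    exact (mul_eq_zero.mp this).resolve_left (sub_ne_zero.mpr h12.symm)
  have he2 : w * w1 + w * w2 + w1 * w2 = 0 := by
    linear_combination (-1 : L) * hA + (w + w1) * he1
  have he3 : w * w1 * w2 + τ = 0 := by
    linear_combination hw - w ^ 2 * he1 + w * he2
  -- the norm
  set c' := algebraMap (ZMod p) L c with hc'
  have hcp : c' ^ p = c' := algebraMap_pow_p p c
  have hnorm := FiniteField.algebraMap_norm_eq_prod_pow (ZMod p) L (c' - w)
  rw [h3, Nat.card_zmod, Finset.prod_range_succ, Finset.prod_range_succ, Finset.prod_range_one,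
    pow_zero, pow_one, pow_one, pow_two, pow_mul, sub_pow_char, hcp, ← hw1def, sub_pow_char, hcp,
    ← hw2def] at hnorm
  apply (algebraMap (ZMod p) L).injective
  rw [hnorm, map_add, map_sub, map_mul, map_pow, map_pow, ← hc', ← hτ]
  linear_combination (-c' ^ 2) * he1 + c' * he2 - he3

end Cfsg.Agent.Lib.Helper5.Cubic
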