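import Mathlib
import Cfsg.Agent.Lib.Helper5.CubicC

set_option autoImplicit false

open Polynomial

namespace Cfsg.Agent.Lib.Helper5.Cubic

variable (p : ℕ) [Fact p.Prime]

theorem exists_norm_one_three :
    ∃ a : GaloisField p 3, a ≠ 1 ∧ Algebra.norm (ZMod p) a = 1 ∧
      Algebra.norm (ZMod p) (2 - a) = 1 := by
  obtain ⟨t, ht⟩ := exists_cubic p
  set g : (ZMod p)[X] := C 1 * X ^ 3 + C (-t) * X ^ 2 + C 0 * X + C t with hg
  have hgdeg : g.natDegree = 3 := natDegree_cubic one_ne_zero
  have hgirr : Irreducible g := by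
    apply irreducible_of_degree_le_three_of_not_isRoot
    · rw [hgdeg]; simp
    · intro x hx
      apply ht x
      rw [IsRoot.def, hg] at hx
      simp only [eval_add, eval_mul, eval_C, eval_pow, eval_X] at hx
      linear_combination hx
  obtain ⟨w, hw⟩ := exists_root_of_irreducible p g hgirr 3 hgdeg
  have hw' : w ^ 3 - algebraMap (ZMod p) (GaloisField p 3) t * w ^ 2 +
      algebraMap (ZMod p) (GaloisField p 3) t = 0 := by
    rw [hg] at hw
    simp only [map_add, map_mul, aeval_C, map_pow, aeval_X, map_one, map_neg, map_zero] at hw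
    linear_combination hw
  have h3 : Module.finrank (ZMod p) (GaloisField p 3) = 3 := GaloisField.finrank p (by norm_num)
  have hN := norm_sub_root p h3 t ht w hw'
  have hN1 : Algebra.norm (ZMod p) (1 - w) = 1 := by
    have := hN 1
    rw [map_one] at this
    rw [this]; ring
  have hNm : Algebra.norm (ZMod p) (-1 - w) = -1 := by
    have := hN (-1)
    rw [map_neg, map_one] at this
    rw [this]; ring
  have hNneg : Algebra.norm (ZMod p) (-1 : GaloisField p 3) = -1 := by
    have := Algebra.norm_algebraMap (S := GaloisField p 3) (-1 : ZMod p)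
    rw [map_neg, map_one, h3] at this
    rw [this]; ring
  have hN2 : Algebra.norm (ZMod p) (1 + w) = 1 := by
    have : (1 + w) = (-1) * (-1 - w) := by ring
    rw [this, map_mul, hNneg, hNm]; ring
  have ht0 : t ≠ 0 := by
    have := ht 0
    simpa using this
  have hw0 : w ≠ 0 := by
    intro h0
    rw [h0] at hw'
    simp at hw'
    exact ht0 hw'
  refine ⟨1 + w, ?_, hN2, ?_⟩
  · intro h
    apply hw0
    linear_combination h
  · rw [show (2 : GaloisField p 3) - (1 + w) = 1 - w by ring]
    exact hN1

end Cfsg.Agent.Lib.Helper5.Cubic
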