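import Mathlib

set_option autoImplicit false
set_option linter.style.haveILetI false
set_option linter.unusedSectionVars false

namespace Cfsg.Agent.Lib.Helper5.Par

section bt

variable {F : Type*} [Field F] {m : Type*} [Fintype m] [DecidableEq m] {α : Type*}
  [LinearOrder α] [Fintype α] (b : m → α)

/-- block triangular matrices with invertible diagonal blocks, in coordinates -/
noncomputable def btEquiv :
    {M : Matrix m m F // M.BlockTriangular b ∧ ∀ a, (M.toSquareBlock b a).det ≠ 0} ≃
      (Π a : α, {D : Matrix {i // b i = a} {i // b i = a} F // D.det ≠ 0}) ×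
        ({p : m × m // b p.1 < b p.2} → F) where
  toFun M := (fun a => ⟨M.1.toSquareBlock b a, M.2.2 a⟩, fun p => M.1 p.1.1 p.1.2)
  invFun T := ⟨Matrix.of (fun i j =>
      if h : b i = b j then (T.1 (b i)).1 ⟨i, rfl⟩ ⟨j, h.symm⟩
      else if h' : b i < b j then T.2 ⟨(i, j), h'⟩ else 0), by
    have key : ∀ a, (Matrix.of (fun i j =>
        if h : b i = b j then (T.1 (b i)).1 ⟨i, rfl⟩ ⟨j, h.symm⟩
        else if h' : b i < b j then T.2 ⟨(i, j), h'⟩ else 0)).toSquareBlock b a = (T.1 a).1 := by
      intro a
      ext i j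
      rcases i with ⟨i, hi⟩
      subst hi
      rw [Matrix.toSquareBlock_def]
      simp only [Matrix.of_apply]
      rw [dif_pos j.2.symm]
    refine ⟨?_, ?_⟩
    · intro i j hij
      simp only [Matrix.of_apply]
      rw [dif_neg (ne_of_gt hij), dif_neg (not_lt_of_gt hij)]
    · intro a
      rw [key a]
      exact (T.1 a).2⟩
  left_inv M := by
    apply Subtype.ext
    ext i j
    simp only [Matrix.of_apply, Matrix.toSquareBlock_def]
    by_cases h : b i = b j
    · rw [dif_pos h]
    · rw [dif_neg h]
      by_cases h' : b i < b j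
      · rw [dif_pos h']
      · rw [dif_neg h']
        have : b j < b i := lt_of_le_of_ne (not_lt.mp h') (Ne.symm h)
        exact (M.2.1 this).symm
  right_inv T := by
    refine Prod.ext ?_ ?_
    · funext a
      apply Subtype.ext
      ext i j
      rcases i with ⟨i, hi⟩
      subst hi
      simp only [Matrix.toSquareBlock_def, Matrix.of_apply]
      rw [dif_pos j.2.symm]
    · funext p
      simp only [Matrix.of_apply]
      rw [dif_neg (ne_of_lt p.2), dif_pos p.2]

theorem card_bt [Fintype F] :
    Nat.card {M : Matrix m m F // M.BlockTriangular b ∧ M.det ≠ 0} =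
      (∏ a, Nat.card {D : Matrix {i // b i = a} {i // b i = a} F // D.det ≠ 0}) *
        (Fintype.card F) ^ (Nat.card {p : m × m // b p.1 < b p.2}) := by
  classical
  have e : {M : Matrix m m F // M.BlockTriangular b ∧ M.det ≠ 0} ≃
      {M : Matrix m m F // M.BlockTriangular b ∧ ∀ a, (M.toSquareBlock b a).det ≠ 0} := by
    apply Equiv.subtypeEquivRight
    intro M
    constructor
    · rintro ⟨h1, h2⟩
      refine ⟨h1, ?_⟩
      rw [h1.det_fintype, Finset.prod_ne_zero_iff] at h2
      exact fun a => h2 a (Finset.mem_univ a)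
    · rintro ⟨h1, h2⟩
      refine ⟨h1, ?_⟩
      rw [h1.det_fintype, Finset.prod_ne_zero_iff]
      exact fun a _ => h2 a
  rw [Nat.card_congr e, Nat.card_congr (btEquiv b), Nat.card_prod, Nat.card_pi, Nat.card_fun,
    Nat.card_eq_fintype_card (α := F)]

end bt

end Cfsg.Agent.Lib.Helper5.Par
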