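import Mathlib
import Cfsg.Prelude.Def_LinearParabolics

set_option autoImplicit false
set_option linter.style.haveILetI false
set_option linter.unusedSectionVars false

namespace Cfsg.Agent.Lib.Helper5.Par

open Cfsg

section comp

variable {n : ℕ} (μ : Fin n → ℕ)

/-- prefix sums -/
def pre (a : ℕ) : ℕ := ∑ k ∈ Finset.univ.filter (fun k : Fin n => k.val < a), μ k

theorem pre_mono {a a' : ℕ} (h : a ≤ a') : pre μ a ≤ pre μ a' := by
  unfold pre
  apply Finset.sum_le_sum_of_subset
  intro k hk
  rw [Finset.mem_filter] at hk ⊢
  exact ⟨hk.1, lt_of_lt_of_le hk.2 h⟩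

theorem pre_succ (a : Fin n) : pre μ (a.val + 1) = pre μ a.val + μ a := by
  unfold pre
  have : Finset.univ.filter (fun k : Fin n => k.val < a.val + 1) =
      insert a (Finset.univ.filter (fun k : Fin n => k.val < a.val)) := by
    ext k
    simp only [Finset.mem_filter, Finset.mem_univ, true_and, Finset.mem_insert]
    constructor
    · intro h
      rcases Nat.lt_succ_iff_lt_or_eq.mp h with h | h
      · right; exact h
      · left; exact Fin.ext h
    · rintro (h | h)
      · rw [h]; omega
      · omega
  rw [this, Finset.sum_insert, add_comm]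
  simp

theorem pre_n : pre μ n = ∑ k, μ k := by
  unfold pre
  congr 1
  ext k
  simp

theorem compLabel_eq (i : Fin n) :
    compLabel μ i = (Finset.univ.filter fun j : Fin n => pre μ (j.val + 1) ≤ i.val).card := by
  unfold compLabel
  congr 1
  ext j
  simp only [Finset.mem_filter, Finset.mem_univ, true_and]
  have : (∑ k ∈ Finset.univ.filter (fun k : Fin n => k ≤ j), μ k) = pre μ (j.val + 1) := by
    unfold pre
    congr 1
    ext k
    simp only [Finset.mem_filter, Finset.mem_univ, true_and]
    rw [Fin.le_def]
    omega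
  rw [this]

theorem le_compLabel_iff (i : Fin n) (a : ℕ) :
    a ≤ compLabel μ i ↔ a ≤ n ∧ pre μ a ≤ i.val := by
  rw [compLabel_eq]
  constructor
  · intro h
    have hn : a ≤ n := by
      refine h.trans ?_
      calc (Finset.univ.filter fun j : Fin n => pre μ (j.val + 1) ≤ i.val).card
          ≤ (Finset.univ : Finset (Fin n)).card := Finset.card_le_card (Finset.filter_subset _ _)
        _ = n := by simp
    refine ⟨hn, ?_⟩
    by_contra hlt
    rw [not_le] at hlt
    rcases Nat.eq_zero_or_pos a with h0 | h0
    · subst h0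
      unfold pre at hlt
      simp at hlt
    have hsub : (Finset.univ.filter fun j : Fin n => pre μ (j.val + 1) ≤ i.val) ⊆
        Finset.univ.filter (fun j : Fin n => j.val < a - 1) := by
      intro j hj
      rw [Finset.mem_filter] at hj ⊢
      refine ⟨hj.1, ?_⟩
      by_contra hge
      have : a ≤ j.val + 1 := by omega
      have := pre_mono μ this
      omega
    have hcard : (Finset.univ.filter (fun j : Fin n => j.val < a - 1)).card = a - 1 := by
      rw [Fin.card_filter_val_lt]
      omega
    have := Finset.card_le_card hsub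
    omega
  · rintro ⟨hn, hle⟩
    have hsub : Finset.univ.filter (fun j : Fin n => j.val < a) ⊆
        (Finset.univ.filter fun j : Fin n => pre μ (j.val + 1) ≤ i.val) := by
      intro j hj
      rw [Finset.mem_filter] at hj ⊢
      refine ⟨hj.1, ?_⟩
      have : j.val + 1 ≤ a := hj.2
      exact (pre_mono μ this).trans hle
    have hcard : (Finset.univ.filter (fun j : Fin n => j.val < a)).card = a := by
      rw [Fin.card_filter_val_lt]
      omega
    have := Finset.card_le_card hsub
    omega

theorem compLabel_lt (hμ : ∑ k, μ k = n) (i : Fin n) : compLabel μ i < n := by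
  by_contra h
  rw [not_lt] at h
  have := ((le_compLabel_iff μ i n).mp h).2
  rw [pre_n, hμ] at this
  exact absurd i.2 (not_lt.mpr this)

theorem compLabel_eq_iff (i : Fin n) (a : Fin n) :
    compLabel μ i = a.val ↔ pre μ a.val ≤ i.val ∧ i.val < pre μ (a.val + 1) := by
  have h1 := le_compLabel_iff μ i a.val
  have h2 := le_compLabel_iff μ i (a.val + 1)
  have ha := a.2
  constructor
  · intro h
    refine ⟨(h1.mp h.ge).2, ?_⟩
    by_contra hlt
    rw [not_lt] at hlt
    have := h2.mpr ⟨by omega, hlt⟩
    omega
  · rintro ⟨h3, h4⟩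
    have h5 := h1.mpr ⟨by omega, h3⟩
    have h6 : ¬ (a.val + 1 ≤ compLabel μ i) := by
      intro h
      have := (h2.mp h).2
      omega
    omega

theorem card_fiber (hμ : ∑ k, μ k = n) (a : Fin n) :
    Fintype.card {i : Fin n // compLabel μ i = a.val} = μ a := by
  rw [Fintype.card_subtype]
  have hle : pre μ (a.val + 1) ≤ n := by
    have := pre_mono μ (show a.val + 1 ≤ n from a.2)
    rwa [pre_n, hμ] at this
  have : (Finset.univ.filter (fun i : Fin n => compLabel μ i = a.val)).map Fin.valEmbedding =
      Finset.Ico (pre μ a.val) (pre μ (a.val + 1)) := by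
    ext x
    simp only [Finset.mem_map, Finset.mem_filter, Finset.mem_univ, true_and, Fin.valEmbedding_apply,
      Finset.mem_Ico]
    constructor
    · rintro ⟨i, hi, rfl⟩
      exact (compLabel_eq_iff μ i a).mp hi
    · rintro ⟨h1, h2⟩
      exact ⟨⟨x, by omega⟩, (compLabel_eq_iff μ ⟨x, by omega⟩ a).mpr ⟨h1, h2⟩, rfl⟩
  rw [← Finset.card_map Fin.valEmbedding, this, Nat.card_Ico, pre_succ]
  omega

end comp

end Cfsg.Agent.Lib.Helper5.Par
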