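import Mathlib

set_option autoImplicit false
set_option linter.style.haveILetI false
set_option linter.unusedSectionVars false

namespace Cfsg.Agent.Lib.Helper5.Par

section glcard

variable {F : Type*} [Field F] [Fintype F]

/-- the order of `GL_k(q)` -/
def glOrd (q k : ℕ) : ℕ := ∏ i : Fin k, (q ^ k - q ^ (i : ℕ))

theorem card_det_ne_zero (ι : Type*) [Fintype ι] [DecidableEq ι] :
    Nat.card {D : Matrix ι ι F // D.det ≠ 0} = glOrd (Fintype.card F) (Fintype.card ι) := by
  classical
  have e1 : {D : Matrix ι ι F // D.det ≠ 0} ≃ GL ι F :=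
    { toFun := fun D => Matrix.GeneralLinearGroup.mkOfDetNeZero D.1 D.2
      invFun := fun g => ⟨g.1, Matrix.det_ne_zero_of_right_inverse g.mul_inv⟩
      left_inv := fun D => rfl
      right_inv := fun g => by
        apply Units.ext
        rfl }
  have e2 : GL ι F ≃ GL (Fin (Fintype.card ι)) F :=
    (Units.mapEquiv (Matrix.reindexRingEquiv F (Fintype.equivFin ι)).toMulEquiv).toEquiv
  rw [Nat.card_congr e1, Nat.card_congr e2, Matrix.card_GL_field]
  rfl

end glcard

end Cfsg.Agent.Lib.Helper5.Par
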