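import Mathlib
import Cfsg.Agent.Lib.Helper5.ParB

set_option autoImplicit false
set_option linter.style.haveILetI false
set_option linter.unusedSectionVars false

namespace Cfsg.Agent.Lib.Helper5.Par

/-- the `q`-factorial -/
def qfact (q k : ℕ) : ℕ := ∏ j ∈ Finset.range k, ∑ l ∈ Finset.range (j + 1), q ^ l

theorem geom_identity (q m : ℕ) (hq : 1 ≤ q) :
    (q - 1) * (∑ l ∈ Finset.range m, q ^ l) + 1 = q ^ m := by
  induction m with
  | zero => simp
  | succ m ih =>
    rw [Finset.sum_range_succ, mul_add, pow_succ]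
    have : (q - 1) * q ^ m + q ^ m = q ^ m * q := by
      obtain ⟨t, rfl⟩ : ∃ t, q = t + 1 := ⟨q - 1, by omega⟩
      rw [Nat.add_sub_cancel]
      ring
    omega

theorem two_mul_choose_two_add (k : ℕ) : 2 * k.choose 2 + k = k ^ 2 := by
  induction k with
  | zero => simp
  | succ k ih =>
    rw [Nat.choose_succ_succ' k 1, Nat.choose_one_right]
    nlinarith [ih]

theorem glOrd_eq (q k : ℕ) (hq : 1 ≤ q) :
    glOrd q k = q ^ (k.choose 2) * (q - 1) ^ k * qfact q k := by
  unfold glOrd qfact
  rw [Fin.prod_univ_eq_prod_range (fun i => q ^ k - q ^ i) k]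
  have h1 : ∀ i ∈ Finset.range k, q ^ k - q ^ i =
      q ^ i * ((q - 1) * ∑ l ∈ Finset.range ((k - 1 - i) + 1), q ^ l) := by
    intro i hi
    rw [Finset.mem_range] at hi
    have h2 := geom_identity q (k - 1 - i + 1) hq
    have h3 : k = i + (k - 1 - i + 1) := by omega
    conv_lhs => rw [h3, pow_add, ← h2]
    rw [mul_add, mul_one, Nat.add_sub_cancel]
  rw [Finset.prod_congr rfl h1, Finset.prod_mul_distrib, Finset.prod_mul_distrib,
    Finset.prod_const, Finset.card_range, Finset.prod_pow_eq_pow_sum,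
    Finset.prod_range_reflect (fun j => ∑ l ∈ Finset.range (j + 1), q ^ l) k]
  rw [Finset.sum_range_id, Nat.choose_two_right, mul_assoc]

end Cfsg.Agent.Lib.Helper5.Par
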