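import Mathlib

set_option autoImplicit false
set_option linter.style.haveILetI false
set_option linter.unusedSectionVars false

namespace Cfsg.Agent.Lib.Helper5.Par

theorem pair_count {m α : Type*} [Fintype m] [DecidableEq m] [Fintype α] [LinearOrder α]
    (b : m → α) :
    2 * Nat.card {p : m × m // b p.1 < b p.2} + ∑ a, (Fintype.card {i // b i = a}) ^ 2 =
      (Fintype.card m) ^ 2 := by
  classical
  rw [Nat.card_eq_fintype_card, Fintype.card_subtype]
  have hall : (Finset.univ : Finset (m × m)).card = (Fintype.card m) ^ 2 := by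
    rw [Finset.card_univ, Fintype.card_prod, sq]
  have h1 := Finset.card_filter_add_card_filter_not (s := (Finset.univ : Finset (m × m)))
    (fun p => b p.1 < b p.2)
  have h2 := Finset.card_filter_add_card_filter_not
    (s := (Finset.univ : Finset (m × m)).filter (fun p => ¬ b p.1 < b p.2))
    (fun p => b p.2 < b p.1)
  rw [Finset.filter_filter, Finset.filter_filter] at h2
  have hgt : ((Finset.univ : Finset (m × m)).filter
      (fun p => ¬ b p.1 < b p.2 ∧ b p.2 < b p.1)).card =
      ((Finset.univ : Finset (m × m)).filter (fun p => b p.1 < b p.2)).card := by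
    apply Finset.card_bij (fun p _ => (p.2, p.1))
    · intro p hp
      rw [Finset.mem_filter] at hp ⊢
      exact ⟨Finset.mem_univ _, hp.2.2⟩
    · intro p _ p' _ h
      rw [Prod.mk.injEq] at h
      exact Prod.ext h.2 h.1
    · intro p hp
      rw [Finset.mem_filter] at hp
      refine ⟨(p.2, p.1), ?_, rfl⟩
      rw [Finset.mem_filter]
      exact ⟨Finset.mem_univ _, not_lt_of_gt hp.2, hp.2⟩
  have heq : ((Finset.univ : Finset (m × m)).filter
      (fun p => ¬ b p.1 < b p.2 ∧ ¬ b p.2 < b p.1)).card =
      ∑ a, (Fintype.card {i // b i = a}) ^ 2 := by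
    rw [Finset.card_eq_sum_card_fiberwise (f := fun p : m × m => b p.1) (t := Finset.univ)
      (fun p _ => Finset.mem_univ _)]
    apply Finset.sum_congr rfl
    intro a _
    have : ((Finset.univ : Finset (m × m)).filter
        (fun p => ¬ b p.1 < b p.2 ∧ ¬ b p.2 < b p.1)).filter (fun p => b p.1 = a) =
        (Finset.univ.filter (fun i => b i = a)) ×ˢ (Finset.univ.filter (fun i => b i = a)) := by
      ext p
      simp only [Finset.mem_filter, Finset.mem_univ, true_and, Finset.mem_product]
      constructor
      · rintro ⟨⟨h3, h4⟩, h5⟩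
        refine ⟨h5, ?_⟩
        rw [← h5]
        exact le_antisymm (not_lt.mp h3) (not_lt.mp h4)
      · rintro ⟨h3, h4⟩
        rw [h3, h4]
        exact ⟨⟨lt_irrefl a, lt_irrefl a⟩, rfl⟩
    rw [this, Finset.card_product, Fintype.card_subtype, sq]
  rw [hgt] at h2
  rw [heq] at h2
  omega

end Cfsg.Agent.Lib.Helper5.Par
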