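import Mathlib
import Cfsg.Agent.Lib.Helper5.ParA
import Cfsg.Agent.Lib.Helper5.ParC
import Cfsg.Agent.Lib.Helper5.ParD
import Cfsg.Agent.Lib.Helper5.ParE

set_option autoImplicit false
set_option linter.style.haveILetI false
set_option linter.unusedSectionVars false

namespace Cfsg.Agent.Lib.Helper5.Par

open Cfsg

section main

variable {F : Type*} [Field F] [Fintype F]

theorem card_parabolic {n : ℕ} (μ : Fin n → ℕ) (hμ : ∑ i, μ i = n) :
    Nat.card (parabolicGL n F μ) =
      Fintype.card F ^ (n.choose 2) * (Fintype.card F - 1) ^ n *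
        ∏ i : Fin n, qfact (Fintype.card F) (μ i) := by
  classical
  set q := Fintype.card F with hq
  have hq1 : 1 ≤ q := Fintype.card_pos
  let b : Fin n → Fin n := fun i => ⟨compLabel μ i, compLabel_lt μ hμ i⟩
  have hbt : ∀ M : Matrix (Fin n) (Fin n) F,
      M.BlockTriangular b ↔ M.BlockTriangular (compLabel μ) := by
    intro M
    constructor
    · intro h i j hij
      exact h (show b j < b i from hij)
    · intro h i j hij
      exact h (show compLabel μ j < compLabel μ i from hij)
  have e : ↥(parabolicGL n F μ) ≃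
      {M : Matrix (Fin n) (Fin n) F // M.BlockTriangular b ∧ M.det ≠ 0} :=
    { toFun := fun g => ⟨g.1.1, (hbt _).mpr g.2, Matrix.det_ne_zero_of_right_inverse g.1.mul_inv⟩
      invFun := fun M => ⟨Matrix.GeneralLinearGroup.mkOfDetNeZero M.1 M.2.2, (hbt _).mp M.2.1⟩
      left_inv := fun g => by
        apply Subtype.ext
        apply Units.ext
        rfl
      right_inv := fun M => rfl }
  rw [Nat.card_congr e, card_bt b]
  have hfib : ∀ a : Fin n, Fintype.card {i : Fin n // b i = a} = μ a := by
    intro a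
    rw [← card_fiber μ hμ a, ← Nat.card_eq_fintype_card, ← Nat.card_eq_fintype_card]
    exact Nat.card_congr (Equiv.subtypeEquivRight (fun i => Fin.ext_iff))
  have hblocks : ∀ a : Fin n,
      Nat.card {D : Matrix {i // b i = a} {i // b i = a} F // D.det ≠ 0} =
        q ^ ((μ a).choose 2) * (q - 1) ^ (μ a) * qfact q (μ a) := by
    intro a
    rw [card_det_ne_zero, hfib a, glOrd_eq q (μ a) hq1]
  rw [Finset.prod_congr rfl (fun a _ => hblocks a), Finset.prod_mul_distrib,
    Finset.prod_mul_distrib, Finset.prod_pow_eq_pow_sum, Finset.prod_pow_eq_pow_sum, hμ]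
  have hpairs := pair_count b
  rw [Fintype.card_fin, Finset.sum_congr rfl (fun a _ => by rw [hfib a])] at hpairs
  have hsum : (∑ a : Fin n, (μ a).choose 2) + Nat.card {p : Fin n × Fin n // b p.1 < b p.2} =
      n.choose 2 := by
    have h1 : ∑ a : Fin n, (2 * (μ a).choose 2 + μ a) = ∑ a : Fin n, (μ a) ^ 2 :=
      Finset.sum_congr rfl (fun a _ => two_mul_choose_two_add (μ a))
    rw [Finset.sum_add_distrib, ← Finset.mul_sum, hμ] at h1
    have h2 := two_mul_choose_two_add n
    omega
  rw [← hsum, pow_add]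
  ring

theorem parabolic_index {q : ℕ} (hq : Fintype.card F = q) {n : ℕ} (μ : Fin n → ℕ)
    (hμ : ∑ i, μ i = n) :
    Nat.card (GL (Fin n) F ⧸ parabolicGL n F μ) * ∏ i : Fin n, qfact q (μ i) = qfact q n := by
  subst hq
  have hq2 : 2 ≤ Fintype.card F := Fintype.one_lt_card
  have h1 := Subgroup.card_eq_card_quotient_mul_card_subgroup (parabolicGL n F μ)
  rw [card_parabolic μ hμ, Matrix.card_GL_field] at h1
  have h2 := glOrd_eq (Fintype.card F) n (by omega)
  unfold glOrd at h2
  rw [h2] at h1
  have hK : 0 < Fintype.card F ^ (n.choose 2) * (Fintype.card F - 1) ^ n := by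
    apply Nat.mul_pos
    · exact Nat.pow_pos (by omega)
    · exact Nat.pow_pos (by omega)
  apply Nat.eq_of_mul_eq_mul_left hK
  rw [h1]
  ring

end main

end Cfsg.Agent.Lib.Helper5.Par
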