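import Mathlib
import Cfsg.Agent.Lib.Helper5.ParF

set_option autoImplicit false
set_option linter.style.haveILetI false
set_option linter.unusedSectionVars false

namespace Cfsg.Agent.Lib.Helper5.Par

open Polynomial

/-- the `q`-integer -/
def qi (q k : ℕ) : ℕ := ∑ l ∈ Finset.range k, q ^ l

/-- the `q`-falling factorial -/
def ff (q lam k : ℕ) : ℕ := ∏ t ∈ Finset.range k, qi q (lam - t)

theorem qfact_eq (q k : ℕ) : qfact q k = ∏ j ∈ Finset.range k, qi q (j + 1) := rfl

theorem ff_eq_zero (q lam k : ℕ) (h : lam < k) : ff q lam k = 0 := by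
  unfold ff
  apply Finset.prod_eq_zero (Finset.mem_range.mpr h)
  rw [Nat.sub_self]
  rfl

theorem qfact_split (q lam k : ℕ) (h : k ≤ lam) :
    qfact q lam = qfact q (lam - k) * ff q lam k := by
  rw [qfact_eq, qfact_eq]
  unfold ff
  conv_lhs => rw [show lam = (lam - k) + k by omega, Finset.prod_range_add]
  congr 1
  rw [← Finset.prod_range_reflect]
  apply Finset.prod_congr rfl
  intro x hx
  rw [Finset.mem_range] at hx
  congr 1
  omega

theorem qi_split (q lam t : ℕ) (h : t ≤ lam) : qi q lam = qi q t + q ^ t * qi q (lam - t) := by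
  unfold qi
  conv_lhs => rw [show lam = t + (lam - t) by omega, Finset.sum_range_add]
  congr 1
  rw [Finset.mul_sum]
  apply Finset.sum_congr rfl
  intro x _
  rw [pow_add]

theorem sum_range_choose_two (n : ℕ) : ∑ j ∈ Finset.range n, j.choose 2 = n.choose 3 := by
  induction n with
  | zero => simp
  | succ n ih => rw [Finset.sum_range_succ, ih, Nat.choose_succ_succ' n 2, add_comm]

theorem choose_three (n : ℕ) : n * (n - 1) * (n - 2) / 6 = n.choose 3 := by
  rw [Nat.choose_eq_descFactorial_div_factorial]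
  congr 1
  rcases n with _ | _ | _ | n
  · simp
  · simp
  · simp
  · simp only [Nat.descFactorial_succ, Nat.descFactorial_zero]
    have h1 : n + 1 + 1 + 1 - 1 = n + 2 := by omega
    have h2 : n + 1 + 1 + 1 - 2 = n + 1 := by omega
    rw [h1, h2]
    simp only [Nat.sub_zero]
    ring_nf

theorem prod_sub_eq (q lam j : ℕ) :
    ∏ t ∈ Finset.range j, (((qi q lam : ℕ) : ℂ) - ((qi q t : ℕ) : ℂ)) =
      (q : ℂ) ^ (j.choose 2) * ((ff q lam j : ℕ) : ℂ) := by
  rcases Nat.lt_or_ge lam j with h | h
  · rw [ff_eq_zero q lam j h, Nat.cast_zero, mul_zero]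
    apply Finset.prod_eq_zero (Finset.mem_range.mpr h)
    rw [sub_self]
  · unfold ff
    rw [Nat.cast_prod]
    have h1 : ∀ t ∈ Finset.range j, (((qi q lam : ℕ) : ℂ) - ((qi q t : ℕ) : ℂ)) =
        (q : ℂ) ^ t * ((qi q (lam - t) : ℕ) : ℂ) := by
      intro t ht
      rw [Finset.mem_range] at ht
      rw [qi_split q lam t (by omega)]
      push_cast
      ring
    rw [Finset.prod_congr rfl h1, Finset.prod_mul_distrib, Finset.prod_pow_eq_pow_sum,
      Finset.sum_range_id, Nat.choose_two_right]

end Cfsg.Agent.Lib.Helper5.Par
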