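import Mathlib
import Cfsg.Agent.Lib.Helper5.DegA

set_option autoImplicit false
set_option linter.style.haveILetI false
set_option linter.unusedSectionVars false

namespace Cfsg.Agent.Lib.Helper5.Par

open Polynomial Cfsg

theorem det_ff (q n : ℕ) (lam : Fin n → ℕ) :
    (q : ℂ) ^ (n.choose 3) *
        (Matrix.of (fun i j : Fin n => ((ff q (lam i) j.val : ℕ) : ℂ))).det =
      ∏ i : Fin n, ∏ j ∈ Finset.Ioi i,
        (((qi q (lam j) : ℕ) : ℂ) - ((qi q (lam i) : ℕ) : ℂ)) := by
  let x : Fin n → ℂ := fun i => ((qi q (lam i) : ℕ) : ℂ)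
  let p : Fin n → ℂ[X] := fun j => ∏ t ∈ Finset.range j.val, (X - C ((qi q t : ℕ) : ℂ))
  have hdeg : ∀ j, (p j).natDegree = j := by
    intro j
    show (∏ t ∈ Finset.range j.val, (X - C ((qi q t : ℕ) : ℂ))).natDegree = j.val
    rw [natDegree_prod_of_monic _ _ (fun t _ => monic_X_sub_C _),
      Finset.sum_congr rfl (fun t _ => natDegree_X_sub_C _), Finset.sum_const, Finset.card_range,
      smul_eq_mul, mul_one]
  have hmon : ∀ j, (p j).Monic := fun j => monic_prod_of_monic _ _ (fun t _ => monic_X_sub_C _)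
  have h1 := Matrix.det_eval_matrixOfPolynomials_eq_det_vandermonde x p hdeg hmon
  rw [Matrix.det_vandermonde] at h1
  show _ = ∏ i : Fin n, ∏ j ∈ Finset.Ioi i, (x j - x i)
  rw [h1]
  have h2 : (Matrix.of fun i j => eval (x i) (p j)) =
      Matrix.of (fun i j : Fin n => (q : ℂ) ^ (j.val.choose 2) *
        (Matrix.of (fun i j : Fin n => ((ff q (lam i) j.val : ℕ) : ℂ))) i j) := by
    ext i j
    simp only [Matrix.of_apply]
    show eval (x i) (∏ t ∈ Finset.range j.val, (X - C ((qi q t : ℕ) : ℂ))) = _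
    rw [eval_prod]
    simp only [eval_sub, eval_X, eval_C]
    exact prod_sub_eq q (lam i) j.val
  rw [h2, Matrix.det_mul_row]
  congr 1
  rw [Fin.prod_univ_eq_prod_range (fun j => (q : ℂ) ^ (j.choose 2)) n,
    Finset.prod_pow_eq_pow_sum, sum_range_choose_two]

end Cfsg.Agent.Lib.Helper5.Par
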