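import Mathlib
import Cfsg.Agent.Lib.Helper5.DegB

set_option autoImplicit false
set_option linter.style.haveILetI false
set_option linter.unusedSectionVars false

namespace Cfsg.Agent.Lib.Helper5.Par

open Polynomial Cfsg

theorem fixedPointCharacter_one {G : Type*} [Group G] (H : Subgroup G) :
    fixedPointCharacter H 1 = (Nat.card (G ⧸ H) : ℂ) := by
  unfold fixedPointCharacter
  congr 1
  apply Nat.card_congr
  exact Equiv.subtypeUnivEquiv (fun x => by rw [MulAction.mem_fixedBy, one_smul])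

section main

variable {F : Type*} [Field F] [Fintype F]

theorem term_eq {q : ℕ} (hq : Fintype.card F = q) {n : ℕ} (ν : Fin n → ℕ) (hsum : ∑ i, ν i = n)
    (κ : Equiv.Perm (Fin n)) :
    (if ∀ i : Fin n, (κ i).val ≤ ν i + i.val then
      ((Equiv.Perm.sign κ : ℤ) : ℂ) *
        fixedPointCharacter (parabolicGL n F fun i => ν i + i.val - (κ i).val) 1 else 0) *
      ∏ i : Fin n, ((qfact q (ν i + i.val) : ℕ) : ℂ) =
    ((Equiv.Perm.sign κ : ℤ) : ℂ) * (((qfact q n : ℕ) : ℂ) *
      ∏ i : Fin n, ((ff q (ν i + i.val) (κ i).val : ℕ) : ℂ)) := by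
  split_ifs with hadm
  · rw [fixedPointCharacter_one]
    have hμ : ∑ i : Fin n, (ν i + i.val - (κ i).val) = n := by
      have h1 : ∑ i : Fin n, (ν i + i.val - (κ i).val) =
          ∑ i : Fin n, (ν i + i.val) - ∑ i : Fin n, (κ i).val :=
        Finset.sum_tsub_distrib _ (fun i _ => hadm i)
      have h2 : ∑ i : Fin n, (κ i).val = ∑ i : Fin n, i.val :=
        Equiv.sum_comp κ (fun i => i.val)
      rw [h1, h2, Finset.sum_add_distrib, hsum, Nat.add_sub_cancel]
    have hidx := parabolic_index hq (fun i => ν i + i.val - (κ i).val) hμ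
    have hsplit : ∀ i : Fin n, qfact q (ν i + i.val) =
        qfact q (ν i + i.val - (κ i).val) * ff q (ν i + i.val) (κ i).val :=
      fun i => qfact_split q _ _ (hadm i)
    have h3 : ∏ i : Fin n, ((qfact q (ν i + i.val) : ℕ) : ℂ) =
        ((∏ i : Fin n, qfact q (ν i + i.val - (κ i).val) : ℕ) : ℂ) *
          ∏ i : Fin n, ((ff q (ν i + i.val) (κ i).val : ℕ) : ℂ) := by
      rw [Nat.cast_prod, ← Finset.prod_mul_distrib]
      apply Finset.prod_congr rfl
      intro i _
      rw [hsplit i, Nat.cast_mul]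
    rw [h3, ← hidx, Nat.cast_mul]
    ring
  · rw [zero_mul]
    rw [not_forall] at hadm
    obtain ⟨i, hi⟩ := hadm
    rw [not_le] at hi
    have : ∏ i : Fin n, ((ff q (ν i + i.val) (κ i).val : ℕ) : ℂ) = 0 := by
      apply Finset.prod_eq_zero (Finset.mem_univ i)
      rw [ff_eq_zero q _ _ hi, Nat.cast_zero]
    rw [this, mul_zero, mul_zero]

theorem degree_formula {q : ℕ} (hq : Fintype.card F = q) {n : ℕ} (ν : Fin n → ℕ)
    (hsum : ∑ i, ν i = n) :
    unipotentCharacterGL n F ν 1 * (q : ℂ) ^ (n * (n - 1) * (n - 2) / 6) *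
        ∏ i : Fin n, ((qfact q (ν i + i.val) : ℕ) : ℂ) =
      ((qfact q n : ℕ) : ℂ) * ∏ i : Fin n, ∏ j ∈ Finset.Ioi i,
        (((qi q (ν j + j.val) : ℕ) : ℂ) - ((qi q (ν i + i.val) : ℕ) : ℂ)) := by
  rw [← det_ff q n (fun i => ν i + i.val), choose_three]
  unfold unipotentCharacterGL
  rw [mul_right_comm, Finset.sum_mul, Finset.sum_congr rfl (fun κ _ => term_eq hq ν hsum κ)]
  rw [← Matrix.det_transpose, Matrix.det_apply']
  rw [Finset.sum_mul, Finset.mul_sum, Finset.mul_sum]
  apply Finset.sum_congr rfl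
  intro κ _
  simp only [Matrix.transpose_apply, Matrix.of_apply]
  ring

end main

end Cfsg.Agent.Lib.Helper5.Par
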