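import Cfsg.Agent.Lib.Helper5.SchurTriv
import Mathlib

set_option autoImplicit false
open scoped commutatorElement

/-! Central extensions of dihedral groups. -/

namespace Cfsg.Agent.Lib.Helper5

open DihedralGroup

theorem dihedral_closure (n : ℕ) :
    Subgroup.closure ({r 1, sr 0} : Set (DihedralGroup n)) = ⊤ := by
  rw [eq_top_iff]
  intro g _
  have hr : ∀ i : ZMod n, r i ∈ Subgroup.closure ({r 1, sr 0} : Set (DihedralGroup n)) := by
    intro i
    have : r i = (r 1 : DihedralGroup n) ^ (i.cast : ℤ) := by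
      rw [r_one_zpow, ZMod.intCast_cast, ZMod.cast_id', id]
    rw [this]
    exact Subgroup.zpow_mem _ (Subgroup.subset_closure (by simp)) _
  cases g with
  | r i => exact hr i
  | sr i =>
    have : sr i = sr 0 * r i := by rw [sr_mul_r, zero_add]
    rw [this]
    exact Subgroup.mul_mem _ (Subgroup.subset_closure (by simp)) (hr i)

/-- lifts of the standard generators of a dihedral group to a central extension. -/
theorem dihedral_invData {n : ℕ} {Γ : Type*} [Group Γ] (σ : Γ →* DihedralGroup n)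
    (hsurj : Function.Surjective σ) (hcen : σ.ker ≤ Subgroup.center Γ) :
    ∃ x s : Γ, σ x = r 1 ∧ σ s = sr 0 ∧ InvData σ.ker x s ∧ s * x ^ n * s⁻¹ = x ^ n := by
  obtain ⟨x, hx⟩ := hsurj (r 1)
  obtain ⟨s, hs⟩ := hsurj (sr 0)
  refine ⟨x, s, hx, hs, ⟨hcen, ?_, ?_⟩, ?_⟩
  · apply closure_union_ker_eq_top
    have : σ '' ({x, s} : Set Γ) = {r 1, sr 0} := by
      rw [Set.image_pair, hx, hs]
    rw [this, dihedral_closure]
  · rw [MonoidHom.mem_ker]
    simp only [map_mul, map_inv, hx, hs, inv_sr, sr_mul_r, sr_mul_sr, r_mul_r]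
    simp
  · have hxn : x ^ n ∈ σ.ker := by
      rw [MonoidHom.mem_ker, map_pow, hx, r_one_pow_n]
    rw [Subgroup.mem_center_iff.1 (hcen hxn) s, mul_inv_cancel_right]

end Cfsg.Agent.Lib.Helper5
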