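import Mathlib
import Cfsg.Agent.Lib.Helper5.ESB

set_option autoImplicit false
set_option linter.unusedSectionVars false
set_option linter.unusedVariables false

namespace Cfsg.Agent.Lib.Helper5.ES

open Subgroup

variable {G : Type*} [Group G] {Q : Subgroup G} {z : G}

/-- double centralizer property: `C_Q(C_Q(U)) = U` for `z ∈ U ≤ Q`. -/
theorem ESData.double_centralizer_subgroup [Finite G] (h : ESData Q z) (U : Subgroup G)
    (hU : U ≤ Q) (hz : z ∈ U) :
    Q ⊓ centralizer ((Q ⊓ centralizer (U : Set G) : Subgroup G) : Set G) = U := by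
  have hzW : z ∈ Q ⊓ centralizer (U : Set G) := by
    refine mem_inf.mpr ⟨h.zQ, ?_⟩
    rw [mem_centralizer_iff]
    intro u hu
    exact (h.zc u (hU hu)).symm
  have c1 := h.card_centralizer_mul U hU hz
  have c2 := h.card_centralizer_mul (Q ⊓ centralizer (U : Set G)) inf_le_left hzW
  have hle : U ≤ Q ⊓ centralizer ((Q ⊓ centralizer (U : Set G) : Subgroup G) : Set G) := by
    intro u hu
    refine mem_inf.mpr ⟨hU hu, ?_⟩
    rw [mem_centralizer_iff]
    intro w hw
    have := mem_centralizer_iff.mp (mem_inf.mp hw).2 u hu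
    exact this.symm
  have hpos : 0 < Nat.card (Q ⊓ centralizer (U : Set G) : Subgroup G) := Nat.card_pos
  have hcard : Nat.card (Q ⊓ centralizer ((Q ⊓ centralizer (U : Set G) : Subgroup G) : Set G)
      : Subgroup G) = Nat.card U := by
    have : Nat.card (Q ⊓ centralizer ((Q ⊓ centralizer (U : Set G) : Subgroup G) : Set G)
        : Subgroup G) * Nat.card (Q ⊓ centralizer (U : Set G) : Subgroup G)
        = Nat.card U * Nat.card (Q ⊓ centralizer (U : Set G) : Subgroup G) := by
      rw [c2, ← c1, mul_comm]
    exact Nat.eq_of_mul_eq_mul_right hpos this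
  exact (Subgroup.eq_of_le_of_card_ge hle hcard.le).symm

end Cfsg.Agent.Lib.Helper5.ES
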