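import Mathlib
import Cfsg.Prelude.Def_Classical

namespace Cfsg.Agent.Lib.Helper5.F4

open Matrix

variable {F : Type*} [Field F] [CharP F 2] {n : ℕ}

/-- the Hermitian form in terms of the Frobenius map -/
theorem hermForm_eq (u v : Fin n → F) :
    Cfsg.hermForm n F 2 u v = u ⬝ᵥ (frobenius F 2 ∘ v) := by
  simp [Cfsg.hermForm, dotProduct, frobenius_def]

theorem herm_mulVec (A : Matrix (Fin n) (Fin n) F) (u v : Fin n → F) :
    Cfsg.hermForm n F 2 (A *ᵥ u) (A *ᵥ v) =
      u ⬝ᵥ ((Aᵀ * A.map (frobenius F 2)) *ᵥ (frobenius F 2 ∘ v)) := by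
  rw [hermForm_eq]
  have h1 : frobenius F 2 ∘ (A *ᵥ v) = A.map (frobenius F 2) *ᵥ (frobenius F 2 ∘ v) := by
    ext i
    exact RingHom.map_mulVec (frobenius F 2) A v i
  rw [h1, ← Matrix.mulVec_mulVec, ← Matrix.vecMul_transpose, ← Matrix.dotProduct_mulVec]

/-- matrix criterion for membership in `SU_n(2)` (characteristic two) -/
theorem mem_SU_iff (A : Matrix.SpecialLinearGroup (Fin n) F) :
    A ∈ Cfsg.SU n F 2 ↔ (A.1)ᵀ * (A.1).map (frobenius F 2) = 1 := by
  have hcoe : Cfsg.slToMat n F A = A.1 := rfl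
  constructor
  · intro h
    ext j k
    have := h (Pi.single j 1) (Pi.single k 1)
    rw [hcoe, herm_mulVec] at this
    have hfrob : frobenius F 2 ∘ (Pi.single k (1 : F)) = Pi.single k 1 := by
      ext i
      by_cases hik : i = k
      · subst hik; simp
      · simp [Pi.single_eq_of_ne hik]
    rw [hfrob, Matrix.mulVec_single_one, single_one_dotProduct] at this
    rw [show ((A.1)ᵀ * (A.1).map (frobenius F 2)) j k =
      ((A.1)ᵀ * (A.1).map (frobenius F 2)).col k j from rfl, this]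
    rw [hermForm_eq, hfrob, single_one_dotProduct, Matrix.one_apply]
    by_cases hjk : j = k
    · subst hjk; simp
    · simp [hjk, Pi.single_eq_of_ne hjk]
  · intro h u v
    rw [hcoe, herm_mulVec, h, Matrix.one_mulVec, hermForm_eq]

end Cfsg.Agent.Lib.Helper5.F4
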