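import Mathlib
import Cfsg.Agent.Lib.Helper5.F4c
import Cfsg.Agent.Lib.Helper5.F4Unitary

namespace Cfsg.Agent.Lib.Helper5.F4

open Matrix F4c

local notation "S3" => Matrix.SpecialLinearGroup (Fin 3) F4c
local notation "SU0" => Cfsg.SU 3 F4c 2

/-- Hermitian form on triples -/
def herm3 (u v : F4c × F4c × F4c) : F4c :=
  u.1 * v.1 ^ 2 + u.2.1 * v.2.1 ^ 2 + u.2.2 * v.2.2 ^ 2

/-- orthonormal pairs -/
def IsOrthoPair (p : (F4c × F4c × F4c) × (F4c × F4c × F4c)) : Prop :=
  herm3 p.1 p.1 = 1 ∧ herm3 p.2 p.2 = 1 ∧ herm3 p.1 p.2 = 0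

instance : DecidablePred IsOrthoPair := fun p => by unfold IsOrthoPair; infer_instance

set_option maxRecDepth 100000 in
theorem card_pairs : Fintype.card {p // IsOrthoPair p} = 216 := by
  rw [Fintype.card_subtype]
  decide +kernel

/-- entrywise form of the unitarity criterion -/
theorem mem_SU0_iff (A : S3) :
    A ∈ SU0 ↔ ∀ j k : Fin 3, ∑ i : Fin 3, A.1 i j * (A.1 i k) ^ 2 = if j = k then 1 else 0 := by
  rw [mem_SU_iff]
  constructor
  · intro h j k
    have := congrFun (congrFun h j) k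
    rw [Matrix.mul_apply, Matrix.one_apply] at this
    simpa [frobenius_def] using this
  · intro h
    ext j k
    rw [Matrix.mul_apply, Matrix.one_apply]
    simpa [frobenius_def] using h j k

/-- the first two columns of a matrix -/
def cols (A : S3) : (F4c × F4c × F4c) × (F4c × F4c × F4c) :=
  ((A.1 0 0, A.1 1 0, A.1 2 0), (A.1 0 1, A.1 1 1, A.1 2 1))

theorem cols_ortho (A : S3) (hA : A ∈ SU0) : IsOrthoPair (cols A) := by
  rw [mem_SU0_iff] at hA
  refine ⟨?_, ?_, ?_⟩
  · have := hA 0 0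
    simpa [Fin.sum_univ_three, herm3, cols] using this
  · have := hA 1 1
    simpa [Fin.sum_univ_three, herm3, cols] using this
  · have := hA 0 1
    simpa [Fin.sum_univ_three, herm3, cols] using this

theorem sq_eq_zero_F4c : ∀ x : F4c, x ^ 2 = 0 → x = 0 := by decide

theorem eq_one_of_cols (B : S3) (hB : B ∈ SU0) (h00 : B.1 0 0 = 1) (h10 : B.1 1 0 = 0)
    (h20 : B.1 2 0 = 0) (h01 : B.1 0 1 = 0) (h11 : B.1 1 1 = 1) (h21 : B.1 2 1 = 0) : B = 1 := by
  have hdet := B.2
  rw [mem_SU0_iff] at hB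
  have e02 := hB 0 2
  have e12 := hB 1 2
  simp [Fin.sum_univ_three, h00, h10, h20, h01, h11, h21] at e02 e12
  rw [Matrix.det_fin_three, h00, h10, h20, h01, h11, h21, e02, e12] at hdet
  simp at hdet
  apply Subtype.ext
  ext i j
  fin_cases i <;> fin_cases j <;> simp [h00, h10, h20, h01, h11, h21, e02, e12, hdet]

theorem cols_injOn (A A' : S3) (hA : A ∈ SU0) (hA' : A' ∈ SU0) (h : cols A = cols A') :
    A = A' := by
  have hB : A⁻¹ * A' ∈ SU0 := (SU0).mul_mem ((SU0).inv_mem hA) hA'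
  have hcol : ∀ i : Fin 3, ∀ j : Fin 3, j ≠ 2 → (A⁻¹ * A').1 i j = (1 : Matrix (Fin 3) (Fin 3) F4c) i j := by
    intro i j hj
    have h1 : (A⁻¹ * A').1 i j = ∑ k, (A⁻¹).1 i k * A'.1 k j := by
      rw [Matrix.SpecialLinearGroup.coe_mul, Matrix.mul_apply]
    have h2 : (1 : Matrix (Fin 3) (Fin 3) F4c) i j = ∑ k, (A⁻¹).1 i k * A.1 k j := by
      rw [← Matrix.mul_apply, ← Matrix.SpecialLinearGroup.coe_mul, inv_mul_cancel]
      rfl
    rw [h1, h2]
    apply Finset.sum_congr rfl
    intro k _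
    congr 1
    simp only [cols, Prod.mk.injEq] at h
    obtain ⟨⟨a0, a1, a2⟩, ⟨b0, b1, b2⟩⟩ := h
    fin_cases j
    · fin_cases k
      · exact a0.symm
      · exact a1.symm
      · exact a2.symm
    · fin_cases k
      · exact b0.symm
      · exact b1.symm
      · exact b2.symm
    · exact absurd rfl hj
  have := eq_one_of_cols (A⁻¹ * A') hB (by simpa using hcol 0 0 (by decide))
    (by simpa using hcol 1 0 (by decide)) (by simpa using hcol 2 0 (by decide))
    (by simpa using hcol 0 1 (by decide)) (by simpa using hcol 1 1 (by decide))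
    (by simpa using hcol 2 1 (by decide))
  exact (inv_mul_eq_one.mp this)

theorem card_SU0_le : Nat.card SU0 ≤ 216 := by
  rw [← card_pairs, ← Nat.card_eq_fintype_card]
  apply Nat.card_le_card_of_injective
    (fun A : SU0 => (⟨cols A.1, cols_ortho A.1 A.2⟩ : {p // IsOrthoPair p}))
  intro A A' h
  apply Subtype.ext
  apply cols_injOn A.1 A'.1 A.2 A'.2
  exact congrArg Subtype.val h

end Cfsg.Agent.Lib.Helper5.F4
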