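import Mathlib
import Cfsg.Agent.Lib.Helper5.F4Bound

namespace Cfsg.Agent.Lib.Helper5.F4

open Matrix F4c

local notation "S3" => Matrix.SpecialLinearGroup (Fin 3) F4c
local notation "SU0" => Cfsg.SU 3 F4c 2

/-- a finite subset of a finite group containing one and closed under products is a subgroup -/
def subgroupOfFinset {G : Type*} [Group G] [Finite G] (S : Finset G) (h1 : (1 : G) ∈ S)
    (hmul : ∀ x ∈ S, ∀ y ∈ S, x * y ∈ S) : Subgroup G where
  carrier := S
  one_mem' := h1
  mul_mem' {x y} hx hy := hmul x hx y hy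
  inv_mem' {x} hx := by
    have hpow : ∀ k : ℕ, x ^ k ∈ S := by
      intro k
      induction k with
      | zero => simpa using h1
      | succ k ih => rw [pow_succ]; exact hmul _ ih _ hx
    have : x⁻¹ = x ^ (orderOf x - 1) := by
      have hpos := orderOf_pos x
      rw [eq_comm, ← mul_eq_one_iff_eq_inv, ← pow_succ, Nat.sub_add_cancel hpos,
        pow_orderOf_eq_one]
    show x⁻¹ ∈ (S : Set G)
    rw [this]
    exact hpow _

theorem mem_subgroupOfFinset {G : Type*} [Group G] [Finite G] (S : Finset G) (h1 : (1 : G) ∈ S)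
    (hmul : ∀ x ∈ S, ∀ y ∈ S, x * y ∈ S) (x : G) :
    x ∈ subgroupOfFinset S h1 hmul ↔ x ∈ S := Iff.rfl

theorem card_subgroupOfFinset {G : Type*} [Group G] [Finite G] (S : Finset G) (h1 : (1 : G) ∈ S)
    (hmul : ∀ x ∈ S, ∀ y ∈ S, x * y ∈ S) :
    Nat.card (subgroupOfFinset S h1 hmul) = S.card := by
  have : Nat.card (subgroupOfFinset S h1 hmul) = Nat.card (S : Set G) := rfl
  rw [this, Nat.card_coe_set_eq, Set.ncard_coe_finset]

/-- the diagonal element of order three -/
def gA : S3 := ⟨!![1, 0, 0; 0, w, 0; 0, 0, v], by rw [Matrix.det_fin_three]; decide⟩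
/-- the cyclic permutation matrix -/
def gB : S3 := ⟨!![0, 0, 1; 1, 0, 0; 0, 1, 0], by rw [Matrix.det_fin_three]; decide⟩
/-- the scalar `ω` -/
def gZ : S3 := ⟨!![w, 0, 0; 0, w, 0; 0, 0, w], by rw [Matrix.det_fin_three]; decide⟩
/-- the Fourier matrix -/
def gX : S3 := ⟨!![1, 1, 1; 1, w, v; 1, v, w], by rw [Matrix.det_fin_three]; decide⟩
/-- the second generator of the quaternion group -/
def gY : S3 := ⟨!![1, v, v; w, w, v; w, v, w], by rw [Matrix.det_fin_three]; decide⟩

/-- the 27 elements of the extraspecial group -/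
def eta (t : Fin 3 × Fin 3 × Fin 3) : S3 := gZ ^ (t.1 : ℕ) * gA ^ (t.2.1 : ℕ) * gB ^ (t.2.2 : ℕ)

def E0set : Finset S3 := Finset.univ.image eta

end Cfsg.Agent.Lib.Helper5.F4
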