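import Mathlib
import Cfsg.Agent.Lib.Helper5.F4Elems

namespace Cfsg.Agent.Lib.Helper5.F4

open Matrix F4c

local notation "S3" => Matrix.SpecialLinearGroup (Fin 3) F4c
local notation "SU0" => Cfsg.SU 3 F4c 2

set_option maxRecDepth 100000 in
theorem eta_injective : Function.Injective eta := by
  decide +kernel

set_option maxRecDepth 100000 in
theorem one_mem_E0set : (1 : S3) ∈ E0set := by
  decide +kernel

set_option maxRecDepth 100000 in
theorem E0set_mul : ∀ s t : Fin 3 × Fin 3 × Fin 3, eta s * eta t ∈ E0set := by
  decide +kernel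

end Cfsg.Agent.Lib.Helper5.F4
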