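import Mathlib
import Cfsg.Agent.Lib.Helper5.F4E0

namespace Cfsg.Agent.Lib.Helper5.F4

open Matrix F4c

local notation "S3" => Matrix.SpecialLinearGroup (Fin 3) F4c
local notation "SU0" => Cfsg.SU 3 F4c 2

/-- the embedding of the quaternion group -/
def kappaFun : QuaternionGroup 2 → S3
  | QuaternionGroup.a i => gX ^ i.val
  | QuaternionGroup.xa i => gY * gX ^ i.val

set_option maxRecDepth 100000 in
theorem kappa_one : kappaFun 1 = 1 := by decide +kernel

set_option maxRecDepth 100000 in
theorem kappa_mul : ∀ x y : QuaternionGroup 2, kappaFun (x * y) = kappaFun x * kappaFun y := by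
  decide +kernel

set_option maxRecDepth 100000 in
theorem kappa_injective : Function.Injective kappaFun := by
  decide +kernel

/-- the embedding of the quaternion group as a homomorphism -/
def kappa : QuaternionGroup 2 →* S3 where
  toFun := kappaFun
  map_one' := kappa_one
  map_mul' := kappa_mul

/-- the extraspecial subgroup of order 27 -/
def E0 : Subgroup S3 :=
  subgroupOfFinset E0set one_mem_E0set (by
    intro x hx y hy
    obtain ⟨s, -, rfl⟩ := Finset.mem_image.mp hx
    obtain ⟨t, -, rfl⟩ := Finset.mem_image.mp hy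
    exact E0set_mul s t)

theorem card_E0 : Nat.card E0 = 27 := by
  rw [E0, card_subgroupOfFinset, E0set, Finset.card_image_of_injective _ eta_injective]
  rfl

/-- the quaternion subgroup -/
def Q0 : Subgroup S3 := kappa.range

theorem card_Q0 : Nat.card Q0 = 8 := by
  rw [Q0, Nat.card_congr (MonoidHom.ofInjective (f := kappa) kappa_injective).symm.toEquiv,
    Nat.card_eq_fintype_card, QuaternionGroup.card]

set_option maxRecDepth 100000 in
theorem gens_mem_SU0 : gA ∈ SU0 ∧ gB ∈ SU0 ∧ gZ ∈ SU0 ∧ gX ∈ SU0 ∧ gY ∈ SU0 := by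
  simp only [mem_SU0_iff]
  decide +kernel

theorem E0_le : E0 ≤ SU0 := by
  intro x hx
  obtain ⟨t, -, rfl⟩ := Finset.mem_image.mp ((mem_subgroupOfFinset _ _ _ x).mp hx)
  obtain ⟨hA, hB, hZ, -, -⟩ := gens_mem_SU0
  exact (SU0).mul_mem ((SU0).mul_mem ((SU0).pow_mem hZ _) ((SU0).pow_mem hA _)) ((SU0).pow_mem hB _)

theorem Q0_le : Q0 ≤ SU0 := by
  rintro _ ⟨q, rfl⟩
  obtain ⟨-, -, -, hX, hY⟩ := gens_mem_SU0
  show kappaFun q ∈ SU0
  cases q with
  | a i => exact (SU0).pow_mem hX _
  | xa i => exact (SU0).mul_mem hY ((SU0).pow_mem hX _)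

end Cfsg.Agent.Lib.Helper5.F4
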