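import Mathlib
import Cfsg.Agent.Lib.Helper5.F4Q0

namespace Cfsg.Agent.Lib.Helper5.F4

open Matrix F4c

local notation "S3" => Matrix.SpecialLinearGroup (Fin 3) F4c
local notation "SU0" => Cfsg.SU 3 F4c 2

set_option maxRecDepth 100000 in
theorem Q0_normalizes : ∀ q : QuaternionGroup 2, ∀ t : Fin 3 × Fin 3 × Fin 3,
    ∃ t' : Fin 3 × Fin 3 × Fin 3, kappaFun q * eta t = eta t' * kappaFun q := by
  decide +kernel

instance : Finite SU0 := Subtype.finite

theorem card_SU0 : Nat.card SU0 = 216 := by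
  apply le_antisymm card_SU0_le
  have h27 : 27 ∣ Nat.card SU0 := by
    have := Subgroup.card_dvd_of_le E0_le
    rwa [card_E0] at this
  have h8 : 8 ∣ Nat.card SU0 := by
    have := Subgroup.card_dvd_of_le Q0_le
    rwa [card_Q0] at this
  have h216 : 216 ∣ Nat.card SU0 := by
    have : Nat.Coprime 27 8 := by norm_num
    exact this.mul_dvd_of_dvd_of_dvd h27 h8
  exact Nat.le_of_dvd Nat.card_pos h216

/-- `E0` inside `SU₃(2)` -/
def E : Subgroup SU0 := E0.subgroupOf SU0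
/-- `Q0` inside `SU₃(2)` -/
def Q : Subgroup SU0 := Q0.subgroupOf SU0

theorem card_E : Nat.card E = 27 := by
  rw [E, Nat.card_congr (Subgroup.subgroupOfEquivOfLe E0_le).toEquiv, card_E0]

theorem card_Q : Nat.card Q = 8 := by
  rw [Q, Nat.card_congr (Subgroup.subgroupOfEquivOfLe Q0_le).toEquiv, card_Q0]

theorem isComplement_QE : Subgroup.IsComplement' Q E := by
  apply Subgroup.isComplement'_of_coprime
  · rw [card_Q, card_E, card_SU0]
  · rw [card_Q, card_E]; norm_num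

theorem conj_mem_E (q : SU0) (hq : q ∈ Q) (e : SU0) (he : e ∈ E) : q * e * q⁻¹ ∈ E := by
  obtain ⟨q0, hq0⟩ : ∃ q0 : QuaternionGroup 2, kappaFun q0 = q.1 := hq
  have he' : e.1 ∈ E0 := he
  obtain ⟨t, -, ht⟩ := Finset.mem_image.mp ((mem_subgroupOfFinset _ _ _ e.1).mp he')
  obtain ⟨t', ht'⟩ := Q0_normalizes q0 t
  show (q * e * q⁻¹).1 ∈ E0
  have : (q * e * q⁻¹).1 = eta t' := by
    show q.1 * e.1 * (q.1)⁻¹ = eta t'
    rw [← hq0, ← ht, ht', mul_inv_cancel_right]
  rw [this]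
  exact (mem_subgroupOfFinset _ _ _ _).mpr (Finset.mem_image_of_mem _ (Finset.mem_univ _))

instance E_normal : E.Normal := by
  constructor
  intro e he g
  obtain ⟨⟨q, e'⟩, hqe, -⟩ := (Subgroup.isComplement'_def.mp isComplement_QE).existsUnique g
  simp only at hqe
  rw [← hqe]
  have h1 : (e' : SU0)⁻¹ * e * e' ∈ E := E.mul_mem (E.mul_mem (E.inv_mem e'.2) he) e'.2
  have h2 : (q : SU0) * e' * e * ((q : SU0) * e')⁻¹ =
      q * (e' * e * (e' : SU0)⁻¹) * (q : SU0)⁻¹ := by group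
  rw [h2]
  exact conj_mem_E q q.2 _ (E.mul_mem (E.mul_mem e'.2 he) (E.inv_mem e'.2))

/-- the quotient of `SU₃(2)` by `E` is the quaternion group -/
noncomputable def quotEquiv : SU0 ⧸ E ≃* QuaternionGroup 2 :=
  (isComplement_QE.QuotientMulEquiv).trans
    ((Subgroup.subgroupOfEquivOfLe Q0_le).trans
      (MonoidHom.ofInjective (f := kappa) kappa_injective).symm)

end Cfsg.Agent.Lib.Helper5.F4
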