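import Mathlib
import Cfsg.Agent.Lib.Helper5.F4Struct

namespace Cfsg.Agent.Lib.Helper5.F4

open Matrix F4c

local notation "S3" => Matrix.SpecialLinearGroup (Fin 3) F4c
local notation "SU0" => Cfsg.SU 3 F4c 2

theorem zero_of_comm : ∀ x a b : F4c, a ≠ b → x * b = a * x → x = 0 := by decide

theorem gA_val : gA.1 = Matrix.diagonal ![1, w, v] := by
  ext i j
  fin_cases i <;> fin_cases j <;> rfl

/-- a matrix commuting with `gA` and `gB` is scalar -/
theorem scalar_of_comm (M : Matrix (Fin 3) (Fin 3) F4c) (hA : M * gA.1 = gA.1 * M)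
    (hB : M * gB.1 = gB.1 * M) : M = M 0 0 • (1 : Matrix (Fin 3) (Fin 3) F4c) := by
  rw [gA_val] at hA
  have hoff : ∀ i j : Fin 3, i ≠ j → M i j = 0 := by
    intro i j hij
    have := congrFun (congrFun hA i) j
    rw [Matrix.mul_diagonal, Matrix.diagonal_mul] at this
    have hne : ∀ i j : Fin 3, i ≠ j → (![1, w, v] : Fin 3 → F4c) i ≠ ![1, w, v] j := by decide
    exact zero_of_comm (M i j) (![1, w, v] i) (![1, w, v] j) (hne i j hij) this
  have h10 := congrFun (congrFun hB 1) 0
  have h21 := congrFun (congrFun hB 2) 1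
  simp [gB, Matrix.mul_apply, Fin.sum_univ_three] at h10 h21
  ext i j
  fin_cases i <;> fin_cases j <;>
    simp [Matrix.one_apply, hoff, h10, h21]

set_option maxRecDepth 100000 in
theorem gZ_pow_three : gZ ^ 3 = 1 := by decide +kernel

set_option maxRecDepth 100000 in
theorem gZ_ne_one : gZ ≠ 1 := by decide +kernel

theorem orderOf_gZ : orderOf gZ = 3 := by
  haveI : Fact (Nat.Prime 3) := ⟨by norm_num⟩
  exact orderOf_eq_prime gZ_pow_three gZ_ne_one

set_option maxRecDepth 100000 in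
theorem scalar_eq_pow : ∀ c : F4c, c ≠ 0 →
    ∃ k : Fin 3, (c • (1 : Matrix (Fin 3) (Fin 3) F4c)) = (gZ ^ (k : ℕ)).1 := by
  decide +kernel

theorem gZ_mem : gZ ∈ SU0 := gens_mem_SU0.2.2.1

/-- `gZ` as an element of `SU₃(2)` -/
def zG : SU0 := ⟨gZ, gZ_mem⟩

theorem gZ_val : gZ.1 = w • (1 : Matrix (Fin 3) (Fin 3) F4c) := by
  ext i j
  fin_cases i <;> fin_cases j <;> decide

theorem zG_central : zG ∈ Subgroup.center SU0 := by
  rw [Subgroup.mem_center_iff]
  intro g
  apply Subtype.ext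
  apply Subtype.ext
  show g.1.1 * gZ.1 = gZ.1 * g.1.1
  rw [gZ_val]
  simp

theorem center_eq : Subgroup.center SU0 = Subgroup.zpowers zG := by
  apply le_antisymm
  · intro z hz
    rw [Subgroup.mem_center_iff] at hz
    obtain ⟨hA, hB, -⟩ := gens_mem_SU0
    have h1 := hz ⟨gA, hA⟩
    have h2 := hz ⟨gB, hB⟩
    have h1' : gA.1 * z.1.1 = z.1.1 * gA.1 := by
      have := congrArg (fun x : SU0 => x.1.1) h1
      simpa using this
    have h2' : gB.1 * z.1.1 = z.1.1 * gB.1 := by
      have := congrArg (fun x : SU0 => x.1.1) h2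
      simpa using this
    have hsc := scalar_of_comm z.1.1 h1'.symm h2'.symm
    have hc : z.1.1 0 0 ≠ 0 := by
      intro h0
      rw [h0, zero_smul] at hsc
      have := z.1.2
      rw [hsc, Matrix.det_zero] at this
      exact zero_ne_one this
    obtain ⟨k, hk⟩ := scalar_eq_pow _ hc
    rw [Subgroup.mem_zpowers_iff]
    refine ⟨(k : ℕ), ?_⟩
    apply Subtype.ext
    apply Subtype.ext
    rw [zpow_natCast]
    show (gZ ^ (k : ℕ)).1 = z.1.1
    rw [← hk, ← hsc]
  · rw [Subgroup.zpowers_le]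
    exact zG_central

theorem card_center : Nat.card (Subgroup.center SU0) = 3 := by
  rw [center_eq, Nat.card_zpowers]
  have : orderOf zG = orderOf gZ := by
    rw [← Subgroup.orderOf_coe zG]
    rfl
  rw [this, orderOf_gZ]

theorem center_le_E : Subgroup.center SU0 ≤ E := by
  rw [center_eq, Subgroup.zpowers_le]
  show gZ ∈ E0
  apply (mem_subgroupOfFinset _ _ _ _).mpr
  apply Finset.mem_image.mpr
  exact ⟨(1, 0, 0), Finset.mem_univ _, by decide +kernel⟩

end Cfsg.Agent.Lib.Helper5.F4
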