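import Mathlib
import Cfsg.Agent.Lib.Helper5.F4Center

namespace Cfsg.Agent.Lib.Helper5.F4

open Matrix F4c

local notation "S3" => Matrix.SpecialLinearGroup (Fin 3) F4c
local notation "SU0" => Cfsg.SU 3 F4c 2

set_option maxRecDepth 100000 in
theorem eta_cube : ∀ t : Fin 3 × Fin 3 × Fin 3, ∃ k : Fin 3, eta t ^ 3 = gZ ^ (k : ℕ) := by
  decide +kernel

theorem cube_mem_center (e : SU0) (he : e ∈ E) : e ^ 3 ∈ Subgroup.center SU0 := by
  have he' : e.1 ∈ E0 := he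
  obtain ⟨t, -, ht⟩ := Finset.mem_image.mp ((mem_subgroupOfFinset _ _ _ e.1).mp he')
  obtain ⟨k, hk⟩ := eta_cube t
  rw [center_eq, Subgroup.mem_zpowers_iff]
  refine ⟨(k : ℕ), ?_⟩
  apply Subtype.ext
  rw [zpow_natCast]
  show gZ ^ (k : ℕ) = e.1 ^ 3
  rw [← ht, hk]

/-- the structure of `PSU₃(2)` over the computable field -/
theorem psu32_structure :
    ∃ (N : Subgroup (Cfsg.PSU 3 F4c 2)) (_ : N.Normal), Nat.card N = 9 ∧ (∀ x ∈ N, x ^ 3 = 1) ∧
      Nonempty (Cfsg.PSU 3 F4c 2 ⧸ N ≃* QuaternionGroup 2) := by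
  let Z := Subgroup.center SU0
  let N : Subgroup (Cfsg.PSU 3 F4c 2) := E.map (QuotientGroup.mk' Z)
  have hN : N.Normal := Subgroup.Normal.map E_normal _ (QuotientGroup.mk'_surjective Z)
  have e1 : (Cfsg.PSU 3 F4c 2) ⧸ N ≃* QuaternionGroup 2 :=
    (QuotientGroup.quotientQuotientEquivQuotient Z E center_le_E).trans quotEquiv
  refine ⟨N, hN, ?_, ?_, ⟨e1⟩⟩
  · have h1 : Nat.card (Cfsg.PSU 3 F4c 2) * 3 = 216 := by
      have := Subgroup.card_eq_card_quotient_mul_card_subgroup Z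
      rw [card_SU0, card_center] at this
      exact this.symm
    have h2 : Nat.card (Cfsg.PSU 3 F4c 2) = Nat.card ((Cfsg.PSU 3 F4c 2) ⧸ N) * Nat.card N :=
      Subgroup.card_eq_card_quotient_mul_card_subgroup N
    have h3 : Nat.card ((Cfsg.PSU 3 F4c 2) ⧸ N) = 8 := by
      rw [Nat.card_congr e1.toEquiv, Nat.card_eq_fintype_card, QuaternionGroup.card]
    rw [h3] at h2
    omega
  · rintro _ ⟨e, he, rfl⟩
    show (QuotientGroup.mk' Z e) ^ 3 = 1
    rw [← map_pow]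
    exact (QuotientGroup.eq_one_iff _).mpr (cube_mem_center e he)

end Cfsg.Agent.Lib.Helper5.F4
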