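import Mathlib
import Cfsg.Prelude.Def_Classical

namespace Cfsg.Agent.Lib.Helper5.F4

open Matrix

variable {F K : Type*} [Field F] [Field K] (ρ : F ≃+* K) (n q : ℕ)

/-- SL_n of isomorphic fields -/
def slMapEquiv : Matrix.SpecialLinearGroup (Fin n) F ≃* Matrix.SpecialLinearGroup (Fin n) K where
  toFun := Matrix.SpecialLinearGroup.map ρ.toRingHom
  invFun := Matrix.SpecialLinearGroup.map ρ.symm.toRingHom
  left_inv A := by
    apply Subtype.ext
    ext i j
    show ρ.symm (ρ ((A : Matrix (Fin n) (Fin n) F) i j)) = _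
    exact ρ.symm_apply_apply _
  right_inv A := by
    apply Subtype.ext
    ext i j
    show ρ (ρ.symm ((A : Matrix (Fin n) (Fin n) K) i j)) = _
    exact ρ.apply_symm_apply _
  map_mul' := map_mul _

theorem slMapEquiv_val (A : Matrix.SpecialLinearGroup (Fin n) F) :
    (slMapEquiv ρ n A).1 = A.1.map ρ := rfl

theorem hermForm_map (u v : Fin n → F) :
    Cfsg.hermForm n K q (ρ ∘ u) (ρ ∘ v) = ρ (Cfsg.hermForm n F q u v) := by
  simp [Cfsg.hermForm, map_sum]

theorem mem_SU_map (A : Matrix.SpecialLinearGroup (Fin n) F) (hA : A ∈ Cfsg.SU n F q) :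
    slMapEquiv ρ n A ∈ Cfsg.SU n K q := by
  intro u v
  have hu : u = ρ ∘ (ρ.symm ∘ u) := by ext i; simp
  have hv : v = ρ ∘ (ρ.symm ∘ v) := by ext i; simp
  have key : ∀ x : Fin n → F, (Cfsg.slToMat n K (slMapEquiv ρ n A)) *ᵥ (ρ ∘ x) =
      ρ ∘ ((Cfsg.slToMat n F A) *ᵥ x) := by
    intro x
    ext i
    have := RingHom.map_mulVec ρ.toRingHom A.1 x i
    exact this.symm
  rw [hu, hv, key, key, hermForm_map, hermForm_map, hA]

theorem mem_SU_map_iff (A : Matrix.SpecialLinearGroup (Fin n) F) :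
    slMapEquiv ρ n A ∈ Cfsg.SU n K q ↔ A ∈ Cfsg.SU n F q := by
  constructor
  · intro h
    have := mem_SU_map ρ.symm n q _ h
    have e : slMapEquiv ρ.symm n (slMapEquiv ρ n A) = A := (slMapEquiv ρ n).symm_apply_apply A
    rwa [e] at this
  · exact mem_SU_map ρ n q A

/-- SU_n of isomorphic fields -/
def suMapEquiv : Cfsg.SU n F q ≃* Cfsg.SU n K q where
  toFun A := ⟨slMapEquiv ρ n A.1, mem_SU_map ρ n q A.1 A.2⟩
  invFun B := ⟨(slMapEquiv ρ n).symm B.1, by
    rw [← mem_SU_map_iff ρ n q, MulEquiv.apply_symm_apply]; exact B.2⟩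
  left_inv A := by apply Subtype.ext; exact (slMapEquiv ρ n).symm_apply_apply A.1
  right_inv B := by apply Subtype.ext; exact (slMapEquiv ρ n).apply_symm_apply B.1
  map_mul' A B := by apply Subtype.ext; exact map_mul (slMapEquiv ρ n) A.1 B.1

theorem map_center_eq {G H : Type*} [Group G] [Group H] (e : G ≃* H) :
    (Subgroup.center G).map e.toMonoidHom = Subgroup.center H := by
  ext h
  constructor
  · rintro ⟨g, hg, rfl⟩
    rw [SetLike.mem_coe, Subgroup.mem_center_iff] at hg
    rw [Subgroup.mem_center_iff]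
    intro x
    obtain ⟨y, rfl⟩ := e.surjective x
    show e y * e g = e g * e y
    rw [← map_mul, ← map_mul, hg y]
  · intro hh
    refine ⟨e.symm h, ?_, by simp⟩
    rw [Subgroup.mem_center_iff] at hh
    rw [SetLike.mem_coe, Subgroup.mem_center_iff]
    intro y
    apply e.injective
    rw [map_mul, map_mul, e.apply_symm_apply]
    exact hh (e y)

/-- PSU_n of isomorphic fields -/
noncomputable def psuMapEquiv : Cfsg.PSU n F q ≃* Cfsg.PSU n K q :=
  QuotientGroup.congr _ _ (suMapEquiv ρ n q) (map_center_eq (suMapEquiv ρ n q))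

end Cfsg.Agent.Lib.Helper5.F4
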