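import Mathlib

set_option autoImplicit false
set_option linter.style.haveILetI false
set_option linter.unusedSectionVars false

namespace Cfsg.Agent.Lib.Helper5.FieldAutCent

/-- the fixed field of a ring automorphism -/
def fixedField {F : Type*} [Field F] (σ : F ≃+* F) : Subfield F where
  carrier := {x | σ x = x}
  mul_mem' {a b} ha hb := by
    show σ (a * b) = a * b
    rw [map_mul, show σ a = a from ha, show σ b = b from hb]
  one_mem' := map_one σ
  add_mem' {a b} ha hb := by
    show σ (a + b) = a + b
    rw [map_add, show σ a = a from ha, show σ b = b from hb]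
  zero_mem' := map_zero σ
  neg_mem' {a} ha := by
    show σ (-a) = -a
    rw [map_neg, show σ a = a from ha]
  inv_mem' a ha := by
    show σ a⁻¹ = a⁻¹
    rw [map_inv₀, show σ a = a from ha]

theorem mem_fixedField {F : Type*} [Field F] (σ : F ≃+* F) (x : F) :
    x ∈ fixedField σ ↔ σ x = x := Iff.rfl

theorem fixedField_eq {F : Type*} [Field F] (σ : F ≃+* F) :
    fixedField σ = FixedPoints.subfield (Subgroup.zpowers (σ : RingAut F)) F := by
  ext x
  rw [mem_fixedField]
  constructor
  · intro h
    rintro ⟨g, k, rfl⟩
    show (σ ^ k : RingAut F) • x = x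
    have : ∀ k : ℤ, (σ ^ k : RingAut F) x = x := by
      intro k
      have h1 : ∀ m : ℕ, (σ ^ m : RingAut F) x = x := by
        intro m
        induction m with
        | zero => simp
        | succ m ih => rw [pow_succ, RingAut.mul_apply, h, ih]
      rcases Int.eq_nat_or_neg k with ⟨m, rfl | rfl⟩
      · rw [zpow_natCast]; exact h1 m
      · rw [zpow_neg, zpow_natCast]
        have := h1 m
        conv_lhs => rw [← this]
        show ((σ ^ m : RingAut F)⁻¹ * (σ ^ m : RingAut F)) x = x
        rw [inv_mul_cancel]; rfl
    exact this k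
  · intro h
    exact h ⟨σ, Subgroup.mem_zpowers σ⟩

theorem card_fixedField {F : Type*} [Field F] [Fintype F] {q₀ r : ℕ} (hr : r.Prime)
    (hF : Fintype.card F = q₀ ^ r) (σ : F ≃+* F) (hσ : orderOf σ = r) :
    Nat.card (fixedField σ) = q₀ := by
  classical
  have hfin : Module.finrank (fixedField σ) F = r := by
    rw [fixedField_eq]
    haveI : Finite (RingAut F) := Finite.of_injective (fun e : F ≃+* F => (e : F → F))
      DFunLike.coe_injective
    haveI : Fintype (Subgroup.zpowers (σ : RingAut F)) := Fintype.ofFinite _
    rw [FixedPoints.finrank_eq_card, ← Nat.card_eq_fintype_card, Nat.card_zpowers]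
    exact hσ
  have h1 : Nat.card F = Nat.card (fixedField σ) ^ Module.finrank (fixedField σ) F :=
    Module.natCard_eq_pow_finrank
  rw [hfin, Nat.card_eq_fintype_card, hF] at h1
  exact (Nat.pow_left_injective hr.ne_zero h1).symm

end Cfsg.Agent.Lib.Helper5.FieldAutCent
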