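import Mathlib
import Cfsg.Agent.Lib.Helper5.FieldAutA

set_option autoImplicit false
set_option linter.style.haveILetI false
set_option linter.unusedSectionVars false

namespace Cfsg.Agent.Lib.Helper5.FieldAutCent

section main

variable {F : Type*} [Field F] {n : ℕ} (σ : F ≃+* F)

/-- scalar matrices as a homomorphism -/
def sc (F : Type*) [Field F] (n : ℕ) : Fˣ →* GL (Fin n) F :=
  Units.map (Matrix.scalar (Fin n)).toMonoidHom

theorem sc_val (μ : Fˣ) : ((sc F n μ : GL (Fin n) F) : Matrix (Fin n) (Fin n) F) =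
    Matrix.scalar (Fin n) (μ : F) := rfl

theorem sc_mul_val (μ : Fˣ) (g : GL (Fin n) F) :
    ((sc F n μ * g : GL (Fin n) F) : Matrix (Fin n) (Fin n) F) =
      (μ : F) • (g : Matrix (Fin n) (Fin n) F) := by
  rw [Units.val_mul, sc_val, Matrix.scalar_apply, ← Matrix.smul_eq_diagonal_mul]

theorem sc_comm (μ : Fˣ) (g : GL (Fin n) F) : sc F n μ * g = g * sc F n μ := by
  apply Units.ext
  rw [Units.val_mul, Units.val_mul, sc_val]
  exact (Matrix.scalar_commute _ (fun r => Commute.all _ r) _).eq

/-- the embedding of `GL` over the fixed field -/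
def emb : GL (Fin n) (fixedField σ) →* GL (Fin n) F :=
  Matrix.GeneralLinearGroup.map (fixedField σ).subtype

theorem emb_apply (h : GL (Fin n) (fixedField σ)) (i j : Fin n) :
    (emb σ h : GL (Fin n) F) i j = ((h i j : fixedField σ) : F) := rfl

theorem emb_injective : Function.Injective (emb (n := n) σ) := by
  intro a b hab
  apply Units.ext
  ext i j
  have := congrArg (fun g : GL (Fin n) F => g i j) hab
  simp only [emb_apply] at this
  exact this

/-- the product map -/
def Psi : Fˣ × GL (Fin n) (fixedField σ) →* GL (Fin n) F where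
  toFun x := sc F n x.1 * emb σ x.2
  map_one' := by simp
  map_mul' x y := by
    simp only [Prod.fst_mul, Prod.snd_mul, map_mul]
    rw [mul_assoc, ← mul_assoc (sc F n y.1), sc_comm y.1, mul_assoc, mul_assoc]

theorem Psi_val (x : Fˣ × GL (Fin n) (fixedField σ)) :
    ((Psi σ x : GL (Fin n) F) : Matrix (Fin n) (Fin n) F) =
      (x.1 : F) • ((emb σ x.2 : GL (Fin n) F) : Matrix (Fin n) (Fin n) F) :=
  sc_mul_val _ _

end main

end Cfsg.Agent.Lib.Helper5.FieldAutCent

namespace Cfsg.Agent.Lib.Helper5.FieldAutCent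

section range

variable {F : Type*} [Field F] {n : ℕ} (σ : F ≃+* F)

theorem mem_range_Psi (g : GL (Fin n) F) (hn : 1 ≤ n) :
    g ∈ (Psi (n := n) σ).range ↔
      ∃ c : F, c ≠ 0 ∧ (g : Matrix (Fin n) (Fin n) F).map σ = c • (g : Matrix (Fin n) (Fin n) F) := by
  constructor
  · rintro ⟨⟨μ, h⟩, rfl⟩
    refine ⟨σ μ / μ, div_ne_zero ((map_ne_zero σ).2 μ.ne_zero) μ.ne_zero, ?_⟩
    rw [Psi_val]
    ext i j
    simp only [Matrix.map_apply, Matrix.smul_apply, smul_eq_mul, map_mul]
    have hfix : σ ((emb σ h : GL (Fin n) F) i j) = (emb σ h : GL (Fin n) F) i j := by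
      rw [emb_apply]
      exact (h i j).2
    rw [hfix]
    field_simp
  · rintro ⟨c, hc, hg⟩
    -- a nonzero entry
    have hex : ∃ i j, g i j ≠ 0 := by
      by_contra hcon
      push Not at hcon
      have h0 : (g : Matrix (Fin n) (Fin n) F) = 0 := by
        ext i j; exact hcon i j
      have h1 : (g * g⁻¹ : GL (Fin n) F) = 1 := mul_inv_cancel g
      have h2 := congrArg (fun y : GL (Fin n) F => (y : Matrix (Fin n) (Fin n) F)) h1
      simp only [Units.val_mul, h0, Matrix.zero_mul, Units.val_one] at h2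
      have h3 := congrFun (congrFun h2 ⟨0, hn⟩) ⟨0, hn⟩
      simp at h3
    obtain ⟨i₀, j₀, hμ⟩ := hex
    set μ : F := g i₀ j₀ with hμdef
    have hσμ : σ μ = c * μ := by
      have := congrFun (congrFun hg i₀) j₀
      simpa using this
    -- the normalized matrix has entries in the fixed field
    have hfix : ∀ i j, σ (μ⁻¹ * g i j) = μ⁻¹ * g i j := by
      intro i j
      have hij : σ (g i j) = c * g i j := by
        have := congrFun (congrFun hg i) j
        simpa using this
      rw [map_mul, map_inv₀, hσμ, hij]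
      field_simp
    let h₁ : Matrix (Fin n) (Fin n) (fixedField σ) := fun i j => ⟨μ⁻¹ * g i j, hfix i j⟩
    have hmap : h₁.map (fixedField σ).subtype = μ⁻¹ • (g : Matrix (Fin n) (Fin n) F) := by
      ext i j; rfl
    have hdet : h₁.det ≠ 0 := by
      intro h0
      have h1 : (fixedField σ).subtype h₁.det = 0 := by rw [h0, map_zero]
      rw [RingHom.map_det, RingHom.mapMatrix_apply, hmap, Matrix.det_smul] at h1
      have hgdet : (g : Matrix (Fin n) (Fin n) F).det ≠ 0 := by
        have h1 : (g * g⁻¹ : GL (Fin n) F) = 1 := mul_inv_cancel g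
        have h2 := congrArg (fun y : GL (Fin n) F => (y : Matrix (Fin n) (Fin n) F).det) h1
        simp only [Units.val_mul, Matrix.det_mul, Units.val_one, Matrix.det_one] at h2
        exact left_ne_zero_of_mul_eq_one h2
      rcases mul_eq_zero.1 h1 with h | h
      · exact pow_ne_zero _ (inv_ne_zero hμ) h
      · exact hgdet h
    let h : GL (Fin n) (fixedField σ) := Matrix.GeneralLinearGroup.mkOfDetNeZero h₁ hdet
    refine ⟨(Units.mk0 μ hμ, h), ?_⟩
    apply Units.ext
    rw [Psi_val]
    ext i j
    simp only [Matrix.smul_apply, smul_eq_mul, Units.val_mk0]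
    show μ * (μ⁻¹ * g i j) = g i j
    field_simp

end range

end Cfsg.Agent.Lib.Helper5.FieldAutCent
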