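import Mathlib
import Cfsg.Agent.Lib.Helper5.FieldAutB

set_option autoImplicit false
set_option linter.style.haveILetI false
set_option linter.unusedSectionVars false

namespace Cfsg.Agent.Lib.Helper5.FieldAutCent

section ker

variable {F : Type*} [Field F] {n : ℕ} (σ : F ≃+* F)

theorem emb_sc (ν : (fixedField σ)ˣ) :
    emb σ (sc (fixedField σ) n ν) = sc F n (Units.map (fixedField σ).subtype.toMonoidHom ν) := by
  apply Units.ext
  ext i j
  rw [emb_apply, sc_val, sc_val, Matrix.scalar_apply, Matrix.scalar_apply,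
    Matrix.diagonal_apply, Matrix.diagonal_apply]
  split_ifs <;> simp

/-- the kernel of the product map is the unit group of the fixed field -/
theorem card_ker_Psi (hn : 1 ≤ n) :
    Nat.card (Psi (n := n) σ).ker = Nat.card (fixedField σ)ˣ := by
  symm
  refine Nat.card_congr (Equiv.ofBijective (fun ν => ⟨((Units.map (fixedField σ).subtype.toMonoidHom ν)⁻¹,
    sc (fixedField σ) n ν), ?_⟩) ⟨?_, ?_⟩)
  · rw [MonoidHom.mem_ker]
    show sc F n _ * emb σ _ = 1
    rw [emb_sc, ← map_mul, inv_mul_cancel, map_one]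
  · intro a b hab
    have h1 := congrArg (fun x : (Psi (n := n) σ).ker => (x : Fˣ × GL (Fin n) (fixedField σ)).1) hab
    simp only [inv_inj] at h1
    apply Units.ext
    apply Subtype.ext
    have := congrArg Units.val h1
    exact this
  · rintro ⟨⟨μ, h⟩, hker⟩
    rw [MonoidHom.mem_ker] at hker
    have hker' : emb σ h = sc F n μ⁻¹ := by
      have : sc F n μ * emb σ h = 1 := hker
      rw [map_inv, eq_inv_iff_mul_eq_one, ← sc_comm]
      exact this
    have h00 : ((h ⟨0, hn⟩ ⟨0, hn⟩ : fixedField σ) : F) = ((μ⁻¹ : Fˣ) : F) := by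
      have := congrArg (fun g : GL (Fin n) F => g ⟨0, hn⟩ ⟨0, hn⟩) hker'
      simp only [emb_apply] at this
      rw [this]
      show ((sc F n μ⁻¹ : GL (Fin n) F) : Matrix (Fin n) (Fin n) F) ⟨0, hn⟩ ⟨0, hn⟩ = _
      rw [sc_val, Matrix.scalar_apply, Matrix.diagonal_apply_eq]
    have hne : (h ⟨0, hn⟩ ⟨0, hn⟩ : fixedField σ) ≠ 0 := by
      intro h0
      rw [h0] at h00
      exact (μ⁻¹).ne_zero h00.symm
    let ν : (fixedField σ)ˣ := Units.mk0 _ hne
    have hν : Units.map (fixedField σ).subtype.toMonoidHom ν = μ⁻¹ := by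
      apply Units.ext
      exact h00
    refine ⟨ν, ?_⟩
    apply Subtype.ext
    show ((Units.map (fixedField σ).subtype.toMonoidHom ν)⁻¹, sc (fixedField σ) n ν) = (μ, h)
    rw [hν, inv_inv]
    congr 1
    apply emb_injective σ
    rw [emb_sc, hν, hker']

end ker

end Cfsg.Agent.Lib.Helper5.FieldAutCent
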