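import Mathlib
import Cfsg.Agent.Lib.Helper5.FieldAutC

set_option autoImplicit false
set_option linter.style.haveILetI false
set_option linter.unusedSectionVars false

namespace Cfsg.Agent.Lib.Helper5.FieldAutCent

theorem card_range_mul_card_ker {A B : Type*} [Group A] [Group B] [Finite A] (f : A →* B) :
    Nat.card f.range * Nat.card f.ker = Nat.card A := by
  rw [Subgroup.card_eq_card_quotient_mul_card_subgroup f.ker,
    Nat.card_congr (QuotientGroup.quotientKerEquivRange f).toEquiv]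

theorem main {F : Type*} [Field F] [Fintype F] {q₀ r n : ℕ} (hr : r.Prime) (hn : 1 ≤ n)
    (hF : Fintype.card F = q₀ ^ r) (σ : F ≃+* F) (hσ : orderOf σ = r) :
    Nat.card {g : GL (Fin n) F // ∃ c : F, c ≠ 0 ∧
      (g : Matrix (Fin n) (Fin n) F).map σ = c • (g : Matrix (Fin n) (Fin n) F)} =
      (q₀ ^ r - 1) / (q₀ - 1) * ∏ i : Fin n, (q₀ ^ n - q₀ ^ (i : ℕ)) := by
  classical
  have hK := card_fixedField hr hF σ hσ
  haveI : Fintype (fixedField σ) := Fintype.ofFinite _
  have hGLK : Nat.card (GL (Fin n) (fixedField σ)) = ∏ i : Fin n, (q₀ ^ n - q₀ ^ (i : ℕ)) := by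
    rw [Matrix.card_GL_field, ← Nat.card_eq_fintype_card, hK]
  have hset : Nat.card {g : GL (Fin n) F // ∃ c : F, c ≠ 0 ∧
      (g : Matrix (Fin n) (Fin n) F).map σ = c • (g : Matrix (Fin n) (Fin n) F)} =
      Nat.card (Psi (n := n) σ).range := by
    apply Nat.card_congr
    exact Equiv.subtypeEquivRight (fun g => (mem_range_Psi σ g hn).symm)
  have hprod := card_range_mul_card_ker (Psi (n := n) σ)
  rw [card_ker_Psi σ hn, Nat.card_prod, hGLK, Nat.card_units, Nat.card_units, hK,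
    Nat.card_eq_fintype_card (α := F), hF] at hprod
  rw [hset]
  have hq2 : 2 ≤ q₀ := by
    rw [← hK]
    exact Finite.one_lt_card
  obtain ⟨e, he⟩ : (q₀ - 1) ∣ (q₀ ^ r - 1) := Nat.sub_one_dvd_pow_sub_one q₀ r
  rw [he, Nat.mul_div_cancel_left _ (by omega : 0 < q₀ - 1)]
  rw [he, mul_assoc, mul_comm] at hprod
  exact Nat.eq_of_mul_eq_mul_left (by omega : 0 < q₀ - 1) hprod

end Cfsg.Agent.Lib.Helper5.FieldAutCent
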