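import Mathlib
import Cfsg.Agent.S0989
import Cfsg.Agent.S0990
import Cfsg.Agent.S0991
import Cfsg.Agent.Lib.Helper9.SymEmbed

set_option autoImplicit false

namespace Cfsg.Agent.Lib.Helper5.IndexPrime

open Subgroup

/-- If a non-abelian simple group has a subgroup of odd prime index `p` and Sylow `p`-subgroups
of order `p`, then `2 * |N_G(P)|` divides `p * (p - 1)`. -/
theorem two_mul_card_normalizer_dvd_of_index {G : Type*} [Group G] [Finite G] [IsSimpleGroup G]
    (hG : ¬ IsMulCommutative G) {p : ℕ} [Fact p.Prime] (hp2 : p ≠ 2) (P : Sylow p G)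
    (hP : Nat.card (P : Subgroup G) = p) (H : Subgroup G) (hH : H.index = p) :
    2 * Nat.card (normalizer ((P : Subgroup G) : Set G)) ∣ p * (p - 1) := by
  classical
  have hp : p.Prime := Fact.out
  have hne : H ≠ ⊤ := by
    intro h
    rw [h, index_top] at hH
    exact hp.one_lt.ne hH
  have hex : ∃ f : G →* ↥(alternatingGroup (Fin p)), Function.Injective f :=
    hH ▸ Cfsg.Agent.S0991.result hG _ hne
  obtain ⟨f, hf⟩ := hex
  let P' : Subgroup (Equiv.Perm (Fin p)) := ((P : Subgroup G).map f).map (alternatingGroup (Fin p)).subtype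
  have hP'card : Nat.card P' = p := by
    have e1 : (P : Subgroup G) ≃* (P : Subgroup G).map f := (P : Subgroup G).equivMapOfInjective f hf
    have e2 : ((P : Subgroup G).map f) ≃* P' :=
      ((P : Subgroup G).map f).equivMapOfInjective (alternatingGroup (Fin p)).subtype (alternatingGroup (Fin p)).subtype_injective
    rw [← Nat.card_congr e2.toEquiv, ← Nat.card_congr e1.toEquiv, hP]
  have hcardα : Fintype.card (Fin p) = p ∨ Fintype.card (Fin p) = p + 1 := by
    left; simp
  obtain ⟨Q⟩ : Nonempty (Sylow p (Equiv.Perm (Fin p))) := inferInstance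
  have hQN := Cfsg.Agent.S0989.result p hcardα Q
  have hQcard : Nat.card (Q : Subgroup (Equiv.Perm (Fin p))) = p := by
    obtain ⟨k, hk⟩ := IsPGroup.iff_card.mp Q.2
    have hd : Nat.card (Q : Subgroup (Equiv.Perm (Fin p))) ∣ p * (p - 1) := by
      rw [← hQN]
      exact Subgroup.card_dvd_of_le le_normalizer
    have hpd : p ∣ Nat.card (Q : Subgroup (Equiv.Perm (Fin p))) := by
      apply Q.dvd_card_of_dvd_card
      rw [Nat.card_perm, Nat.card_eq_fintype_card, Fintype.card_fin, hp.dvd_factorial]
    rw [hk] at hd hpd ⊢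
    have hk1 : k ≠ 0 := by
      rintro rfl
      rw [pow_zero] at hpd
      exact hp.one_lt.ne' (Nat.dvd_one.mp hpd)
    have hk2 : k < 2 := by
      by_contra hge
      push Not at hge
      have h2 : p ^ 2 ∣ p * (p - 1) := (pow_dvd_pow p hge).trans hd
      rw [pow_two] at h2
      have h3 : p ∣ p - 1 := Nat.dvd_of_mul_dvd_mul_left hp.pos h2
      have h4 := Nat.le_of_dvd (by have := hp.two_le; omega) h3
      have := hp.two_le
      omega
    have : k = 1 := by omega
    rw [this, pow_one]
  let P'' : Sylow p (Equiv.Perm (Fin p)) := Sylow.ofCard P' (by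
    rw [hP'card]; exact hQcard.symm.trans Q.card_eq_multiplicity)
  have h89 := Cfsg.Agent.S0989.result p hcardα P''
  have h90 := (Cfsg.Agent.S0990.result (α := Fin p) (by rw [Fintype.card_fin]; exact hp.two_le) p hp2 P'').2
  rw [h89] at h90
  have hsub : ((P'' : Subgroup (Equiv.Perm (Fin p))).subgroupOf (alternatingGroup (Fin p))) =
      (P : Subgroup G).map f := by
    rw [Sylow.coe_ofCard]
    show (((P : Subgroup G).map f).map (alternatingGroup (Fin p)).subtype).comap (alternatingGroup (Fin p)).subtype = _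
    exact comap_map_eq_self_of_injective (alternatingGroup (Fin p)).subtype_injective _
  rw [hsub] at h90
  rw [← h90]
  exact Nat.mul_dvd_mul_left 2 (Cfsg.Agent.Lib.Helper9.card_normalizer_dvd_of_injective f hf (P : Subgroup G))

end Cfsg.Agent.Lib.Helper5.IndexPrime
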