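import Mathlib

set_option autoImplicit false
set_option linter.unusedSectionVars false
set_option linter.unusedVariables false

namespace Cfsg.Agent.Lib.Helper5.InvCount

open Subgroup

section counting
variable {G : Type*} [Group G] [Fintype G] [DecidableEq G]

/-- Counting pairs of a finite set by their product. -/
theorem card_mul_card_eq_sum (C : Finset G) :
    C.card * C.card = ∑ g : G, (C.filter (fun u => u⁻¹ * g ∈ C)).card := by
  classical
  rw [← Finset.card_product]
  rw [Finset.card_eq_sum_card_fiberwise (f := fun q : G × G => q.1 * q.2) (t := Finset.univ)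
    (fun _ _ => Finset.mem_coe.mpr (Finset.mem_univ _))]
  refine Finset.sum_congr rfl fun g _ => ?_
  refine Finset.card_nbij' (fun q => q.1) (fun u => (u, u⁻¹ * g)) ?_ ?_ ?_ ?_
  · rintro ⟨a, b⟩ h
    simp only [Finset.coe_filter, Finset.mem_product, Set.mem_ofPred_eq] at h ⊢
    obtain ⟨⟨ha, hb⟩, rfl⟩ := h
    refine ⟨ha, ?_⟩
    simpa using hb
  · intro u h
    simp only [Finset.coe_filter, Finset.mem_product, Set.mem_ofPred_eq] at h ⊢
    refine ⟨⟨h.1, h.2⟩, ?_⟩
    simp
  · rintro ⟨a, b⟩ h
    simp only [Finset.coe_filter, Finset.mem_product, Set.mem_ofPred_eq] at h ⊢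
    obtain ⟨⟨ha, hb⟩, rfl⟩ := h
    simp
  · intro u h
    rfl

omit [Fintype G] [DecidableEq G] in
/-- If `u` and `u⁻¹ * g` both square to one then `u` inverts `g`. -/
theorem conj_eq_inv_of_sq {u g : G} (hu : u * u = 1) (h : (u⁻¹ * g) * (u⁻¹ * g) = 1) :
    u * g * u⁻¹ = g⁻¹ := by
  have hui : u⁻¹ = u := inv_eq_of_mul_eq_one_left hu
  rw [hui] at h ⊢
  have h2 : u * g * u = g⁻¹ := by
    have : (u * g * u) * g = 1 := by simpa [mul_assoc] using h
    exact eq_inv_of_mul_eq_one_left this
  exact h2

/-- The elements inverting `g` form (at most) a coset of the centralizer. -/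
theorem card_inverting_le (g : G) :
    (Finset.univ.filter (fun u : G => u * g * u⁻¹ = g⁻¹)).card ≤
      Nat.card (Subgroup.centralizer ({g} : Set G)) := by
  classical
  rcases (Finset.univ.filter (fun u : G => u * g * u⁻¹ = g⁻¹)).eq_empty_or_nonempty with h | ⟨u0, h0⟩
  · rw [h]; simp
  · rw [Finset.mem_filter] at h0
    have h0' := h0.2
    have hc : Nat.card (Subgroup.centralizer ({g} : Set G)) =
        (Finset.univ.filter (fun c : G => c ∈ Subgroup.centralizer ({g} : Set G))).card := by
      rw [Nat.card_eq_fintype_card, Fintype.card_subtype]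
    rw [hc]
    refine Finset.card_le_card_of_injOn (fun u => u0⁻¹ * u) ?_ ?_
    · intro u hu
      simp only [Finset.coe_filter, Finset.mem_univ, true_and, Set.mem_ofPred_eq] at hu ⊢
      rw [Subgroup.mem_centralizer_singleton_iff]
      have h1 : u * g = g⁻¹ * u := by rw [← hu]; group
      have h2 : u0 * g = g⁻¹ * u0 := by rw [← h0']; group
      have h3 : u0⁻¹ * g⁻¹ = g * u0⁻¹ := by
        have : g⁻¹ = u0 * g * u0⁻¹ := h0'.symm
        rw [this]; group
      calc u0⁻¹ * u * g = u0⁻¹ * (u * g) := by group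
        _ = u0⁻¹ * (g⁻¹ * u) := by rw [h1]
        _ = (u0⁻¹ * g⁻¹) * u := by group
        _ = g * u0⁻¹ * u := by rw [h3]
        _ = g * (u0⁻¹ * u) := by group
    · intro a _ b _ hab
      exact mul_left_cancel hab

/-- The pair-count bound for a set of involutions. -/
theorem card_filter_le_centralizer (C : Finset G) (hC : ∀ u ∈ C, u * u = 1) (g : G) :
    (C.filter (fun u => u⁻¹ * g ∈ C)).card ≤ Nat.card (Subgroup.centralizer ({g} : Set G)) := by
  classical
  refine le_trans (Finset.card_le_card ?_) (card_inverting_le g)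
  intro u hu
  rw [Finset.mem_filter] at hu ⊢
  refine ⟨Finset.mem_univ _, ?_⟩
  have hu1 := hC u hu.1
  have hu2 := hC _ hu.2
  have hui : u⁻¹ = u := inv_eq_of_mul_eq_one_left hu1
  rw [hui] at hu2 ⊢
  have : (u * g * u) * g = 1 := by simpa [mul_assoc] using hu2
  exact eq_inv_of_mul_eq_one_left this

end counting

section dihedral
variable {G : Type*} [Group G] [Finite G]

structure DihData (P : Subgroup G) (p : ℕ) : Prop where
  prime : p.Prime
  odd : p ≠ 2
  cardP : Nat.card P = p
  cent : centralizer (P : Set G) = P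
  cardN : Nat.card (normalizer (P : Set G)) = 2 * p

variable {P : Subgroup G} {p : ℕ}

theorem DihData.relIndex (h : DihData P p) : P.relIndex (normalizer (P : Set G)) = 2 := by
  have h1 := relIndex_mul_relIndex (⊥ : Subgroup G) P (normalizer (P : Set G)) bot_le le_normalizer
  rw [relIndex_bot_left, relIndex_bot_left, h.cardP, h.cardN, mul_comm] at h1
  have hp := h.prime.pos
  exact Nat.eq_of_mul_eq_mul_right hp h1

theorem DihData.comm (h : DihData P p) {a b : G} (ha : a ∈ P) (hb : b ∈ P) : a * b = b * a := by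
  have : Fact p.Prime := ⟨h.prime⟩
  have hc : IsCyclic P := isCyclic_of_prime_card h.cardP
  have := hc.isMulCommutative.is_comm.comm (⟨a, ha⟩ : P) ⟨b, hb⟩
  exact congrArg Subtype.val this

theorem DihData.pow_eq_one (h : DihData P p) {a : G} (ha : a ∈ P) : a ^ p = 1 := by
  have := pow_card_eq_one' (G := P) (x := ⟨a, ha⟩)
  rw [h.cardP] at this
  exact congrArg Subtype.val this

theorem DihData.eq_one_of_commute (h : DihData P p) {u : G} (hu : u ∈ normalizer (P : Set G))
    (huP : u ∉ P) {y : G} (hy : y ∈ P) (hc : u * y = y * u) : y = 1 := by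
  by_contra hne
  have hz : zpowers y = P := by
    apply Subgroup.eq_of_le_of_card_ge
    · rwa [zpowers_le]
    · rw [h.cardP, Nat.card_zpowers]
      have hd : orderOf y ∣ p := orderOf_dvd_of_pow_eq_one (h.pow_eq_one hy)
      rcases (Nat.dvd_prime h.prime).mp hd with h1 | h1
      · exact absurd (orderOf_eq_one_iff.mp h1) hne
      · exact h1.ge
  have : u ∈ centralizer (P : Set G) := by
    rw [← hz]
    rw [Subgroup.mem_centralizer_iff]
    intro k hk
    obtain ⟨n, rfl⟩ := Subgroup.mem_zpowers_iff.mp hk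
    exact ((Commute.zpow_left (show Commute y u from hc.symm) n)).eq
  rw [h.cent] at this
  exact huP this

theorem DihData.mul_self (h : DihData P p) {u : G} (hu : u ∈ normalizer (P : Set G))
    (huP : u ∉ P) : u * u = 1 := by
  have hidx : (P.subgroupOf (normalizer (P : Set G))).index = 2 := h.relIndex
  have h1 := Subgroup.mul_self_mem_of_index_two hidx ⟨u, hu⟩
  rw [Subgroup.mem_subgroupOf] at h1
  exact h.eq_one_of_commute hu huP h1 (by simp [mul_assoc])

theorem DihData.conj_eq_inv (h : DihData P p) {u : G} (hu : u ∈ normalizer (P : Set G))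
    (huP : u ∉ P) {y : G} (hy : y ∈ P) : u * y * u⁻¹ = y⁻¹ := by
  have huu := h.mul_self hu huP
  have hui : u⁻¹ = u := inv_eq_of_mul_eq_one_left huu
  have hy' : u * y * u⁻¹ ∈ P := (Subgroup.mem_normalizer_iff.mp hu y).mp hy
  have hprod : y * (u * y * u⁻¹) ∈ P := P.mul_mem hy hy'
  have hfix : u * (y * (u * y * u⁻¹)) = (y * (u * y * u⁻¹)) * u := by
    have e1 : u * (y * (u * y * u⁻¹)) = (u * y * u⁻¹) * (u * u) * y * u⁻¹ := by group
    rw [e1, huu, mul_one, h.comm hy' hy, hui]
  have := h.eq_one_of_commute hu huP hprod hfix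
  exact (inv_eq_of_mul_eq_one_right this).symm ▸ rfl

theorem DihData.inv_mul_mem (h : DihData P p) {u u' : G} (hu : u ∈ normalizer (P : Set G))
    (huP : u ∉ P) (hu' : u' ∈ normalizer (P : Set G)) (huP' : u' ∉ P) : u⁻¹ * u' ∈ P := by
  have hidx : (P.subgroupOf (normalizer (P : Set G))).index = 2 := h.relIndex
  have h1 := (Subgroup.mul_mem_iff_of_index_two hidx (a := (⟨u, hu⟩ : normalizer (P : Set G))⁻¹)
    (b := ⟨u', hu'⟩)).mpr (by
      rw [Subgroup.inv_mem_iff]
      simp only [Subgroup.mem_subgroupOf]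
      exact ⟨fun hh => absurd hh huP, fun hh => absurd hh huP'⟩)
  rw [Subgroup.mem_subgroupOf] at h1
  simpa using h1

/-- elements of `N(P) \ P` are conjugate under `P`. -/
theorem DihData.exists_conj (h : DihData P p) {u u' : G} (hu : u ∈ normalizer (P : Set G))
    (huP : u ∉ P) (hu' : u' ∈ normalizer (P : Set G)) (huP' : u' ∉ P) :
    ∃ w ∈ P, u' = w * u * w⁻¹ := by
  have hy := h.inv_mul_mem hu huP hu' huP'
  set y := u⁻¹ * u' with hydef
  have hu'eq : u' = u * y := by rw [hydef]; group
  obtain ⟨k, hk⟩ : ∃ k, p + 1 = 2 * k := by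
    rcases h.prime.eq_two_or_odd with h2 | h2
    · exact absurd h2 h.odd
    · exact ⟨(p + 1) / 2, by omega⟩
  refine ⟨(y ^ k)⁻¹, P.inv_mem (P.pow_mem hy k), ?_⟩
  have hyk : y ^ k ∈ P := P.pow_mem hy k
  have hinv := h.conj_eq_inv hu huP hyk
  have huu := h.mul_self hu huP
  have hui : u⁻¹ = u := inv_eq_of_mul_eq_one_left huu
  -- u * y^k * u = (y^k)⁻¹
  have h2 : y ^ k * y ^ k = y := by
    rw [← pow_add, ← two_mul, ← hk, pow_succ, h.pow_eq_one hy, one_mul]
  rw [hu'eq, inv_inv]
  have h3 : u * y ^ k = (y ^ k)⁻¹ * u := by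
    have : u * y ^ k * u⁻¹ * u = (y ^ k)⁻¹ * u := by rw [hinv]
    simpa using this
  calc u * y = u * (y ^ k * y ^ k) := by rw [h2]
    _ = (u * y ^ k) * y ^ k := by group
    _ = (y ^ k)⁻¹ * u * y ^ k := by rw [h3]

/-- centralizer of `u` in `N(P)`. -/
theorem DihData.eq_of_commute (h : DihData P p) {u k : G} (hu : u ∈ normalizer (P : Set G))
    (huP : u ∉ P) (hk : k ∈ normalizer (P : Set G)) (hc : u * k = k * u) : k = 1 ∨ k = u := by
  by_cases hkP : k ∈ P
  · left; exact h.eq_one_of_commute hu huP hkP hc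
  · right
    have hy := h.inv_mul_mem hu huP hk hkP
    have : u⁻¹ * k = 1 := by
      apply h.eq_one_of_commute hu huP hy
      rw [← mul_assoc, mul_inv_cancel, one_mul, mul_assoc, ← hc, ← mul_assoc, inv_mul_cancel, one_mul]
    calc k = u * (u⁻¹ * k) := by group
      _ = u := by rw [this, mul_one]

theorem DihData.exists_not_mem (h : DihData P p) : ∃ u ∈ normalizer (P : Set G), u ∉ P := by
  by_contra hcon
  push Not at hcon
  have : normalizer (P : Set G) = P := le_antisymm hcon le_normalizer
  have h1 := h.cardN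
  rw [this, h.cardP] at h1
  have := h.prime.pos
  omega

end dihedral

section fixed
variable {G : Type*} [Group G] [Finite G]

theorem card_centralizer_conj (w s : G) :
    Nat.card (centralizer ({w * s * w⁻¹} : Set G)) = Nat.card (centralizer ({s} : Set G)) := by
  refine Nat.card_congr ⟨fun k => ⟨w⁻¹ * k * w, ?_⟩, fun k => ⟨w * k * w⁻¹, ?_⟩, ?_, ?_⟩
  · have := k.2
    rw [mem_centralizer_singleton_iff] at this ⊢
    have e : w * s * w⁻¹ = w * s * w⁻¹ := rfl
    calc w⁻¹ * ↑k * w * s = w⁻¹ * (↑k * (w * s * w⁻¹)) * w := by group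
      _ = w⁻¹ * ((w * s * w⁻¹) * ↑k) * w := by rw [this]
      _ = s * (w⁻¹ * ↑k * w) := by group
  · have := k.2
    rw [mem_centralizer_singleton_iff] at this ⊢
    calc w * ↑k * w⁻¹ * (w * s * w⁻¹) = w * (↑k * s) * w⁻¹ := by group
      _ = w * (s * ↑k) * w⁻¹ := by rw [this]
      _ = w * s * w⁻¹ * (w * ↑k * w⁻¹) := by group
  · intro k; ext; simp; group
  · intro k; ext; simp; group

variable {p : ℕ} [Fact p.Prime]

/-- `|C(u)| ≤ 2 * #{Sylows fixed by u}` for `u ∈ N(P) \ P`. -/
theorem card_centralizer_le (P : Sylow p G) (h : DihData (P : Subgroup G) p) {u : G}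
    (hu : u ∈ normalizer ((P : Subgroup G) : Set G)) (huP : u ∉ (P : Subgroup G)) :
    Nat.card (centralizer ({u} : Set G)) ≤ 2 * Nat.card {P' : Sylow p G // u • P' = P'} := by
  classical
  have := Fintype.ofFinite G
  have := Fintype.ofFinite (Sylow p G)
  have hc : Nat.card (centralizer ({u} : Set G)) =
      (Finset.univ.filter (fun c : G => c ∈ centralizer ({u} : Set G))).card := by
    rw [Nat.card_eq_fintype_card, Fintype.card_subtype]
  have hm : Nat.card {P' : Sylow p G // u • P' = P'} =
      (Finset.univ.filter (fun P' : Sylow p G => u • P' = P')).card := by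
    rw [Nat.card_eq_fintype_card, Fintype.card_subtype]
  rw [hc, hm]
  have hsub : (Finset.univ.filter (fun c : G => c ∈ centralizer ({u} : Set G))).image (fun k => k • P)
      ⊆ Finset.univ.filter (fun P' : Sylow p G => u • P' = P') := by
    intro Q hQ
    rw [Finset.mem_image] at hQ
    obtain ⟨k, hk, rfl⟩ := hQ
    rw [Finset.mem_filter] at hk ⊢
    refine ⟨Finset.mem_univ _, ?_⟩
    have hk2 := hk.2
    rw [mem_centralizer_singleton_iff] at hk2
    have huPfix : u • P = P := Sylow.smul_eq_iff_mem_normalizer.mpr hu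
    rw [← mul_smul, ← hk2, mul_smul, huPfix]
  refine le_trans (Finset.card_le_mul_card_image _ 2 ?_) (Nat.mul_le_mul_left 2 (Finset.card_le_card hsub))
  intro Q hQ
  rw [Finset.mem_image] at hQ
  obtain ⟨k0, hk0, rfl⟩ := hQ
  have hk0' : k0 * u = u * k0 := by
    have := (Finset.mem_filter.mp hk0).2
    rwa [mem_centralizer_singleton_iff] at this
  have : (Finset.univ.filter (fun c : G => c ∈ centralizer ({u} : Set G))).filter
      (fun x => x • P = k0 • P) ⊆ {k0, k0 * u} := by
    intro k hk
    rw [Finset.mem_filter, Finset.mem_filter] at hk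
    have hk1 : k * u = u * k := by
      have := hk.1.2
      rwa [mem_centralizer_singleton_iff] at this
    have hk2 : (k0⁻¹ * k) • P = P := by
      rw [mul_smul, hk.2, ← mul_smul, inv_mul_cancel, one_smul]
    have hk3 : k0⁻¹ * k ∈ normalizer ((P : Subgroup G) : Set G) :=
      Sylow.smul_eq_iff_mem_normalizer.mp hk2
    have hcomm : u * (k0⁻¹ * k) = (k0⁻¹ * k) * u := by
      have e1 : u * k0⁻¹ = k0⁻¹ * u := by
        have : k0⁻¹ * (k0 * u) * k0⁻¹ = k0⁻¹ * (u * k0) * k0⁻¹ := by rw [hk0']
        simpa [mul_assoc] using this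
      rw [← mul_assoc, e1, mul_assoc, ← hk1, ← mul_assoc]
    rcases h.eq_of_commute hu huP hk3 hcomm with h1 | h1
    · rw [Finset.mem_insert]; left
      have : k = k0 * (k0⁻¹ * k) := by group
      rw [this, h1, mul_one]
    · rw [Finset.mem_insert, Finset.mem_singleton]; right
      have : k = k0 * (k0⁻¹ * k) := by group
      rw [this, h1]
  exact le_trans (Finset.card_le_card this) Finset.card_le_two

/-- a nontrivial element of `P` generates it. -/
theorem DihData.zpowers_eq {P : Subgroup G} (h : DihData P p) {y : G} (hy : y ∈ P) (hne : y ≠ 1) :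
    zpowers y = P := by
  apply Subgroup.eq_of_le_of_card_ge
  · rwa [zpowers_le]
  · rw [h.cardP, Nat.card_zpowers]
    have hd : orderOf y ∣ p := orderOf_dvd_of_pow_eq_one (h.pow_eq_one hy)
    rcases (Nat.dvd_prime h.prime).mp hd with h1 | h1
    · exact absurd (orderOf_eq_one_iff.mp h1) hne
    · exact h1.ge

theorem card_compl_eq (P : Subgroup G) (h : DihData P p) [Fintype G] [DecidableEq G]
    [DecidablePred (fun u : G => u ∈ normalizer (P : Set G) ∧ u ∉ P)] :
    (Finset.univ.filter (fun u : G => u ∈ normalizer (P : Set G) ∧ u ∉ P)).card = p := by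
  classical
  have h1 : (Finset.univ.filter (fun u : G => u ∈ normalizer (P : Set G))).card = 2 * p := by
    rw [← h.cardN, Nat.card_eq_fintype_card, Fintype.card_subtype]
  have h2 : (Finset.univ.filter (fun u : G => u ∈ P)).card = p := by
    rw [← h.cardP, Nat.card_eq_fintype_card, Fintype.card_subtype]
  have h3 : Finset.univ.filter (fun u : G => u ∈ normalizer (P : Set G) ∧ u ∉ P) =
      (Finset.univ.filter (fun u : G => u ∈ normalizer (P : Set G))) \
        (Finset.univ.filter (fun u : G => u ∈ P)) := by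
    ext u
    simp
  have h4 : (Finset.univ.filter (fun u : G => u ∈ P)) ⊆
      (Finset.univ.filter (fun u : G => u ∈ normalizer (P : Set G))) := by
    intro u hu
    rw [Finset.mem_filter] at hu ⊢
    exact ⟨hu.1, le_normalizer hu.2⟩
  rw [h3, Finset.card_sdiff_of_subset h4, h1, h2]
  omega

theorem mul_card_centralizer_le (hall : ∀ P' : Sylow p G, DihData (P' : Subgroup G) p)
    (P : Sylow p G) {s : G} (hs : s ∈ normalizer ((P : Subgroup G) : Set G))
    (hsP : s ∉ (P : Subgroup G)) :
    p * Nat.card (centralizer ({s} : Set G)) + 2 ≤ 2 * Nat.card (Sylow p G) + 2 * p := by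
  classical
  have := Fintype.ofFinite G
  have := Fintype.ofFinite (Sylow p G)
  have h := hall P
  set U := Finset.univ.filter (fun u : G => u ∈ normalizer ((P : Subgroup G) : Set G) ∧ u ∉ (P : Subgroup G)) with hUdef
  have hU : U.card = p := card_compl_eq (P : Subgroup G) h
  let M : G → Finset (Sylow p G) := fun u => Finset.univ.filter (fun P' : Sylow p G => u • P' = P')
  have hmemU : ∀ u, u ∈ U ↔ u ∈ normalizer ((P : Subgroup G) : Set G) ∧ u ∉ (P : Subgroup G) := by
    intro u; rw [hUdef, Finset.mem_filter]; simp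
  have hPM : ∀ u ∈ U, P ∈ M u := by
    intro u hu
    rw [Finset.mem_filter]
    exact ⟨Finset.mem_univ _, Sylow.smul_eq_iff_mem_normalizer.mpr ((hmemU u).mp hu).1⟩
  -- disjointness
  have hdisj : (U : Set G).PairwiseDisjoint (fun u => M u \ {P}) := by
    intro u hu u' hu' hne
    rw [Function.onFun, Finset.disjoint_left]
    intro Q hQ hQ'
    rw [Finset.mem_sdiff, Finset.mem_filter, Finset.mem_singleton] at hQ hQ'
    have hu1 := (hmemU u).mp hu
    have hu1' := (hmemU u').mp hu'
    have hy := h.inv_mul_mem hu1.1 hu1.2 hu1'.1 hu1'.2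
    have hy1 : u⁻¹ * u' ≠ 1 := by
      intro h1
      apply hne
      have : u' = u * (u⁻¹ * u') := by group
      rw [this, h1, mul_one]
    have hz := h.zpowers_eq hy hy1
    have hfix : (u⁻¹ * u') • Q = Q := by
      rw [mul_smul, hQ'.1.2, inv_smul_eq_iff, hQ.1.2]
    have hle : (P : Subgroup G) ≤ normalizer ((Q : Subgroup G) : Set G) := by
      rw [← hz, zpowers_le]
      exact Sylow.smul_eq_iff_mem_normalizer.mp hfix
    have hPQ : (P : Subgroup G) ≤ Q := by
      have := (IsPGroup.inf_normalizer_sylow P.2 Q)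
      exact (le_inf le_rfl hle).trans (this.le.trans inf_le_right)
    have : (P : Subgroup G) = Q := Subgroup.eq_of_le_of_card_ge hPQ (by rw [(hall Q).cardP, h.cardP])
    exact hQ.2 (Sylow.ext this).symm
  have hcardU := Finset.card_biUnion hdisj
  have hle1 : (U.biUnion (fun u => M u \ {P})).card ≤ Fintype.card (Sylow p G) - 1 := by
    have : U.biUnion (fun u => M u \ {P}) ⊆ Finset.univ \ {P} := by
      intro Q hQ
      rw [Finset.mem_biUnion] at hQ
      obtain ⟨u, _, hQ⟩ := hQ
      rw [Finset.mem_sdiff] at hQ ⊢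
      exact ⟨Finset.mem_univ _, hQ.2⟩
    refine le_trans (Finset.card_le_card this) ?_
    rw [Finset.card_sdiff_of_subset (Finset.subset_univ _), Finset.card_univ, Finset.card_singleton]
  have hc : ∀ u ∈ U, Nat.card (centralizer ({s} : Set G)) ≤ 2 * ((M u \ {P}).card + 1) := by
    intro u hu
    have hu1 := (hmemU u).mp hu
    obtain ⟨w, hw, rfl⟩ := h.exists_conj hs hsP hu1.1 hu1.2
    have h1 := card_centralizer_le P h hu1.1 hu1.2
    rw [card_centralizer_conj] at h1
    refine le_trans h1 ?_
    have h2 : Nat.card {P' : Sylow p G // (w * s * w⁻¹) • P' = P'} = (M (w * s * w⁻¹)).card := by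
      rw [Nat.card_eq_fintype_card, Fintype.card_subtype]
    rw [h2]
    have h3 : (M (w * s * w⁻¹) \ {P}).card = (M (w * s * w⁻¹)).card - 1 := by
      rw [Finset.card_sdiff_of_subset (Finset.singleton_subset_iff.mpr (hPM _ hu)), Finset.card_singleton]
    have h4 : 0 < (M (w * s * w⁻¹)).card := Finset.card_pos.mpr ⟨P, hPM _ hu⟩
    omega
  have hsum : ∑ u ∈ U, Nat.card (centralizer ({s} : Set G)) ≤ ∑ u ∈ U, 2 * ((M u \ {P}).card + 1) :=
    Finset.sum_le_sum hc
  rw [Finset.sum_const, smul_eq_mul, hU, ← Finset.mul_sum, Finset.sum_add_distrib, ← hcardU,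
    Finset.sum_const, smul_eq_mul, hU, mul_one] at hsum
  have hpos : 0 < Fintype.card (Sylow p G) := Fintype.card_pos
  rw [Nat.card_eq_fintype_card (α := Sylow p G)]
  omega

end fixed

section counting2
variable {G : Type*} [Group G] [Fintype G] [DecidableEq G]

/-- The weighted counting inequality for a set `C` of involutions. -/
theorem count_ineq (C : Finset G) (hC : ∀ u ∈ C, u * u = 1) (p1 p2 : G → Prop)
    [DecidablePred p1] [DecidablePred p2] (W A B : ℕ)
    (h1 : ∀ g, p1 g → ¬ p2 g ∧ g ≠ 1 ∧ Nat.card (centralizer ({g} : Set G)) + A ≤ W)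
    (h2 : ∀ g, p2 g → g ≠ 1 ∧ Nat.card (centralizer ({g} : Set G)) + B ≤ W)
    (h3 : ∀ g, g ≠ 1 → ¬ p1 g → ¬ p2 g → Nat.card (centralizer ({g} : Set G)) ≤ W) :
    C.card * C.card + A * (Finset.univ.filter p1).card + B * (Finset.univ.filter p2).card ≤
      C.card + W * (Fintype.card G - 1) := by
  classical
  have hpt : ∀ g : G, (C.filter (fun u => u⁻¹ * g ∈ C)).card + (if p1 g then A else 0) +
      (if p2 g then B else 0) ≤ (if g = 1 then C.card else W) := by
    intro g
    have hb := card_filter_le_centralizer C hC g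
    by_cases hg1 : g = 1
    · have hp1 : ¬ p1 g := fun h => (h1 g h).2.1 hg1
      have hp2 : ¬ p2 g := fun h => (h2 g h).1 hg1
      rw [if_neg hp1, if_neg hp2, if_pos hg1, add_zero, add_zero]
      exact Finset.card_filter_le _ _
    · rw [if_neg hg1]
      by_cases hp1 : p1 g
      · have := h1 g hp1
        rw [if_pos hp1, if_neg this.1]
        omega
      · by_cases hp2 : p2 g
        · have := h2 g hp2
          rw [if_neg hp1, if_pos hp2]
          omega
        · have := h3 g hg1 hp1 hp2
          rw [if_neg hp1, if_neg hp2]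
          omega
  have hsum := Finset.sum_le_sum (s := Finset.univ) (fun g _ => hpt g)
  rw [Finset.sum_add_distrib, Finset.sum_add_distrib, ← card_mul_card_eq_sum] at hsum
  rw [← Finset.sum_filter, ← Finset.sum_filter, Finset.sum_const, Finset.sum_const, smul_eq_mul,
    smul_eq_mul] at hsum
  rw [Finset.sum_ite, Finset.sum_const, Finset.sum_const, smul_eq_mul, smul_eq_mul] at hsum
  have e1 : (Finset.univ.filter (fun g : G => g = 1)).card = 1 := by
    rw [Finset.filter_eq']; simp
  have e2 : (Finset.univ.filter (fun g : G => ¬ g = 1)).card = Fintype.card G - 1 := by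
    rw [Finset.filter_ne']; simp
  rw [e1, e2, one_mul] at hsum
  calc C.card * C.card + A * (Finset.univ.filter p1).card + B * (Finset.univ.filter p2).card
      = C.card * C.card + (Finset.univ.filter p1).card * A + (Finset.univ.filter p2).card * B := by ring
    _ ≤ C.card + (Fintype.card G - 1) * W := hsum
    _ = C.card + W * (Fintype.card G - 1) := by ring

end counting2

end Cfsg.Agent.Lib.Helper5.InvCount
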