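import Mathlib

set_option autoImplicit false

namespace Cfsg.Agent.Lib.Helper5.JacobiBound

open MulChar

theorem norm_apply_neg_one {F : Type*} [Field F] [Fintype F] (χ : MulChar F ℂ) :
    ‖χ (-1)‖ = 1 := by
  have h : χ (-1) * χ (-1) = 1 := by
    rw [← map_mul]; simp
  have h2 : ‖χ (-1)‖ * ‖χ (-1)‖ = 1 := by
    rw [← norm_mul, h, norm_one]
  have h3 : 0 ≤ ‖χ (-1)‖ := norm_nonneg _
  nlinarith

theorem jacobiSum_inv_inv {F : Type*} [Field F] [Fintype F] (χ φ : MulChar F ℂ) :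
    jacobiSum χ⁻¹ φ⁻¹ = (starRingEnd ℂ) (jacobiSum χ φ) := by
  rw [← jacobiSum_ringHomComp, ← star_eq_inv, ← star_eq_inv]
  rfl

theorem norm_jacobiSum_le {F : Type*} [Field F] [Fintype F] (χ φ : MulChar F ℂ)
    (h : ¬ (χ = 1 ∧ φ = 1)) : ‖jacobiSum χ φ‖ ≤ Real.sqrt (Fintype.card F) := by
  classical
  have hcard : (1 : ℝ) ≤ Real.sqrt (Fintype.card F) := by
    rw [Real.one_le_sqrt]
    exact_mod_cast Fintype.card_pos
  by_cases hχ : χ = 1
  · have hφ : φ ≠ 1 := fun hh => h ⟨hχ, hh⟩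
    rw [hχ, jacobiSum_one_nontrivial hφ]
    simpa using hcard
  by_cases hφ : φ = 1
  · rw [hφ, jacobiSum_comm, jacobiSum_one_nontrivial hχ]
    simpa using hcard
  by_cases hχφ : χ * φ = 1
  · have : φ = χ⁻¹ := eq_inv_of_mul_eq_one_right hχφ
    rw [this, jacobiSum_nontrivial_inv hχ, norm_neg, norm_apply_neg_one]
    exact hcard
  · have hchar : ringChar ℂ ≠ ringChar F := by
      rw [ringChar.eq_zero]
      intro hh
      have := CharP.char_is_prime_or_zero F (ringChar F)
      rcases this with h1 | h1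
      · rw [← hh] at h1; exact Nat.not_prime_zero h1
      · have : CharZero F := by
          have := ringChar.eq_iff.mp h1
          exact CharP.charP_to_charZero F
        exact not_finite F
    have hJ := jacobiSum_mul_jacobiSum_inv hchar hχ hφ hχφ
    rw [jacobiSum_inv_inv, Complex.mul_conj, Complex.normSq_eq_norm_sq] at hJ
    have hJ' : ‖jacobiSum χ φ‖ ^ 2 = (Fintype.card F : ℝ) := by exact_mod_cast hJ
    rw [← hJ', Real.sqrt_sq (norm_nonneg _)]

end Cfsg.Agent.Lib.Helper5.JacobiBound
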