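import Mathlib
import Cfsg.Agent.Lib.Helper5.JacobiBound

set_option autoImplicit false

namespace Cfsg.Agent.Lib.Helper5.JacobiBound

open MulChar

variable (p q : ℕ) [Fact p.Prime]

/-- the character `χ ∘ N` of the big field. -/
noncomputable def normChar (χ : MulChar (ZMod p) ℂ) : MulChar (GaloisField p q) ℂ where
  toMonoidHom := χ.toMonoidHom.comp (Algebra.norm (ZMod p))
  map_nonunit' := by
    intro a ha
    have h0 : a = 0 := by
      by_contra hne
      exact ha (isUnit_iff_ne_zero.mpr hne)
    subst h0
    show χ (Algebra.norm (ZMod p) (0 : GaloisField p q)) = 0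
    rw [Algebra.norm_zero]
    exact χ.map_nonunit not_isUnit_zero

theorem normChar_apply (χ : MulChar (ZMod p) ℂ) (a : GaloisField p q) :
    normChar p q χ a = χ (Algebra.norm (ZMod p) a) := rfl

theorem normChar_one : normChar p q (1 : MulChar (ZMod p) ℂ) = 1 := by
  ext a
  rw [normChar_apply]
  have ha : Algebra.norm (ZMod p) (a : GaloisField p q) ≠ 0 := by
    rw [Algebra.norm_ne_zero_iff]; exact a.ne_zero
  rw [MulChar.one_apply (isUnit_iff_ne_zero.mpr ha), MulChar.one_apply a.isUnit]

theorem eq_one_of_normChar_eq_one (χ : MulChar (ZMod p) ℂ) (h : normChar p q χ = 1) : χ = 1 := by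
  ext u
  obtain ⟨a, ha⟩ := FiniteField.unitsMap_norm_surjective (ZMod p) (GaloisField p q) u
  have h1 : normChar p q χ (a : GaloisField p q) = 1 := by
    rw [h, MulChar.one_apply a.isUnit]
  rw [normChar_apply] at h1
  have h2 : Algebra.norm (ZMod p) (a : GaloisField p q) = (u : ZMod p) := by
    have := congrArg Units.val ha
    simpa using this
  rw [h2] at h1
  rw [h1, MulChar.one_apply u.isUnit]

theorem norm_mulChar_le_one {F : Type*} [Field F] [Fintype F] (χ : MulChar F ℂ) (a : F) :
    ‖χ a‖ ≤ 1 := by
  by_cases ha : a = 0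
  · subst ha
    rw [χ.map_nonunit not_isUnit_zero]; simp
  · have h1 : a ^ (Fintype.card F - 1) = 1 := FiniteField.pow_card_sub_one_eq_one a ha
    have h2 : χ a ^ (Fintype.card F - 1) = 1 := by rw [← map_pow, h1, map_one]
    have hn : Fintype.card F - 1 ≠ 0 := by
      have := Fintype.one_lt_card (α := F)
      omega
    exact le_of_eq (Complex.norm_eq_one_of_pow_eq_one h2 hn)

end Cfsg.Agent.Lib.Helper5.JacobiBound
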