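import Mathlib
import Cfsg.Agent.Lib.Helper5.JacobiBoundB

set_option autoImplicit false

namespace Cfsg.Agent.Lib.Helper5.JacobiBound

open MulChar

variable (p q : ℕ) [Fact p.Prime]

theorem sum_twist [Fintype (GaloisField p q)] (h2 : (2 : GaloisField p q) ≠ 0)
    (ψ φ : MulChar (GaloisField p q) ℂ) :
    ∑ a : GaloisField p q, ψ a * φ (2 - a) = ψ 2 * φ 2 * jacobiSum ψ φ := by
  unfold jacobiSum
  rw [Finset.mul_sum, ← Equiv.sum_comp (Equiv.mulLeft₀ (2 : GaloisField p q) h2)]
  apply Finset.sum_congr rfl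
  intro x _
  simp only [Equiv.mulLeft₀_apply]
  rw [show (2 : GaloisField p q) - 2 * x = 2 * (1 - x) by ring, map_mul, map_mul]
  ring

theorem sum_char (u : ZMod p) :
    ∑ χ : DirichletCharacter ℂ p, χ u = if u = 1 then ((p - 1 : ℕ) : ℂ) else 0 := by
  rw [DirichletCharacter.sum_characters_eq, Nat.totient_prime Fact.out]

theorem card_char : Fintype.card (DirichletCharacter ℂ p) = p - 1 := by
  rw [← Nat.card_eq_fintype_card, DirichletCharacter.card_eq_totient_of_hasEnoughRootsOfUnity ℂ p,
    Nat.totient_prime Fact.out]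

/-- the triple sum equals `(p-1)^2` times the count. -/
theorem triple_sum_eq_count [Fintype (GaloisField p q)] [DecidableEq (GaloisField p q)] :
    ∑ χ : DirichletCharacter ℂ p, ∑ φ : DirichletCharacter ℂ p, ∑ a : GaloisField p q,
      normChar p q χ a * normChar p q φ (2 - a) =
    ((p - 1 : ℕ) : ℂ) ^ 2 * ((Finset.univ.filter (fun a : GaloisField p q =>
      Algebra.norm (ZMod p) a = 1 ∧ Algebra.norm (ZMod p) (2 - a) = 1)).card : ℂ) := by
  have h1 : ∀ χ : DirichletCharacter ℂ p, ∑ φ : DirichletCharacter ℂ p, ∑ a : GaloisField p q,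
      normChar p q χ a * normChar p q φ (2 - a) =
      ∑ a : GaloisField p q, ∑ φ : DirichletCharacter ℂ p,
        normChar p q χ a * normChar p q φ (2 - a) := fun χ => Finset.sum_comm
  rw [Finset.sum_congr rfl (fun χ _ => h1 χ), Finset.sum_comm]
  have h2 : ∀ a : GaloisField p q, ∑ χ : DirichletCharacter ℂ p, ∑ φ : DirichletCharacter ℂ p,
      normChar p q χ a * normChar p q φ (2 - a) =
      if (Algebra.norm (ZMod p) a = 1 ∧ Algebra.norm (ZMod p) (2 - a) = 1) then
        ((p - 1 : ℕ) : ℂ) ^ 2 else 0 := by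
    intro a
    rw [← Finset.sum_mul_sum]
    simp only [normChar_apply]
    rw [sum_char, sum_char]
    by_cases ha : Algebra.norm (ZMod p) a = 1 <;> by_cases hb : Algebra.norm (ZMod p) (2 - a) = 1
    · simp only [ha, hb, and_self, if_true, pow_two]
    · simp only [ha, hb, and_false, if_false, if_true, mul_zero]
    · simp only [ha, hb, false_and, if_false, if_true, zero_mul]
    · simp only [ha, hb, and_self, if_false, zero_mul]
  rw [Finset.sum_congr rfl (fun a _ => h2 a), ← Finset.sum_filter, Finset.sum_const, nsmul_eq_mul]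
  ring

end Cfsg.Agent.Lib.Helper5.JacobiBound
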