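import Mathlib
import Cfsg.Agent.Lib.Helper5.JacobiBoundC

set_option autoImplicit false

namespace Cfsg.Agent.Lib.Helper5.JacobiBound

open MulChar

variable (p q : ℕ) [Fact p.Prime]

theorem count_bound [Fintype (GaloisField p q)] [DecidableEq (GaloisField p q)]
    (h2 : (2 : GaloisField p q) ≠ 0) (hq : q ≠ 0) :
    (p : ℝ) ^ q - 2 - (((p : ℝ) - 1) ^ 2 - 1) * Real.sqrt ((p : ℝ) ^ q) ≤
      ((p : ℝ) - 1) ^ 2 * ((Finset.univ.filter (fun a : GaloisField p q =>
      Algebra.norm (ZMod p) a = 1 ∧ Algebra.norm (ZMod p) (2 - a) = 1)).card : ℝ) := by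
  classical
  set Ec := (Finset.univ.filter (fun a : GaloisField p q =>
      Algebra.norm (ZMod p) a = 1 ∧ Algebra.norm (ZMod p) (2 - a) = 1)).card with hEc
  have hp1 : 1 ≤ p := (Fact.out : p.Prime).one_lt.le
  have hcardL : Fintype.card (GaloisField p q) = p ^ q := by
    rw [← Nat.card_eq_fintype_card, GaloisField.card p q hq]
  set s : ℝ := Real.sqrt ((p : ℝ) ^ q) with hs
  have hs' : Real.sqrt (Fintype.card (GaloisField p q) : ℝ) = s := by
    rw [hcardL, hs]; push_cast; rfl
  -- the function on pairs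
  let Fn : DirichletCharacter ℂ p × DirichletCharacter ℂ p → ℂ := fun x =>
    normChar p q x.1 2 * normChar p q x.2 2 * jacobiSum (normChar p q x.1) (normChar p q x.2)
  have hT := triple_sum_eq_count p q
  have hT2 : ∑ χ : DirichletCharacter ℂ p, ∑ φ : DirichletCharacter ℂ p, ∑ a : GaloisField p q,
      normChar p q χ a * normChar p q φ (2 - a) = ∑ x : DirichletCharacter ℂ p × DirichletCharacter ℂ p, Fn x := by
    rw [Fintype.sum_prod_type]
    apply Finset.sum_congr rfl; intro χ _
    apply Finset.sum_congr rfl; intro φ _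
    exact sum_twist p q h2 _ _
  rw [hT2, ← Finset.add_sum_erase Finset.univ Fn (Finset.mem_univ (1, 1))] at hT
  have hF11 : Fn (1, 1) = ((p ^ q : ℕ) : ℂ) - 2 := by
    show normChar p q 1 2 * normChar p q 1 2 * jacobiSum (normChar p q 1) (normChar p q 1) = _
    rw [normChar_one, MulChar.one_apply (isUnit_iff_ne_zero.mpr h2), jacobiSum_one_one, hcardL]
    ring
  have hbound : ‖∑ x ∈ Finset.univ.erase ((1 : DirichletCharacter ℂ p), (1 : DirichletCharacter ℂ p)), Fn x‖ ≤
      (((p : ℝ) - 1) ^ 2 - 1) * s := by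
    have h1 : ∀ x ∈ Finset.univ.erase ((1 : DirichletCharacter ℂ p), (1 : DirichletCharacter ℂ p)), ‖Fn x‖ ≤ s := by
      intro x hx
      have hx' : x ≠ (1, 1) := Finset.ne_of_mem_erase hx
      have hne : ¬ (normChar p q x.1 = 1 ∧ normChar p q x.2 = 1) := by
        rintro ⟨ha, hb⟩
        apply hx'
        exact Prod.ext (eq_one_of_normChar_eq_one p q _ ha) (eq_one_of_normChar_eq_one p q _ hb)
      have hJ := norm_jacobiSum_le _ _ hne
      rw [hs'] at hJ
      show ‖normChar p q x.1 2 * normChar p q x.2 2 * jacobiSum (normChar p q x.1) (normChar p q x.2)‖ ≤ s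
      rw [norm_mul, norm_mul]
      have ha := norm_mulChar_le_one (normChar p q x.1) 2
      have hb := norm_mulChar_le_one (normChar p q x.2) 2
      have hs0 : 0 ≤ s := Real.sqrt_nonneg _
      calc ‖normChar p q x.1 2‖ * ‖normChar p q x.2 2‖ * ‖jacobiSum (normChar p q x.1) (normChar p q x.2)‖
          ≤ 1 * 1 * s := by
            apply mul_le_mul _ hJ (norm_nonneg _) (by norm_num)
            exact mul_le_mul ha hb (norm_nonneg _) (by norm_num)
        _ = s := by ring
    have h2' := norm_sum_le_of_le _ h1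
    have hc : ((Finset.univ.erase ((1 : DirichletCharacter ℂ p), (1 : DirichletCharacter ℂ p))).card : ℝ) =
        ((p : ℝ) - 1) ^ 2 - 1 := by
      rw [Finset.card_erase_of_mem (Finset.mem_univ _), Finset.card_univ, Fintype.card_prod, card_char]
      have : 1 ≤ (p - 1) * (p - 1) := by
        have : 2 ≤ p := (Fact.out : p.Prime).two_le
        nlinarith [Nat.sub_add_cancel hp1]
      rw [Nat.cast_sub this, Nat.cast_mul, Nat.cast_sub hp1]
      push_cast; ring
    calc ‖∑ x ∈ Finset.univ.erase ((1 : DirichletCharacter ℂ p), (1 : DirichletCharacter ℂ p)), Fn x‖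
        ≤ ∑ x ∈ Finset.univ.erase ((1 : DirichletCharacter ℂ p), (1 : DirichletCharacter ℂ p)), s := h2'
      _ = (((p : ℝ) - 1) ^ 2 - 1) * s := by rw [Finset.sum_const, nsmul_eq_mul, hc]
  -- now extract the real inequality
  have hreal : ∑ x ∈ Finset.univ.erase ((1 : DirichletCharacter ℂ p), (1 : DirichletCharacter ℂ p)), Fn x =
      (((((p : ℝ) - 1) ^ 2 * (Ec : ℝ) - ((p : ℝ) ^ q - 2) : ℝ)) : ℂ) := by
    have : ∑ x ∈ Finset.univ.erase ((1 : DirichletCharacter ℂ p), (1 : DirichletCharacter ℂ p)), Fn x =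
        ((p - 1 : ℕ) : ℂ) ^ 2 * (Ec : ℂ) - Fn (1, 1) := by
      rw [← hT]; ring
    rw [this, hF11, Nat.cast_sub hp1]
    push_cast
    ring
  rw [hreal, Complex.norm_real, Real.norm_eq_abs] at hbound
  have := neg_abs_le (((p : ℝ) - 1) ^ 2 * (Ec : ℝ) - ((p : ℝ) ^ q - 2))
  linarith

end Cfsg.Agent.Lib.Helper5.JacobiBound
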