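import Mathlib
import Cfsg.Agent.Lib.Helper5.JacobiBoundD

set_option autoImplicit false

namespace Cfsg.Agent.Lib.Helper5.JacobiBound

variable (p q : ℕ) [Fact p.Prime]

theorem two_ne_zero_of_odd (hp2 : p ≠ 2) : (2 : GaloisField p q) ≠ 0 := by
  intro h
  have h' : ((2 : ℕ) : GaloisField p q) = 0 := by exact_mod_cast h
  rw [CharP.cast_eq_zero_iff (GaloisField p q) p] at h'
  exact hp2 ((Nat.prime_dvd_prime_iff_eq Fact.out Nat.prime_two).mp h')

theorem two_le_of_five_le [Fintype (GaloisField p q)] [DecidableEq (GaloisField p q)]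
    (hp2 : p ≠ 2) (hq5 : 5 ≤ q) :
    2 ≤ (Finset.univ.filter (fun a : GaloisField p q =>
      Algebra.norm (ZMod p) a = 1 ∧ Algebra.norm (ZMod p) (2 - a) = 1)).card := by
  by_contra hlt
  push Not at hlt
  have h2 := two_ne_zero_of_odd p q hp2
  have hb := count_bound p q h2 (by omega)
  set Ec := (Finset.univ.filter (fun a : GaloisField p q =>
      Algebra.norm (ZMod p) a = 1 ∧ Algebra.norm (ZMod p) (2 - a) = 1)).card with hEc
  have hEc1 : (Ec : ℝ) ≤ 1 := by exact_mod_cast Nat.lt_succ_iff.mp hlt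
  have hp3 : 3 ≤ p := by
    have := (Fact.out : p.Prime).two_le
    omega
  have hP : (3 : ℝ) ≤ (p : ℝ) := by exact_mod_cast hp3
  set P : ℝ := (p : ℝ) with hPdef
  set s : ℝ := Real.sqrt (P ^ q) with hs
  have hPq0 : 0 ≤ P ^ q := by positivity
  have hss : s * s = P ^ q := Real.mul_self_sqrt hPq0
  have hsP : P ^ 2 < s := by
    rw [hs, Real.lt_sqrt (by positivity)]
    rw [← pow_mul]
    apply pow_lt_pow_right₀ (by linarith) (by omega)
  have hle : (P - 1) ^ 2 * (Ec : ℝ) ≤ (P - 1) ^ 2 := by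
    have : 0 ≤ (P - 1) ^ 2 := by positivity
    nlinarith
  have hmain : s * s - 2 - ((P - 1) ^ 2 - 1) * s ≤ (P - 1) ^ 2 := by
    rw [hss]; linarith
  have hs0 : 0 < s := by nlinarith
  have h1 : s * (s - P ^ 2 + 2 * P) > P ^ 2 * (2 * P) := by
    have ha : s - P ^ 2 + 2 * P > 2 * P := by linarith
    have hb' : 0 < 2 * P := by linarith
    nlinarith
  nlinarith

end Cfsg.Agent.Lib.Helper5.JacobiBound
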