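import Mathlib

namespace Cfsg.Agent.Lib.Helper5.L34

open Matrix

variable {K : Type*} [Field K]

local notation "M3" => Matrix (Fin 3) (Fin 3)

/-- the second coefficient of the characteristic polynomial of a `3 × 3` matrix -/
def s2 (g : M3 K) : K :=
  g 0 0 * g 1 1 + g 0 0 * g 2 2 + g 1 1 * g 2 2 - g 0 1 * g 1 0 - g 0 2 * g 2 0 - g 1 2 * g 2 1

/-- Cayley–Hamilton for `3 × 3` matrices -/
theorem ch3 (g : M3 K) :
    g * g * g = g.trace • (g * g) - s2 g • g + g.det • (1 : M3 K) := by
  ext i j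
  fin_cases i <;> fin_cases j <;>
    simp [Matrix.mul_apply, Fin.sum_univ_three, Matrix.det_fin_three, Matrix.trace, s2] <;> ring

theorem trace_sq (g : M3 K) : (g * g).trace = g.trace ^ 2 - 2 * s2 g := by
  simp [Matrix.mul_apply, Fin.sum_univ_three, Matrix.trace, s2]
  ring

end Cfsg.Agent.Lib.Helper5.L34
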