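import Mathlib
import Cfsg.Agent.Lib.Helper5.L34PSL

namespace Cfsg.Agent.Lib.Helper5.L34

open Matrix

variable {K : Type*} [Field K] [Fintype K]

local notation "M3" => Matrix (Fin 3) (Fin 3)

omit [Fintype K] in
theorem det_one_add_E13 : (1 + E13 : M3 K).det = 1 := by
  rw [Matrix.det_fin_three]
  simp [E13]

/-- normal form of the lifts of involutions of `PSL₃(4)` -/
theorem invol_normal (hK : Fintype.card K = 4) (g : M3 K) (hdet : g.det = 1) (lam : K)
    (hg2 : g ^ 2 = lam • (1 : M3 K)) (hns : ¬ ∃ c : K, g = c • (1 : M3 K)) :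
    ∃ P : M3 K, P.det = 1 ∧ ∃ μ : K, μ ^ 3 = 1 ∧ g * P = P * (μ • (1 + E13)) := by
  have h2 : (2 : K) = 0 := Cfsg.Agent.Lib.Helper5.Spec.two_eq_zero hK
  have htwo : ∀ X : M3 K, X + X = 0 := by
    intro X
    rw [← two_smul K X, h2, zero_smul]
  have hlam : lam ≠ 0 := by
    rintro rfl
    have := congrArg Matrix.det hg2
    rw [Matrix.det_pow, hdet, one_pow, zero_smul, Matrix.det_zero] at this
    exact one_ne_zero this
  set μ : K := lam ^ 2 with hμ
  have hμ2 : μ ^ 2 = lam := by
    rw [hμ, ← pow_mul]; exact pow_four hK lam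
  have hμ0 : μ ≠ 0 := pow_ne_zero 2 hlam
  have hμ3 : μ ^ 3 = 1 := cube_eq_one hK μ hμ0
  set N : M3 K := g + μ • (1 : M3 K) with hN
  have hNN : N * N = 0 := by
    have e : N * N = g ^ 2 + (μ • g + μ • g) + (μ ^ 2) • (1 : M3 K) := by
      rw [hN]
      simp only [add_mul, mul_add, smul_mul_assoc, mul_smul_comm, one_mul, mul_one, smul_smul,
        smul_add]
      rw [pow_two, pow_two]
      abel
    rw [e, htwo, add_zero, hμ2, hg2, htwo]
  have hN0 : N ≠ 0 := by
    intro h
    apply hns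
    refine ⟨μ, ?_⟩
    have : g + μ • (1 : M3 K) + μ • (1 : M3 K) = μ • (1 : M3 K) := by
      rw [← hN, h, zero_add]
    rw [add_assoc, htwo, add_zero] at this
    exact this
  obtain ⟨B, hBdet, hNB⟩ := normal_form N hN0 hNN
  have hgB : g * B = B * (μ • (1 : M3 K) + E13) := by
    have hgN : g = N + μ • (1 : M3 K) := by
      rw [hN, add_assoc, htwo, add_zero]
    rw [hgN, add_mul, hNB, mul_add, smul_mul_assoc, one_mul, mul_smul_comm, mul_one, add_comm]
  set d : K := (B.det * μ)⁻¹ with hd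
  set D : M3 K := Matrix.diagonal ![1, d, μ] with hD
  refine ⟨B * D, ?_, μ, hμ3, ?_⟩
  · rw [Matrix.det_mul, hD, Matrix.det_diagonal, Fin.prod_univ_three]
    simp only [Matrix.cons_val_zero, Matrix.cons_val_one, Matrix.cons_val_two, Matrix.head_cons,
      Matrix.tail_cons, one_mul]
    rw [hd]
    field_simp
  · rw [← mul_assoc, hgB, mul_assoc, mul_assoc]
    congr 1
    ext i j
    fin_cases i <;> fin_cases j <;>
      simp [hD, E13, Matrix.mul_apply, Fin.sum_univ_three, Matrix.diagonal_apply, Matrix.one_apply,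
        mul_comm]

end Cfsg.Agent.Lib.Helper5.L34
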