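import Mathlib
import Cfsg.Agent.Lib.Helper5.L34Invol

namespace Cfsg.Agent.Lib.Helper5.L34

open Matrix

variable {K : Type*} [Field K] [Fintype K]

local notation "M3" => Matrix (Fin 3) (Fin 3)

/-- the standard transvection -/
def T0 : Matrix.SpecialLinearGroup (Fin 3) K := ⟨1 + E13, det_one_add_E13⟩

theorem conj_T0 (hK : Fintype.card K = 4)
    (x : Matrix.ProjectiveSpecialLinearGroup (Fin 3) K) (hx : orderOf x = 2) :
    ∃ p : Matrix.ProjectiveSpecialLinearGroup (Fin 3) K,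
      x = p * QuotientGroup.mk (T0 : Matrix.SpecialLinearGroup (Fin 3) K) * p⁻¹ := by
  obtain ⟨G, rfl⟩ := QuotientGroup.mk_surjective x
  have hx2 : (QuotientGroup.mk G : Matrix.ProjectiveSpecialLinearGroup (Fin 3) K) ^ 2 = 1 := by
    rw [← hx]; exact pow_orderOf_eq_one _
  have hx1 : (QuotientGroup.mk G : Matrix.ProjectiveSpecialLinearGroup (Fin 3) K) ≠ 1 := by
    intro h
    rw [h, orderOf_one] at hx
    omega
  rw [← QuotientGroup.mk_pow] at hx2
  obtain ⟨lam, hlam⟩ := scalar_of_mk_eq_one _ hx2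
  rw [Matrix.SpecialLinearGroup.coe_pow] at hlam
  have hns : ¬ ∃ c : K, G.1 = c • (1 : M3 K) := by
    rintro ⟨c, hc⟩
    exact hx1 (mk_eq_one_of_scalar G c hc)
  obtain ⟨P, hPdet, μ, hμ3, hgP⟩ := invol_normal hK G.1 G.2 lam hlam hns
  let Ps : Matrix.SpecialLinearGroup (Fin 3) K := ⟨P, hPdet⟩
  let Z : Matrix.SpecialLinearGroup (Fin 3) K := ⟨μ • (1 : M3 K), by
    rw [Matrix.det_smul, Matrix.det_one, mul_one, Fintype.card_fin]; exact hμ3⟩
  have hGP : G * Ps = Ps * (Z * T0) := by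
    apply Subtype.ext
    simp only [Matrix.SpecialLinearGroup.coe_mul]
    show G.1 * P = P * (μ • (1 : M3 K) * (1 + E13))
    rw [hgP, smul_mul_assoc, one_mul]
  have hZ : (QuotientGroup.mk Z : Matrix.ProjectiveSpecialLinearGroup (Fin 3) K) = 1 :=
    mk_eq_one_of_scalar Z μ rfl
  refine ⟨QuotientGroup.mk Ps, ?_⟩
  have hG : G = Ps * (Z * T0) * Ps⁻¹ := eq_mul_inv_of_mul_eq hGP
  rw [hG]
  simp only [QuotientGroup.mk_mul, QuotientGroup.mk_inv, hZ, one_mul]

theorem involutions_conj (hK : Fintype.card K = 4)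
    (x y : Matrix.ProjectiveSpecialLinearGroup (Fin 3) K) (hx : orderOf x = 2)
    (hy : orderOf y = 2) : IsConj x y := by
  obtain ⟨p, hp⟩ := conj_T0 hK x hx
  obtain ⟨q, hq⟩ := conj_T0 hK y hy
  rw [isConj_iff]
  refine ⟨q * p⁻¹, ?_⟩
  rw [hp, hq]
  group

end Cfsg.Agent.Lib.Helper5.L34
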