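import Mathlib
import Cfsg.Agent.Lib.Helper5.L34CH
import Cfsg.Agent.Lib.Helper5.L34Explicit

namespace Cfsg.Agent.Lib.Helper5.L34

open Matrix

variable {K : Type*} [Field K]

local notation "M3" => Matrix (Fin 3) (Fin 3)

theorem scalar_of_smul (g : M3 K) (c d : K) (hc : c ≠ 0) (h : c • g = d • (1 : M3 K)) :
    ∃ e : K, g = e • (1 : M3 K) := by
  refine ⟨c⁻¹ * d, ?_⟩
  calc g = c⁻¹ • (c • g) := by rw [smul_smul, inv_mul_cancel₀ hc, one_smul]
    _ = (c⁻¹ * d) • (1 : M3 K) := by rw [h, smul_smul]

variable [Fintype K]

/-- Cayley–Hamilton in characteristic two, determinant one -/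
theorem ch3_char2 (h2 : (2 : K) = 0) (g : M3 K) (hdet : g.det = 1) :
    g * g * g = g.trace • (g * g) + s2 g • g + (1 : M3 K) := by
  have hneg : ∀ X : M3 K, -X = X := by
    intro X
    have : X + X = 0 := by rw [← two_smul K X, h2, zero_smul]
    exact neg_eq_of_add_eq_zero_left this
  rw [ch3 g, hdet, one_smul, sub_eq_add_neg, hneg]

/-- an element of `SL₃(4)` whose cube is scalar is scalar or has cube one -/
theorem cube_scalar (hK : Fintype.card K = 4) (g : M3 K) (hdet : g.det = 1) (lam : K)
    (h3 : g * g * g = lam • (1 : M3 K)) : (∃ c : K, g = c • (1 : M3 K)) ∨ lam = 1 := by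
  have h2 : (2 : K) = 0 := Cfsg.Agent.Lib.Helper5.Spec.two_eq_zero hK
  have hnegK : ∀ x : K, -x = x := by
    intro x
    have : x + x = 0 := by rw [← two_mul, h2, zero_mul]
    exact neg_eq_of_add_eq_zero_left this
  have hch := ch3_char2 h2 g hdet
  rw [h3] at hch
  set t := g.trace with ht
  set s := s2 g with hs
  by_cases ht0 : t = 0
  · rw [ht0, zero_smul, zero_add] at hch
    by_cases hs0 : s = 0
    · right
      rw [hs0, zero_smul, zero_add] at hch
      have := congrFun (congrFun hch 0) 0
      simpa using this
    · left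
      apply scalar_of_smul g s (lam - 1) hs0
      rw [sub_smul, one_smul, hch]; abel
  · -- g * g = α g + β
    set α := s / t with hα
    set β := (lam + 1) / t with hβ
    have hgg : g * g = α • g + β • (1 : M3 K) := by
      have hneg1 : ∀ X : M3 K, -X = X := by
        intro X
        have : X + X = 0 := by rw [← two_smul K X, h2, zero_smul]
        exact neg_eq_of_add_eq_zero_left this
      have e : t • (g * g) = s • g + (lam + 1) • (1 : M3 K) := by
        have : t • (g * g) = lam • (1 : M3 K) - s • g - 1 := by rw [hch]; abel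
        rw [this, sub_eq_add_neg, sub_eq_add_neg, hneg1, hneg1, add_smul, one_smul]; abel
      calc g * g = t⁻¹ • (t • (g * g)) := by rw [smul_smul, inv_mul_cancel₀ ht0, one_smul]
        _ = t⁻¹ • (s • g + (lam + 1) • (1 : M3 K)) := by rw [e]
        _ = α • g + β • (1 : M3 K) := by
          rw [smul_add, smul_smul, smul_smul, hα, hβ, div_eq_inv_mul, div_eq_inv_mul]
    have h3' : g * g * g = (α ^ 2 + β) • g + (α * β) • (1 : M3 K) := by
      rw [hgg, add_mul, smul_mul_assoc, smul_mul_assoc, one_mul, hgg]
      module
    rw [h3] at h3'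
    by_cases hab : α ^ 2 + β = 0
    · right
      rw [hab, zero_smul, zero_add] at h3'
      have hl : lam = α * β := by
        have := congrFun (congrFun h3' 0) 0
        simpa using this
      have hβ' : β = α ^ 2 := by
        have : β = -(α ^ 2) := eq_neg_of_add_eq_zero_right hab
        rw [this, hnegK]
      by_cases hα0 : α = 0
      · rw [hα0] at hβ'
        have hβ0 : β = 0 := by rw [hβ']; ring
        rw [hβ, div_eq_zero_iff] at hβ0
        rcases hβ0 with h | h
        · have : lam = -1 := eq_neg_of_add_eq_zero_left h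
          rw [this, hnegK]
        · exact absurd h ht0
      · rw [hl, hβ']
        have : α * α ^ 2 = α ^ 3 := by ring
        rw [this]
        exact cube_eq_one hK α hα0
    · left
      apply scalar_of_smul g (α ^ 2 + β) (lam - α * β) hab
      rw [sub_smul, h3']; abel

end Cfsg.Agent.Lib.Helper5.L34
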