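import Mathlib
import Cfsg.Agent.Lib.Helper5.L34Cube

namespace Cfsg.Agent.Lib.Helper5.L34

open Matrix

variable {K : Type*} [Field K] [Fintype K]

local notation "M3" => Matrix (Fin 3) (Fin 3)

/-- the complementary quadratic factor does not vanish on a non-scalar element of order three -/
theorem pa_ne_zero (hK : Fintype.card K = 4) (g : M3 K) (hdet : g.det = 1)
    (h3 : g * g * g = 1) (hns : ¬ ∃ c : K, g = c • (1 : M3 K)) (a : K) (ha : a ≠ 0) :
    g * g + a • g + (a ^ 2) • (1 : M3 K) ≠ 0 := by
  intro hp
  have h2 : (2 : K) = 0 := Cfsg.Agent.Lib.Helper5.Spec.two_eq_zero hK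
  have hneg : ∀ X : M3 K, -X = X := by
    intro X
    have : X + X = 0 := by rw [← two_smul K X, h2, zero_smul]
    exact neg_eq_of_add_eq_zero_left this
  have hgg : g * g = a • g + (a ^ 2) • (1 : M3 K) := by
    have : g * g = -(a • g + (a ^ 2) • (1 : M3 K)) := by
      rw [eq_neg_iff_add_eq_zero, ← add_assoc]; exact hp
    rw [this, hneg]
  have hch := ch3_char2 h2 g hdet
  rw [h3] at hch
  set t := g.trace with ht
  set s := s2 g with hs
  -- (t a + s) g = t a² (char 2)
  have e1 : (t * a + s) • g = -((t * a ^ 2) • (1 : M3 K)) := by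
    have : t • (g * g) + s • g = 0 := by
      have : (1 : M3 K) = t • (g * g) + s • g + 1 := hch
      have h' := sub_eq_zero.mpr this.symm
      rw [add_sub_cancel_right] at h'
      exact h'
    rw [hgg] at this
    rw [eq_neg_iff_add_eq_zero, ← this]
    module
  rw [hneg] at e1
  have hts : t * a + s = 0 := by
    by_contra h
    exact hns (scalar_of_smul g _ _ h e1)
  rw [hts, zero_smul] at e1
  have ht0 : t = 0 := by
    have := congrFun (congrFun e1 0) 0
    simp at this
    rcases this with h | h
    · exact h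
    · exact absurd h ha
  have htr := trace_sq g
  rw [hgg, ← ht, ht0, h2] at htr
  simp [Matrix.trace_add, Matrix.trace_smul, ← ht, ht0, Matrix.trace_one] at htr
  have e3 : (3 : K) = 1 := by
    have : (3 : K) = 2 + 1 := by norm_num
    rw [this, h2, zero_add]
  rw [e3] at htr
  rcases htr with h | h
  · exact ha h
  · exact one_ne_zero h

/-- eigenvectors of an order three element of `SL₃(4)` -/
theorem exists_eigenvector (hK : Fintype.card K = 4) (g : M3 K) (hdet : g.det = 1)
    (h3 : g * g * g = 1) (hns : ¬ ∃ c : K, g = c • (1 : M3 K)) (a : K) (ha3 : a ^ 3 = 1) :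
    ∃ v : Fin 3 → K, v ≠ 0 ∧ g *ᵥ v = a • v := by
  have h2 : (2 : K) = 0 := Cfsg.Agent.Lib.Helper5.Spec.two_eq_zero hK
  have hneg : ∀ X : M3 K, -X = X := by
    intro X
    have : X + X = 0 := by rw [← two_smul K X, h2, zero_smul]
    exact neg_eq_of_add_eq_zero_left this
  have ha : a ≠ 0 := by
    rintro rfl
    simp at ha3
  set p : M3 K := g * g + a • g + (a ^ 2) • (1 : M3 K) with hp
  have hp0 : p ≠ 0 := pa_ne_zero hK g hdet h3 hns a ha
  have hgp : g * p = a • p := by
    have e : g * p + a • p = 0 := by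
      have : g * p + a • p = g * g * g + (a • (g * g) + a • (g * g)) +
          ((a ^ 2) • g + (a ^ 2) • g) + (a ^ 3) • (1 : M3 K) := by
        rw [hp]
        simp only [mul_add, mul_smul_comm, mul_one, smul_add, smul_smul, mul_assoc]
        have : a * a ^ 2 = a ^ 3 := by ring
        rw [this]
        have : a * a = a ^ 2 := by ring
        rw [this]
        abel
      rw [this, h3, ha3, one_smul]
      have htwo : ∀ X : M3 K, X + X = 0 := by
        intro X
        rw [← two_smul K X, h2, zero_smul]
      rw [htwo, htwo, add_zero, add_zero, htwo]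
    have : g * p = -(a • p) := eq_neg_of_add_eq_zero_left e
    rw [this, hneg]
  obtain ⟨j, hj⟩ : ∃ j : Fin 3, p *ᵥ (Pi.single j 1) ≠ 0 := by
    by_contra h
    push Not at h
    apply hp0
    ext i j
    have := congrFun (h j) i
    simpa using this
  refine ⟨p *ᵥ (Pi.single j 1), hj, ?_⟩
  rw [Matrix.mulVec_mulVec, hgp, Matrix.smul_mulVec]

end Cfsg.Agent.Lib.Helper5.L34
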