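import Mathlib
import Cfsg.Agent.Lib.Helper5.L34Eigen

namespace Cfsg.Agent.Lib.Helper5.L34

open Matrix

variable {K : Type*} [Field K] [Fintype K]

local notation "M3" => Matrix (Fin 3) (Fin 3)

theorem omega_facts (hK : Fintype.card K = 4) (ω : K) (hω : ω ^ 2 = ω + 1) :
    ω ^ 3 = 1 ∧ ω ≠ 1 ∧ ω ≠ 0 ∧ ω ^ 2 ≠ 1 ∧ ω ^ 2 ≠ ω := by
  have h2 : (2 : K) = 0 := Cfsg.Agent.Lib.Helper5.Spec.two_eq_zero hK
  have hω3 : ω ^ 3 = 1 := by
    have : ω ^ 3 = ω * ω ^ 2 := by ring
    rw [this, hω]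
    have : ω * (ω + 1) = ω ^ 2 + ω := by ring
    rw [this, hω]
    have : ω + 1 + ω = 2 * ω + 1 := by ring
    rw [this, h2, zero_mul, zero_add]
  have hω1 : ω ≠ 1 := by
    rintro rfl
    rw [one_pow, one_add_one_eq_two, h2] at hω
    exact one_ne_zero hω
  have hω0 : ω ≠ 0 := by
    rintro rfl
    simp at hω3
  refine ⟨hω3, hω1, hω0, ?_, ?_⟩
  · rw [hω]
    intro h
    exact hω0 (by simpa using h)
  · rw [hω]
    intro h
    have h' := congrArg (fun x => x - ω) h
    simp only [add_sub_cancel_left, sub_self] at h'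
    exact one_ne_zero h'

/-- diagonalisation of non-scalar order three elements of `SL₃(4)` -/
theorem diag_normal (hK : Fintype.card K = 4) (ω : K) (hω : ω ^ 2 = ω + 1) (g : M3 K)
    (hdet : g.det = 1) (h3 : g * g * g = 1) (hns : ¬ ∃ c : K, g = c • (1 : M3 K)) :
    ∃ P : M3 K, P.det = 1 ∧ g * P = P * Matrix.diagonal ![1, ω, ω ^ 2] := by
  classical
  obtain ⟨hω3, hω1, hω0, hω21, hω2ω⟩ := omega_facts hK ω hω
  obtain ⟨v0, hv0, hgv0⟩ := exists_eigenvector hK g hdet h3 hns 1 (one_pow 3)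
  obtain ⟨v1, hv1, hgv1⟩ := exists_eigenvector hK g hdet h3 hns ω hω3
  obtain ⟨v2, hv2, hgv2⟩ := exists_eigenvector hK g hdet h3 hns (ω ^ 2) (by
    rw [← pow_mul, mul_comm, pow_mul, hω3, one_pow])
  let μ : Fin 3 → K := ![1, ω, ω ^ 2]
  let v : Fin 3 → (Fin 3 → K) := ![v0, v1, v2]
  have hμ : Function.Injective μ := by
    intro i j hij
    fin_cases i <;> fin_cases j
    · rfl
    · exact absurd (show (1 : K) = ω from hij) (Ne.symm hω1)
    · exact absurd (show (1 : K) = ω ^ 2 from hij) (Ne.symm hω21)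
    · exact absurd (show ω = 1 from hij) hω1
    · rfl
    · exact absurd (show ω = ω ^ 2 from hij) (Ne.symm hω2ω)
    · exact absurd (show ω ^ 2 = 1 from hij) hω21
    · exact absurd (show ω ^ 2 = ω from hij) hω2ω
    · rfl
  have hgv : ∀ k, g *ᵥ v k = μ k • v k := by
    intro k
    fin_cases k
    · exact hgv0
    · exact hgv1
    · exact hgv2
  have hvne : ∀ k, v k ≠ 0 := by
    intro k
    fin_cases k
    · exact hv0
    · exact hv1
    · exact hv2
  have hli : LinearIndependent K v := by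
    apply Module.End.eigenvectors_linearIndependent' (Matrix.toLin' g) μ hμ v
    intro k
    refine ⟨?_, hvne k⟩
    rw [Module.End.mem_eigenspace_iff, Matrix.toLin'_apply]
    exact hgv k
  let P0 : M3 K := (Matrix.of v)ᵀ
  have hP0u : IsUnit P0 := by
    rw [← Matrix.linearIndependent_cols_iff_isUnit]
    exact hli
  have hP0det : P0.det ≠ 0 := by
    have := (Matrix.isUnit_iff_isUnit_det P0).mp hP0u
    exact this.ne_zero
  have hgP0 : g * P0 = P0 * Matrix.diagonal μ := by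
    ext i k
    rw [Matrix.mul_diagonal]
    have e1 : (g * P0) i k = (g *ᵥ v k) i := by
      simp [Matrix.mul_apply, Matrix.mulVec, dotProduct, P0]
    rw [e1, hgv k]
    simp [P0, mul_comm]
  let D' : M3 K := Matrix.diagonal ![(P0.det)⁻¹, 1, 1]
  refine ⟨P0 * D', ?_, ?_⟩
  · rw [Matrix.det_mul, Matrix.det_diagonal, Fin.prod_univ_three]
    simp [hP0det]
  · rw [← mul_assoc, hgP0, mul_assoc, mul_assoc]
    congr 1
    show Matrix.diagonal μ * Matrix.diagonal _ = Matrix.diagonal _ * Matrix.diagonal μ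
    rw [Matrix.diagonal_mul_diagonal, Matrix.diagonal_mul_diagonal]
    congr 1
    ext i
    exact mul_comm _ _

end Cfsg.Agent.Lib.Helper5.L34
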