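import Mathlib
import Cfsg.Agent.Lib.Helper5.SpecF4

namespace Cfsg.Agent.Lib.Helper5.L34

open Matrix

variable {F : Type*} [Field F]

theorem scalar_of_mk_eq_one' {n : ℕ} (A : Matrix.SpecialLinearGroup (Fin n) F)
    (h : (QuotientGroup.mk A : Matrix.ProjectiveSpecialLinearGroup (Fin n) F) = 1) :
    ∃ c : F, A.1 = c • (1 : Matrix (Fin n) (Fin n) F) := by
  rw [QuotientGroup.eq_one_iff, Matrix.SpecialLinearGroup.mem_center_iff] at h
  obtain ⟨r, -, hr⟩ := h
  refine ⟨r, ?_⟩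
  rw [← hr]
  ext i j
  simp [Matrix.one_apply, Matrix.diagonal_apply]

/-- the matrix of order six in `SL₄(2)` -/
def A6 : Matrix (Fin 4) (Fin 4) F := !![0, 1, 0, 0; 1, 1, 0, 0; 0, 0, 1, 1; 0, 0, 0, 1]

theorem A6_sq (h2 : (2 : F) = 0) :
    (A6 : Matrix (Fin 4) (Fin 4) F) ^ 2 = !![1, 1, 0, 0; 1, 0, 0, 0; 0, 0, 1, 0; 0, 0, 0, 1] := by
  rw [pow_two]
  ext i j
  fin_cases i <;> fin_cases j <;> simp [A6, Matrix.mul_apply, Fin.sum_univ_four] <;>
    (try rw [one_add_one_eq_two]) <;> (try exact h2)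

theorem A6_cube (h2 : (2 : F) = 0) :
    (A6 : Matrix (Fin 4) (Fin 4) F) ^ 3 = !![1, 0, 0, 0; 0, 1, 0, 0; 0, 0, 1, 1; 0, 0, 0, 1] := by
  rw [pow_succ, A6_sq h2]
  ext i j
  fin_cases i <;> fin_cases j <;> simp [A6, Matrix.mul_apply, Fin.sum_univ_four] <;>
    (try rw [one_add_one_eq_two]) <;> (try exact h2)

theorem A6_six (h2 : (2 : F) = 0) : (A6 : Matrix (Fin 4) (Fin 4) F) ^ 6 = 1 := by
  have : (A6 : Matrix (Fin 4) (Fin 4) F) ^ 6 = (A6 ^ 3) ^ 2 := by rw [← pow_mul]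
  rw [this, A6_cube h2, pow_two]
  ext i j
  fin_cases i <;> fin_cases j <;> simp [Matrix.mul_apply, Fin.sum_univ_four] <;>
    (try rw [one_add_one_eq_two]) <;> (try exact h2)

theorem A6_det (h2 : (2 : F) = 0) : (A6 : Matrix (Fin 4) (Fin 4) F).det = 1 := by
  have hneg : (-1 : F) = 1 := by
    have : (1 : F) + 1 = 0 := by rw [one_add_one_eq_two]; exact h2
    exact neg_eq_of_add_eq_zero_left this
  simp [A6, Matrix.det_succ_row_zero, Fin.sum_univ_succ, Matrix.submatrix, Fin.succAbove]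
  exact hneg

theorem exists_order_six [Fintype F] (hF : Fintype.card F = 2) :
    ∃ x : Matrix.ProjectiveSpecialLinearGroup (Fin 4) F, orderOf x = 6 := by
  have h2 : (2 : F) = 0 := by
    have := Nat.cast_card_eq_zero F
    rw [hF] at this
    exact_mod_cast this
  let A : Matrix.SpecialLinearGroup (Fin 4) F := ⟨A6, A6_det h2⟩
  refine ⟨QuotientGroup.mk A, ?_⟩
  have h6 : (QuotientGroup.mk A : Matrix.ProjectiveSpecialLinearGroup (Fin 4) F) ^ 6 = 1 := by
    rw [← QuotientGroup.mk_pow]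
    have : A ^ 6 = 1 := by
      apply Subtype.ext
      rw [Matrix.SpecialLinearGroup.coe_pow]
      exact A6_six h2
    rw [this]; rfl
  have hn2 : (QuotientGroup.mk A : Matrix.ProjectiveSpecialLinearGroup (Fin 4) F) ^ 2 ≠ 1 := by
    intro h
    rw [← QuotientGroup.mk_pow] at h
    obtain ⟨c, hc⟩ := scalar_of_mk_eq_one' _ h
    rw [Matrix.SpecialLinearGroup.coe_pow] at hc
    have hc' : (A6 : Matrix (Fin 4) (Fin 4) F) ^ 2 = c • 1 := hc
    rw [A6_sq h2] at hc'
    have := congrFun (congrFun hc' 0) 1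
    simp at this
  have hn3 : (QuotientGroup.mk A : Matrix.ProjectiveSpecialLinearGroup (Fin 4) F) ^ 3 ≠ 1 := by
    intro h
    rw [← QuotientGroup.mk_pow] at h
    obtain ⟨c, hc⟩ := scalar_of_mk_eq_one' _ h
    rw [Matrix.SpecialLinearGroup.coe_pow] at hc
    have hc' : (A6 : Matrix (Fin 4) (Fin 4) F) ^ 3 = c • 1 := hc
    rw [A6_cube h2] at hc'
    have := congrFun (congrFun hc' 2) 3
    simp at this
  have hd := orderOf_dvd_of_pow_eq_one h6
  have hpos : 0 < orderOf (QuotientGroup.mk A : Matrix.ProjectiveSpecialLinearGroup (Fin 4) F) :=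
    Nat.pos_of_dvd_of_pos hd (by norm_num)
  have hle := Nat.le_of_dvd (by norm_num) hd
  set o := orderOf (QuotientGroup.mk A : Matrix.ProjectiveSpecialLinearGroup (Fin 4) F) with ho
  have hpow := pow_orderOf_eq_one (QuotientGroup.mk A : Matrix.ProjectiveSpecialLinearGroup (Fin 4) F)
  rw [← ho] at hpow
  interval_cases o
  · exfalso; apply hn2; rw [pow_one] at hpow; rw [hpow, one_pow]
  · exact absurd hpow hn2
  · exact absurd hpow hn3
  · omega
  · omega
  · rfl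

end Cfsg.Agent.Lib.Helper5.L34
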