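import Mathlib
import Cfsg.Agent.Lib.Helper5.SpecF4
import Cfsg.Agent.Lib.Helper5.L34Card

namespace Cfsg.Agent.Lib.Helper5.L34

open Matrix

variable {F : Type*} [Field F] [Fintype F]

theorem no_complement_SL34 (hF : Fintype.card F = 4) :
    ¬ ∃ K : Subgroup (Matrix.SpecialLinearGroup (Fin 3) F),
      Subgroup.IsComplement' (Subgroup.center (Matrix.SpecialLinearGroup (Fin 3) F)) K := by
  rintro ⟨K, hK⟩
  have h2 : (2 : F) = 0 := Cfsg.Agent.Lib.Helper5.Spec.two_eq_zero hF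
  obtain ⟨ω, hω⟩ := Cfsg.Agent.Lib.Helper5.Spec.exists_omega hF
  have hω3 : ω ^ 3 = 1 := by
    have : ω ^ 3 = ω * ω ^ 2 := by ring
    rw [this, hω]
    have : ω * (ω + 1) = ω ^ 2 + ω := by ring
    rw [this, hω]
    have : ω + 1 + ω = 2 * ω + 1 := by ring
    rw [this, h2, zero_mul, zero_add]
  have hω1 : ω ≠ 1 := by
    rintro rfl
    rw [one_pow, one_add_one_eq_two, h2] at hω
    exact one_ne_zero hω
  let A : Matrix.SpecialLinearGroup (Fin 3) F := ⟨!![1, 0, 0; 0, ω, 0; 0, 0, ω ^ 2], by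
    rw [Matrix.det_fin_three]
    simp
    rw [← pow_succ']; exact hω3⟩
  let B : Matrix.SpecialLinearGroup (Fin 3) F := ⟨!![0, 0, 1; 1, 0, 0; 0, 1, 0], by
    rw [Matrix.det_fin_three]
    simp⟩
  let ζ : Matrix.SpecialLinearGroup (Fin 3) F := ⟨ω • (1 : Matrix (Fin 3) (Fin 3) F), by
    rw [Matrix.det_smul, Matrix.det_one, mul_one, Fintype.card_fin]; exact hω3⟩
  have hζZ : ζ ∈ Subgroup.center (Matrix.SpecialLinearGroup (Fin 3) F) := by
    rw [Matrix.SpecialLinearGroup.mem_center_iff]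
    refine ⟨ω, by rw [Fintype.card_fin]; exact hω3, ?_⟩
    ext i j
    simp [ζ, Matrix.one_apply, Matrix.diagonal_apply]
  have hAB : A * B = ζ * B * A := by
    apply Subtype.ext
    simp only [Matrix.SpecialLinearGroup.coe_mul]
    show (!![1, 0, 0; 0, ω, 0; 0, 0, ω ^ 2] : Matrix (Fin 3) (Fin 3) F) *
      !![0, 0, 1; 1, 0, 0; 0, 1, 0] =
      ω • (1 : Matrix (Fin 3) (Fin 3) F) * !![0, 0, 1; 1, 0, 0; 0, 1, 0] *
        !![1, 0, 0; 0, ω, 0; 0, 0, ω ^ 2]
    ext i j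
    fin_cases i <;> fin_cases j <;> simp [Matrix.mul_apply, Fin.sum_univ_three]
    · rw [← pow_succ']; exact hω3.symm
    · ring
  have hex := fun g => (Subgroup.isComplement'_def.mp hK).existsUnique g
  obtain ⟨⟨z1, k1⟩, h1, -⟩ := hex A
  obtain ⟨⟨z2, k2⟩, h2', -⟩ := hex B
  simp only at h1 h2'
  have hz1 := z1.2
  have hz2 := z2.2
  rw [SetLike.mem_coe, Subgroup.mem_center_iff] at hz1 hz2
  have hζc := Subgroup.mem_center_iff.mp hζZ
  have key : ζ = (k1 : Matrix.SpecialLinearGroup (Fin 3) F) * k2 *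
      ((k2 : Matrix.SpecialLinearGroup (Fin 3) F) * k1)⁻¹ := by
    rw [← h1, ← h2'] at hAB
    have e1 : (z1 : Matrix.SpecialLinearGroup (Fin 3) F) * k1 * (z2 * k2) =
        z1 * z2 * (k1 * k2) := by
      rw [mul_assoc, ← mul_assoc (k1 : Matrix.SpecialLinearGroup (Fin 3) F) z2, hz2 k1]
      simp only [mul_assoc]
    have e2 : ζ * ((z2 : Matrix.SpecialLinearGroup (Fin 3) F) * k2) * (z1 * k1) =
        z1 * z2 * (ζ * (k2 * k1)) := by
      calc ζ * ((z2 : Matrix.SpecialLinearGroup (Fin 3) F) * k2) * (z1 * k1)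
          = ζ * z2 * (k2 * z1) * k1 := by simp only [mul_assoc]
        _ = ζ * z2 * (z1 * k2) * k1 := by rw [hz1 k2]
        _ = ζ * (z2 * z1) * (k2 * k1) := by simp only [mul_assoc]
        _ = ζ * (z1 * z2) * (k2 * k1) := by rw [hz1 z2]
        _ = (z1 * z2) * ζ * (k2 * k1) := by rw [hζc (z1 * z2)]
        _ = z1 * z2 * (ζ * (k2 * k1)) := by simp only [mul_assoc]
    rw [e1, e2] at hAB
    have := mul_left_cancel hAB
    exact eq_mul_inv_of_mul_eq this.symm
  have hζK : ζ ∈ K := by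
    rw [key]
    exact K.mul_mem (K.mul_mem k1.2 k2.2) (K.inv_mem (K.mul_mem k2.2 k1.2))
  have hdisj := hK.disjoint
  have hζ1 : ζ = 1 := by
    have := Subgroup.disjoint_def.mp hdisj hζZ hζK
    exact this
  have := congrArg (fun X : Matrix.SpecialLinearGroup (Fin 3) F =>
    (X : Matrix (Fin 3) (Fin 3) F) 0 0) hζ1
  simp [ζ] at this
  exact hω1 this

end Cfsg.Agent.Lib.Helper5.L34
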