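import Mathlib
import Cfsg.Agent.Lib.Helper5.L34Diag
import Cfsg.Agent.Lib.Helper5.L34PSL

namespace Cfsg.Agent.Lib.Helper5.L34

open Matrix
open scoped Pointwise

variable {K : Type*} [Field K] [Fintype K]

local notation "M3" => Matrix (Fin 3) (Fin 3)

theorem conj_diag (hK : Fintype.card K = 4) (ω : K) (hω : ω ^ 2 = ω + 1)
    (A0 : Matrix.SpecialLinearGroup (Fin 3) K) (hA0 : A0.1 = Matrix.diagonal ![1, ω, ω ^ 2])
    (x : Matrix.ProjectiveSpecialLinearGroup (Fin 3) K) (hx : orderOf x = 3) :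
    ∃ p : Matrix.ProjectiveSpecialLinearGroup (Fin 3) K,
      x = p * QuotientGroup.mk A0 * p⁻¹ := by
  obtain ⟨G, rfl⟩ := QuotientGroup.mk_surjective x
  have hx3 : (QuotientGroup.mk G : Matrix.ProjectiveSpecialLinearGroup (Fin 3) K) ^ 3 = 1 := by
    have := pow_orderOf_eq_one (QuotientGroup.mk G : Matrix.ProjectiveSpecialLinearGroup (Fin 3) K)
    rw [hx] at this
    exact this
  have hx1 : (QuotientGroup.mk G : Matrix.ProjectiveSpecialLinearGroup (Fin 3) K) ≠ 1 := by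
    intro h
    rw [h, orderOf_one] at hx
    omega
  rw [← QuotientGroup.mk_pow] at hx3
  obtain ⟨lam, hlam⟩ := scalar_of_mk_eq_one _ hx3
  rw [Matrix.SpecialLinearGroup.coe_pow] at hlam
  have hns : ¬ ∃ c : K, G.1 = c • (1 : M3 K) := by
    rintro ⟨c, hc⟩
    exact hx1 (mk_eq_one_of_scalar G c hc)
  have hggg : G.1 * G.1 * G.1 = lam • (1 : M3 K) := by
    rw [← hlam, pow_succ, pow_two]
  have hlam1 : lam = 1 := (cube_scalar hK G.1 G.2 lam hggg).resolve_left hns
  rw [hlam1, one_smul] at hggg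
  obtain ⟨P, hPdet, hgP⟩ := diag_normal hK ω hω G.1 G.2 hggg hns
  let Ps : Matrix.SpecialLinearGroup (Fin 3) K := ⟨P, hPdet⟩
  have hGP : G * Ps = Ps * A0 := by
    apply Subtype.ext
    simp only [Matrix.SpecialLinearGroup.coe_mul]
    show G.1 * P = P * A0.1
    rw [hgP, hA0]
  refine ⟨QuotientGroup.mk Ps, ?_⟩
  have hG : G = Ps * A0 * Ps⁻¹ := eq_mul_inv_of_mul_eq hGP
  rw [hG]
  simp only [QuotientGroup.mk_mul, QuotientGroup.mk_inv]

theorem order_three_subgroups_conj (hK : Fintype.card K = 4)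
    (X Y : Subgroup (Matrix.ProjectiveSpecialLinearGroup (Fin 3) K))
    (hX : Nat.card X = 3) (hY : Nat.card Y = 3) :
    ∃ g : Matrix.ProjectiveSpecialLinearGroup (Fin 3) K, MulAut.conj g • X = Y := by
  obtain ⟨ω, hω⟩ := Cfsg.Agent.Lib.Helper5.Spec.exists_omega hK
  obtain ⟨hω3, -⟩ := omega_facts hK ω hω
  let A0 : Matrix.SpecialLinearGroup (Fin 3) K := ⟨Matrix.diagonal ![1, ω, ω ^ 2], by
    rw [Matrix.det_diagonal, Fin.prod_univ_three]
    simp
    rw [← pow_succ']; exact hω3⟩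
  have hgen : ∀ Z : Subgroup (Matrix.ProjectiveSpecialLinearGroup (Fin 3) K), Nat.card Z = 3 →
      ∃ z : Matrix.ProjectiveSpecialLinearGroup (Fin 3) K, orderOf z = 3 ∧
        Z = Subgroup.zpowers z := by
    intro Z hZ
    haveI : Fact (Nat.Prime 3) := ⟨by norm_num⟩
    haveI : Finite Z := Nat.finite_of_card_ne_zero (by rw [hZ]; norm_num)
    have hnt : Nontrivial Z := Finite.one_lt_card_iff_nontrivial.mp (by rw [hZ]; norm_num)
    obtain ⟨z, hz⟩ := exists_ne (1 : Z)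
    have htop := zpowers_eq_top_of_prime_card hZ hz
    refine ⟨z.1, ?_, ?_⟩
    · have h3 : z ^ 3 = 1 := by
        have := pow_card_eq_one' (G := Z) (x := z)
        rw [hZ] at this
        exact this
      have := orderOf_eq_prime h3 hz
      rw [Subgroup.orderOf_coe]
      exact this
    · ext w
      constructor
      · intro hw
        have : (⟨w, hw⟩ : Z) ∈ Subgroup.zpowers z := by rw [htop]; trivial
        obtain ⟨k, hk⟩ := Subgroup.mem_zpowers_iff.mp this
        rw [Subgroup.mem_zpowers_iff]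
        refine ⟨k, ?_⟩
        have := congrArg Subtype.val hk
        simpa using this
      · intro hw
        obtain ⟨k, hk⟩ := Subgroup.mem_zpowers_iff.mp hw
        rw [← hk]
        exact Z.zpow_mem z.2 k
  obtain ⟨x, hx, rfl⟩ := hgen X hX
  obtain ⟨y, hy, rfl⟩ := hgen Y hY
  obtain ⟨p, hp⟩ := conj_diag hK ω hω A0 rfl x hx
  obtain ⟨q, hq⟩ := conj_diag hK ω hω A0 rfl y hy
  refine ⟨q * p⁻¹, ?_⟩
  change Subgroup.map ((MulAut.conj (q * p⁻¹)).toMonoidHom) (Subgroup.zpowers x) = _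
  rw [MonoidHom.map_zpowers]
  congr 1
  show (q * p⁻¹) * x * (q * p⁻¹)⁻¹ = y
  rw [hp, hq]
  group

end Cfsg.Agent.Lib.Helper5.L34
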