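import Mathlib
import Cfsg.Agent.Lib.Helper5.LEF

set_option autoImplicit false
set_option linter.unusedSectionVars false
set_option linter.unusedVariables false

namespace Cfsg.Agent.Lib.Helper5.ES

open Subgroup

/-- a group generated by two involutions satisfying the braid relation has at most the six
obvious elements. -/
theorem braid_enum {Y : Type*} [Group Y] (σ τ : Y) (hσ : σ * σ = 1) (hτ : τ * τ = 1)
    (hb : σ * τ * σ = τ * σ * τ) (y : Y) (hy : y ∈ closure ({σ, τ} : Set Y)) :
    y = 1 ∨ y = σ ∨ y = τ ∨ y = σ * τ ∨ y = τ * σ ∨ y = σ * τ * σ := by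
  have hσi : σ⁻¹ = σ := inv_eq_of_mul_eq_one_left hσ
  have hτi : τ⁻¹ = τ := inv_eq_of_mul_eq_one_left hτ
  have hσ' : ∀ w, σ * (σ * w) = w := fun w => by rw [← mul_assoc, hσ, one_mul]
  have hτ' : ∀ w, τ * (τ * w) = w := fun w => by rw [← mul_assoc, hτ, one_mul]
  have key : ∀ g : Y, (g = σ ∨ g = τ) → ∀ y : Y,
      (y = 1 ∨ y = σ ∨ y = τ ∨ y = σ * τ ∨ y = τ * σ ∨ y = σ * τ * σ) →
      (g * y = 1 ∨ g * y = σ ∨ g * y = τ ∨ g * y = σ * τ ∨ g * y = τ * σ ∨ g * y = σ * τ * σ) := by
    rintro g (rfl | rfl) y (rfl | rfl | rfl | rfl | rfl | rfl)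
    · right; left; rw [mul_one]
    · left; exact hσ
    · right; right; right; left; rfl
    · right; right; left; rw [hσ']
    · right; right; right; right; right; rw [mul_assoc]
    · right; right; right; right; left; rw [mul_assoc, hσ']
    · right; right; left; rw [mul_one]
    · right; right; right; right; left; rfl
    · left; exact hτ
    · right; right; right; right; right; rw [← mul_assoc, hb]
    · right; left; rw [hτ']
    · right; right; right; left
      rw [hb, mul_assoc, hτ']
  induction hy using closure_induction_left with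
  | one => left; rfl
  | mul_left g hg y _ ih =>
    have hg' : g = σ ∨ g = τ := by
      rcases hg with h | h
      · exact Or.inl h
      · exact Or.inr h
    exact key g hg' y ih
  | inv_mul_cancel g hg y _ ih =>
    have hg' : g⁻¹ = σ ∨ g⁻¹ = τ := by
      rcases hg with h | h
      · left; rw [h, hσi]
      · right; rw [Set.mem_singleton_iff] at h; rw [h, hτi]
    exact key g⁻¹ hg' y ih

end Cfsg.Agent.Lib.Helper5.ES
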