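import Mathlib
import Cfsg.Agent.Lib.Helper5.LEG

set_option autoImplicit false
set_option linter.unusedSectionVars false
set_option linter.unusedVariables false

namespace Cfsg.Agent.Lib.Helper5.ES

open Subgroup

variable {G : Type*} [Group G] {Q P : Subgroup G} {z x : G}

theorem LE.not_comm_of (L : LE Q P z x) {q0 : G} (h : q0 * x * q0⁻¹ = z * x) :
    q0 * x ≠ x * q0 := by
  intro hc
  apply L.hQ.z1
  have : q0 * x * q0⁻¹ = x := by rw [hc]; group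
  rw [this] at h
  calc z = (z * x) * x⁻¹ := by group
    _ = 1 := by rw [← h]; group

/-- existence of `r0 ∈ P` moving `z`. -/
theorem LE.exists_r (L : LE Q P z x) : ∃ r ∈ P, r * x * r⁻¹ = x ∧ r * z * r⁻¹ = z * x := by
  obtain ⟨r, hr, h1, h2⟩ := L.symm.exists_q
  exact ⟨r, hr, h1, by rw [h2, L.zx]⟩

/-- the element `q0 r0 q0` swaps `z` and `x`. -/
theorem LE.swap_conj (L : LE Q P z x) {q0 r0 : G} (hq0 : q0 ∈ Q) (hq0x : q0 * x * q0⁻¹ = z * x)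
    (hr0 : r0 ∈ P) (hr0z : r0 * z * r0⁻¹ = z * x) :
    (q0 * r0 * q0) * z * (q0 * r0 * q0)⁻¹ = x ∧ (q0 * r0 * q0) * x * (q0 * r0 * q0)⁻¹ = z := by
  have hq0z : q0 * z * q0⁻¹ = z := by rw [← L.hQ.zc q0 hq0]; group
  have hr0x : r0 * x * r0⁻¹ = x := by rw [← L.hP.zc r0 hr0]; group
  have hq0zx : q0 * (z * x) * q0⁻¹ = x := by
    calc q0 * (z * x) * q0⁻¹ = (q0 * z * q0⁻¹) * (q0 * x * q0⁻¹) := by group
      _ = z * (z * x) := by rw [hq0z, hq0x]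
      _ = x := by rw [← mul_assoc, L.zz, one_mul]
  have hr0zx : r0 * (z * x) * r0⁻¹ = z := by
    calc r0 * (z * x) * r0⁻¹ = (r0 * z * r0⁻¹) * (r0 * x * r0⁻¹) := by group
      _ = z * x * x := by rw [hr0z, hr0x]
      _ = z := by rw [mul_assoc, L.xx, mul_one]
  constructor
  · calc (q0 * r0 * q0) * z * (q0 * r0 * q0)⁻¹
        = q0 * (r0 * (q0 * z * q0⁻¹) * r0⁻¹) * q0⁻¹ := by group
      _ = x := by rw [hq0z, hr0z, hq0zx]
  · calc (q0 * r0 * q0) * x * (q0 * r0 * q0)⁻¹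
        = q0 * (r0 * (q0 * x * q0⁻¹) * r0⁻¹) * q0⁻¹ := by group
      _ = z := by rw [hq0x, hr0zx, hq0z]

/-- braid relation modulo `R`. -/
theorem LE.braid (L : LE Q P z x) {q0 r0 : G} (hq0 : q0 ∈ Q) (hq0x : q0 * x * q0⁻¹ = z * x)
    (hr0 : r0 ∈ P) (hr0z : r0 * z * r0⁻¹ = z * x) :
    (r0 * q0 * r0)⁻¹ * (q0 * r0 * q0)
      ∈ (P ⊓ centralizer ({z} : Set G)) ⊔ (Q ⊓ centralizer ({x} : Set G)) := by
  obtain ⟨hyz, hyx⟩ := L.swap_conj hq0 hq0x hr0 hr0z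
  obtain ⟨y, hy⟩ : ∃ y : G, y = q0 * r0 * q0 := ⟨_, rfl⟩
  rw [← hy] at hyz hyx
  have hq0nc : q0 * x ≠ x * q0 := L.not_comm_of hq0x
  have hr0nc : r0 * z ≠ z * r0 := by
    apply L.symm.not_comm_of
    rw [hr0z, L.zx]
  have hpP : y * q0 * y⁻¹ ∈ P := L.conjQ y hyz q0 hq0
  have hpnc : (y * q0 * y⁻¹) * z ≠ z * (y * q0 * y⁻¹) := by
    intro hc
    apply hq0nc
    have hz' : y⁻¹ * z * y = x := by rw [← hyx]; group
    calc q0 * x = y⁻¹ * ((y * q0 * y⁻¹) * z) * y := by rw [← hz']; group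
      _ = y⁻¹ * (z * (y * q0 * y⁻¹)) * y := by rw [hc]
      _ = (y⁻¹ * z * y) * q0 := by group
      _ = x * q0 := by rw [hz']
  have hbB : r0⁻¹ * (y * q0 * y⁻¹) ∈ P ⊓ centralizer ({z} : Set G) := by
    rw [mem_inf_cent]
    refine ⟨P.mul_mem (P.inv_mem hr0) hpP, ?_⟩
    rw [L.hP.commute_mul_iff (P.inv_mem hr0) hpP L.zP]
    constructor
    · intro h
      exact absurd (L.hP.commute_inv_iff.mp h) hr0nc
    · intro h
      exact absurd h hpnc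
  have hXq : q0 ∈ Q ⊔ P := (le_sup_left : Q ≤ Q ⊔ P) hq0
  have hXr : r0 ∈ Q ⊔ P := (le_sup_right : P ≤ Q ⊔ P) hr0
  have hXqr : (q0 * r0)⁻¹ ∈ Q ⊔ P := Subgroup.inv_mem _ (Subgroup.mul_mem _ hXq hXr)
  have hbR := (le_sup_left : _ ≤ (P ⊓ centralizer ({z} : Set G)) ⊔ (Q ⊓ centralizer ({x} : Set G))) hbB
  have := L.X_norm_R hXqr _ hbR
  have e : (q0 * r0)⁻¹ * (r0⁻¹ * (y * q0 * y⁻¹)) * (q0 * r0)⁻¹⁻¹
      = (r0 * q0 * r0)⁻¹ * (q0 * r0 * q0) := by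
    rw [hy]; group
  rwa [e] at this

/-- every element of `C_Q(x)`-complement is `q0` times an element of `C_Q(x)`. -/
theorem LE.Q_coset (L : LE Q P z x) {q0 q : G} (hq0 : q0 ∈ Q) (hq0nc : q0 * x ≠ x * q0)
    (hq : q ∈ Q) (hqnc : q * x ≠ x * q) : q0⁻¹ * q ∈ Q ⊓ centralizer ({x} : Set G) := by
  rw [mem_inf_cent]
  refine ⟨Q.mul_mem (Q.inv_mem hq0) hq, ?_⟩
  rw [L.hQ.commute_mul_iff (Q.inv_mem hq0) hq L.xQ]
  constructor
  · intro h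
    exact absurd (L.hQ.commute_inv_iff.mp h) hq0nc
  · intro h
    exact absurd h hqnc

end Cfsg.Agent.Lib.Helper5.ES
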