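import Mathlib
import Cfsg.Agent.Lib.Helper5.LEH

set_option autoImplicit false
set_option linter.unusedSectionVars false
set_option linter.unusedVariables false

namespace Cfsg.Agent.Lib.Helper5.ES

open Subgroup

variable {G : Type*} [Group G] {Q P : Subgroup G} {z x : G}

/-- `X = R · {1, q0, r0, q0 r0, r0 q0, q0 r0 q0}`. -/
theorem LE.X_cover (L : LE Q P z x) {q0 r0 : G} (hq0 : q0 ∈ Q) (hq0x : q0 * x * q0⁻¹ = z * x)
    (hr0 : r0 ∈ P) (hr0z : r0 * z * r0⁻¹ = z * x) :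
    ∀ s ∈ Q ⊔ P, ∃ t, (t = 1 ∨ t = q0 ∨ t = r0 ∨ t = q0 * r0 ∨ t = r0 * q0 ∨ t = q0 * r0 * q0) ∧
      t⁻¹ * s ∈ (P ⊓ centralizer ({z} : Set G)) ⊔ (Q ⊓ centralizer ({x} : Set G)) := by
  have hbraid := L.braid hq0 hq0x hr0 hr0z
  have hnormal := L.X_le_normalizer_R
  have hq0nc : q0 * x ≠ x * q0 := L.not_comm_of hq0x
  have hr0nc : r0 * z ≠ z * r0 := by
    apply L.symm.not_comm_of
    rw [hr0z, L.zx]
  have hA_R : Q ⊓ centralizer ({x} : Set G)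
      ≤ (P ⊓ centralizer ({z} : Set G)) ⊔ (Q ⊓ centralizer ({x} : Set G)) := le_sup_right
  have hB_R : P ⊓ centralizer ({z} : Set G)
      ≤ (P ⊓ centralizer ({z} : Set G)) ⊔ (Q ⊓ centralizer ({x} : Set G)) := le_sup_left
  obtain ⟨R, hR⟩ : ∃ R : Subgroup G,
    R = (P ⊓ centralizer ({z} : Set G)) ⊔ (Q ⊓ centralizer ({x} : Set G)) := ⟨_, rfl⟩
  rw [← hR] at hbraid hnormal hA_R hB_R ⊢
  have hXQ : Q ≤ Q ⊔ P := le_sup_left
  have hXP : P ≤ Q ⊔ P := le_sup_right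
  obtain ⟨X, hX⟩ : ∃ X : Subgroup G, X = Q ⊔ P := ⟨_, rfl⟩
  rw [← hX] at hnormal hXQ hXP ⊢
  have hN : (R.subgroupOf X).Normal := normal_subgroupOf_of_le_normalizer hnormal
  obtain ⟨π, hπ⟩ : ∃ π : ↥X →* ↥X ⧸ R.subgroupOf X, π = QuotientGroup.mk' (R.subgroupOf X) :=
    ⟨_, rfl⟩
  have hπ1 : ∀ s : ↥X, (s : G) ∈ R → π s = 1 := by
    intro s hs
    rw [hπ]
    exact (QuotientGroup.eq_one_iff s).mpr (mem_subgroupOf.mpr hs)
  have hπeq : ∀ s t : ↥X, π s = π t → (t : G)⁻¹ * s ∈ R := by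
    intro s t h
    rw [hπ] at h
    have := QuotientGroup.eq.mp h.symm
    rw [mem_subgroupOf] at this
    simpa using this
  have hzR : z ∈ R := hB_R (mem_inf_cent.mpr ⟨L.zP, rfl⟩)
  have hxR : x ∈ R := hA_R (mem_inf_cent.mpr ⟨L.xQ, rfl⟩)
  let q0' : ↥X := ⟨q0, hXQ hq0⟩
  let r0' : ↥X := ⟨r0, hXP hr0⟩
  have hσ : π q0' * π q0' = 1 := by
    rw [← map_mul]
    apply hπ1
    show q0 * q0 ∈ R
    rcases L.hQ.sq q0 hq0 with h | h
    · rw [h]; exact R.one_mem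
    · rw [h]; exact hzR
  have hτ : π r0' * π r0' = 1 := by
    rw [← map_mul]
    apply hπ1
    show r0 * r0 ∈ R
    rcases L.hP.sq r0 hr0 with h | h
    · rw [h]; exact R.one_mem
    · rw [h]; exact hxR
  have hb : π q0' * π r0' * π q0' = π r0' * π q0' * π r0' := by
    rw [← map_mul, ← map_mul, ← map_mul, ← map_mul, hπ]
    apply QuotientGroup.eq.mpr
    rw [mem_subgroupOf]
    have e : (((q0' * r0' * q0')⁻¹ * (r0' * q0' * r0') : ↥X) : G)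
        = ((r0 * q0 * r0)⁻¹ * (q0 * r0 * q0))⁻¹ := by
      show (q0 * r0 * q0)⁻¹ * (r0 * q0 * r0) = _
      group
    rw [e]
    exact R.inv_mem hbraid
  -- generation
  have hgenQ : ∀ q (hq : q ∈ Q), π ⟨q, hXQ hq⟩ ∈ closure ({π q0', π r0'} : Set (↥X ⧸ R.subgroupOf X)) := by
    intro q hq
    by_cases hqx : q * x = x * q
    · rw [hπ1 ⟨q, hXQ hq⟩ (hA_R (mem_inf_cent.mpr ⟨hq, hqx⟩))]
      exact Subgroup.one_mem _
    · have h1 := hA_R (L.Q_coset hq0 hq0nc hq hqx)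
      have e : (⟨q, hXQ hq⟩ : ↥X) = q0' * ⟨q0⁻¹ * q, X.mul_mem (X.inv_mem (hXQ hq0)) (hXQ hq)⟩ := by
        apply Subtype.ext
        show q = q0 * (q0⁻¹ * q)
        group
      rw [e, map_mul, hπ1 ⟨q0⁻¹ * q, X.mul_mem (X.inv_mem (hXQ hq0)) (hXQ hq)⟩ h1, mul_one]
      exact subset_closure (by simp)
  have hgenP : ∀ p (hp : p ∈ P), π ⟨p, hXP hp⟩ ∈ closure ({π q0', π r0'} : Set (↥X ⧸ R.subgroupOf X)) := by
    intro p hp
    by_cases hpz : p * z = z * p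
    · rw [hπ1 ⟨p, hXP hp⟩ (hB_R (mem_inf_cent.mpr ⟨hp, hpz⟩))]
      exact Subgroup.one_mem _
    · have h1 := hB_R (L.symm.Q_coset hr0 hr0nc hp hpz)
      have e : (⟨p, hXP hp⟩ : ↥X) = r0' * ⟨r0⁻¹ * p, X.mul_mem (X.inv_mem (hXP hr0)) (hXP hp)⟩ := by
        apply Subtype.ext
        show p = r0 * (r0⁻¹ * p)
        group
      rw [e, map_mul, hπ1 ⟨r0⁻¹ * p, X.mul_mem (X.inv_mem (hXP hr0)) (hXP hp)⟩ h1, mul_one]
      exact subset_closure (by simp)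
  have hgen : ∀ s : ↥X, π s ∈ closure ({π q0', π r0'} : Set (↥X ⧸ R.subgroupOf X)) := by
    have hle : X ≤ ((closure ({π q0', π r0'} : Set (↥X ⧸ R.subgroupOf X))).comap π).map X.subtype := by
      refine hX.le.trans (sup_le ?_ ?_)
      · intro q hq
        exact ⟨⟨q, hXQ hq⟩, hgenQ q hq, rfl⟩
      · intro p hp
        exact ⟨⟨p, hXP hp⟩, hgenP p hp, rfl⟩
    intro s
    obtain ⟨s', hs', hss⟩ := hle s.2
    have : s' = s := Subtype.ext hss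
    rw [← this]
    exact hs'
  intro s hs
  have h6 := braid_enum (π q0') (π r0') hσ hτ hb (π ⟨s, hs⟩) (hgen ⟨s, hs⟩)
  rcases h6 with h | h | h | h | h | h
  · refine ⟨1, Or.inl rfl, ?_⟩
    have := hπeq ⟨s, hs⟩ 1 (by rw [h, map_one])
    simpa using this
  · exact ⟨q0, Or.inr (Or.inl rfl), hπeq ⟨s, hs⟩ q0' h⟩
  · exact ⟨r0, Or.inr (Or.inr (Or.inl rfl)), hπeq ⟨s, hs⟩ r0' h⟩
  · refine ⟨q0 * r0, Or.inr (Or.inr (Or.inr (Or.inl rfl))), ?_⟩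
    exact hπeq ⟨s, hs⟩ (q0' * r0') (by rw [h, map_mul])
  · refine ⟨r0 * q0, Or.inr (Or.inr (Or.inr (Or.inr (Or.inl rfl)))), ?_⟩
    exact hπeq ⟨s, hs⟩ (r0' * q0') (by rw [h, map_mul])
  · refine ⟨q0 * r0 * q0, Or.inr (Or.inr (Or.inr (Or.inr (Or.inr rfl)))), ?_⟩
    exact hπeq ⟨s, hs⟩ (q0' * r0' * q0') (by rw [h, map_mul, map_mul])

end Cfsg.Agent.Lib.Helper5.ES
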