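import Mathlib
import Cfsg.Agent.Lib.Helper5.LEI

set_option autoImplicit false
set_option linter.unusedSectionVars false
set_option linter.unusedVariables false

namespace Cfsg.Agent.Lib.Helper5.ES

open Subgroup

variable {G : Type*} [Group G] {Q P : Subgroup G} {z x : G}

theorem centralizer_closure_pair (z x : G) :
    centralizer ((closure ({z, x} : Set G) : Subgroup G) : Set G)
      = centralizer ({z} : Set G) ⊓ centralizer ({x} : Set G) := by
  ext c
  rw [mem_inf, mem_centralizer_singleton_iff, mem_centralizer_singleton_iff, mem_centralizer_iff]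
  constructor
  · intro h
    exact ⟨(h z (subset_closure (by simp))).symm, (h x (subset_closure (by simp))).symm⟩
  · rintro ⟨h1, h2⟩
    have hle : closure ({z, x} : Set G) ≤ centralizer ({c} : Set G) := by
      rw [closure_le]
      intro v hv
      rw [SetLike.mem_coe, mem_centralizer_singleton_iff]
      rcases hv with rfl | hv
      · exact h1.symm
      · rw [Set.mem_singleton_iff] at hv
        rw [hv]; exact h2.symm
    intro v hv
    exact mem_centralizer_singleton_iff.mp (hle hv)

theorem LE.q_zx (L : LE Q P z x) {q0 : G} (hq0 : q0 ∈ Q) (hq0x : q0 * x * q0⁻¹ = z * x) :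
    q0 * (z * x) * q0⁻¹ = x := by
  have hq0z : q0 * z * q0⁻¹ = z := by rw [← L.hQ.zc q0 hq0]; group
  calc q0 * (z * x) * q0⁻¹ = (q0 * z * q0⁻¹) * (q0 * x * q0⁻¹) := by group
    _ = z * (z * x) := by rw [hq0z, hq0x]
    _ = x := by rw [← mul_assoc, L.zz, one_mul]

theorem LE.r_zx (L : LE Q P z x) {r0 : G} (hr0 : r0 ∈ P) (hr0z : r0 * z * r0⁻¹ = z * x) :
    r0 * (z * x) * r0⁻¹ = z := by
  have hr0x : r0 * x * r0⁻¹ = x := by rw [← L.hP.zc r0 hr0]; group
  calc r0 * (z * x) * r0⁻¹ = (r0 * z * r0⁻¹) * (r0 * x * r0⁻¹) := by group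
    _ = z * x * x := by rw [hr0z, hr0x]
    _ = z := by rw [mul_assoc, L.xx, mul_one]

/-- `X ∩ C(V) = R`. -/
theorem LE.X_inf_CV (L : LE Q P z x) :
    (Q ⊔ P) ⊓ (centralizer ({z} : Set G) ⊓ centralizer ({x} : Set G))
      = (P ⊓ centralizer ({z} : Set G)) ⊔ (Q ⊓ centralizer ({x} : Set G)) := by
  apply le_antisymm
  · rintro s ⟨hsX, hsC⟩
    obtain ⟨q0, hq0, hq0z, hq0x⟩ := L.exists_q
    obtain ⟨r0, hr0, hr0x, hr0z⟩ := L.exists_r
    obtain ⟨t, ht, htR⟩ := L.X_cover hq0 hq0x hr0 hr0z s hsX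
    have hρC := L.R_le_cent htR
    have htC : t ∈ centralizer ({z} : Set G) ⊓ centralizer ({x} : Set G) := by
      have := Subgroup.mul_mem _ hsC (Subgroup.inv_mem _ hρC)
      have e : s * (t⁻¹ * s)⁻¹ = t := by group
      rwa [e] at this
    rw [mem_inf, mem_centralizer_singleton_iff, mem_centralizer_singleton_iff] at htC
    have htz : t * z * t⁻¹ = z := by rw [htC.1]; group
    have htx : t * x * t⁻¹ = x := by rw [htC.2]; group
    rcases ht with h | h | h | h | h | h
    · rw [h] at htR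
      simpa using htR
    · exfalso
      rw [h] at htC
      exact L.not_comm_of hq0x htC.2
    · exfalso
      rw [h] at htC
      apply L.symm.not_comm_of (q0 := r0) _ htC.1
      rw [hr0z, L.zx]
    · exfalso
      rw [h] at htz
      apply L.ne
      calc x = q0 * (r0 * z * r0⁻¹) * q0⁻¹ := by rw [hr0z, L.q_zx hq0 hq0x]
        _ = q0 * r0 * z * (q0 * r0)⁻¹ := by group
        _ = z := htz
    · exfalso
      rw [h] at htx
      apply L.ne
      calc x = r0 * q0 * x * (r0 * q0)⁻¹ := htx.symm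
        _ = r0 * (q0 * x * q0⁻¹) * r0⁻¹ := by group
        _ = z := by rw [hq0x, L.r_zx hr0 hr0z]
    · exfalso
      rw [h] at htz
      apply L.ne
      rw [← (L.swap_conj hq0 hq0x hr0 hr0z).1]
      exact htz
  · exact le_inf L.R_le_X L.R_le_cent

end Cfsg.Agent.Lib.Helper5.ES
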