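import Mathlib
import Cfsg.Agent.Lib.Helper5.LEJ

set_option autoImplicit false
set_option linter.unusedSectionVars false
set_option linter.unusedVariables false

namespace Cfsg.Agent.Lib.Helper5.ES

open Subgroup

variable {G : Type*} [Group G] {Q P : Subgroup G} {z x : G}

/-- `X` realizes every permutation of `{z, x, zx}`. -/
theorem LE.exists_rep (L : LE Q P z x) {u v : G} (hu : u = z ∨ u = x ∨ u = z * x)
    (hv : v = z ∨ v = x ∨ v = z * x) (huv : u ≠ v) :
    ∃ t ∈ Q ⊔ P, t * z * t⁻¹ = u ∧ t * x * t⁻¹ = v := by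
  obtain ⟨q0, hq0, hq0z, hq0x⟩ := L.exists_q
  obtain ⟨r0, hr0, hr0x, hr0z⟩ := L.exists_r
  have hXq : q0 ∈ Q ⊔ P := (le_sup_left : Q ≤ Q ⊔ P) hq0
  have hXr : r0 ∈ Q ⊔ P := (le_sup_right : P ≤ Q ⊔ P) hr0
  have e2 : ∀ m n w : G, (m * n) * w * (m * n)⁻¹ = m * (n * w * n⁻¹) * m⁻¹ := by
    intros; group
  have hqzx := L.q_zx hq0 hq0x
  have hrzx := L.r_zx hr0 hr0z
  rcases hu with hu | hu | hu <;> rcases hv with hv | hv | hv
  · exact absurd (hu.trans hv.symm) huv
  · exact ⟨1, Subgroup.one_mem _, by rw [hu]; group, by rw [hv]; group⟩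
  · exact ⟨q0, hXq, by rw [hu, hq0z], by rw [hv, hq0x]⟩
  · refine ⟨q0 * r0 * q0, Subgroup.mul_mem _ (Subgroup.mul_mem _ hXq hXr) hXq, ?_, ?_⟩
    · rw [hu]; exact (L.swap_conj hq0 hq0x hr0 hr0z).1
    · rw [hv]; exact (L.swap_conj hq0 hq0x hr0 hr0z).2
  · exact absurd (hu.trans hv.symm) huv
  · refine ⟨q0 * r0, Subgroup.mul_mem _ hXq hXr, ?_, ?_⟩
    · rw [hu, e2, hr0z, hqzx]
    · rw [hv, e2, hr0x, hq0x]
  · refine ⟨r0 * q0, Subgroup.mul_mem _ hXr hXq, ?_, ?_⟩
    · rw [hu, e2, hq0z, hr0z]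
    · rw [hv, e2, hq0x, hrzx]
  · exact ⟨r0, hXr, by rw [hu, hr0z], by rw [hv, hr0x]⟩
  · exact absurd (hu.trans hv.symm) huv

/-- `Q ≤ N(V)`. -/
theorem LE.Q_le_normalizer_V (L : LE Q P z x) :
    Q ≤ normalizer ((closure ({z, x} : Set G) : Subgroup G) : Set G) := by
  intro q hq
  rw [mem_normalizer_iff]
  intro h
  constructor
  · exact L.Q_norm_V hq h
  · intro hh
    have := L.Q_norm_V (Q.inv_mem hq) _ hh
    have e : q⁻¹ * (q * h * q⁻¹) * q⁻¹⁻¹ = h := by group
    rwa [e] at this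

/-- `X ≤ N(V)`. -/
theorem LE.X_le_normalizer_V (L : LE Q P z x) :
    Q ⊔ P ≤ normalizer ((closure ({z, x} : Set G) : Subgroup G) : Set G) := by
  apply sup_le
  · exact L.Q_le_normalizer_V
  · have h := L.symm.Q_le_normalizer_V
    rw [Set.pair_comm] at h
    exact h

/-- `N(V) = X · C(V)`, elementwise. -/
theorem LE.NV_decomp (L : LE Q P z x) {y : G}
    (hy : y ∈ normalizer ((closure ({z, x} : Set G) : Subgroup G) : Set G)) :
    ∃ t ∈ Q ⊔ P, ∃ c : G, c * z = z * c ∧ c * x = x * c ∧ y = t * c := by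
  have hn := mem_normalizer_iff.mp hy
  have hzV : z ∈ closure ({z, x} : Set G) := subset_closure (by simp)
  have hxV : x ∈ closure ({z, x} : Set G) := subset_closure (by simp)
  have cinj : ∀ n u v : G, n * u * n⁻¹ = n * v * n⁻¹ → u = v := by
    intro n u v h; simpa using h
  have hu : y * z * y⁻¹ = z ∨ y * z * y⁻¹ = x ∨ y * z * y⁻¹ = z * x := by
    have := (L.V_mem _).mp ((hn z).mp hzV)
    rcases this with h | h | h | h
    · exfalso
      apply L.hQ.z1
      apply cinj y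
      rw [h]; group
    · exact Or.inl h
    · exact Or.inr (Or.inl h)
    · exact Or.inr (Or.inr h)
  have hv : y * x * y⁻¹ = z ∨ y * x * y⁻¹ = x ∨ y * x * y⁻¹ = z * x := by
    have := (L.V_mem _).mp ((hn x).mp hxV)
    rcases this with h | h | h | h
    · exfalso
      apply L.hP.z1
      apply cinj y
      rw [h]; group
    · exact Or.inl h
    · exact Or.inr (Or.inl h)
    · exact Or.inr (Or.inr h)
  have huv : y * z * y⁻¹ ≠ y * x * y⁻¹ := by
    intro h
    exact L.ne (cinj y _ _ h).symm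
  obtain ⟨t, ht, htz, htx⟩ := L.exists_rep hu hv huv
  refine ⟨t, ht, t⁻¹ * y, ?_, ?_, by group⟩
  · calc t⁻¹ * y * z = t⁻¹ * (y * z * y⁻¹) * y := by group
      _ = t⁻¹ * (t * z * t⁻¹) * y := by rw [htz]
      _ = z * (t⁻¹ * y) := by group
  · calc t⁻¹ * y * x = t⁻¹ * (y * x * y⁻¹) * y := by group
      _ = t⁻¹ * (t * x * t⁻¹) * y := by rw [htx]
      _ = x * (t⁻¹ * y) := by group

/-- `N(V) = X C(V)`. -/
theorem LE.normalizer_V (L : LE Q P z x) :
    normalizer ((closure ({z, x} : Set G) : Subgroup G) : Set G)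
      = (Q ⊔ P) ⊔ (centralizer ({z} : Set G) ⊓ centralizer ({x} : Set G)) := by
  apply le_antisymm
  · intro y hy
    obtain ⟨t, ht, c, hcz, hcx, rfl⟩ := L.NV_decomp hy
    apply Subgroup.mul_mem
    · exact (le_sup_left : Q ⊔ P ≤ _) ht
    · apply (le_sup_right : centralizer ({z} : Set G) ⊓ centralizer ({x} : Set G) ≤ _)
      rw [mem_inf, mem_centralizer_singleton_iff, mem_centralizer_singleton_iff]
      exact ⟨hcz, hcx⟩
  · apply sup_le
    · exact L.X_le_normalizer_V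
    · rw [← centralizer_closure_pair]
      intro c hc
      rw [mem_normalizer_iff]
      rw [mem_centralizer_iff] at hc
      intro h
      constructor
      · intro hh
        have : c * h * c⁻¹ = h := by rw [← hc h hh]; group
        rw [this]; exact hh
      · intro hh
        have h1 := hc _ hh
        have : c * h * c⁻¹ = h := by
          calc c * h * c⁻¹ = c⁻¹ * (c * (c * h * c⁻¹)) := by group
            _ = c⁻¹ * ((c * h * c⁻¹) * c) := by rw [h1]
            _ = h := by group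
        rw [this] at hh; exact hh

/-- `N(V)` normalizes `X`. -/
theorem LE.NV_norm_X (L : LE Q P z x) {y : G}
    (hy : y ∈ normalizer ((closure ({z, x} : Set G) : Subgroup G) : Set G)) :
    ∀ s ∈ Q ⊔ P, y * s * y⁻¹ ∈ Q ⊔ P := by
  obtain ⟨t, ht, c, hcz, hcx, rfl⟩ := L.NV_decomp hy
  intro s hs
  have h1 := L.CV_norm_X hcz hcx s hs
  have := Subgroup.mul_mem _ (Subgroup.mul_mem _ ht h1) (Subgroup.inv_mem _ ht)
  have e : t * (c * s * c⁻¹) * t⁻¹ = t * c * s * (t * c)⁻¹ := by group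
  rwa [e] at this

end Cfsg.Agent.Lib.Helper5.ES
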