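import Mathlib
import Cfsg.Agent.Lib.Helper5.LEK

set_option autoImplicit false
set_option linter.unusedSectionVars false
set_option linter.unusedVariables false

namespace Cfsg.Agent.Lib.Helper5.ES

open Subgroup

variable {G : Type*} [Group G] {Q P : Subgroup G} {z x : G}

/-- the nonidentity elements of `V`. -/
abbrev Omega (z x : G) := {v : G // v ∈ closure ({z, x} : Set G) ∧ v ≠ 1}

/-- conjugation action of `X` on `V ∖ {1}`. -/
@[reducible] def LE.act (L : LE Q P z x) : MulAction ↥(Q ⊔ P) (Omega z x) where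
  smul s v := ⟨(s : G) * v * (s : G)⁻¹,
    ⟨(mem_normalizer_iff.mp (L.X_le_normalizer_V s.2) v).mp v.2.1,
      fun h => v.2.2 (by simpa using h)⟩⟩
  one_smul v := by
    apply Subtype.ext
    show ((1 : ↥(Q ⊔ P)) : G) * v * ((1 : ↥(Q ⊔ P)) : G)⁻¹ = v
    simp
  mul_smul s t v := by
    apply Subtype.ext
    show ((s * t : ↥(Q ⊔ P)) : G) * v * ((s * t : ↥(Q ⊔ P)) : G)⁻¹
      = (s : G) * ((t : G) * v * (t : G)⁻¹) * (s : G)⁻¹
    simp [mul_assoc]

theorem LE.card_Omega (L : LE Q P z x) : Nat.card (Omega z x) = 3 := by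
  classical
  have hz1 : z ≠ 1 := L.hQ.z1
  have hx1 : x ≠ 1 := L.hP.z1
  have hzx1 : z * x ≠ 1 := by
    intro h
    apply L.ne
    calc x = z * (z * x) := by rw [← mul_assoc, L.zz, one_mul]
      _ = z := by rw [h, mul_one]
  have hz_zx : z ≠ z * x := by
    intro h
    apply hx1
    calc x = z * (z * x) := by rw [← mul_assoc, L.zz, one_mul]
      _ = 1 := by rw [← h, L.zz]
  have hx_zx : x ≠ z * x := by
    intro h
    apply hz1
    calc z = z * x * x := by rw [mul_assoc, L.xx, mul_one]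
      _ = 1 := by rw [← h, L.xx]
  let T : Finset G := {z, x, z * x}
  have hT : T.card = 3 := by
    show ({z, x, z * x} : Finset G).card = 3
    rw [Finset.card_insert_of_notMem, Finset.card_insert_of_notMem, Finset.card_singleton]
    · simpa using hx_zx
    · simp only [Finset.mem_insert, Finset.mem_singleton, not_or]
      exact ⟨fun h => L.ne h.symm, hz_zx⟩
  have hmem : ∀ v : G, (v ∈ closure ({z, x} : Set G) ∧ v ≠ 1) ↔ v ∈ T := by
    intro v
    show _ ↔ v ∈ ({z, x, z * x} : Finset G)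
    simp only [Finset.mem_insert, Finset.mem_singleton]
    rw [L.V_mem]
    constructor
    · rintro ⟨h1 | h1 | h1 | h1, h2⟩
      · exact absurd h1 h2
      · exact Or.inl h1
      · exact Or.inr (Or.inl h1)
      · exact Or.inr (Or.inr h1)
    · rintro (rfl | rfl | rfl)
      · exact ⟨Or.inr (Or.inl rfl), hz1⟩
      · exact ⟨Or.inr (Or.inr (Or.inl rfl)), hx1⟩
      · exact ⟨Or.inr (Or.inr (Or.inr rfl)), hzx1⟩
  have e : Omega z x ≃ {v : G // v ∈ T} := Equiv.subtypeEquivRight hmem
  rw [Nat.card_congr e, Nat.card_eq_fintype_card, Fintype.card_coe, hT]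

end Cfsg.Agent.Lib.Helper5.ES
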