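import Mathlib
import Cfsg.Agent.Lib.Helper5.LEL

set_option autoImplicit false
set_option linter.unusedSectionVars false
set_option linter.unusedVariables false

namespace Cfsg.Agent.Lib.Helper5.ES

open Subgroup

variable {G : Type*} [Group G] {Q P : Subgroup G} {z x : G}

/-- the action hom `X → Sym(V ∖ 1)`. -/
noncomputable def LE.phi (L : LE Q P z x) : ↥(Q ⊔ P) →* Equiv.Perm (Omega z x) :=
  @MulAction.toPermHom ↥(Q ⊔ P) (Omega z x) _ L.act

theorem LE.phi_apply (L : LE Q P z x) (s : ↥(Q ⊔ P)) (v : Omega z x) :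
    ((L.phi s v : Omega z x) : G) = (s : G) * v * (s : G)⁻¹ := rfl

theorem LE.phi_eq_one_iff (L : LE Q P z x) (s : ↥(Q ⊔ P)) :
    L.phi s = 1 ↔ (s : G) * z = z * s ∧ (s : G) * x = x * s := by
  have hzV : z ∈ closure ({z, x} : Set G) := subset_closure (by simp)
  have hxV : x ∈ closure ({z, x} : Set G) := subset_closure (by simp)
  constructor
  · intro h
    have h1 := congrArg (fun f : Equiv.Perm (Omega z x) => ((f ⟨z, hzV, L.hQ.z1⟩ : Omega z x) : G)) h
    have h2 := congrArg (fun f : Equiv.Perm (Omega z x) => ((f ⟨x, hxV, L.hP.z1⟩ : Omega z x) : G)) h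
    simp only [L.phi_apply, Equiv.Perm.coe_one, id_eq] at h1 h2
    constructor
    · calc (s : G) * z = ((s : G) * z * (s : G)⁻¹) * s := by group
        _ = z * s := by rw [h1]
    · calc (s : G) * x = ((s : G) * x * (s : G)⁻¹) * s := by group
        _ = x * s := by rw [h2]
  · rintro ⟨h1, h2⟩
    apply Equiv.ext
    intro v
    apply Subtype.ext
    rw [L.phi_apply]
    show (s : G) * v * (s : G)⁻¹ = v
    have hv := (L.V_mem _).mp v.2.1
    have hs : ∀ w : G, (s : G) * w = w * s → (s : G) * w * (s : G)⁻¹ = w := by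
      intro w hw; rw [hw]; group
    rcases hv with h | h | h | h
    · rw [h]; group
    · rw [h]; exact hs z h1
    · rw [h]; exact hs x h2
    · rw [h]
      apply hs
      calc (s : G) * (z * x) = ((s : G) * z) * x := by group
        _ = z * ((s : G) * x) := by rw [h1]; group
        _ = z * x * s := by rw [h2]; group

theorem LE.ker_phi (L : LE Q P z x) :
    L.phi.ker = ((P ⊓ centralizer ({z} : Set G)) ⊔ (Q ⊓ centralizer ({x} : Set G))).subgroupOf
      (Q ⊔ P) := by
  ext s
  rw [MonoidHom.mem_ker, L.phi_eq_one_iff, mem_subgroupOf, ← L.X_inf_CV, mem_inf, mem_inf,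
    mem_centralizer_singleton_iff, mem_centralizer_singleton_iff]
  constructor
  · intro h; exact ⟨s.2, h⟩
  · intro h; exact h.2

end Cfsg.Agent.Lib.Helper5.ES
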