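import Mathlib
import Cfsg.Agent.Lib.Helper5.LEM

set_option autoImplicit false
set_option linter.unusedSectionVars false
set_option linter.unusedVariables false

namespace Cfsg.Agent.Lib.Helper5.ES

open Subgroup

variable {G : Type*} [Group G] {Q P : Subgroup G} {z x : G}

theorem LE.phi_range (L : LE Q P z x) : L.phi.range = ⊤ := by
  have hfinΩ : Finite (Omega z x) := Nat.finite_of_card_ne_zero (by rw [L.card_Omega]; norm_num)
  have hcardPerm : Nat.card (Equiv.Perm (Omega z x)) = 6 := by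
    rw [Nat.card_perm, L.card_Omega]; rfl
  obtain ⟨q0, hq0, hq0z, hq0x⟩ := L.exists_q
  obtain ⟨r0, hr0, hr0x, hr0z⟩ := L.exists_r
  let q0' : ↥(Q ⊔ P) := ⟨q0, (le_sup_left : Q ≤ Q ⊔ P) hq0⟩
  let r0' : ↥(Q ⊔ P) := ⟨r0, (le_sup_right : P ≤ Q ⊔ P) hr0⟩
  have hq0nc : q0 * x ≠ x * q0 := L.not_comm_of hq0x
  have hr0nc : r0 * z ≠ z * r0 := by
    apply L.symm.not_comm_of
    rw [hr0z, L.zx]
  have ha1 : L.phi q0' ≠ 1 := by
    intro h
    exact hq0nc ((L.phi_eq_one_iff q0').mp h).2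
  have hb1 : L.phi r0' ≠ 1 := by
    intro h
    exact hr0nc ((L.phi_eq_one_iff r0').mp h).1
  have hab : L.phi q0' ≠ L.phi r0' := by
    intro h
    have h1 : L.phi (r0'⁻¹ * q0') = 1 := by rw [map_mul, map_inv, h, inv_mul_cancel]
    have h2 := ((L.phi_eq_one_iff _).mp h1).1
    apply hr0nc
    have h3 : (r0⁻¹ * q0) * z = z * (r0⁻¹ * q0) := h2
    have hq0z' : q0 * z = z * q0 := (L.hQ.zc q0 hq0).symm
    have h4 : r0⁻¹ * z = z * r0⁻¹ := by
      calc r0⁻¹ * z = r0⁻¹ * (z * q0) * q0⁻¹ := by group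
        _ = (r0⁻¹ * q0 * z) * q0⁻¹ := by rw [← hq0z']; group
        _ = (z * (r0⁻¹ * q0)) * q0⁻¹ := by rw [h3]
        _ = z * r0⁻¹ := by group
    exact L.hP.commute_inv_iff.mp h4
  have haa : L.phi q0' ^ 2 = 1 := by
    rw [← map_pow, ← MonoidHom.mem_ker, L.ker_phi, mem_subgroupOf, pow_two]
    show q0 * q0 ∈ _
    rcases L.hQ.sq q0 hq0 with h | h
    · rw [h]; exact Subgroup.one_mem _
    · rw [h]
      exact (le_sup_left : _ ≤ (P ⊓ centralizer ({z} : Set G)) ⊔ (Q ⊓ centralizer ({x} : Set G)))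
        (mem_inf_cent.mpr ⟨L.zP, rfl⟩)
  have hord : orderOf (L.phi q0') = 2 := orderOf_eq_prime haa ha1
  have haH : L.phi q0' ∈ L.phi.range := ⟨q0', rfl⟩
  have hbH : L.phi r0' ∈ L.phi.range := ⟨r0', rfl⟩
  have hd2 : 2 ∣ Nat.card ↥L.phi.range := by
    rw [← hord]; exact Subgroup.orderOf_dvd_natCard _ haH
  have hd6 : Nat.card ↥L.phi.range ∣ 6 := by
    rw [← hcardPerm]; exact Subgroup.card_subgroup_dvd_card _
  have hne2 : Nat.card ↥L.phi.range ≠ 2 := by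
    intro h2
    obtain ⟨y, hy, hyu⟩ := (Nat.card_eq_two_iff' (1 : ↥L.phi.range)).mp h2
    have e1 : (⟨L.phi q0', haH⟩ : ↥L.phi.range) = y :=
      hyu _ (fun hh => ha1 (congrArg Subtype.val hh))
    have e2 : (⟨L.phi r0', hbH⟩ : ↥L.phi.range) = y :=
      hyu _ (fun hh => hb1 (congrArg Subtype.val hh))
    exact hab (congrArg Subtype.val (e1.trans e2.symm))
  have h6 : Nat.card ↥L.phi.range = 6 := by
    have hle : Nat.card ↥L.phi.range ≤ 6 := Nat.le_of_dvd (by norm_num) hd6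
    have hpos : 0 < Nat.card ↥L.phi.range :=
      Nat.pos_of_ne_zero (fun h0 => by rw [h0] at hd6; norm_num at hd6)
    interval_cases h : Nat.card ↥L.phi.range <;> omega
  apply Subgroup.eq_top_of_card_eq
  rw [h6, hcardPerm]

end Cfsg.Agent.Lib.Helper5.ES
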