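import Mathlib
import Cfsg.Agent.Lib.Helper16.PCore

set_option autoImplicit false

namespace Cfsg.Agent.Lib.Helper5.PCoreOf

open Subgroup

variable {G : Type*} [Group G]

theorem le_self (p : ℕ) (H : Subgroup G) : (Cfsg.pCore p ↥H).map H.subtype ≤ H := by
  rintro _ ⟨y, _, rfl⟩
  exact y.2

theorem conj_mem (p : ℕ) (H : Subgroup G) {h m : G} (hh : h ∈ H)
    (hm : m ∈ (Cfsg.pCore p ↥H).map H.subtype) :
    h * m * h⁻¹ ∈ (Cfsg.pCore p ↥H).map H.subtype := by
  obtain ⟨y, hy, rfl⟩ := hm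
  have hn := Cfsg.Agent.Lib.Helper16.pCore_normal p ↥H
  refine ⟨(⟨h, hh⟩ : ↥H) * y * (⟨h, hh⟩ : ↥H)⁻¹, hn.conj_mem y hy _, ?_⟩
  simp

theorem isPGroup (p : ℕ) [Fact p.Prime] [Finite G] (H : Subgroup G) :
    IsPGroup p ↥((Cfsg.pCore p ↥H).map H.subtype) :=
  (Cfsg.Agent.Lib.Helper16.pCore_isPGroup p ↥H).map H.subtype

theorem le_of (p : ℕ) (H M : Subgroup G) (hMH : M ≤ H)
    (hnorm : ∀ h ∈ H, ∀ m ∈ M, h * m * h⁻¹ ∈ M) (hM : IsPGroup p M) :
    M ≤ (Cfsg.pCore p ↥H).map H.subtype := by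
  have hN : (M.subgroupOf H).Normal := by
    constructor
    intro n hn g
    rw [mem_subgroupOf] at hn ⊢
    have := hnorm g g.2 n hn
    simpa using this
  have hP : IsPGroup p (M.subgroupOf H) := by
    have e := (Subgroup.subgroupOfEquivOfLe hMH)
    exact hM.of_equiv e.symm
  have hle := Cfsg.Agent.Lib.Helper16.le_pCore hN hP
  intro m hm
  refine ⟨⟨m, hMH hm⟩, hle ?_, rfl⟩
  rw [mem_subgroupOf]
  exact hm

theorem map_conj_le (p : ℕ) [Fact p.Prime] [Finite G] (H : Subgroup G) (g : G) :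
    ((Cfsg.pCore p ↥H).map H.subtype).map (MulAut.conj g).toMonoidHom ≤
      (Cfsg.pCore p ↥(H.map (MulAut.conj g).toMonoidHom)).map
        (H.map (MulAut.conj g).toMonoidHom).subtype := by
  apply le_of
  · exact Subgroup.map_mono (le_self p H)
  · rintro _ ⟨h, hh, rfl⟩ _ ⟨m, hm, rfl⟩
    refine ⟨h * m * h⁻¹, conj_mem p H hh hm, ?_⟩
    simp only [MulEquiv.coe_toMonoidHom, MulAut.conj_apply]
    group
  · exact (isPGroup p H).map _

theorem map_conj (p : ℕ) [Fact p.Prime] [Finite G] (H : Subgroup G) (g : G) :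
    (Cfsg.pCore p ↥(H.map (MulAut.conj g).toMonoidHom)).map
        (H.map (MulAut.conj g).toMonoidHom).subtype =
    ((Cfsg.pCore p ↥H).map H.subtype).map (MulAut.conj g).toMonoidHom := by
  apply le_antisymm
  · have h1 := map_conj_le p (H.map (MulAut.conj g).toMonoidHom) g⁻¹
    have e : (H.map (MulAut.conj g).toMonoidHom).map (MulAut.conj g⁻¹).toMonoidHom = H := by
      ext y
      simp only [Subgroup.mem_map, MulEquiv.coe_toMonoidHom, MulAut.conj_apply, exists_exists_and_eq_and]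
      constructor
      · rintro ⟨a, ha, rfl⟩
        have : g⁻¹ * (g * a * g⁻¹) * g⁻¹⁻¹ = a := by group
        rw [this]; exact ha
      · intro hy
        exact ⟨y, hy, by group⟩
    rw [e] at h1
    intro y hy
    have h2 := h1 ⟨y, hy, rfl⟩
    refine ⟨_, h2, ?_⟩
    simp only [MulEquiv.coe_toMonoidHom, MulAut.conj_apply]
    group
  · exact map_conj_le p H g

theorem centralizer_conj (z g : G) :
    centralizer ({g * z * g⁻¹} : Set G) = (centralizer ({z} : Set G)).map (MulAut.conj g).toMonoidHom := by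
  ext y
  simp only [mem_centralizer_singleton_iff, Subgroup.mem_map, MulEquiv.coe_toMonoidHom, MulAut.conj_apply]
  constructor
  · intro hy
    refine ⟨g⁻¹ * y * g, ?_, by group⟩
    calc g⁻¹ * y * g * z = g⁻¹ * (y * (g * z * g⁻¹)) * g := by group
      _ = g⁻¹ * ((g * z * g⁻¹) * y) * g := by rw [hy]
      _ = z * (g⁻¹ * y * g) := by group
  · rintro ⟨a, ha, rfl⟩
    calc g * a * g⁻¹ * (g * z * g⁻¹) = g * (a * z) * g⁻¹ := by group
      _ = g * (z * a) * g⁻¹ := by rw [ha]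
      _ = g * z * g⁻¹ * (g * a * g⁻¹) := by group

end Cfsg.Agent.Lib.Helper5.PCoreOf
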