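import Mathlib
import Cfsg.Agent.Lib.Helper5.LEN
import Cfsg.Agent.Lib.Helper5.PCoreOf

set_option autoImplicit false
set_option linter.unusedSectionVars false
set_option linter.unusedVariables false

namespace Cfsg.Agent.Lib.Helper5.ES

open Subgroup

variable {G : Type*} [Group G] {Q P : Subgroup G} {z x : G}

/-- `X / R ≅ S₃`. -/
theorem LE.quotient_equiv (L : LE Q P z x) :
    ∃ h : (((P ⊓ centralizer ({z} : Set G)) ⊔ (Q ⊓ centralizer ({x} : Set G))).subgroupOf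
      (Q ⊔ P)).Normal,
      Nonempty (↥(Q ⊔ P) ⧸ ((P ⊓ centralizer ({z} : Set G)) ⊔
        (Q ⊓ centralizer ({x} : Set G))).subgroupOf (Q ⊔ P) ≃* Equiv.Perm (Fin 3)) := by
  have hN : (((P ⊓ centralizer ({z} : Set G)) ⊔ (Q ⊓ centralizer ({x} : Set G))).subgroupOf
      (Q ⊔ P)).Normal := normal_subgroupOf_of_le_normalizer L.X_le_normalizer_R
  refine ⟨hN, ⟨?_⟩⟩
  have hker := L.ker_phi
  have hsurj : Function.Surjective L.phi := MonoidHom.range_eq_top.mp L.phi_range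
  have e1 := QuotientGroup.quotientKerEquivOfSurjective L.phi hsurj
  have e0 : ↥(Q ⊔ P) ⧸ ((P ⊓ centralizer ({z} : Set G)) ⊔
        (Q ⊓ centralizer ({x} : Set G))).subgroupOf (Q ⊔ P) ≃* ↥(Q ⊔ P) ⧸ L.phi.ker :=
    QuotientGroup.quotientMulEquivOfEq hker.symm
  have hfinΩ : Finite (Omega z x) := Nat.finite_of_card_ne_zero (by rw [L.card_Omega]; norm_num)
  have e2 : Equiv.Perm (Omega z x) ≃* Equiv.Perm (Fin 3) :=
    (Finite.equivFinOfCardEq L.card_Omega).permCongrHom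
  exact e0.trans (e1.trans e2)

set_option maxRecDepth 100000 in
theorem S3_aux : ∀ n : Equiv.Perm (Fin 3), n ≠ 1 →
    (n * n * n = 1) ∨ ∃ g : Equiv.Perm (Fin 3),
      n * (g * n * g⁻¹) ≠ 1 ∧ (n * (g * n * g⁻¹)) * (n * (g * n * g⁻¹)) * (n * (g * n * g⁻¹)) = 1 := by
  decide

/-- `S₃` has no nontrivial normal 2-subgroup. -/
theorem S3_normal_two_group (N : Subgroup (Equiv.Perm (Fin 3))) (hn : N.Normal)
    (hN : IsPGroup 2 N) : N = ⊥ := by
  rw [eq_bot_iff]
  intro n hnN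
  rw [mem_bot]
  by_contra hn1
  have key : ∀ m ∈ N, m * m * m = 1 → m = 1 := by
    intro m hm h3
    obtain ⟨k, hk⟩ := hN ⟨m, hm⟩
    have hk' : m ^ (2 ^ k) = 1 := by
      have := congrArg Subtype.val hk
      simpa using this
    have h3' : m ^ 3 = 1 := by rw [pow_succ, pow_two]; exact h3
    have hd1 : orderOf m ∣ 2 ^ k := orderOf_dvd_of_pow_eq_one hk'
    have hd3 : orderOf m ∣ 3 := orderOf_dvd_of_pow_eq_one h3'
    have hc : Nat.Coprime (2 ^ k) 3 := Nat.Coprime.pow_left _ (by norm_num)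
    have : orderOf m ∣ 1 := by
      have := Nat.dvd_gcd hd1 hd3
      rwa [hc] at this
    exact orderOf_eq_one_iff.mp (Nat.dvd_one.mp this)
  rcases S3_aux n hn1 with h | ⟨g, hg1, hg3⟩
  · exact hn1 (key n hnN h)
  · exact hg1 (key _ (N.mul_mem hnN (hn.conj_mem n hnN g)) hg3)

end Cfsg.Agent.Lib.Helper5.ES
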