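import Mathlib
import Cfsg.Agent.Lib.Helper5.LEO

set_option autoImplicit false
set_option linter.unusedSectionVars false
set_option linter.unusedVariables false

namespace Cfsg.Agent.Lib.Helper5.ES

open Subgroup

variable {G : Type*} [Group G] {Q P : Subgroup G} {z x : G}

theorem LE.R_isPGroup (L : LE Q P z x) :
    IsPGroup 2 ↥((P ⊓ centralizer ({z} : Set G)) ⊔ (Q ⊓ centralizer ({x} : Set G))) := by
  intro r
  refine ⟨2, ?_⟩
  apply Subtype.ext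
  have h1 := L.R_sq r r.2
  have h2 := L.E_sq h1.1 h1.2
  show ((r ^ 2 ^ 2 : ↥((P ⊓ centralizer ({z} : Set G)) ⊔ (Q ⊓ centralizer ({x} : Set G)))) : G) = 1
  rw [Subgroup.coe_pow]
  calc (r : G) ^ 2 ^ 2 = ((r : G) * r) * ((r : G) * r) := by
        rw [show (2 : ℕ) ^ 2 = 4 from rfl]
        simp only [pow_succ, pow_zero, one_mul, mul_assoc]
    _ = 1 := h2

/-- `R = O₂(X)`. -/
theorem LE.pCore_X [Finite G] (L : LE Q P z x) :
    (P ⊓ centralizer ({z} : Set G)) ⊔ (Q ⊓ centralizer ({x} : Set G))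
      = (Cfsg.pCore 2 ↥(Q ⊔ P)).map (Q ⊔ P).subtype := by
  have h2 : Fact (Nat.Prime 2) := ⟨Nat.prime_two⟩
  apply le_antisymm
  · apply Cfsg.Agent.Lib.Helper5.PCoreOf.le_of 2 (Q ⊔ P) _ L.R_le_X
    · intro h hh m hm
      exact L.X_norm_R hh m hm
    · exact L.R_isPGroup
  · obtain ⟨hN, ⟨e⟩⟩ := L.quotient_equiv
    let f : ↥(Q ⊔ P) →* Equiv.Perm (Fin 3) := e.toMonoidHom.comp (QuotientGroup.mk' (((P ⊓ centralizer ({z} : Set G)) ⊔ (Q ⊓ centralizer ({x} : Set G))).subgroupOf (Q ⊔ P)))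
    have hf : Function.Surjective f := by
      intro y
      obtain ⟨w, hw⟩ := e.surjective y
      obtain ⟨s, hs⟩ := QuotientGroup.mk'_surjective (((P ⊓ centralizer ({z} : Set G)) ⊔ (Q ⊓ centralizer ({x} : Set G))).subgroupOf (Q ⊔ P)) w
      exact ⟨s, by show e (QuotientGroup.mk' (((P ⊓ centralizer ({z} : Set G)) ⊔ (Q ⊓ centralizer ({x} : Set G))).subgroupOf (Q ⊔ P)) s) = y; rw [hs, hw]⟩
    have hOn : (Cfsg.pCore 2 ↥(Q ⊔ P)).Normal := Cfsg.Agent.Lib.Helper16.pCore_normal 2 ↥(Q ⊔ P)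
    have hOp : IsPGroup 2 ↥(Cfsg.pCore 2 ↥(Q ⊔ P)) := Cfsg.Agent.Lib.Helper16.pCore_isPGroup 2 ↥(Q ⊔ P)
    have hNn : ((Cfsg.pCore 2 ↥(Q ⊔ P)).map f).Normal := hOn.map f hf
    have hNp : IsPGroup 2 ↥((Cfsg.pCore 2 ↥(Q ⊔ P)).map f) := hOp.map f
    have hbot := S3_normal_two_group _ hNn hNp
    rintro _ ⟨o, ho, rfl⟩
    have h1 : f o ∈ (Cfsg.pCore 2 ↥(Q ⊔ P)).map f := ⟨o, ho, rfl⟩
    rw [hbot, mem_bot] at h1
    have h3 : e (QuotientGroup.mk' (((P ⊓ centralizer ({z} : Set G)) ⊔ (Q ⊓ centralizer ({x} : Set G))).subgroupOf (Q ⊔ P)) o) = 1 := h1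
    have h4 : QuotientGroup.mk' (((P ⊓ centralizer ({z} : Set G)) ⊔ (Q ⊓ centralizer ({x} : Set G))).subgroupOf (Q ⊔ P)) o = 1 := by
      have := e.injective (h3.trans (map_one e).symm)
      exact this
    have h5 : o ∈ ((P ⊓ centralizer ({z} : Set G)) ⊔ (Q ⊓ centralizer ({x} : Set G))).subgroupOf (Q ⊔ P) := (QuotientGroup.eq_one_iff o).mp h4
    exact mem_subgroupOf.mp h5

end Cfsg.Agent.Lib.Helper5.ES
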