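import Mathlib

set_option autoImplicit false

open Polynomial

namespace Cfsg.Agent.Lib.Helper5.NormOne

variable (p q : ℕ) [Fact p.Prime]

/-- the norm of `b + k` as a product over Frobenius powers. -/
theorem norm_add_natCast (hq : q ≠ 0) (b : GaloisField p q) (k : ℕ) :
    algebraMap (ZMod p) (GaloisField p q) (Algebra.norm (ZMod p) (b + (k : GaloisField p q))) =
      ∏ i ∈ Finset.range q, (b ^ (p ^ i) + (k : GaloisField p q)) := by
  rw [FiniteField.algebraMap_norm_eq_prod_pow, GaloisField.finrank p hq]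
  apply Finset.prod_congr rfl
  intro i _
  rw [Nat.card_eq_fintype_card, ZMod.card, add_pow_char_pow]
  congr 1
  have : ((k : ZMod p)) ^ (p ^ i) = (k : ZMod p) := ZMod.pow_card_pow _
  have h2 := congrArg (algebraMap (ZMod p) (GaloisField p q)) this
  rw [map_pow, map_natCast] at h2
  exact h2

/-- if the norm is constant on `b + 𝔽_p` then `p ≤ q`. -/
theorem le_of_norm_const (hq : q ≠ 0) (b : GaloisField p q)
    (h : ∀ k : ℕ, Algebra.norm (ZMod p) (b + (k : GaloisField p q)) = Algebra.norm (ZMod p) b) :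
    p ≤ q := by
  classical
  set c : GaloisField p q := algebraMap (ZMod p) (GaloisField p q) (Algebra.norm (ZMod p) b) with hc
  set Pr : (GaloisField p q)[X] := ∏ i ∈ Finset.range q, (X + C (b ^ (p ^ i))) with hPr
  have hdeg : Pr.natDegree = q := by
    rw [hPr, natDegree_prod_of_monic _ _ (fun i _ => monic_X_add_C _)]
    simp only [natDegree_X_add_C]
    simp
  set P : (GaloisField p q)[X] := Pr - C c with hP
  have hP0 : P ≠ 0 := by
    intro h0
    have : Pr = C c := sub_eq_zero.mp h0
    rw [this, natDegree_C] at hdeg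
    exact hq hdeg.symm
  have hPdeg : P.natDegree ≤ q := by
    calc P.natDegree ≤ max Pr.natDegree (C c).natDegree := natDegree_sub_le _ _
      _ ≤ q := by rw [hdeg, natDegree_C]; simp
  let Z : Finset (GaloisField p q) := (Finset.range p).image (fun k : ℕ => (k : GaloisField p q))
  have hZcard : Z.card = p := by
    rw [Finset.card_image_of_injOn, Finset.card_range]
    intro i hi j hj hij
    have := (CharP.natCast_eq_natCast (GaloisField p q) p).mp hij
    exact Nat.ModEq.eq_of_lt_of_lt this (Finset.mem_range.mp hi) (Finset.mem_range.mp hj)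
  have hZroots : Z.val ⊆ P.roots := by
    intro x hx
    rw [Finset.mem_val, Finset.mem_image] at hx
    obtain ⟨k, _, rfl⟩ := hx
    rw [mem_roots hP0, IsRoot.def, hP, eval_sub, eval_C, hPr, eval_prod]
    simp only [eval_add, eval_X, eval_C]
    rw [sub_eq_zero]
    have := norm_add_natCast p q hq b k
    rw [h k] at this
    rw [hc, this]
    apply Finset.prod_congr rfl
    intro i _
    ring
  calc p = Z.card := hZcard.symm
    _ ≤ P.natDegree := card_le_degree_of_subset_roots hZroots
    _ ≤ q := hPdeg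

theorem main (hq : q ≠ 0) (E : Set (GaloisField p q))
    (hE : ∀ a, a ∈ E ↔ Algebra.norm (ZMod p) a = 1 ∧ Algebra.norm (ZMod p) (2 - a) = 1)
    (hinv : ∀ a ∈ E, a⁻¹ ∈ E) (h2 : 2 ≤ E.ncard) : p ≤ q := by
  obtain ⟨a, haE, ha1⟩ := Set.exists_ne_of_one_lt_ncard h2 1
  have hne0 : ∀ x : GaloisField p q, Algebra.norm (ZMod p) x = 1 → x ≠ 0 := by
    intro x hx h0
    rw [h0, Algebra.norm_zero] at hx
    exact zero_ne_one hx
  set b : GaloisField p q := (a - 1)⁻¹ with hb
  have key : ∀ k : ℕ, ∃ x ∈ E, x ≠ 1 ∧ (x - 1)⁻¹ = b + (k : GaloisField p q) := by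
    intro k
    induction k with
    | zero => exact ⟨a, haE, ha1, by simp [hb]⟩
    | succ k ih =>
      obtain ⟨x, hxE, hx1, hxb⟩ := ih
      have hx0 : x ≠ 0 := hne0 x ((hE x).mp hxE).1
      have hxi := hinv x hxE
      have hxi' := (hE _).mp hxi
      refine ⟨2 - x⁻¹, ?_, ?_, ?_⟩
      · rw [hE]
        refine ⟨hxi'.2, ?_⟩
        rw [sub_sub_cancel]
        exact hxi'.1
      · intro h1
        apply hx1
        have : x⁻¹ = 1 := by linear_combination -h1
        rw [inv_eq_one] at this
        exact this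
      · have hx1' : x - 1 ≠ 0 := sub_ne_zero.mpr hx1
        have e1 : 2 - x⁻¹ - 1 = (x - 1) / x := by field_simp; ring
        rw [e1, inv_div, Nat.cast_succ, ← add_assoc, ← hxb]
        field_simp
        ring
  apply le_of_norm_const p q hq b
  have step : ∀ k : ℕ, Algebra.norm (ZMod p) (b + ((k + 1 : ℕ) : GaloisField p q)) =
      Algebra.norm (ZMod p) (b + (k : GaloisField p q)) := by
    intro k
    obtain ⟨x, hxE, hx1, hxb⟩ := key k
    have hx1' : x - 1 ≠ 0 := sub_ne_zero.mpr hx1
    have hc0 : b + (k : GaloisField p q) ≠ 0 := by rw [← hxb]; exact inv_ne_zero hx1'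
    have hxc : x * (b + (k : GaloisField p q)) = b + ((k + 1 : ℕ) : GaloisField p q) := by
      rw [Nat.cast_succ, ← add_assoc, ← hxb]
      field_simp
      ring
    rw [← hxc, map_mul, ((hE x).mp hxE).1, one_mul]
  intro k
  induction k with
  | zero => simp
  | succ k ih => rw [step k, ih]

end Cfsg.Agent.Lib.Helper5.NormOne
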