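
import Mathlib
import Cfsg.Agent.Lib.Helper5.InvCount
import Cfsg.Agent.Lib.Helper5.IndexPrime
import Cfsg.Agent.Lib.Helper9.SimpleTools
import Cfsg.Agent.Lib.Helper9.OrderCount
import Cfsg.Agent.Lib.Helper9.ClassSize

set_option autoImplicit false
set_option linter.unusedSectionVars false
set_option linter.unusedVariables false

namespace Cfsg.Agent.Lib.Helper5.Ord3648

open Subgroup Cfsg.Agent.Lib.Helper9 Cfsg.Agent.Lib.Helper5.InvCount

/-- In a simple group, a Sylow `p`-subgroup of order `p` with normalizer of order `2p`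
is self-centralizing. -/
theorem dihData_of_simple {G : Type*} [Group G] [Finite G] [IsSimpleGroup G] {p : ℕ}
    [Fact p.Prime] (hp2 : p ≠ 2) (P : Sylow p G)
    (hP : Nat.card (P : Subgroup G) = p)
    (hN : Nat.card (normalizer ((P : Subgroup G) : Set G)) = 2 * p) (hdvd : p ∣ Nat.card G)
    (hnp : ∀ k : ℕ, Nat.card G ≠ p ^ k) : DihData (P : Subgroup G) p := by
  have hp : p.Prime := Fact.out
  refine ⟨hp, hp2, hP, ?_, hN⟩
  have hPab : IsMulCommutative (P : Subgroup G) := by
    have hc : IsCyclic (P : Subgroup G) := isCyclic_of_prime_card hP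
    exact hc.isMulCommutative
  have hle : (P : Subgroup G) ≤ centralizer ((P : Subgroup G) : Set G) := by
    rw [le_centralizer_iff_isMulCommutative]; exact hPab
  have hle2 : centralizer ((P : Subgroup G) : Set G) ≤ normalizer ((P : Subgroup G) : Set G) :=
    centralizer_le_normalizer _
  have hd1 : p ∣ Nat.card (centralizer ((P : Subgroup G) : Set G)) := by
    have := Subgroup.card_dvd_of_le hle
    rwa [hP] at this
  have hd2 : Nat.card (centralizer ((P : Subgroup G) : Set G)) ∣ 2 * p := by
    rw [← hN]; exact Subgroup.card_dvd_of_le hle2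
  obtain ⟨m, hm⟩ := hd1
  have hm2 : m ∣ 2 := by
    rw [hm, mul_comm] at hd2
    exact Nat.dvd_of_mul_dvd_mul_right hp.pos hd2
  have hm3 : m = 1 ∨ m = 2 := by
    have := Nat.le_of_dvd (by norm_num) hm2
    interval_cases m
    · simp at hm2
    · left; rfl
    · right; rfl
  rcases hm3 with rfl | rfl
  · symm
    apply Subgroup.eq_of_le_of_card_ge hle
    rw [hm, hP, mul_one]
  · exfalso
    apply false_of_simple_of_normalizer_le_centralizer P hdvd hnp
    have : centralizer ((P : Subgroup G) : Set G) = normalizer ((P : Subgroup G) : Set G) := by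
      apply Subgroup.eq_of_le_of_card_ge hle2
      rw [hm, hN, mul_comm]
    rw [this]

section main
variable {G : Type*} [Group G] [Finite G] [IsSimpleGroup G] [Fact (Nat.Prime 19)]

theorem card_sylow19 (hcard : Nat.card G = 3648) : Nat.card (Sylow 19 G) = 96 := by
  have hc : Nat.card G = 192 * 19 ^ 1 := by rw [hcard]; norm_num
  have h1 : Nat.card (Sylow 19 G) ∣ 192 := card_sylow_dvd_of_card_eq hc (by norm_num)
  have h2 : Nat.card (Sylow 19 G) ≡ 1 [MOD 19] := card_sylow_modEq_one 19 G
  have h3 : Nat.card (Sylow 19 G) ≠ 1 := by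
    apply card_sylow_ne_one_of_simple
    · rw [hcard]; norm_num
    · rw [hcard]
      exact ne_pow_of_prime_dvd (by norm_num) Nat.prime_two (by norm_num) (by norm_num)
  have h4 := Nat.le_of_dvd (by norm_num) h1
  unfold Nat.ModEq at h2
  generalize Nat.card (Sylow 19 G) = n at *
  interval_cases n <;> omega

theorem card_P19 (hcard : Nat.card G = 3648) (P : Sylow 19 G) : Nat.card (P : Subgroup G) = 19 := by
  have hc : Nat.card G = 192 * 19 ^ 1 := by rw [hcard]; norm_num
  have := card_sylow_subgroup_of_card_eq hc (by norm_num) P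
  simpa using this

theorem card_N19 (hcard : Nat.card G = 3648) (P : Sylow 19 G) :
    Nat.card (normalizer ((P : Subgroup G) : Set G)) = 38 := by
  have := card_sylow_mul_card_normalizer P
  rw [card_sylow19 hcard, hcard] at this
  omega

theorem dih19 (hcard : Nat.card G = 3648) (P : Sylow 19 G) : DihData (P : Subgroup G) 19 := by
  apply dihData_of_simple (by norm_num) P (card_P19 hcard P) (by rw [card_N19 hcard P])
  · rw [hcard]; norm_num
  · rw [hcard]
    exact ne_pow_of_prime_dvd (by norm_num) Nat.prime_two (by norm_num) (by norm_num)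

theorem not_comm (hcard : Nat.card G = 3648) : ¬ IsMulCommutative G := by
  apply not_isMulCommutative_of_simple_of_not_prime
  rw [hcard]; norm_num

theorem center_eq_bot (hcard : Nat.card G = 3648) : center G = ⊥ := by
  rcases (inferInstance : (center G).Normal).eq_bot_or_eq_top with h | h
  · exact h
  · exfalso
    apply not_comm hcard
    refine ⟨⟨fun a b => ?_⟩⟩
    have : a ∈ center G := by rw [h]; trivial
    exact (Subgroup.mem_center_iff.mp this b).symm

/-- the Sylow subgroup generated by an element of order 19 -/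
theorem zpowers_sylow (hcard : Nat.card G = 3648) {x : G} (hx : orderOf x = 19) :
    ∃ P : Sylow 19 G, (P : Subgroup G) = zpowers x := by
  obtain ⟨P0⟩ : Nonempty (Sylow 19 G) := inferInstance
  have h0 := card_P19 hcard P0
  refine ⟨Sylow.ofCard (zpowers x) ?_, Sylow.coe_ofCard _ _⟩
  rw [Nat.card_zpowers, hx, ← P0.card_eq_multiplicity, h0]

theorem centralizer_of_order19 (hcard : Nat.card G = 3648) {x : G} (hx : orderOf x = 19) :
    centralizer ({x} : Set G) = zpowers x := by
  obtain ⟨P, hP⟩ := zpowers_sylow hcard hx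
  have h := (dih19 hcard P).cent
  rw [hP] at h
  rw [← h]
  ext y
  rw [mem_centralizer_singleton_iff, mem_centralizer_iff]
  constructor
  · intro hy k hk
    obtain ⟨n, rfl⟩ := mem_zpowers_iff.mp hk
    exact ((Commute.zpow_left (show Commute x y from hy.symm) n)).eq
  · intro hy
    exact (hy x (mem_zpowers x)).symm

theorem order_cases (hcard : Nat.card G = 3648) (g : G) : orderOf g = 19 ∨ g ^ 192 = 1 := by
  have hd : orderOf g ∣ 3648 := hcard ▸ orderOf_dvd_natCard g
  by_cases h19 : 19 ∣ orderOf g
  · left
    have hpos : 0 < orderOf g := orderOf_pos g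
    have hx : orderOf (g ^ (orderOf g / 19)) = 19 := orderOf_pow_orderOf_div hpos.ne' h19
    have hc := centralizer_of_order19 hcard hx
    have hg : g ∈ centralizer ({g ^ (orderOf g / 19)} : Set G) := by
      rw [mem_centralizer_singleton_iff]
      exact (pow_mul_comm' g _).symm
    rw [hc] at hg
    have h1 : orderOf g ∣ 19 := by
      have := orderOf_dvd_natCard (⟨g, hg⟩ : zpowers (g ^ (orderOf g / 19)))
      rwa [Subgroup.orderOf_mk, Nat.card_zpowers, hx] at this
    exact Nat.dvd_antisymm h1 h19
  · right
    have hcop : Nat.Coprime (orderOf g) 19 :=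
      (Nat.Coprime.symm ((Nat.Prime.coprime_iff_not_dvd (by norm_num)).mpr h19))
    have : orderOf g ∣ 192 := by
      have h3648 : (3648 : ℕ) = 192 * 19 := by norm_num
      rw [h3648] at hd
      exact hcop.dvd_of_dvd_mul_right hd
    exact orderOf_dvd_iff_pow_eq_one.mp this

end main

end Cfsg.Agent.Lib.Helper5.Ord3648
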