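import Cfsg.Agent.Lib.Helper5.Ord3648A

set_option autoImplicit false
set_option linter.unusedSectionVars false
set_option linter.unusedVariables false

namespace Cfsg.Agent.Lib.Helper5.Ord3648

open Subgroup Cfsg.Agent.Lib.Helper9 Cfsg.Agent.Lib.Helper5.InvCount

section main
variable {G : Type*} [Group G] [Finite G] [IsSimpleGroup G] [Fact (Nat.Prime 19)]

theorem card_ne_192 (hcard : Nat.card G = 3648) (H : Subgroup G) : Nat.card H ≠ 192 := by
  intro hH
  have hidx : H.index = 19 := by
    have := H.card_mul_index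
    rw [hH, hcard] at this
    omega
  obtain ⟨P⟩ : Nonempty (Sylow 19 G) := inferInstance
  have := Cfsg.Agent.Lib.Helper5.IndexPrime.two_mul_card_normalizer_dvd_of_index (not_comm hcard)
    (by norm_num) P (card_P19 hcard P) H hidx
  rw [card_N19 hcard P] at this
  norm_num at this

theorem card_centralizer_of_order19 (hcard : Nat.card G = 3648) {x : G} (hx : orderOf x = 19) :
    Nat.card (centralizer ({x} : Set G)) = 19 := by
  rw [centralizer_of_order19 hcard hx, Nat.card_zpowers, hx]

theorem not_dvd_card_centralizer (hcard : Nat.card G = 3648) {g : G} (hg1 : g ≠ 1)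
    (hg : orderOf g ≠ 19) : ¬ 19 ∣ Nat.card (centralizer ({g} : Set G)) := by
  intro hd
  obtain ⟨x, hx⟩ := exists_prime_orderOf_dvd_card' 19 hd
  have hx' : orderOf (x : G) = 19 := by rw [Subgroup.orderOf_coe]; exact hx
  have hc := centralizer_of_order19 hcard hx'
  have hgx : g ∈ centralizer ({(x : G)} : Set G) := by
    rw [mem_centralizer_singleton_iff]
    have := x.2
    rw [mem_centralizer_singleton_iff] at this
    exact this.symm
  rw [hc] at hgx
  have h1 : orderOf g ∣ 19 := by
    have := orderOf_dvd_natCard (⟨g, hgx⟩ : zpowers (x : G))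
    rwa [Subgroup.orderOf_mk, Nat.card_zpowers, hx'] at this
  rcases (Nat.dvd_prime (by norm_num)).mp h1 with h2 | h2
  · exact hg1 (orderOf_eq_one_iff.mp h2)
  · exact hg h2

theorem card_centralizer_dvd (hcard : Nat.card G = 3648) {g : G} (hg1 : g ≠ 1)
    (hg : orderOf g ≠ 19) : Nat.card (centralizer ({g} : Set G)) ∣ 192 := by
  have hd : Nat.card (centralizer ({g} : Set G)) ∣ 192 * 19 := by
    have := Subgroup.card_subgroup_dvd_card (centralizer ({g} : Set G))
    rwa [hcard] at this
  have hcop : Nat.Coprime (Nat.card (centralizer ({g} : Set G))) 19 :=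
    (Nat.Coprime.symm ((Nat.Prime.coprime_iff_not_dvd (by norm_num)).mpr
      (not_dvd_card_centralizer hcard hg1 hg)))
  exact hcop.dvd_of_dvd_mul_right hd

theorem card_centralizer_le (hcard : Nat.card G = 3648) {g : G} (hg1 : g ≠ 1)
    (hg : orderOf g ≠ 19) : Nat.card (centralizer ({g} : Set G)) ≤ 96 := by
  have h1 := card_centralizer_dvd hcard hg1 hg
  have h2 := card_ne_192 hcard (centralizer ({g} : Set G))
  obtain ⟨k, hk⟩ := h1
  have hk0 : k ≠ 0 := by rintro rfl; simp at hk
  have hk1 : k ≠ 1 := by rintro rfl; rw [mul_one] at hk; exact h2 hk.symm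
  have : 2 ≤ k := by omega
  nlinarith

end main

end Cfsg.Agent.Lib.Helper5.Ord3648
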