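import Cfsg.Agent.Lib.Helper5.Ord3648B
import Cfsg.Agent.Lib.Helper9.SymEmbed

set_option autoImplicit false
set_option linter.unusedSectionVars false
set_option linter.unusedVariables false

namespace Cfsg.Agent.Lib.Helper5.Ord3648

open Subgroup Cfsg.Agent.Lib.Helper9 Cfsg.Agent.Lib.Helper5.InvCount

section main
variable {G : Type*} [Group G] [Finite G] [IsSimpleGroup G] [Fact (Nat.Prime 19)]

theorem card_Q3 (hcard : Nat.card G = 3648) (Q : Sylow 3 G) : Nat.card (Q : Subgroup G) = 3 := by
  have hc : Nat.card G = 1216 * 3 ^ 1 := by rw [hcard]; norm_num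
  have := card_sylow_subgroup_of_card_eq hc (by norm_num) Q
  simpa using this

/-- `|N(Q)| = 2 |C(Q)|` for a Sylow 3-subgroup. -/
theorem card_N3 (hcard : Nat.card G = 3648) (Q : Sylow 3 G) :
    Nat.card (normalizer ((Q : Subgroup G) : Set G)) =
      2 * Nat.card (centralizer ((Q : Subgroup G) : Set G)) := by
  have hQ := card_Q3 hcard Q
  have hcyc : IsCyclic (Q : Subgroup G) := isCyclic_of_prime_card hQ
  have key := card_dvd_of_injective _
    (QuotientGroup.kerLift_injective (Q : Subgroup G).normalizerMonoidHom)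
  rw [normalizerMonoidHom_ker, ← index, ← relIndex] at key
  rw [hcyc.card_mulAut, hQ] at key
  have htot : Nat.totient 3 = 2 := by decide
  rw [htot] at key
  have hle : centralizer ((Q : Subgroup G) : Set G) ≤ normalizer ((Q : Subgroup G) : Set G) :=
    centralizer_le_normalizer _
  have h1 := relIndex_mul_relIndex (⊥ : Subgroup G) (centralizer ((Q : Subgroup G) : Set G))
    (normalizer ((Q : Subgroup G) : Set G)) bot_le hle
  rw [relIndex_bot_left, relIndex_bot_left] at h1
  have h2 : (centralizer ((Q : Subgroup G) : Set G)).relIndex (normalizer ((Q : Subgroup G) : Set G)) = 1 ∨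
      (centralizer ((Q : Subgroup G) : Set G)).relIndex (normalizer ((Q : Subgroup G) : Set G)) = 2 := by
    have := Nat.le_of_dvd (by norm_num) key
    have h0 : (centralizer ((Q : Subgroup G) : Set G)).relIndex (normalizer ((Q : Subgroup G) : Set G)) ≠ 0 := by
      intro h0; rw [h0] at key; simp at key
    omega
  rcases h2 with h2 | h2
  · exfalso
    apply false_of_simple_of_normalizer_le_centralizer Q
    · rw [hcard]; norm_num
    · rw [hcard]
      exact ne_pow_of_prime_dvd (by norm_num) Nat.prime_two (by norm_num) (by norm_num)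
    · exact relIndex_eq_one.mp h2
  · rw [h2] at h1
    omega

theorem sylow3_count (hcard : Nat.card G = 3648) :
    Nat.card (Sylow 3 G) = 76 ∨ Nat.card (Sylow 3 G) = 304 := by
  obtain ⟨Q⟩ : Nonempty (Sylow 3 G) := inferInstance
  have hc : Nat.card G = 1216 * 3 ^ 1 := by rw [hcard]; norm_num
  have h1 : Nat.card (Sylow 3 G) ∣ 1216 := card_sylow_dvd_of_card_eq hc (by norm_num)
  have h2 : Nat.card (Sylow 3 G) ≡ 1 [MOD 3] := card_sylow_modEq_one 3 G
  have h3 : Nat.card (Sylow 3 G) ≠ 1 := by
    apply card_sylow_ne_one_of_simple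
    · rw [hcard]; norm_num
    · rw [hcard]
      exact ne_pow_of_prime_dvd (by norm_num) Nat.prime_two (by norm_num) (by norm_num)
  have h4 := card_sylow_mul_card_normalizer Q
  rw [card_N3 hcard Q, hcard] at h4
  have hidx : (normalizer ((Q : Subgroup G) : Set G)).index = Nat.card (Sylow 3 G) :=
    (Sylow.card_eq_index_normalizer Q).symm
  have hne : normalizer ((Q : Subgroup G) : Set G) ≠ ⊤ := by
    intro h
    rw [h, index_top] at hidx
    exact h3 hidx.symm
  have h5 := card_dvd_factorial_index (not_comm hcard) _ hne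
  rw [hidx, hcard] at h5
  have h19 : 19 ≤ Nat.card (Sylow 3 G) := by
    have : 19 ∣ (Nat.card (Sylow 3 G)).factorial := (by norm_num : 19 ∣ 3648).trans h5
    exact (Nat.Prime.dvd_factorial (by norm_num)).mp this
  have h6 : Nat.card (Sylow 3 G) ≠ 19 := by
    intro h
    have := card_ne_192 hcard (normalizer ((Q : Subgroup G) : Set G))
    apply this
    have h7 := card_sylow_mul_card_normalizer Q
    rw [h, hcard] at h7
    omega
  unfold Nat.ModEq at h2
  generalize Nat.card (Sylow 3 G) = n at *
  generalize Nat.card (centralizer ((Q : Subgroup G) : Set G)) = c at *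
  have h8 : n ∣ 1824 := by
    have h41 : 2 * (n * c) = 3648 := by rw [← h4]; ring
    exact Dvd.intro c (by omega)
  have h9 : n ∣ 608 := by
    have := Nat.dvd_gcd h1 h8
    norm_num at this
    exact this
  have h10 := Nat.le_of_dvd (by norm_num) h9
  interval_cases n <;> omega

theorem card_C3 (hcard : Nat.card G = 3648) (Q : Sylow 3 G) :
    Nat.card (centralizer ((Q : Subgroup G) : Set G)) * Nat.card (Sylow 3 G) = 1824 := by
  have h4 := card_sylow_mul_card_normalizer Q
  rw [card_N3 hcard Q, hcard] at h4
  have h41 : 2 * (Nat.card (centralizer ((Q : Subgroup G) : Set G)) * Nat.card (Sylow 3 G)) = 3648 := by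
    rw [← h4]; ring
  omega

end main

end Cfsg.Agent.Lib.Helper5.Ord3648
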