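import Cfsg.Agent.Lib.Helper5.Ord3648C

set_option autoImplicit false
set_option linter.unusedSectionVars false
set_option linter.unusedVariables false

namespace Cfsg.Agent.Lib.Helper5.Ord3648

open Subgroup Cfsg.Agent.Lib.Helper9 Cfsg.Agent.Lib.Helper5.InvCount

theorem centralizer_zpowers {G : Type*} [Group G] (t : G) :
    centralizer ((zpowers t : Subgroup G) : Set G) = centralizer ({t} : Set G) := by
  ext y
  rw [mem_centralizer_singleton_iff, mem_centralizer_iff]
  constructor
  · intro hy
    exact (hy t (mem_zpowers t)).symm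
  · intro hy k hk
    obtain ⟨n, rfl⟩ := mem_zpowers_iff.mp hk
    exact ((Commute.zpow_left (show Commute t y from hy.symm) n)).eq

section main
variable {G : Type*} [Group G] [Finite G] [IsSimpleGroup G] [Fact (Nat.Prime 19)]

theorem zpowers_sylow3 (hcard : Nat.card G = 3648) {t : G} (ht : orderOf t = 3) :
    ∃ Q : Sylow 3 G, (Q : Subgroup G) = zpowers t := by
  obtain ⟨Q0⟩ : Nonempty (Sylow 3 G) := inferInstance
  have h0 := card_Q3 hcard Q0
  refine ⟨Sylow.ofCard (zpowers t) ?_, Sylow.coe_ofCard _ _⟩
  rw [Nat.card_zpowers, ht, ← Q0.card_eq_multiplicity, h0]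

theorem card_centralizer_order3 (hcard : Nat.card G = 3648) {t : G} (ht : orderOf t = 3) :
    Nat.card (centralizer ({t} : Set G)) * Nat.card (Sylow 3 G) = 1824 := by
  obtain ⟨Q, hQ⟩ := zpowers_sylow3 hcard ht
  have := card_C3 hcard Q
  rwa [hQ, centralizer_zpowers] at this

/-- the fibre of `g ↦ g ^ 64` over an element of order 3 is large. -/
theorem fiber_card_ge [Fintype G] [DecidableEq G] {t : G} (ht : orderOf t = 3) (k : ℕ)
    (hk : k ≤ 6) (hC : Nat.card (centralizer ({t} : Set G)) = 3 * 2 ^ k) :
    2 ^ k ≤ (Finset.univ.filter (fun g : G => g ^ 64 = t)).card := by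
  classical
  obtain ⟨R⟩ : Nonempty (Sylow 2 (centralizer ({t} : Set G))) := inferInstance
  have hR : Nat.card (R : Subgroup (centralizer ({t} : Set G))) = 2 ^ k :=
    card_sylow_subgroup_of_card_eq hC (by norm_num) R
  have := Fintype.ofFinite (R : Subgroup (centralizer ({t} : Set G)))
  rw [← hR, Nat.card_eq_fintype_card, ← Finset.card_univ]
  refine Finset.card_le_card_of_injOn (fun r => t * ((r : centralizer ({t} : Set G)) : G)) ?_ ?_
  · intro r _
    simp only [Finset.coe_filter, Finset.mem_univ, true_and, Set.mem_ofPred_eq]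
    have hcomm : Commute t ((r : centralizer ({t} : Set G)) : G) := by
      have := (r : centralizer ({t} : Set G)).2
      rw [mem_centralizer_singleton_iff] at this
      exact this.symm
    rw [hcomm.mul_pow]
    have h1 : t ^ 64 = t := by
      have : t ^ 3 = 1 := by rw [← ht]; exact pow_orderOf_eq_one t
      calc t ^ 64 = (t ^ 3) ^ 21 * t := by rw [← pow_mul, ← pow_succ]
        _ = t := by rw [this, one_pow, one_mul]
    have h2 : (((r : centralizer ({t} : Set G)) : G)) ^ 64 = 1 := by
      have h3 : r ^ (2 ^ k) = 1 := by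
        have := pow_card_eq_one' (G := (R : Subgroup (centralizer ({t} : Set G)))) (x := r)
        rwa [hR] at this
      have h4 : r ^ 64 = 1 := by
        have : (64 : ℕ) = 2 ^ k * 2 ^ (6 - k) := by
          rw [← pow_add, show k + (6 - k) = 6 by omega]; norm_num
        rw [this, pow_mul, h3, one_pow]
      have := congrArg (fun x : (R : Subgroup (centralizer ({t} : Set G))) => ((x : centralizer ({t} : Set G)) : G)) h4
      simpa using this
    rw [h1, h2, mul_one]
  · intro a _ b _ hab
    have := mul_left_cancel hab
    exact Subtype.ext (Subtype.ext this)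

theorem card_T3_ge [Fintype G] [DecidableEq G] (hcard : Nat.card G = 3648) :
    1216 ≤ (Finset.univ.filter (fun g : G => orderOf (g ^ 64) = 3)).card := by
  classical
  have hO3 : (Finset.univ.filter (fun t : G => orderOf t = 3)).card = Nat.card (Sylow 3 G) * 2 := by
    have := card_orderOf_eq_prime_of_sylow_card (G := G) (p := 3) (fun Q => card_Q3 hcard Q)
    rw [Nat.card_eq_fintype_card, Fintype.card_subtype] at this
    exact this
  rw [Finset.card_eq_sum_card_fiberwise (f := fun g : G => g ^ 64)
    (t := Finset.univ.filter (fun t : G => orderOf t = 3))]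
  swap
  · intro g hg
    simp only [Finset.coe_filter, Finset.mem_univ, true_and, Set.mem_ofPred_eq] at hg ⊢
    exact hg
  rcases sylow3_count (G := G) hcard with hn | hn
  · -- n = 76, |C(t)| = 24
    have hfib : ∀ t ∈ Finset.univ.filter (fun t : G => orderOf t = 3),
        2 ^ 3 ≤ ((Finset.univ.filter (fun g : G => orderOf (g ^ 64) = 3)).filter (fun g => g ^ 64 = t)).card := by
      intro t ht
      rw [Finset.mem_filter] at ht
      have hC := card_centralizer_order3 hcard ht.2
      rw [hn] at hC
      have hC' : Nat.card (centralizer ({t} : Set G)) = 3 * 2 ^ 3 := by omega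
      refine le_trans (fiber_card_ge ht.2 3 (by norm_num) hC') (Finset.card_le_card ?_)
      intro g hg
      rw [Finset.mem_filter] at hg
      rw [Finset.mem_filter, Finset.mem_filter]
      exact ⟨⟨Finset.mem_univ _, by rw [hg.2]; exact ht.2⟩, hg.2⟩
    have := Finset.sum_le_sum hfib
    rw [Finset.sum_const, smul_eq_mul, hO3, hn] at this
    omega
  · have hfib : ∀ t ∈ Finset.univ.filter (fun t : G => orderOf t = 3),
        2 ^ 1 ≤ ((Finset.univ.filter (fun g : G => orderOf (g ^ 64) = 3)).filter (fun g => g ^ 64 = t)).card := by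
      intro t ht
      rw [Finset.mem_filter] at ht
      have hC := card_centralizer_order3 hcard ht.2
      rw [hn] at hC
      have hC' : Nat.card (centralizer ({t} : Set G)) = 3 * 2 ^ 1 := by omega
      refine le_trans (fiber_card_ge ht.2 1 (by norm_num) hC') (Finset.card_le_card ?_)
      intro g hg
      rw [Finset.mem_filter] at hg
      rw [Finset.mem_filter, Finset.mem_filter]
      exact ⟨⟨Finset.mem_univ _, by rw [hg.2]; exact ht.2⟩, hg.2⟩
    have := Finset.sum_le_sum hfib
    rw [Finset.sum_const, smul_eq_mul, hO3, hn] at this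
    omega

end main

end Cfsg.Agent.Lib.Helper5.Ord3648
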