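import Cfsg.Agent.Lib.Helper5.Ord3648D

set_option autoImplicit false
set_option linter.unusedSectionVars false
set_option linter.unusedVariables false

namespace Cfsg.Agent.Lib.Helper5.Ord3648

open Subgroup Cfsg.Agent.Lib.Helper9 Cfsg.Agent.Lib.Helper5.InvCount

theorem card_centralizer_le_pow {G : Type*} [Group G] [Finite G] (g : G) (n : ℕ) :
    Nat.card (centralizer ({g} : Set G)) ≤ Nat.card (centralizer ({g ^ n} : Set G)) := by
  apply Subgroup.card_le_of_le
  intro k hk
  rw [mem_centralizer_singleton_iff] at hk ⊢
  exact ((Commute.pow_right (show Commute k g from hk) n)).eq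

theorem cls_card {G : Type*} [Group G] [Fintype G] [DecidableEq G] (s : G) (C : Finset G)
    (hC : ∀ u, u ∈ C ↔ IsConj s u) :
    C.card * Nat.card (centralizer ({s} : Set G)) = Nat.card G := by
  classical
  rw [← card_carrier_mul_card_centralizer s]
  congr 1
  rw [Nat.card_eq_fintype_card, ← Set.toFinset_card]
  congr 1
  ext u
  rw [Set.mem_toFinset, hC, ConjClasses.mem_carrier_iff_mk_eq, ConjClasses.mk_eq_mk_iff_isConj]
  exact ⟨fun h => h.symm, fun h => h.symm⟩

theorem cls_sq {G : Type*} [Group G] {s : G} (hs : s * s = 1) {u : G} (hu : IsConj s u) :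
    u * u = 1 := by
  obtain ⟨c, hc⟩ := isConj_iff.mp hu
  rw [← hc]
  calc c * s * c⁻¹ * (c * s * c⁻¹) = c * (s * s) * c⁻¹ := by group
    _ = 1 := by rw [hs]; group

section main
variable {G : Type*} [Group G] [Finite G] [IsSimpleGroup G] [Fact (Nat.Prime 19)]

theorem card_T19 [Fintype G] [DecidableEq G] (hcard : Nat.card G = 3648) :
    (Finset.univ.filter (fun g : G => orderOf g = 19)).card = 1728 := by
  have := card_orderOf_eq_prime_of_sylow_card (G := G) (p := 19) (fun Q => card_P19 hcard Q)
  rw [Nat.card_eq_fintype_card, Fintype.card_subtype, card_sylow19 hcard] at this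
  rw [this]

theorem card_centralizer_of_pow64 (hcard : Nat.card G = 3648) {g : G}
    (hg : orderOf (g ^ 64) = 3) : Nat.card (centralizer ({g} : Set G)) ≤ 24 := by
  refine le_trans (card_centralizer_le_pow g 64) ?_
  have := card_centralizer_order3 hcard hg
  rcases sylow3_count (G := G) hcard with hn | hn
  · rw [hn] at this; omega
  · rw [hn] at this; omega

theorem order19_pow64 {g : G} (hg : orderOf g = 19) : orderOf (g ^ 64) ≠ 3 := by
  intro h
  have : orderOf (g ^ 64) ∣ orderOf g := orderOf_pow_dvd 64
  rw [h, hg] at this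
  norm_num at this

/-- the centralizer of an involution inverting a Sylow 19 has order 12. -/
theorem card_centralizer_inv (hcard : Nat.card G = 3648) (P : Sylow 19 G) {s : G}
    (hs : s ∈ normalizer ((P : Subgroup G) : Set G)) (hsP : s ∉ (P : Subgroup G)) :
    Nat.card (centralizer ({s} : Set G)) = 12 := by
  classical
  have := Fintype.ofFinite G
  have hdih := dih19 hcard P
  have hss : s * s = 1 := hdih.mul_self hs hsP
  have hs1 : s ≠ 1 := by
    rintro rfl
    exact hsP (one_mem _)
  set C := Finset.univ.filter (fun u : G => IsConj s u) with hCdef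
  have hCmem : ∀ u, u ∈ C ↔ IsConj s u := by intro u; rw [hCdef, Finset.mem_filter]; simp
  have hNc := cls_card s C hCmem
  rw [hcard] at hNc
  have hineq := count_ineq C (fun u hu => cls_sq hss ((hCmem u).mp hu))
    (fun g => orderOf g = 19) (fun g => orderOf (g ^ 64) = 3) 96 77 72
    (by
      intro g hg
      refine ⟨order19_pow64 hg, ?_, ?_⟩
      · rintro rfl; rw [orderOf_one] at hg; norm_num at hg
      · rw [card_centralizer_of_order19 hcard hg])
    (by
      intro g hg
      refine ⟨?_, ?_⟩
      · rintro rfl; rw [one_pow, orderOf_one] at hg; norm_num at hg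
      · have := card_centralizer_of_pow64 hcard hg
        omega)
    (by
      intro g hg1 hg19 _
      exact card_centralizer_le hcard hg1 hg19)
  rw [card_T19 hcard] at hineq
  have hT3 := card_T3_ge (G := G) hcard
  have hG : Fintype.card G = 3648 := by rw [← Nat.card_eq_fintype_card, hcard]
  rw [hG] at hineq
  -- upper bound from fixed Sylow count
  have hup := mul_card_centralizer_le (fun P' => dih19 hcard P') P hs hsP
  rw [card_sylow19 hcard] at hup
  -- parity
  have h2 : 2 ∣ Nat.card (centralizer ({s} : Set G)) := by
    have hmem : s ∈ centralizer ({s} : Set G) := by rw [mem_centralizer_singleton_iff]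
    have h1 := orderOf_dvd_natCard (⟨s, hmem⟩ : centralizer ({s} : Set G))
    rw [Subgroup.orderOf_mk] at h1
    have h2 : orderOf s = 2 := by
      apply orderOf_eq_prime
      · rw [pow_two]; exact hss
      · exact hs1
    rwa [h2] at h1
  generalize Nat.card (centralizer ({s} : Set G)) = c at *
  generalize C.card = N at *
  generalize (Finset.univ.filter (fun g : G => orderOf (g ^ 64) = 3)).card = T at *
  have hc12 : c ≤ 12 := by omega
  have hN : N ≤ 360 := by
    by_contra hcon
    push Not at hcon
    have : 361 * N ≤ N * N := Nat.mul_le_mul_right N hcon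
    nlinarith
  have hc11 : 11 ≤ c := by
    by_contra hcon
    push Not at hcon
    have : N * c ≤ 360 * 10 := Nat.mul_le_mul hN (by omega)
    omega
  obtain ⟨k, rfl⟩ := h2
  omega

end main

end Cfsg.Agent.Lib.Helper5.Ord3648
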