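import Cfsg.Agent.Lib.Helper5.Ord3648E

set_option autoImplicit false
set_option linter.unusedSectionVars false
set_option linter.unusedVariables false

namespace Cfsg.Agent.Lib.Helper5.Ord3648

open Subgroup Cfsg.Agent.Lib.Helper9 Cfsg.Agent.Lib.Helper5.InvCount

theorem orderOf_eq_two {G : Type*} [Group G] {u : G} (hu : u * u = 1) (hu1 : u ≠ 1) :
    orderOf u = 2 := by
  apply orderOf_eq_prime
  · rw [pow_two]; exact hu
  · exact hu1

/-- In a centralizer of order 6 of an element of order 3 there is at most one involution. -/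
theorem involution_unique {G : Type*} [Group G] [Finite G] {t u v : G} (ht : orderOf t = 3)
    (hC : Nat.card (centralizer ({t} : Set G)) = 6) (hu : u * u = 1) (hu1 : u ≠ 1)
    (hut : u * t = t * u) (hv : v * v = 1) (hv1 : v ≠ 1) (hvt : v * t = t * v) : u = v := by
  have hle : zpowers t ≤ centralizer ({t} : Set G) := by
    rw [zpowers_le, mem_centralizer_singleton_iff]
  have hidx : ((zpowers t).subgroupOf (centralizer ({t} : Set G))).index = 2 := by
    have h1 := relIndex_mul_relIndex (⊥ : Subgroup G) (zpowers t) (centralizer ({t} : Set G)) bot_le hle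
    rw [relIndex_bot_left, relIndex_bot_left, Nat.card_zpowers, ht, hC] at h1
    show (zpowers t).relIndex (centralizer ({t} : Set G)) = 2
    omega
  have hnot : ∀ w : G, w * w = 1 → w ≠ 1 → w ∉ zpowers t := by
    intro w hw hw1 hmem
    have h1 := orderOf_dvd_natCard (⟨w, hmem⟩ : zpowers t)
    rw [Subgroup.orderOf_mk, Nat.card_zpowers, ht, orderOf_eq_two hw hw1] at h1
    norm_num at h1
  have hum : u ∈ centralizer ({t} : Set G) := by rw [mem_centralizer_singleton_iff]; exact hut
  have hvm : v ∈ centralizer ({t} : Set G) := by rw [mem_centralizer_singleton_iff]; exact hvt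
  have h1 := (Subgroup.mul_mem_iff_of_index_two hidx (a := (⟨u, hum⟩ : centralizer ({t} : Set G))⁻¹)
    (b := ⟨v, hvm⟩)).mpr (by
      rw [Subgroup.inv_mem_iff]
      simp only [Subgroup.mem_subgroupOf]
      exact ⟨fun hh => absurd hh (hnot u hu hu1), fun hh => absurd hh (hnot v hv hv1)⟩)
  rw [Subgroup.mem_subgroupOf] at h1
  have h2 : u⁻¹ * v ∈ zpowers t := by simpa using h1
  have hui : u⁻¹ = u := inv_eq_of_mul_eq_one_left hu
  rw [hui] at h2
  -- (u * v) commutes with u, so (u*v)^2 = 1
  obtain ⟨n, hn⟩ := mem_zpowers_iff.mp h2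
  have hcomm : Commute u (u * v) := by
    rw [← hn]
    exact Commute.zpow_right (show Commute u t from hut) n
  have hvuv : v = u * v * u := by
    have := hcomm.eq
    calc v = (u * u) * v := by rw [hu, one_mul]
      _ = u * (u * v) := by group
      _ = u * v * u := this
  have hsq : (u * v) * (u * v) = 1 := by
    calc u * v * (u * v) = (u * v * u) * v := by group
      _ = v * v := by rw [← hvuv]
      _ = 1 := hv
  have huv1 : u * v = 1 := by
    by_contra hne
    exact hnot (u * v) hsq hne h2
  calc u = u⁻¹ := hui.symm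
    _ = v := inv_eq_of_mul_eq_one_right huv1

end Cfsg.Agent.Lib.Helper5.Ord3648

namespace Cfsg.Agent.Lib.Helper5.Ord3648

open Subgroup Cfsg.Agent.Lib.Helper9 Cfsg.Agent.Lib.Helper5.InvCount

section main
variable {G : Type*} [Group G] [Finite G] [IsSimpleGroup G] [Fact (Nat.Prime 19)]

theorem mem_smul_sylow {p : ℕ} [Fact p.Prime] (g x : G) (T : Sylow p G) :
    x ∈ ((g • T : Sylow p G) : Subgroup G) ↔ g⁻¹ * x * g ∈ (T : Subgroup G) := by
  rw [Sylow.smul_def, Sylow.pointwise_smul_def, Subgroup.mem_pointwise_smul_iff_inv_smul_mem]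
  simp [MulAut.smul_def]

/-- elements of order 3 are conjugate up to generating the same subgroup. -/
theorem exists_conj_mem_zpowers (hcard : Nat.card G = 3648) {t t' : G} (ht : orderOf t = 3)
    (ht' : orderOf t' = 3) : ∃ x : G, x * t' * x⁻¹ ∈ zpowers t ∧ t ∈ zpowers (x * t' * x⁻¹) := by
  obtain ⟨Q, hQ⟩ := zpowers_sylow3 hcard ht
  obtain ⟨Q', hQ'⟩ := zpowers_sylow3 hcard ht'
  obtain ⟨x, hx⟩ := MulAction.exists_smul_eq G Q' Q
  have h1 : x * t' * x⁻¹ ∈ zpowers t := by
    rw [← hQ, ← hx, mem_smul_sylow, hQ']
    have : x⁻¹ * (x * t' * x⁻¹) * x = t' := by group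
    rw [this]
    exact mem_zpowers t'
  refine ⟨x, h1, ?_⟩
  have hord : orderOf (x * t' * x⁻¹) = 3 := by
    rw [← ht']
    exact orderOf_injective (MulAut.conj x).toMonoidHom (MulAut.conj x).injective t'
  have heq : zpowers (x * t' * x⁻¹) = zpowers t := by
    apply Subgroup.eq_of_le_of_card_ge
    · rwa [zpowers_le]
    · rw [Nat.card_zpowers, Nat.card_zpowers, hord, ht]
  rw [heq]
  exact mem_zpowers t

/-- existence of an involution `s` inverting a Sylow 19 and commuting with an element of order 3. -/
theorem exists_s_t (hcard : Nat.card G = 3648) :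
    ∃ s t : G, s * s = 1 ∧ s ≠ 1 ∧ orderOf t = 3 ∧ s * t = t * s ∧
      Nat.card (centralizer ({s} : Set G)) = 12 := by
  obtain ⟨P⟩ : Nonempty (Sylow 19 G) := inferInstance
  have hdih := dih19 hcard P
  obtain ⟨s, hs, hsP⟩ := hdih.exists_not_mem
  have hc := card_centralizer_inv hcard P hs hsP
  have h3 : 3 ∣ Nat.card (centralizer ({s} : Set G)) := by rw [hc]; norm_num
  obtain ⟨t, ht⟩ := exists_prime_orderOf_dvd_card' 3 h3
  refine ⟨s, (t : G), hdih.mul_self hs hsP, ?_, ?_, ?_, hc⟩
  · rintro rfl; exact hsP (one_mem _)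
  · rw [Subgroup.orderOf_coe]; exact ht
  · have := t.2
    rw [mem_centralizer_singleton_iff] at this
    exact this.symm

theorem false_of_304 (hcard : Nat.card G = 3648) (hn : Nat.card (Sylow 3 G) = 304) : False := by
  classical
  have := Fintype.ofFinite G
  obtain ⟨s, t, hss, hs1, ht, hst, hc⟩ := exists_s_t (G := G) hcard
  have h6 : ∀ t' : G, orderOf t' = 3 → Nat.card (centralizer ({t'} : Set G)) = 6 := by
    intro t' ht'
    have := card_centralizer_order3 hcard ht'
    rw [hn] at this
    omega
  -- involutions commuting with an element of order 3 are conjugate to s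
  have hinv : ∀ g t' : G, g * g = 1 → g ≠ 1 → orderOf t' = 3 → g * t' = t' * g →
      Nat.card (centralizer ({g} : Set G)) = 12 := by
    intro g t' hgg hg1 ht' hgt'
    obtain ⟨x, hx1, hx2⟩ := exists_conj_mem_zpowers hcard ht ht'
    have hcomm : Commute (x * g * x⁻¹) (x * t' * x⁻¹) := by
      show x * g * x⁻¹ * (x * t' * x⁻¹) = x * t' * x⁻¹ * (x * g * x⁻¹)
      calc x * g * x⁻¹ * (x * t' * x⁻¹) = x * (g * t') * x⁻¹ := by group
        _ = x * (t' * g) * x⁻¹ := by rw [hgt']
        _ = x * t' * x⁻¹ * (x * g * x⁻¹) := by group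
    obtain ⟨n, hn'⟩ := mem_zpowers_iff.mp hx2
    have hcomm2 : Commute (x * g * x⁻¹) t := by
      rw [← hn']
      exact hcomm.zpow_right n
    have hsq : (x * g * x⁻¹) * (x * g * x⁻¹) = 1 := by
      calc x * g * x⁻¹ * (x * g * x⁻¹) = x * (g * g) * x⁻¹ := by group
        _ = 1 := by rw [hgg]; group
    have hne : x * g * x⁻¹ ≠ 1 := by
      intro h
      apply hg1
      have : g = x⁻¹ * (x * g * x⁻¹) * x := by group
      rw [this, h]; group
    have := involution_unique ht (h6 t ht) hss hs1 hst hsq hne hcomm2.eq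
    rw [← hc, this, card_centralizer_conj]
  have hCmem : ∀ u, u ∈ Finset.univ.filter (fun u : G => IsConj s u) ↔ IsConj s u := by
    intro u; rw [Finset.mem_filter]; simp
  have hNc := cls_card s _ hCmem
  rw [hcard, hc] at hNc
  have hineq := count_ineq (Finset.univ.filter (fun u : G => IsConj s u))
    (fun u hu => cls_sq hss ((hCmem u).mp hu))
    (fun g => orderOf g = 19) (fun g => orderOf (g ^ 64) = 3) 64 45 58
    (by
      intro g hg
      refine ⟨order19_pow64 hg, ?_, ?_⟩
      · rintro rfl; rw [orderOf_one] at hg; norm_num at hg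
      · rw [card_centralizer_of_order19 hcard hg])
    (by
      intro g hg
      refine ⟨?_, ?_⟩
      · rintro rfl; rw [one_pow, orderOf_one] at hg; norm_num at hg
      · have h1 := card_centralizer_le_pow g 64
        rw [h6 _ hg] at h1
        omega)
    (by
      intro g hg1 hg19 hg3
      have hd := card_centralizer_dvd hcard hg1 hg19
      by_cases h3 : 3 ∣ Nat.card (centralizer ({g} : Set G))
      · obtain ⟨t', ht'⟩ := exists_prime_orderOf_dvd_card' 3 h3
        have ht'3 : orderOf (t' : G) = 3 := by rw [Subgroup.orderOf_coe]; exact ht'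
        have hgt' : g * (t' : G) = (t' : G) * g := by
          have := t'.2
          rw [mem_centralizer_singleton_iff] at this
          exact this.symm
        have hgmem : g ∈ centralizer ({(t' : G)} : Set G) := by
          rw [mem_centralizer_singleton_iff]; exact hgt'
        have hg6 : g ^ 6 = 1 := by
          have := pow_card_eq_one' (G := centralizer ({(t' : G)} : Set G)) (x := ⟨g, hgmem⟩)
          rw [h6 _ ht'3] at this
          exact congrArg Subtype.val this
        have hg64 : g ^ 64 = g ^ 4 := by
          calc g ^ 64 = (g ^ 6) ^ 10 * g ^ 4 := by rw [← pow_mul, ← pow_add]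
            _ = g ^ 4 := by rw [hg6, one_pow, one_mul]
        have hg4 : g ^ 4 = 1 := by
          have h1 : (g ^ 4) ^ 3 = 1 := by
            calc (g ^ 4) ^ 3 = (g ^ 6) ^ 2 := by rw [← pow_mul, ← pow_mul]
              _ = 1 := by rw [hg6, one_pow]
          have h2 : orderOf (g ^ 4) ∣ 3 := orderOf_dvd_of_pow_eq_one h1
          rcases (Nat.dvd_prime Nat.prime_three).mp h2 with h | h
          · exact orderOf_eq_one_iff.mp h
          · exfalso; apply hg3; rw [hg64]; exact h
        have hg2 : g * g = 1 := by
          have : g ^ 6 = g ^ 4 * (g * g) := by rw [← pow_two, ← pow_add]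
          rw [hg6, hg4, one_mul] at this
          exact this.symm
        rw [hinv g t' hg2 hg1 ht'3 hgt']
        norm_num
      · have hcop : Nat.Coprime (Nat.card (centralizer ({g} : Set G))) 3 :=
          (Nat.Coprime.symm ((Nat.Prime.coprime_iff_not_dvd Nat.prime_three).mpr h3))
        have h64 : Nat.card (centralizer ({g} : Set G)) ∣ 64 := by
          have h192 : (192 : ℕ) = 64 * 3 := by norm_num
          rw [h192] at hd
          exact hcop.dvd_of_dvd_mul_right hd
        exact Nat.le_of_dvd (by norm_num) h64)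
  rw [card_T19 hcard] at hineq
  have hT3 := card_T3_ge (G := G) hcard
  have hG : Fintype.card G = 3648 := by rw [← Nat.card_eq_fintype_card, hcard]
  rw [hG] at hineq
  have hN : (Finset.univ.filter (fun u : G => IsConj s u)).card = 304 := by omega
  rw [hN] at hineq
  omega

/-- In a 2-group `R` of order 8, the centralizer of an involution `s ∈ R` has order divisible
by 4. -/
theorem four_dvd_card_inf {G : Type*} [Group G] [Finite G] (R : Subgroup G) (hR : Nat.card R = 8)
    {s : G} (hsR : s ∈ R) (hss : s * s = 1) (hs1 : s ≠ 1) :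
    4 ∣ Nat.card (R ⊓ centralizer ({s} : Set G) : Subgroup G) := by
  have hRp : IsPGroup 2 R := IsPGroup.of_card (n := 3) (by rw [hR]; norm_num)
  have hnt : Nontrivial R := by
    rw [← Finite.one_lt_card_iff_nontrivial, hR]; norm_num
  have hcen := hRp.center_nontrivial
  obtain ⟨⟨z0, hz0c⟩, hz0⟩ := exists_ne (1 : center R)
  have hz0' : z0 ≠ 1 := by
    intro h; apply hz0; exact Subtype.ext h
  have hz0s : (z0 : G) * s = s * (z0 : G) := by
    have := (mem_center_iff.mp hz0c) ⟨s, hsR⟩
    have h2 := congrArg Subtype.val this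
    simpa using h2.symm
  set D : Subgroup G := R ⊓ centralizer ({s} : Set G) with hD
  have hsD : s ∈ D := by
    rw [hD, mem_inf, mem_centralizer_singleton_iff]; exact ⟨hsR, rfl⟩
  have hzD : (z0 : G) ∈ D := by
    rw [hD, mem_inf, mem_centralizer_singleton_iff]; exact ⟨z0.2, hz0s⟩
  have hd8 : Nat.card D ∣ 8 := by
    rw [← hR]; exact Subgroup.card_dvd_of_le inf_le_left
  have hd2 : 2 ∣ Nat.card D := by
    have h1 := orderOf_dvd_natCard (⟨s, hsD⟩ : D)
    rwa [Subgroup.orderOf_mk, orderOf_eq_two hss hs1] at h1
  have hne2 : Nat.card D ≠ 2 ∨ D = R := by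
    by_cases h2 : Nat.card D = 2
    · right
      -- then z0 = s, so s is central in R
      obtain ⟨y, hy1, hy2⟩ := (Nat.card_eq_two_iff' (1 : D)).mp h2
      have e1 : (⟨s, hsD⟩ : D) = y := hy2 _ (by
        intro h; exact hs1 (congrArg Subtype.val h))
      have e2 : (⟨(z0 : G), hzD⟩ : D) = y := hy2 _ (by
        intro h; apply hz0'; exact Subtype.ext (show (z0 : G) = 1 from congrArg Subtype.val h))
      have e3 : s = (z0 : G) := by
        have := e1.trans e2.symm
        exact congrArg Subtype.val this
      apply le_antisymm inf_le_left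
      intro r hr
      rw [mem_inf, mem_centralizer_singleton_iff]
      refine ⟨hr, ?_⟩
      have := (mem_center_iff.mp hz0c) ⟨r, hr⟩
      have h3 := congrArg Subtype.val this
      rw [e3]
      simpa using h3
    · left; exact h2
  rcases hne2 with h | h
  · have hle := Nat.le_of_dvd (by norm_num) hd8
    generalize Nat.card D = d at *
    interval_cases d <;> omega
  · rw [h, hR]; norm_num

theorem false_of_76 (hcard : Nat.card G = 3648) (hn : Nat.card (Sylow 3 G) = 76) : False := by
  classical
  obtain ⟨s, t, hss, hs1, ht, hst, hc⟩ := exists_s_t (G := G) hcard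
  have h24 : Nat.card (centralizer ({t} : Set G)) = 24 := by
    have := card_centralizer_order3 hcard ht
    rw [hn] at this
    omega
  -- a Sylow 2-subgroup of C(t) containing s
  have hsH : s ∈ centralizer ({t} : Set G) := by rw [mem_centralizer_singleton_iff]; exact hst
  have hzp : IsPGroup 2 (zpowers (⟨s, hsH⟩ : centralizer ({t} : Set G))) := by
    apply IsPGroup.of_card (n := 1)
    rw [Nat.card_zpowers, Subgroup.orderOf_mk, orderOf_eq_two hss hs1]; norm_num
  obtain ⟨R, hR⟩ := hzp.exists_le_sylow
  have hRcard : Nat.card (R : Subgroup (centralizer ({t} : Set G))) = 2 ^ 3 :=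
    card_sylow_subgroup_of_card_eq (m := 3) (by rw [h24]; norm_num) (by norm_num) R
  set R' : Subgroup G := (R : Subgroup (centralizer ({t} : Set G))).map (centralizer ({t} : Set G)).subtype with hR'
  have hR'card : Nat.card R' = 8 := by
    rw [hR', Subgroup.card_map_of_injective (Subgroup.subtype_injective _), hRcard]; norm_num
  have hsR' : s ∈ R' := by
    rw [hR', mem_map]
    exact ⟨⟨s, hsH⟩, hR (mem_zpowers _), rfl⟩
  have hR'le : R' ≤ centralizer ({t} : Set G) := by
    rw [hR']; exact map_subtype_le _
  have h4 := four_dvd_card_inf R' hR'card hsR' hss hs1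
  -- K = C(s) ⊓ C(t)
  set K : Subgroup G := centralizer ({s} : Set G) ⊓ centralizer ({t} : Set G) with hK
  have h4K : 4 ∣ Nat.card K := by
    refine h4.trans (Subgroup.card_dvd_of_le ?_)
    rw [hK]
    exact le_inf inf_le_right (inf_le_left.trans hR'le)
  have h3K : 3 ∣ Nat.card K := by
    have htK : t ∈ K := by
      rw [hK, mem_inf, mem_centralizer_singleton_iff, mem_centralizer_singleton_iff]
      exact ⟨hst.symm, rfl⟩
    have h1 := orderOf_dvd_natCard (⟨t, htK⟩ : K)
    rwa [Subgroup.orderOf_mk, ht] at h1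
  have h12K : 12 ∣ Nat.card K := by
    have : Nat.Coprime 4 3 := by norm_num
    exact this.mul_dvd_of_dvd_of_dvd h4K h3K
  have hKle : K ≤ centralizer ({s} : Set G) := inf_le_left
  have hKeq : K = centralizer ({s} : Set G) := by
    apply Subgroup.eq_of_le_of_card_ge hKle
    rw [hc]
    exact Nat.le_of_dvd Nat.card_pos h12K
  have hCsCt : centralizer ({s} : Set G) ≤ centralizer ({t} : Set G) := by
    rw [← hKeq]; exact inf_le_right
  -- a Sylow 2-subgroup of G containing s
  have hzp2 : IsPGroup 2 (zpowers s) := by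
    apply IsPGroup.of_card (n := 1)
    rw [Nat.card_zpowers, orderOf_eq_two hss hs1]; norm_num
  obtain ⟨S, hS⟩ := hzp2.exists_le_sylow
  have hScard : Nat.card (S : Subgroup G) = 2 ^ 6 :=
    card_sylow_subgroup_of_card_eq (m := 57) (by rw [hcard]; norm_num) (by norm_num) S
  have hnt : Nontrivial (S : Subgroup G) := by
    rw [← Finite.one_lt_card_iff_nontrivial, hScard]; norm_num
  have hcen := S.2.center_nontrivial
  obtain ⟨⟨z, hzc⟩, hz⟩ := exists_ne (1 : center (S : Subgroup G))
  have hz1 : (z : G) ≠ 1 := by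
    intro h; apply hz; exact Subtype.ext (Subtype.ext h)
  have hsS : s ∈ (S : Subgroup G) := hS (mem_zpowers s)
  have hzs : (z : G) ∈ centralizer ({s} : Set G) := by
    rw [mem_centralizer_singleton_iff]
    have := (mem_center_iff.mp hzc) ⟨s, hsS⟩
    have h2 := congrArg Subtype.val this
    simpa using h2.symm
  have hzt := hCsCt hzs
  rw [mem_centralizer_singleton_iff] at hzt
  -- C(z) contains S and t
  have hSle : (S : Subgroup G) ≤ centralizer ({(z : G)} : Set G) := by
    intro r hr
    rw [mem_centralizer_singleton_iff]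
    have := (mem_center_iff.mp hzc) ⟨r, hr⟩
    have h2 := congrArg Subtype.val this
    simpa using h2
  have h64 : 64 ∣ Nat.card (centralizer ({(z : G)} : Set G)) := by
    have := Subgroup.card_dvd_of_le hSle
    rwa [hScard] at this
  have h3 : 3 ∣ Nat.card (centralizer ({(z : G)} : Set G)) := by
    have htz : t ∈ centralizer ({(z : G)} : Set G) := by
      rw [mem_centralizer_singleton_iff]; exact hzt.symm
    have h1 := orderOf_dvd_natCard (⟨t, htz⟩ : centralizer ({(z : G)} : Set G))
    rwa [Subgroup.orderOf_mk, ht] at h1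
  have h192 : 192 ∣ Nat.card (centralizer ({(z : G)} : Set G)) := by
    have : Nat.Coprime 64 3 := by norm_num
    exact this.mul_dvd_of_dvd_of_dvd h64 h3
  have hdvd : Nat.card (centralizer ({(z : G)} : Set G)) ∣ 3648 := by
    rw [← hcard]; exact Subgroup.card_subgroup_dvd_card _
  have hne := card_ne_192 hcard (centralizer ({(z : G)} : Set G))
  have hne2 : Nat.card (centralizer ({(z : G)} : Set G)) ≠ 3648 := by
    intro h
    have htop : centralizer ({(z : G)} : Set G) = ⊤ := by
      apply Subgroup.eq_top_of_card_eq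
      rw [h, hcard]
    have hzc : (z : G) ∈ center G := by
      rw [mem_center_iff]
      intro g
      have : g ∈ centralizer ({(z : G)} : Set G) := by rw [htop]; trivial
      rw [mem_centralizer_singleton_iff] at this
      exact this
    rw [center_eq_bot hcard, mem_bot] at hzc
    exact hz1 hzc
  obtain ⟨k, hk⟩ := h192
  rw [hk] at hdvd hne hne2
  have hk19 : k ∣ 19 := by
    have : 192 * k ∣ 192 * 19 := by norm_num; exact hdvd
    exact Nat.dvd_of_mul_dvd_mul_left (by norm_num) this
  rcases (Nat.dvd_prime (by norm_num)).mp hk19 with h | h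
  · rw [h] at hne; exact hne rfl
  · rw [h] at hne2; exact hne2 rfl

theorem no_simple (hcard : Nat.card G = 3648) : False := by
  rcases sylow3_count (G := G) hcard with hn | hn
  · exact false_of_76 hcard hn
  · exact false_of_304 hcard hn

end main

end Cfsg.Agent.Lib.Helper5.Ord3648
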