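import Mathlib

namespace Cfsg.Agent.Lib.Helper5.Spec

open Equiv

set_option maxRecDepth 1000000 in
theorem a6_pow : ∀ g : Perm (Fin 6), Perm.sign g = 1 → g ^ 3 = 1 ∨ g ^ 4 = 1 ∨ g ^ 5 = 1 := by
  decide +kernel

theorem orderOf_mem_of_pow {G : Type*} [Group G] (g : G)
    (h : g ^ 3 = 1 ∨ g ^ 4 = 1 ∨ g ^ 5 = 1) : orderOf g ∈ ({1, 2, 3, 4, 5} : Set ℕ) := by
  simp only [Set.mem_insert_iff, Set.mem_singleton_iff]
  rcases h with h | h | h
  · have hd := orderOf_dvd_of_pow_eq_one h
    have hle : orderOf g ≤ 3 := Nat.le_of_dvd (by norm_num) hd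
    have hpos : 0 < orderOf g := Nat.pos_of_dvd_of_pos hd (by norm_num)
    interval_cases (orderOf g) <;> simp_all
  · have hd := orderOf_dvd_of_pow_eq_one h
    have hle : orderOf g ≤ 4 := Nat.le_of_dvd (by norm_num) hd
    have hpos : 0 < orderOf g := Nat.pos_of_dvd_of_pos hd (by norm_num)
    interval_cases (orderOf g) <;> simp_all
  · have hd := orderOf_dvd_of_pow_eq_one h
    have hle : orderOf g ≤ 5 := Nat.le_of_dvd (by norm_num) hd
    have hpos : 0 < orderOf g := Nat.pos_of_dvd_of_pos hd (by norm_num)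
    interval_cases (orderOf g) <;> simp_all

theorem orderOf_four {G : Type*} [Group G] (g : G) (h4 : g ^ 4 = 1) (h2 : g ^ 2 ≠ 1) :
    orderOf g = 4 := by
  have := orderOf_eq_prime_pow (x := g) (p := 2) (n := 1) (by simpa using h2) (by simpa using h4)
  simpa using this

set_option maxRecDepth 100000 in
theorem range_orderOf_A6 :
    Set.range (orderOf : alternatingGroup (Fin 6) → ℕ) = {1, 2, 3, 4, 5} := by
  apply Set.Subset.antisymm
  · rintro _ ⟨g, rfl⟩
    rw [← Subgroup.orderOf_coe]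
    apply orderOf_mem_of_pow
    exact a6_pow g (Perm.mem_alternatingGroup.mp g.2)
  · intro n hn
    simp only [Set.mem_insert_iff, Set.mem_singleton_iff] at hn
    rcases hn with rfl | rfl | rfl | rfl | rfl
    · exact ⟨1, orderOf_one⟩
    · refine ⟨⟨swap 0 1 * swap 2 3, Perm.mem_alternatingGroup.mpr (by decide)⟩, ?_⟩
      rw [← Subgroup.orderOf_coe]
      exact orderOf_eq_prime (by decide) (by decide)
    · refine ⟨⟨swap 0 1 * swap 1 2, Perm.mem_alternatingGroup.mpr (by decide)⟩, ?_⟩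
      rw [← Subgroup.orderOf_coe]
      exact orderOf_eq_prime (by decide) (by decide)
    · refine ⟨⟨swap 0 1 * swap 1 2 * swap 2 3 * swap 4 5, Perm.mem_alternatingGroup.mpr (by decide)⟩, ?_⟩
      rw [← Subgroup.orderOf_coe]
      exact orderOf_four _ (by decide) (by decide)
    · refine ⟨⟨swap 0 1 * swap 1 2 * swap 2 3 * swap 3 4, Perm.mem_alternatingGroup.mpr (by decide)⟩, ?_⟩
      rw [← Subgroup.orderOf_coe]
      have : Fact (Nat.Prime 5) := ⟨by norm_num⟩
      exact orderOf_eq_prime (by decide) (by decide)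

end Cfsg.Agent.Lib.Helper5.Spec
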