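import Mathlib
import Cfsg.Agent.Lib.Helper5.SpecF4
import Cfsg.Agent.Lib.Helper5.SpecA6

namespace Cfsg.Agent.Lib.Helper5.Spec

open Matrix

variable {F : Type*} [Field F]

/-- affine matrices: last row `(0,0,1)` -/
def IsAff (M : Matrix.SpecialLinearGroup (Fin 3) F) : Prop :=
  (M : Matrix (Fin 3) (Fin 3) F) 2 0 = 0 ∧ (M : Matrix (Fin 3) (Fin 3) F) 2 1 = 0 ∧
    (M : Matrix (Fin 3) (Fin 3) F) 2 2 = 1

theorem isAff_one : IsAff (1 : Matrix.SpecialLinearGroup (Fin 3) F) := by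
  simp [IsAff]

theorem isAff_mul {M N : Matrix.SpecialLinearGroup (Fin 3) F} (hM : IsAff M) (hN : IsAff N) :
    IsAff (M * N) := by
  obtain ⟨a1, a2, a3⟩ := hM
  obtain ⟨b1, b2, b3⟩ := hN
  refine ⟨?_, ?_, ?_⟩ <;>
    simp [Matrix.SpecialLinearGroup.coe_mul, Matrix.mul_apply, Fin.sum_univ_three, a1, a2, a3,
      b1, b2, b3]

theorem isAff_inv {M : Matrix.SpecialLinearGroup (Fin 3) F} (hM : IsAff M) : IsAff M⁻¹ := by
  obtain ⟨a1, a2, a3⟩ := hM
  have hdet := M.det_coe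
  rw [det_affine _ a1 a2 a3] at hdet
  refine ⟨?_, ?_, ?_⟩
  · simp [Matrix.SpecialLinearGroup.coe_inv, Matrix.adjugate_fin_three, a1, a2]
  · simp [Matrix.SpecialLinearGroup.coe_inv, Matrix.adjugate_fin_three, a1, a2]
  · simp [Matrix.SpecialLinearGroup.coe_inv, Matrix.adjugate_fin_three]
    linear_combination hdet

theorem isAff_of_mem_closure {M : Matrix.SpecialLinearGroup (Fin 3) F}
    (hM : M ∈ Subgroup.closure {M : Matrix.SpecialLinearGroup (Fin 3) F |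
        (M : Matrix (Fin 3) (Fin 3) F) 2 0 = 0 ∧ (M : Matrix (Fin 3) (Fin 3) F) 2 1 = 0 ∧
        (M : Matrix (Fin 3) (Fin 3) F) 2 2 = 1}) : IsAff M := by
  induction hM using Subgroup.closure_induction with
  | mem x hx => exact hx
  | one => exact isAff_one
  | mul x y _ _ hx hy => exact isAff_mul hx hy
  | inv x _ hx => exact isAff_inv hx

theorem pow_of_isAff' (h2 : (2 : F) = 0) {M : Matrix.SpecialLinearGroup (Fin 3) F}
    (hM : IsAff M) (t : F)
    (ht : (M : Matrix (Fin 3) (Fin 3) F) 0 0 + (M : Matrix (Fin 3) (Fin 3) F) 1 1 = t) :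
    (t = 0 → M ^ 4 = 1) ∧ (t = 1 → M ^ 3 = 1) ∧ (t ^ 2 = t + 1 → M ^ 5 = 1) := by
  obtain ⟨a1, a2, a3⟩ := hM
  set B : Matrix (Fin 3) (Fin 3) F := (M : Matrix (Fin 3) (Fin 3) F) with hBdef
  have hdet := M.det_coe
  rw [det_affine _ a1 a2 a3] at hdet
  have hB : (B - 1) * (B ^ 2 - t • B + 1) = 0 := by
    rw [← ht, cubic_identity B a1 a2 a3, hdet, sub_self, zero_smul]
  obtain ⟨c0, c1, c5⟩ := pow_of_cubic B t h2 hB
  have lift : ∀ k : ℕ, B ^ k = 1 → M ^ k = 1 := by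
    intro k hk
    apply Subtype.ext
    rw [Matrix.SpecialLinearGroup.coe_pow, Matrix.SpecialLinearGroup.coe_one]
    exact hk
  exact ⟨fun h => lift 4 (c0 h), fun h => lift 3 (c1 h), fun h => lift 5 (c5 h)⟩

theorem pow_of_isAff [Fintype F] (hF : Fintype.card F = 4) {M : Matrix.SpecialLinearGroup (Fin 3) F}
    (hM : IsAff M) : M ^ 3 = 1 ∨ M ^ 4 = 1 ∨ M ^ 5 = 1 := by
  obtain ⟨a1, a2, a3⟩ := hM
  set B : Matrix (Fin 3) (Fin 3) F := (M : Matrix (Fin 3) (Fin 3) F) with hBdef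
  have hdet := M.det_coe
  rw [det_affine _ a1 a2 a3] at hdet
  have hB : (B - 1) * (B ^ 2 - (B 0 0 + B 1 1) • B + 1) = 0 := by
    rw [cubic_identity B a1 a2 a3, hdet, sub_self, zero_smul]
  obtain ⟨c0, c1, c5⟩ := pow_of_cubic B (B 0 0 + B 1 1) (two_eq_zero hF) hB
  have lift : ∀ k : ℕ, B ^ k = 1 → M ^ k = 1 := by
    intro k hk
    apply Subtype.ext
    rw [Matrix.SpecialLinearGroup.coe_pow, Matrix.SpecialLinearGroup.coe_one]
    exact hk
  rcases trace_cases hF (B 0 0 + B 1 1) with h | h | h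
  · right; left; exact lift 4 (c0 h)
  · left; exact lift 3 (c1 h)
  · right; right; exact lift 5 (c5 h)

end Cfsg.Agent.Lib.Helper5.Spec
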