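import Mathlib
import Cfsg.Agent.Lib.Helper5.SpecAff

namespace Cfsg.Agent.Lib.Helper5.Spec

open Matrix

variable {F : Type*} [Field F]

/-- affine matrix with linear part `!![a,b;c,d]` and translation `(e,f)` -/
def affMat (a b c d e f : F) : Matrix (Fin 3) (Fin 3) F := !![a, b, e; c, d, f; 0, 0, 1]

theorem affMat_det (a b c d e f : F) : (affMat a b c d e f).det = a * d - b * c := by
  rw [det_affine] <;> simp [affMat]

/-- element of SL3 -/
def affSL (a b c d e f : F) (h : a * d - b * c = 1) : Matrix.SpecialLinearGroup (Fin 3) F :=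
  ⟨affMat a b c d e f, by rw [affMat_det, h]⟩

theorem affSL_isAff (a b c d e f : F) (h : a * d - b * c = 1) : IsAff (affSL a b c d e f h) := by
  simp [IsAff, affSL, affMat]

theorem affSL_ne_one (a b c d e f : F) (h : a * d - b * c = 1)
    (hne : b ≠ 0 ∨ e ≠ 0) : affSL a b c d e f h ≠ 1 := by
  intro h1
  have h01 := congrArg (fun M : Matrix.SpecialLinearGroup (Fin 3) F =>
    (M : Matrix (Fin 3) (Fin 3) F) 0 1) h1
  have h02 := congrArg (fun M : Matrix.SpecialLinearGroup (Fin 3) F =>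
    (M : Matrix (Fin 3) (Fin 3) F) 0 2) h1
  simp [affSL, affMat] at h01 h02
  rcases hne with h | h
  · exact h h01
  · exact h h02

theorem affSL_sq_02 (a b c d e f : F) (h : a * d - b * c = 1) :
    ((affSL a b c d e f h ^ 2 : Matrix.SpecialLinearGroup (Fin 3) F) :
      Matrix (Fin 3) (Fin 3) F) 0 2 = a * e + b * f + e := by
  rw [Matrix.SpecialLinearGroup.coe_pow, pow_two]
  simp [affSL, affMat, Matrix.mul_apply, Fin.sum_univ_three]

theorem exists_orders [Fintype F] (hF : Fintype.card F = 4) :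
    ∀ n ∈ ({1, 2, 3, 4, 5} : Set ℕ), ∃ M : Matrix.SpecialLinearGroup (Fin 3) F,
      IsAff M ∧ orderOf M = n := by
  have h2 := two_eq_zero hF
  have hneg : (-1 : F) = 1 := by
    have : (1 : F) + 1 = 0 := by rw [one_add_one_eq_two]; exact h2
    exact neg_eq_of_add_eq_zero_left this
  intro n hn
  simp only [Set.mem_insert_iff, Set.mem_singleton_iff] at hn
  rcases hn with rfl | rfl | rfl | rfl | rfl
  · exact ⟨1, isAff_one, orderOf_one⟩
  · -- order 2 : translation
    have hd : (1 : F) * 1 - 0 * 0 = 1 := by ring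
    refine ⟨affSL 1 0 0 1 1 0 hd, affSL_isAff _ _ _ _ _ _ _, ?_⟩
    have hne := affSL_ne_one (1 : F) 0 0 1 1 0 hd (Or.inr one_ne_zero)
    have hp := (pow_of_isAff' h2 (affSL_isAff (1 : F) 0 0 1 1 0 hd) 0 (by
      simp [affSL, affMat]; rw [one_add_one_eq_two]; exact h2)).1 rfl
    -- need square = 1 directly
    have hsq : affSL (1 : F) 0 0 1 1 0 hd ^ 2 = 1 := by
      apply Subtype.ext
      rw [Matrix.SpecialLinearGroup.coe_pow, pow_two]
      ext i j
      fin_cases i <;> fin_cases j <;>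
        simp [affSL, affMat, Matrix.mul_apply, Fin.sum_univ_three, Matrix.one_apply]
      rw [one_add_one_eq_two]; exact h2
    exact orderOf_eq_prime hsq hne
  · -- order 3
    have hd : (0 : F) * 1 - 1 * 1 = 1 := by rw [zero_mul, zero_sub, one_mul]; exact hneg
    refine ⟨affSL 0 1 1 1 0 0 hd, affSL_isAff _ _ _ _ _ _ _, ?_⟩
    have hne := affSL_ne_one (0 : F) 1 1 1 0 0 hd (Or.inl one_ne_zero)
    have hp := (pow_of_isAff' h2 (affSL_isAff (0 : F) 1 1 1 0 0 hd) 1 (by
      simp [affSL, affMat])).2.1 rfl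
    exact orderOf_eq_prime hp hne
  · -- order 4
    have hd : (1 : F) * 1 - 1 * 0 = 1 := by ring
    refine ⟨affSL 1 1 0 1 0 1 hd, affSL_isAff _ _ _ _ _ _ _, ?_⟩
    have hp := (pow_of_isAff' h2 (affSL_isAff (1 : F) 1 0 1 0 1 hd) 0 (by
      simp [affSL, affMat]; rw [one_add_one_eq_two]; exact h2)).1 rfl
    apply orderOf_four _ hp
    intro hsq
    have h02 := congrArg (fun M : Matrix.SpecialLinearGroup (Fin 3) F =>
      (M : Matrix (Fin 3) (Fin 3) F) 0 2) hsq
    simp only [affSL_sq_02] at h02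
    simp at h02
  · -- order 5
    obtain ⟨t, ht⟩ := exists_omega hF
    have hd : (0 : F) * t - 1 * 1 = 1 := by rw [zero_mul, zero_sub, one_mul]; exact hneg
    refine ⟨affSL 0 1 1 t 0 0 hd, affSL_isAff _ _ _ _ _ _ _, ?_⟩
    have hne := affSL_ne_one (0 : F) 1 1 t 0 0 hd (Or.inl one_ne_zero)
    have hp := (pow_of_isAff' h2 (affSL_isAff (0 : F) 1 1 t 0 0 hd) t (by
      simp [affSL, affMat])).2.2 ht
    have : Fact (Nat.Prime 5) := ⟨by norm_num⟩
    exact orderOf_eq_prime hp hne

end Cfsg.Agent.Lib.Helper5.Spec
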