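import Mathlib
import Cfsg.Agent.Lib.Helper5.SpecOrd
import Cfsg.Agent.Lib.Helper5.SpecA6

namespace Cfsg.Agent.Lib.Helper5.Spec

open Matrix

variable {F : Type*} [Field F]

/-- linear part of an affine matrix, as a 4-tuple -/
def lin (M : Matrix.SpecialLinearGroup (Fin 3) F) : F × F × F × F :=
  ((M : Matrix (Fin 3) (Fin 3) F) 0 0, (M : Matrix (Fin 3) (Fin 3) F) 0 1,
    (M : Matrix (Fin 3) (Fin 3) F) 1 0, (M : Matrix (Fin 3) (Fin 3) F) 1 1)

theorem lin_mul {M N M' N' : Matrix.SpecialLinearGroup (Fin 3) F} (hN : IsAff N) (hN' : IsAff N')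
    (h1 : lin M = lin M') (h2 : lin N = lin N') : lin (M * N) = lin (M' * N') := by
  obtain ⟨b1, b2, b3⟩ := hN
  obtain ⟨c1, c2, c3⟩ := hN'
  simp only [lin, Prod.mk.injEq] at h1 h2 ⊢
  obtain ⟨p1, p2, p3, p4⟩ := h1
  obtain ⟨q1, q2, q3, q4⟩ := h2
  simp [Matrix.SpecialLinearGroup.coe_mul, Matrix.mul_apply, Fin.sum_univ_three, b1, b2, c1, c2,
    p1, p2, p3, p4, q1, q2, q3, q4]

theorem lin_inv {M M' : Matrix.SpecialLinearGroup (Fin 3) F} (hM : IsAff M) (hM' : IsAff M')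
    (h1 : lin M = lin M') : lin M⁻¹ = lin M'⁻¹ := by
  obtain ⟨b1, b2, b3⟩ := hM
  obtain ⟨c1, c2, c3⟩ := hM'
  simp only [lin, Prod.mk.injEq] at h1 ⊢
  obtain ⟨p1, p2, p3, p4⟩ := h1
  simp [Matrix.SpecialLinearGroup.coe_inv, Matrix.adjugate_fin_three, b1, b2, b3, c1, c2, c3,
    p1, p2, p3, p4]

/-- the fibre power of the affine group over its linear part -/
def fibreGroup (k : ℕ) (F : Type*) [Field F] :
    Subgroup (Fin k → Matrix.SpecialLinearGroup (Fin 3) F) where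
  carrier := {f | (∀ i, IsAff (f i)) ∧ ∀ i j, lin (f i) = lin (f j)}
  one_mem' := ⟨fun _ => isAff_one, fun _ _ => rfl⟩
  mul_mem' := by
    rintro f g ⟨hf1, hf2⟩ ⟨hg1, hg2⟩
    exact ⟨fun i => isAff_mul (hf1 i) (hg1 i),
      fun i j => lin_mul (hg1 i) (hg1 j) (hf2 i j) (hg2 i j)⟩
  inv_mem' := by
    rintro f ⟨hf1, hf2⟩
    exact ⟨fun i => isAff_inv (hf1 i), fun i j => lin_inv (hf1 i) (hf1 j) (hf2 i j)⟩

theorem fibre_pow [Fintype F] (hF : Fintype.card F = 4) {k : ℕ}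
    (f : Fin k → Matrix.SpecialLinearGroup (Fin 3) F) (hf : f ∈ fibreGroup k F) :
    f ^ 3 = 1 ∨ f ^ 4 = 1 ∨ f ^ 5 = 1 := by
  obtain ⟨hf1, hf2⟩ := hf
  rcases Nat.eq_zero_or_pos k with rfl | hk
  · left; funext i; exact i.elim0
  set i0 : Fin k := ⟨0, hk⟩
  set t : F := (f i0 : Matrix (Fin 3) (Fin 3) F) 0 0 + (f i0 : Matrix (Fin 3) (Fin 3) F) 1 1
    with ht
  have htr : ∀ i, (f i : Matrix (Fin 3) (Fin 3) F) 0 0 + (f i : Matrix (Fin 3) (Fin 3) F) 1 1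
      = t := by
    intro i
    have := hf2 i i0
    simp only [lin, Prod.mk.injEq] at this
    rw [ht, this.1, this.2.2.2]
  have h2 := two_eq_zero hF
  rcases trace_cases hF t with h | h | h
  · right; left; funext i
    exact (pow_of_isAff' h2 (hf1 i) t (htr i)).1 h
  · left; funext i
    exact (pow_of_isAff' h2 (hf1 i) t (htr i)).2.1 h
  · right; right; funext i
    exact (pow_of_isAff' h2 (hf1 i) t (htr i)).2.2 h

end Cfsg.Agent.Lib.Helper5.Spec
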