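import Mathlib
import Cfsg.Agent.Lib.Helper5.SpecFibre

namespace Cfsg.Agent.Lib.Helper5.Spec

open Matrix

variable {K : Type*} [Field K]

/-- linear part as a 2×2 matrix -/
def linMat (M : Matrix.SpecialLinearGroup (Fin 3) K) : Matrix (Fin 2) (Fin 2) K :=
  !![(M : Matrix (Fin 3) (Fin 3) K) 0 0, (M : Matrix (Fin 3) (Fin 3) K) 0 1;
     (M : Matrix (Fin 3) (Fin 3) K) 1 0, (M : Matrix (Fin 3) (Fin 3) K) 1 1]

theorem linMat_eq_of_lin {M N : Matrix.SpecialLinearGroup (Fin 3) K} (h : lin M = lin N) :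
    linMat M = linMat N := by
  simp only [lin, Prod.mk.injEq] at h
  obtain ⟨h1, h2, h3, h4⟩ := h
  simp [linMat, h1, h2, h3, h4]

theorem linMat_one : linMat (1 : Matrix.SpecialLinearGroup (Fin 3) K) = 1 := by
  ext i j
  fin_cases i <;> fin_cases j <;> simp [linMat]

theorem linMat_mul (M : Matrix.SpecialLinearGroup (Fin 3) K)
    {N : Matrix.SpecialLinearGroup (Fin 3) K} (hN : IsAff N) :
    linMat (M * N) = linMat M * linMat N := by
  obtain ⟨b1, b2, b3⟩ := hN
  ext i j
  fin_cases i <;> fin_cases j <;>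
    simp [linMat, Matrix.SpecialLinearGroup.coe_mul, Matrix.mul_apply, Fin.sum_univ_three,
      Fin.sum_univ_two, b1, b2]

theorem isAff_pow {M : Matrix.SpecialLinearGroup (Fin 3) K} (hM : IsAff M) (n : ℕ) :
    IsAff (M ^ n) := by
  induction n with
  | zero => rw [pow_zero]; exact isAff_one
  | succ n ih => rw [pow_succ]; exact isAff_mul ih hM

theorem linMat_pow {M : Matrix.SpecialLinearGroup (Fin 3) K} (hM : IsAff M) (n : ℕ) :
    linMat (M ^ n) = linMat M ^ n := by
  induction n with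
  | zero => rw [pow_zero, pow_zero]; exact linMat_one
  | succ n ih => rw [pow_succ, pow_succ, linMat_mul _ hM, ih]

theorem linMat_det {M : Matrix.SpecialLinearGroup (Fin 3) K} (hM : IsAff M) :
    (linMat M).det = 1 := by
  obtain ⟨a1, a2, a3⟩ := hM
  have hdet := M.det_coe
  rw [det_affine _ a1 a2 a3] at hdet
  rw [linMat, Matrix.det_fin_two_of]
  exact hdet

/-- linear part as an element of SL2 -/
def linSL (M : Matrix.SpecialLinearGroup (Fin 3) K) (hM : IsAff M) :
    Matrix.SpecialLinearGroup (Fin 2) K := ⟨linMat M, linMat_det hM⟩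

/-- key lemma: if the trace is nonzero (char 2), an affine matrix whose `p`-th power has trivial
linear part satisfies `M ^ p = 1` -/
theorem pow_eq_one_of_trace_ne_zero (h2 : (2 : K) = 0) {M : Matrix.SpecialLinearGroup (Fin 3) K}
    (hM : IsAff M)
    (ht : (M : Matrix (Fin 3) (Fin 3) K) 0 0 + (M : Matrix (Fin 3) (Fin 3) K) 1 1 ≠ 0)
    (p : ℕ) (hp : linMat (M ^ p) = 1) : M ^ p = 1 := by
  set Nm := M ^ p with hNm
  have hNaff : IsAff Nm := isAff_pow hM p
  obtain ⟨a1, a2, a3⟩ := hM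
  obtain ⟨n1, n2, n3⟩ := hNaff
  have hdet := M.det_coe
  rw [det_affine _ a1 a2 a3] at hdet
  have l00 : (Nm : Matrix (Fin 3) (Fin 3) K) 0 0 = 1 := by
    have := congrFun (congrFun hp 0) 0; simpa [linMat] using this
  have l01 : (Nm : Matrix (Fin 3) (Fin 3) K) 0 1 = 0 := by
    have := congrFun (congrFun hp 0) 1; simpa [linMat] using this
  have l10 : (Nm : Matrix (Fin 3) (Fin 3) K) 1 0 = 0 := by
    have := congrFun (congrFun hp 1) 0; simpa [linMat] using this
  have l11 : (Nm : Matrix (Fin 3) (Fin 3) K) 1 1 = 1 := by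
    have := congrFun (congrFun hp 1) 1; simpa [linMat] using this
  have hcomm : M * Nm = Nm * M := by
    rw [hNm, ← pow_succ', ← pow_succ]
  have c02 := congrArg (fun X : Matrix.SpecialLinearGroup (Fin 3) K =>
    (X : Matrix (Fin 3) (Fin 3) K) 0 2) hcomm
  have c12 := congrArg (fun X : Matrix.SpecialLinearGroup (Fin 3) K =>
    (X : Matrix (Fin 3) (Fin 3) K) 1 2) hcomm
  simp only [Matrix.SpecialLinearGroup.coe_mul, Matrix.mul_apply, Fin.sum_univ_three,
    l00, l01, l10, l11, n3, a3] at c02 c12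
  set a := (M : Matrix (Fin 3) (Fin 3) K) 0 0
  set b := (M : Matrix (Fin 3) (Fin 3) K) 0 1
  set c := (M : Matrix (Fin 3) (Fin 3) K) 1 0
  set d := (M : Matrix (Fin 3) (Fin 3) K) 1 1
  set w1 := (Nm : Matrix (Fin 3) (Fin 3) K) 0 2
  set w2 := (Nm : Matrix (Fin 3) (Fin 3) K) 1 2
  have e1 : (a + d) * w1 = 0 := by
    linear_combination (-(d - 1)) * c02 + b * c12 + w1 * hdet + w1 * h2
  have e2 : (a + d) * w2 = 0 := by
    linear_combination c * c02 - (a - 1) * c12 + w2 * hdet + w2 * h2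
  have hw1 : w1 = 0 := (mul_eq_zero.mp e1).resolve_left ht
  have hw2 : w2 = 0 := (mul_eq_zero.mp e2).resolve_left ht
  apply Subtype.ext
  ext i j
  fin_cases i <;> fin_cases j <;> simp [l00, l01, l10, l11, n1, n2, n3, hw1, hw2, w1, w2]

end Cfsg.Agent.Lib.Helper5.Spec
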