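import Mathlib
import Cfsg.Agent.Lib.Helper5.PGLin

namespace Cfsg.Agent.Lib.Helper5.Spec

open Matrix

variable {K : Type*} [Field K]

/-- projection of the fibre group to SL2 -/
def proj (n : ℕ) : fibreGroup (n + 1) K →* Matrix.SpecialLinearGroup (Fin 2) K where
  toFun f := linSL (f.1 0) (f.2.1 0)
  map_one' := Subtype.ext linMat_one
  map_mul' _ g := Subtype.ext (linMat_mul _ (g.2.1 0))

theorem sl2_det (A : Matrix.SpecialLinearGroup (Fin 2) K) :
    (A : Matrix (Fin 2) (Fin 2) K) 0 0 * (A : Matrix (Fin 2) (Fin 2) K) 1 1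
      - (A : Matrix (Fin 2) (Fin 2) K) 0 1 * (A : Matrix (Fin 2) (Fin 2) K) 1 0 = 1 := by
  have := A.det_coe
  rwa [Matrix.det_fin_two] at this

/-- embedding of SL2 in SL3 as affine matrices without translation -/
def emb3 (A : Matrix.SpecialLinearGroup (Fin 2) K) : Matrix.SpecialLinearGroup (Fin 3) K :=
  affSL ((A : Matrix (Fin 2) (Fin 2) K) 0 0) ((A : Matrix (Fin 2) (Fin 2) K) 0 1)
    ((A : Matrix (Fin 2) (Fin 2) K) 1 0) ((A : Matrix (Fin 2) (Fin 2) K) 1 1) 0 0 (sl2_det A)

theorem emb3_one : emb3 (1 : Matrix.SpecialLinearGroup (Fin 2) K) = 1 := by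
  apply Subtype.ext
  ext i j
  fin_cases i <;> fin_cases j <;> simp [emb3, affSL, affMat]

theorem emb3_mul (A B : Matrix.SpecialLinearGroup (Fin 2) K) :
    emb3 (A * B) = emb3 A * emb3 B := by
  apply Subtype.ext
  rw [Matrix.SpecialLinearGroup.coe_mul]
  show affMat _ _ _ _ _ _ = affMat _ _ _ _ _ _ * affMat _ _ _ _ _ _
  ext i j
  fin_cases i <;> fin_cases j <;>
    simp [affMat, Matrix.mul_apply, Fin.sum_univ_three, Fin.sum_univ_two]

theorem linMat_emb3 (A : Matrix.SpecialLinearGroup (Fin 2) K) : linMat (emb3 A) = A := by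
  ext i j
  fin_cases i <;> fin_cases j <;> simp [linMat, emb3, affSL, affMat]

/-- section of `proj` -/
def sect (n : ℕ) : Matrix.SpecialLinearGroup (Fin 2) K →* fibreGroup (n + 1) K where
  toFun A := ⟨fun _ => emb3 A, ⟨fun _ => affSL_isAff _ _ _ _ _ _ _, fun _ _ => rfl⟩⟩
  map_one' := by
    apply Subtype.ext
    funext i
    exact emb3_one
  map_mul' A B := by
    apply Subtype.ext
    funext i
    exact emb3_mul A B

theorem proj_sect (n : ℕ) (A : Matrix.SpecialLinearGroup (Fin 2) K) : proj n (sect n A) = A := by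
  apply Subtype.ext
  exact linMat_emb3 A

theorem proj_surjective (n : ℕ) : Function.Surjective (proj (K := K) n) :=
  fun A => ⟨sect n A, proj_sect n A⟩

theorem sect_injective (n : ℕ) : Function.Injective (sect (K := K) n) := by
  intro A B h
  rw [← proj_sect n A, ← proj_sect n B, h]

/-- all components of an element have the same linear part as the projection -/
theorem linMat_comp (n : ℕ) (f : fibreGroup (n + 1) K) (i : Fin (n + 1)) :
    linMat (f.1 i) = (proj n f : Matrix (Fin 2) (Fin 2) K) :=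
  linMat_eq_of_lin (f.2.2 i 0)

theorem trace_comp (n : ℕ) (f : fibreGroup (n + 1) K) (i : Fin (n + 1)) :
    (f.1 i : Matrix (Fin 3) (Fin 3) K) 0 0 + (f.1 i : Matrix (Fin 3) (Fin 3) K) 1 1
      = (proj n f : Matrix (Fin 2) (Fin 2) K) 0 0 + (proj n f : Matrix (Fin 2) (Fin 2) K) 1 1 := by
  rw [← linMat_comp n f i]
  simp [linMat]

theorem ker_pow_four (h2 : (2 : K) = 0) (n : ℕ) (f : fibreGroup (n + 1) K)
    (hf : f ∈ (proj n).ker) : f ^ 4 = 1 := by
  rw [MonoidHom.mem_ker] at hf
  apply Subtype.ext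
  funext i
  show (f.1 i) ^ 4 = 1
  refine (pow_of_isAff' h2 (f.2.1 i) 0 ?_).1 rfl
  rw [trace_comp, hf]
  simp only [Matrix.SpecialLinearGroup.coe_one, Matrix.one_apply_eq]
  rw [one_add_one_eq_two]; exact h2

end Cfsg.Agent.Lib.Helper5.Spec
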