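import Mathlib
import Cfsg.Agent.Lib.Helper5.PGProj

namespace Cfsg.Agent.Lib.Helper5.Spec

open Matrix

variable {K : Type*} [Field K]

instance [Finite K] (k : ℕ) : Finite (fibreGroup k K) := inferInstance

/-- involution in SL2 in characteristic 2 -/
theorem two_dvd_card_SL2 [Finite K] (h2 : (2 : K) = 0) :
    2 ∣ Nat.card (Matrix.SpecialLinearGroup (Fin 2) K) := by
  let u : Matrix.SpecialLinearGroup (Fin 2) K := ⟨!![1, 1; 0, 1], by simp [Matrix.det_fin_two_of]⟩
  have hu2 : u ^ 2 = 1 := by
    apply Subtype.ext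
    rw [Matrix.SpecialLinearGroup.coe_pow, pow_two]
    show (!![1, 1; 0, 1] : Matrix (Fin 2) (Fin 2) K) * !![1, 1; 0, 1] = 1
    ext i j
    fin_cases i <;> fin_cases j <;> simp [Matrix.mul_apply, Fin.sum_univ_two]
    rw [one_add_one_eq_two]; exact h2
  have hu1 : u ≠ 1 := by
    intro h
    have := congrArg (fun X : Matrix.SpecialLinearGroup (Fin 2) K =>
      (X : Matrix (Fin 2) (Fin 2) K) 0 1) h
    simp [u] at this
  have h := orderOf_eq_prime hu2 hu1
  have hd := orderOf_dvd_natCard u
  rw [h] at hd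
  exact hd

theorem card_fibre [Finite K] (n : ℕ) :
    Nat.card (fibreGroup (n + 1) K) =
      Nat.card (proj (K := K) n).ker * Nat.card (Matrix.SpecialLinearGroup (Fin 2) K) := by
  have h1 := Subgroup.card_mul_index (proj (K := K) n).ker
  have h2 : (proj (K := K) n).ker.index = Nat.card (Matrix.SpecialLinearGroup (Fin 2) K) := by
    rw [Subgroup.index_ker, MonoidHom.range_eq_top.mpr (proj_surjective n)]
    exact Nat.card_congr Subgroup.topEquiv.toEquiv
  rw [← h1, h2]

theorem primes_fibre [Finite K] (h2 : (2 : K) = 0) (n : ℕ) (p : ℕ) (hp : p.Prime) :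
    p ∣ Nat.card (Matrix.SpecialLinearGroup (Fin 2) K) ↔ p ∣ Nat.card (fibreGroup (n + 1) K) := by
  rw [card_fibre n]
  constructor
  · intro h; exact Dvd.dvd.mul_left h _
  · intro h
    have hker : IsPGroup 2 (proj (K := K) n).ker := by
      intro x
      refine ⟨2, ?_⟩
      apply Subtype.ext
      have := ker_pow_four h2 n x.1 x.2
      show (x.1 : fibreGroup (n + 1) K) ^ (2 ^ 2) = 1
      norm_num
      exact this
    obtain ⟨m, hm⟩ := hker.exists_card_eq
    rw [hm] at h
    rcases (Nat.Prime.dvd_mul hp).mp h with h | h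
    · have := (Nat.prime_dvd_prime_iff_eq hp Nat.prime_two).mp (hp.dvd_of_dvd_pow h)
      rw [this]; exact two_dvd_card_SL2 h2
    · exact h

end Cfsg.Agent.Lib.Helper5.Spec
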