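import Mathlib
import Cfsg.Agent.Lib.Helper5.PGCard

namespace Cfsg.Agent.Lib.Helper5.Spec

open Matrix

variable {K : Type*} [Field K]

theorem core_contra (h2 : (2 : K) = 0) (n : ℕ) (p : ℕ) (hp : p.Prime) (hp2 : p ≠ 2)
    (g : fibreGroup (n + 1) K) (hA : (proj n g) ^ p = 1) (hg : orderOf g = 2 * p) : False := by
  set t : K := (proj n g : Matrix (Fin 2) (Fin 2) K) 0 0 + (proj n g : Matrix (Fin 2) (Fin 2) K) 1 1
    with ht
  by_cases ht0 : t = 0
  · have h4 : g ^ 4 = 1 := by
      apply Subtype.ext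
      funext i
      show (g.1 i) ^ 4 = 1
      exact (pow_of_isAff' h2 (g.2.1 i) t (trace_comp n g i)).1 ht0
    have hd := orderOf_dvd_of_pow_eq_one h4
    rw [hg] at hd
    have : p ∣ 2 := by
      have h22 : 2 * p ∣ 2 * 2 := by simpa using hd
      exact (Nat.mul_dvd_mul_iff_left (by norm_num)).mp h22
    exact hp2 ((Nat.prime_dvd_prime_iff_eq hp Nat.prime_two).mp this)
  · have hpow : g ^ p = 1 := by
      apply Subtype.ext
      funext i
      show (g.1 i) ^ p = 1
      apply pow_eq_one_of_trace_ne_zero h2 (g.2.1 i)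
      · rw [trace_comp n g i]; exact ht0
      · rw [linMat_pow (g.2.1 i), linMat_comp n g i, ← Matrix.SpecialLinearGroup.coe_pow, hA]
        rfl
    have hd := orderOf_dvd_of_pow_eq_one hpow
    rw [hg] at hd
    have hle := Nat.le_of_dvd hp.pos hd
    have := hp.pos
    omega

theorem adj_fibre (h2 : (2 : K) = 0) (n : ℕ) (p q : ℕ) (hp : p.Prime) (hq : q.Prime)
    (hpq : p ≠ q) :
    (∃ A : Matrix.SpecialLinearGroup (Fin 2) K, orderOf A = p * q) ↔
      (∃ g : fibreGroup (n + 1) K, orderOf g = p * q) := by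
  constructor
  · rintro ⟨A, hA⟩
    exact ⟨sect n A, by rw [orderOf_injective (sect n) (sect_injective n) A, hA]⟩
  · rintro ⟨g, hg⟩
    set A := proj n g with hAdef
    by_cases hA : orderOf A = p * q
    · exact ⟨A, hA⟩
    exfalso
    have hApq : A ^ (p * q) = 1 := by
      rw [hAdef, ← map_pow, ← hg, pow_orderOf_eq_one, map_one]
    have hd : orderOf A ∣ p * q := orderOf_dvd_of_pow_eq_one hApq
    -- g ^ (4 * orderOf A) = 1
    have hker : g ^ orderOf A ∈ (proj (K := K) n).ker := by
      rw [MonoidHom.mem_ker, map_pow]; exact pow_orderOf_eq_one A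
    have h4 : (g ^ orderOf A) ^ 4 = 1 := ker_pow_four h2 n _ hker
    rw [← pow_mul] at h4
    have hdvd : p * q ∣ orderOf A * 4 := by
      rw [← hg]; exact orderOf_dvd_of_pow_eq_one h4
    obtain ⟨a, b, ha, hb, hab⟩ := (Nat.dvd_mul).mp hd
    have hcases : orderOf A = 1 ∨ orderOf A = q ∨ orderOf A = p ∨ orderOf A = p * q := by
      rcases (Nat.dvd_prime hp).mp ha with h1 | h1 <;>
        rcases (Nat.dvd_prime hq).mp hb with h2' | h2' <;> rw [h1, h2'] at hab
      · left; rw [← hab]
      · right; left; rw [← hab, one_mul]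
      · right; right; left; rw [← hab, mul_one]
      · right; right; right; exact hab.symm
    rcases hcases with hc | hc | hc | hc
    · -- order 1
      rw [hc, one_mul] at hdvd
      have hp4 : p ∣ 2 ^ 2 := (Dvd.intro _ rfl : p ∣ p * q).trans (by simpa using hdvd)
      have hq4 : q ∣ 2 ^ 2 := (Dvd.intro_left _ rfl : q ∣ p * q).trans (by simpa using hdvd)
      have e1 := (Nat.prime_dvd_prime_iff_eq hp Nat.prime_two).mp (hp.dvd_of_dvd_pow hp4)
      have e2 := (Nat.prime_dvd_prime_iff_eq hq Nat.prime_two).mp (hq.dvd_of_dvd_pow hq4)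
      exact hpq (e1.trans e2.symm)
    · -- order q : then p = 2
      rw [hc] at hdvd
      have hp4 : p ∣ 2 ^ 2 := by
        have : p * q ∣ 4 * q := by rw [mul_comm 4 q]; exact hdvd
        have := (Nat.mul_dvd_mul_iff_right hq.pos).mp this
        simpa using this
      have e1 := (Nat.prime_dvd_prime_iff_eq hp Nat.prime_two).mp (hp.dvd_of_dvd_pow hp4)
      rw [e1] at hg hpq
      apply core_contra h2 n q hq (fun h => hpq h.symm) g ?_ hg
      rw [← hc]; exact pow_orderOf_eq_one A
    · -- order p : then q = 2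
      rw [hc] at hdvd
      have hq4 : q ∣ 2 ^ 2 := by
        have : p * q ∣ p * 4 := hdvd
        have := (Nat.mul_dvd_mul_iff_left hp.pos).mp this
        simpa using this
      have e1 := (Nat.prime_dvd_prime_iff_eq hq Nat.prime_two).mp (hq.dvd_of_dvd_pow hq4)
      rw [e1] at hg hpq
      apply core_contra h2 n p hp hpq g ?_ (by rw [hg, mul_comm])
      rw [← hc]; exact pow_orderOf_eq_one A
    · exact hA hc

theorem card_fibre_gt [Fintype K] (n : ℕ) : n < Nat.card (fibreGroup (n + 1) K) := by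
  classical
  have hd : ∀ x : K, (1 : K) * 1 - 0 * 0 = 1 := fun _ => by ring
  let φ : (Fin (n + 1) → K) → fibreGroup (n + 1) K := fun x =>
    ⟨fun i => affSL 1 0 0 1 (x i) 0 (hd (x i)),
      ⟨fun i => affSL_isAff _ _ _ _ _ _ _, fun i j => by simp [lin, affSL, affMat]⟩⟩
  have hφ : Function.Injective φ := by
    intro x y hxy
    funext i
    have h1 := congrArg (fun h : fibreGroup (n + 1) K =>
      ((h : Fin (n + 1) → Matrix.SpecialLinearGroup (Fin 3) K) i :
      Matrix (Fin 3) (Fin 3) K) 0 2) hxy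
    simpa [φ, affSL, affMat] using h1
  have hcard := Nat.card_le_card_of_injective φ hφ
  rw [Nat.card_eq_fintype_card, Fintype.card_fun, Fintype.card_fin] at hcard
  have h2 : 2 ≤ Fintype.card K := by
    have := Fintype.one_lt_card (α := K)
    omega
  have : n < 2 ^ (n + 1) := by
    calc n < n + 1 := Nat.lt_succ_self n
      _ < 2 ^ (n + 1) := Nat.lt_pow_self (by norm_num)
  have h3 : 2 ^ (n + 1) ≤ Fintype.card K ^ (n + 1) := Nat.pow_le_pow_left h2 _
  omega

end Cfsg.Agent.Lib.Helper5.Spec
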