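import Mathlib
import Cfsg.Agent.Lib.Helper5.PGAdj

namespace Cfsg.Agent.Lib.Helper5.Spec

open Matrix

/-- SL_n of isomorphic rings -/
def slCongr {n : Type*} [DecidableEq n] [Fintype n] {R S : Type*} [CommRing R] [CommRing S]
    (ρ : R ≃+* S) : Matrix.SpecialLinearGroup n R ≃* Matrix.SpecialLinearGroup n S where
  toFun := Matrix.SpecialLinearGroup.map ρ.toRingHom
  invFun := Matrix.SpecialLinearGroup.map ρ.symm.toRingHom
  left_inv A := by
    apply Subtype.ext
    ext i j
    show ρ.symm (ρ ((A : Matrix n n R) i j)) = _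
    exact ρ.symm_apply_apply _
  right_inv A := by
    apply Subtype.ext
    ext i j
    show ρ (ρ.symm ((A : Matrix n n S) i j)) = _
    exact ρ.apply_symm_apply _
  map_mul' := map_mul _

theorem center_SL2_char2 {F : Type*} [Field F] [CharP F 2] :
    Subgroup.center (Matrix.SpecialLinearGroup (Fin 2) F) = ⊥ := by
  rw [eq_bot_iff]
  intro A hA
  rw [Matrix.SpecialLinearGroup.mem_center_iff] at hA
  obtain ⟨r, hr, hrA⟩ := hA
  rw [Fintype.card_fin] at hr
  have h2 : (2 : F) = 0 := CharTwo.two_eq_zero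
  have : (r - 1) ^ 2 = 0 := by
    have : (r - 1) ^ 2 = r ^ 2 - 2 * r + 1 := by ring
    rw [this, hr, h2]; ring_nf
    rw [h2]
  have hr1 : r = 1 := by
    have := pow_eq_zero_iff (n := 2) (by norm_num) |>.mp this
    exact sub_eq_zero.mp this
  rw [Subgroup.mem_bot]
  apply Subtype.ext
  rw [← hrA, hr1]
  simp

/-- PSL2 ≃ SL2 in characteristic two -/
noncomputable def pslEquiv {F : Type*} [Field F] [CharP F 2] :
    Matrix.ProjectiveSpecialLinearGroup (Fin 2) F ≃* Matrix.SpecialLinearGroup (Fin 2) F :=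
  (QuotientGroup.quotientMulEquivOfEq center_SL2_char2).trans QuotientGroup.quotientBot

theorem main_prime_graph {F : Type*} [Field F] [Fintype F] [CharP F 2] (N : ℕ) :
    ∃ (H : Type) (_ : Group H) (_ : Finite H), N < Nat.card H ∧
      ((∀ p : ℕ, p.Prime → (p ∣ Nat.card (Matrix.ProjectiveSpecialLinearGroup (Fin 2) F) ↔
        p ∣ Nat.card H)) ∧
      (∀ p q : ℕ, p.Prime → q.Prime → p ≠ q →
        ((∃ g : (Matrix.ProjectiveSpecialLinearGroup (Fin 2) F), orderOf g = p * q) ↔
          (∃ g : H, orderOf g = p * q)))) := by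
  classical
  let K := Shrink.{0} F
  let ρ : K ≃+* F := Shrink.ringEquiv.{0} F
  letI : Fintype K := Fintype.ofEquiv F (equivShrink.{0} F)
  have h2 : (2 : K) = 0 := by
    apply ρ.injective
    rw [map_ofNat, map_zero]
    exact CharTwo.two_eq_zero
  let e : Matrix.ProjectiveSpecialLinearGroup (Fin 2) F ≃* Matrix.SpecialLinearGroup (Fin 2) K :=
    pslEquiv.trans (slCongr ρ.symm)
  refine ⟨fibreGroup (N + 1) K, inferInstance, inferInstance, card_fibre_gt N, ?_, ?_⟩
  · intro p hp
    rw [Nat.card_congr e.toEquiv]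
    exact primes_fibre h2 N p hp
  · intro p q hp hq hpq
    rw [← adj_fibre h2 N p q hp hq hpq]
    constructor
    · rintro ⟨g, hg⟩
      exact ⟨e g, by rw [MulEquiv.orderOf_eq, hg]⟩
    · rintro ⟨A, hA⟩
      exact ⟨e.symm A, by rw [MulEquiv.orderOf_eq, hA]⟩

end Cfsg.Agent.Lib.Helper5.Spec
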