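import Mathlib
import Cfsg.Agent.S0800
import Cfsg.Agent.Lib.Helper5.PGMain

namespace Cfsg.Agent.Lib.Helper5.Spec

open Matrix

variable {K : Type*} [Field K]

/-- In characteristic two, an element of `SL₂` with `A^(2m) = 1` has `A^m = 1` or `A^2 = 1`. -/
theorem sl2_char2_pow (h2 : (2 : K) = 0) (A : Matrix.SpecialLinearGroup (Fin 2) K) (m : ℕ)
    (hA : A ^ (2 * m) = 1) : A ^ m = 1 ∨ A ^ 2 = 1 := by
  have hneg : ∀ x : K, -x = x := by
    intro x
    have : x + x = 0 := by rw [← two_mul, h2, zero_mul]
    exact neg_eq_of_add_eq_zero_left this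
  set M : Matrix (Fin 2) (Fin 2) K := A.1 with hM
  have hdet : M.det = 1 := A.2
  set t := M 0 0 + M 1 1 with ht
  have hch : M * M = t • M + 1 := by
    rw [Cfsg.Agent.S0800.ch M hdet]
    ext i j
    simp only [Matrix.sub_apply, Matrix.add_apply]
    rw [sub_eq_add_neg, hneg]
  obtain ⟨s, u, hsu⟩ := Cfsg.Agent.S0800.pow_mem_span M hdet m
  have hM2m : M ^ (2 * m) = 1 := by
    have := congrArg (fun X : Matrix.SpecialLinearGroup (Fin 2) K => (X : Matrix (Fin 2) (Fin 2) K)) hA
    simpa using this
  have htwo : ∀ X : Matrix (Fin 2) (Fin 2) K, X + X = 0 := by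
    intro X
    rw [← two_smul K X, h2, zero_smul]
  -- N = M^m + 1
  have hNN : (M ^ m + 1) * (M ^ m + 1) = 0 := by
    have e : (M ^ m + 1) * (M ^ m + 1) = M ^ (2 * m) + (M ^ m + M ^ m) + 1 := by
      rw [two_mul, pow_add]
      noncomm_ring
    rw [e, hM2m, htwo, add_zero, htwo]
  have hNN' : (M ^ m + 1) * (M ^ m + 1) = ((s + 1) ^ 2 + u ^ 2) • (1 : Matrix (Fin 2) (Fin 2) K)
      + (u ^ 2 * t) • M := by
    have e1 : M ^ m + 1 = (s + 1) • (1 : Matrix (Fin 2) (Fin 2) K) + u • M := by
      rw [hsu]; module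
    rw [e1]
    have e2 : ((s + 1) • (1 : Matrix (Fin 2) (Fin 2) K) + u • M) *
        ((s + 1) • (1 : Matrix (Fin 2) (Fin 2) K) + u • M) =
        ((s + 1) ^ 2) • (1 : Matrix (Fin 2) (Fin 2) K) + ((s + 1) * u) • (M + M) +
          (u ^ 2) • (M * M) := by
      simp only [add_mul, mul_add, smul_mul_assoc, mul_smul_comm, one_mul, mul_one, smul_smul,
        smul_add]
      module
    rw [e2, htwo, smul_zero, add_zero, hch]
    module
  rw [hNN] at hNN'
  by_cases ht0 : t = 0
  · right
    apply Subtype.ext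
    rw [Matrix.SpecialLinearGroup.coe_pow, pow_two]
    show M * M = 1
    rw [hch, ht0, zero_smul, zero_add]
  · left
    by_cases hu : u = 0
    · rw [hu] at hNN'
      simp only [ne_eq, OfNat.ofNat_ne_zero, not_false_eq_true, zero_pow, add_zero, zero_mul,
        zero_smul] at hNN'
      have h00 := congrFun (congrFun hNN' 0) 0
      simp at h00
      have hs : s = 1 := by
        have : s + 1 = 0 := (pow_eq_zero_iff (n := 2) (by norm_num)).mp h00.symm
        rw [← hneg 1]
        exact eq_neg_of_add_eq_zero_left this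
      apply Subtype.ext
      rw [Matrix.SpecialLinearGroup.coe_pow]
      show M ^ m = 1
      rw [hsu, hs, hu, zero_smul, add_zero, one_smul]
    · -- M is scalar
      have hc : u ^ 2 * t ≠ 0 := mul_ne_zero (pow_ne_zero 2 hu) ht0
      have h01 := congrFun (congrFun hNN' 0) 1
      have h10 := congrFun (congrFun hNN' 1) 0
      have h00 := congrFun (congrFun hNN' 0) 0
      have h11 := congrFun (congrFun hNN' 1) 1
      simp at h01 h10 h00 h11
      have hM01 : M 0 1 = 0 := by
        rcases h01 with h | h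
        · exact absurd h (by tauto)
        · exact h
      have hM10 : M 1 0 = 0 := by
        rcases h10 with h | h
        · exact absurd h (by tauto)
        · exact h
      have hM00 : M 0 0 = M 1 1 := by
        have : u ^ 2 * t * (M 0 0 - M 1 1) = 0 := by linear_combination h11 - h00
        rcases mul_eq_zero.mp this with h | h
        · exact absurd h hc
        · exact sub_eq_zero.mp h
      rw [Matrix.det_fin_two, hM01, hM00] at hdet
      have hc1 : M 1 1 = 1 := by
        have : (M 1 1 - 1) ^ 2 = 0 := by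
          have e : (M 1 1 - 1) ^ 2 = (M 1 1 * M 1 1 - 0 * M 1 0) - 2 * M 1 1 + 1 - 1 + 1 := by ring
          rw [e, hdet, h2]; ring_nf
          exact h2
        exact sub_eq_zero.mp (pow_eq_zero_iff (by norm_num) |>.mp this)
      have hM1 : M = 1 := by
        ext i j
        fin_cases i <;> fin_cases j <;> simp [hM01, hM10, hM00, hc1]
      have hA1 : A = 1 := Subtype.ext hM1
      rw [hA1, one_pow]

end Cfsg.Agent.Lib.Helper5.Spec
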