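import Mathlib
import Cfsg.Agent.S0800
import Cfsg.Agent.Lib.Helper5.PGMain
import Cfsg.Agent.Lib.Helper5.PGEight

namespace Cfsg.Agent.Lib.Helper5.Spec

open Matrix

variable {K : Type*} [Field K] [Fintype K]

theorem odd_order_eight (hK : Fintype.card K = 8) (h2 : (2 : K) = 0)
    (A : Matrix.SpecialLinearGroup (Fin 2) K) (hodd : Nat.Coprime (orderOf A) 2) :
    orderOf A ∣ 7 ∨ orderOf A ∣ 9 := by
  haveI : Fact (Nat.Prime 2) := ⟨Nat.prime_two⟩
  haveI : CharP K 2 := CharTwo.of_one_ne_zero_of_two_eq_zero one_ne_zero h2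
  exact Cfsg.Agent.S0800.main hK 2 A hodd

theorem no_pq_eight (hK : Fintype.card K = 8) (h2 : (2 : K) = 0) (p q : ℕ) (hp : p.Prime)
    (hq : q.Prime) (hpq : p ≠ q) (A : Matrix.SpecialLinearGroup (Fin 2) K) :
    orderOf A ≠ p * q := by
  intro hA
  have key : ∀ r : ℕ, r.Prime → r ≠ 2 → orderOf A = 2 * r → False := by
    intro r hr hr2 hAr
    have h1 : A ^ (2 * r) = 1 := by rw [← hAr]; exact pow_orderOf_eq_one A
    rcases sl2_char2_pow h2 A r h1 with h | h
    · have := orderOf_dvd_of_pow_eq_one h
      rw [hAr] at this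
      have := Nat.le_of_dvd hr.pos this
      have := hr.pos
      omega
    · have := orderOf_dvd_of_pow_eq_one h
      rw [hAr] at this
      have := Nat.le_of_dvd (by norm_num) this
      have := hr.two_le
      omega
  by_cases hp2 : p = 2
  · subst hp2
    exact key q hq (Ne.symm hpq) hA
  by_cases hq2 : q = 2
  · subst hq2
    rw [mul_comm] at hA
    exact key p hp hp2 hA
  have hodd : Nat.Coprime (orderOf A) 2 := by
    rw [hA]
    apply Nat.Coprime.mul_left
    · exact (Nat.coprime_primes hp Nat.prime_two).mpr hp2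
    · exact (Nat.coprime_primes hq Nat.prime_two).mpr hq2
  rcases odd_order_eight hK h2 A hodd with h | h
  · rw [hA] at h
    have hp7 : p ∣ 7 := Dvd.dvd.trans (Dvd.intro _ rfl) h
    have hq7 : q ∣ 7 := Dvd.dvd.trans (Dvd.intro_left _ rfl) h
    have h7 : Nat.Prime 7 := by norm_num
    rw [Nat.prime_dvd_prime_iff_eq hp h7] at hp7
    rw [Nat.prime_dvd_prime_iff_eq hq h7] at hq7
    omega
  · rw [hA] at h
    have hp9 : p ∣ 3 ^ 2 := Dvd.dvd.trans (Dvd.intro _ rfl) h
    have hq9 : q ∣ 3 ^ 2 := Dvd.dvd.trans (Dvd.intro_left _ rfl) h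
    have h3 : Nat.Prime 3 := by norm_num
    have hp3 := (Nat.prime_dvd_prime_iff_eq hp h3).mp (hp.dvd_of_dvd_pow hp9)
    have hq3 := (Nat.prime_dvd_prime_iff_eq hq h3).mp (hq.dvd_of_dvd_pow hq9)
    omega

theorem primes_eight (hK : Fintype.card K = 8) (h2 : (2 : K) = 0) (p : ℕ) (hp : p.Prime) :
    p ∣ Nat.card (Matrix.SpecialLinearGroup (Fin 2) K) ↔ (p = 2 ∨ p = 3 ∨ p = 7) := by
  have hneg : ∀ x : K, -x = x := by
    intro x
    have : x + x = 0 := by rw [← two_mul, h2, zero_mul]
    exact neg_eq_of_add_eq_zero_left this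
  constructor
  · intro h
    haveI : Fact p.Prime := ⟨hp⟩
    obtain ⟨A, hA⟩ := exists_prime_orderOf_dvd_card' p h
    by_cases hp2 : p = 2
    · left; exact hp2
    right
    have hodd : Nat.Coprime (orderOf A) 2 := by
      rw [hA]
      exact (Nat.coprime_primes hp Nat.prime_two).mpr hp2
    rcases odd_order_eight hK h2 A hodd with h | h
    · right
      rw [hA] at h
      exact (Nat.prime_dvd_prime_iff_eq hp (by norm_num)).mp h
    · left
      rw [hA] at h
      have h9 : p ∣ 3 ^ 2 := h
      exact (Nat.prime_dvd_prime_iff_eq hp (by norm_num)).mp (hp.dvd_of_dvd_pow h9)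
  · rintro (rfl | rfl | rfl)
    · exact two_dvd_card_SL2 h2
    · -- order 3
      let u : Matrix.SpecialLinearGroup (Fin 2) K := ⟨!![0, 1; 1, 1], by
        simp [Matrix.det_fin_two_of, hneg]⟩
      have hu3 : u ^ 3 = 1 := by
        apply Subtype.ext
        rw [Matrix.SpecialLinearGroup.coe_pow, pow_succ, pow_two]
        show (!![0, 1; 1, 1] : Matrix (Fin 2) (Fin 2) K) * !![0, 1; 1, 1] * !![0, 1; 1, 1] = 1
        ext i j
        fin_cases i <;> fin_cases j <;> simp [Matrix.mul_apply, Fin.sum_univ_two] <;>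
          (try rw [one_add_one_eq_two]) <;> (try exact h2)
      have hu1 : u ≠ 1 := by
        intro h
        have := congrArg (fun X : Matrix.SpecialLinearGroup (Fin 2) K =>
          (X : Matrix (Fin 2) (Fin 2) K) 0 1) h
        simp [u] at this
      have h := orderOf_eq_prime hu3 hu1
      have hd := orderOf_dvd_natCard u
      rw [h] at hd
      exact hd
    · -- order 7
      have h3 : 2 < Fintype.card K := by rw [hK]; norm_num
      obtain ⟨a, b, c, hab, hac, hbc⟩ := Fintype.two_lt_card_iff.mp h3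
      have : ∃ x : K, x ≠ 0 ∧ x ≠ 1 := by
        by_cases ha : a ≠ 0 ∧ a ≠ 1
        · exact ⟨a, ha⟩
        by_cases hb : b ≠ 0 ∧ b ≠ 1
        · exact ⟨b, hb⟩
        refine ⟨c, ?_, ?_⟩
        · rintro rfl
          have ha' : a = 1 := by
            by_contra h; exact ha ⟨hac, h⟩
          have hb' : b = 1 := by
            by_contra h; exact hb ⟨hbc, h⟩
          exact hab (ha'.trans hb'.symm)
        · rintro rfl
          have ha' : a = 0 := by
            by_contra h; exact ha ⟨h, hac⟩
          have hb' : b = 0 := by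
            by_contra h; exact hb ⟨h, hbc⟩
          exact hab (ha'.trans hb'.symm)
      obtain ⟨x, hx0, hx1⟩ := this
      have hx7 : x ^ 7 = 1 := by
        have := FiniteField.pow_card_sub_one_eq_one x hx0
        rw [hK] at this
        exact this
      let u : Matrix.SpecialLinearGroup (Fin 2) K := ⟨!![x, 0; 0, x⁻¹], by
        simp [Matrix.det_fin_two_of, hx0]⟩
      have hpow : ∀ k : ℕ, (!![x, 0; 0, x⁻¹] : Matrix (Fin 2) (Fin 2) K) ^ k =
          !![x ^ k, 0; 0, (x⁻¹) ^ k] := by
        intro k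
        induction k with
        | zero => ext i j; fin_cases i <;> fin_cases j <;> simp
        | succ k ih =>
          rw [pow_succ, ih]
          ext i j
          fin_cases i <;> fin_cases j <;> simp [Matrix.mul_apply, Fin.sum_univ_two, pow_succ]
      have hu7 : u ^ 7 = 1 := by
        apply Subtype.ext
        rw [Matrix.SpecialLinearGroup.coe_pow]
        show (!![x, 0; 0, x⁻¹] : Matrix (Fin 2) (Fin 2) K) ^ 7 = 1
        rw [hpow, inv_pow, hx7]
        ext i j
        fin_cases i <;> fin_cases j <;> simp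
      have hu1 : u ≠ 1 := by
        intro h
        have := congrArg (fun X : Matrix.SpecialLinearGroup (Fin 2) K =>
          (X : Matrix (Fin 2) (Fin 2) K) 0 0) h
        simp [u] at this
        exact hx1 this
      haveI : Fact (Nat.Prime 7) := ⟨by norm_num⟩
      have h := orderOf_eq_prime hu7 hu1
      have hd := orderOf_dvd_natCard u
      rw [h] at hd
      exact hd

end Cfsg.Agent.Lib.Helper5.Spec
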