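import Mathlib

namespace Cfsg.Agent.Lib.Helper5.Spec

open Matrix

set_option maxRecDepth 1000000 in
theorem sl2_7_pow : ∀ a b c d : ZMod 7, a * d - b * c = 1 →
    ((!![a, b; c, d] : Matrix (Fin 2) (Fin 2) (ZMod 7)) ^ 3 = 1 ∨
     (!![a, b; c, d] : Matrix (Fin 2) (Fin 2) (ZMod 7)) ^ 3 = -1 ∨
     (!![a, b; c, d] : Matrix (Fin 2) (Fin 2) (ZMod 7)) ^ 4 = 1 ∨
     (!![a, b; c, d] : Matrix (Fin 2) (Fin 2) (ZMod 7)) ^ 4 = -1 ∨
     (!![a, b; c, d] : Matrix (Fin 2) (Fin 2) (ZMod 7)) ^ 7 = 1 ∨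
     (!![a, b; c, d] : Matrix (Fin 2) (Fin 2) (ZMod 7)) ^ 7 = -1) := by
  decide +kernel

variable {F : Type*} [Field F] [Fintype F]

theorem mat_seven_pow (hF : Fintype.card F = 7) (A : Matrix (Fin 2) (Fin 2) F) (hA : A.det = 1) :
    (A ^ 3 = 1 ∨ A ^ 3 = -1) ∨ (A ^ 4 = 1 ∨ A ^ 4 = -1) ∨ (A ^ 7 = 1 ∨ A ^ 7 = -1) := by
  let ρ : ZMod 7 ≃+* F := ZMod.ringEquivOfPrime F (by norm_num) hF
  set B : Matrix (Fin 2) (Fin 2) (ZMod 7) := ρ.symm.toRingHom.mapMatrix A with hB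
  have hAB : A = ρ.toRingHom.mapMatrix B := by
    rw [hB]
    ext i j
    simp
  have hdetB : B.det = 1 := by
    rw [hB, ← RingHom.map_det, hA, map_one]
  have hBeta : B = !![B 0 0, B 0 1; B 1 0, B 1 1] := Matrix.eta_fin_two B
  rw [Matrix.det_fin_two] at hdetB
  have key := sl2_7_pow (B 0 0) (B 0 1) (B 1 0) (B 1 1) hdetB
  rw [← hBeta] at key
  have tr1 : ∀ k : ℕ, B ^ k = 1 → A ^ k = 1 := by
    intro k hk
    rw [hAB, ← map_pow, hk, map_one]
  have tr2 : ∀ k : ℕ, B ^ k = -1 → A ^ k = -1 := by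
    intro k hk
    rw [hAB, ← map_pow, hk, map_neg, map_one]
  rcases key with h | h | h | h | h | h
  · exact Or.inl (Or.inl (tr1 3 h))
  · exact Or.inl (Or.inr (tr2 3 h))
  · exact Or.inr (Or.inl (Or.inl (tr1 4 h)))
  · exact Or.inr (Or.inl (Or.inr (tr2 4 h)))
  · exact Or.inr (Or.inr (Or.inl (tr1 7 h)))
  · exact Or.inr (Or.inr (Or.inr (tr2 7 h)))

omit [Fintype F] in
theorem mk_eq_one_of (A : Matrix.SpecialLinearGroup (Fin 2) F)
    (h : A.1 = 1 ∨ A.1 = -1) :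
    (QuotientGroup.mk A : Matrix.ProjectiveSpecialLinearGroup (Fin 2) F) = 1 := by
  rw [QuotientGroup.eq_one_iff, Matrix.SpecialLinearGroup.mem_center_iff]
  rcases h with h | h
  · refine ⟨1, one_pow _, ?_⟩
    rw [h]; simp
  · refine ⟨-1, by simp, ?_⟩
    rw [h, map_neg, map_one]

theorem psl_seven_pow (hF : Fintype.card F = 7)
    (g : Matrix.ProjectiveSpecialLinearGroup (Fin 2) F) :
    g ^ 3 = 1 ∨ g ^ 4 = 1 ∨ g ^ 7 = 1 := by
  obtain ⟨A, rfl⟩ := QuotientGroup.mk_surjective g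
  have key := mat_seven_pow hF A.1 A.2
  have tr : ∀ k : ℕ, (A.1 ^ k = 1 ∨ A.1 ^ k = -1) →
      (QuotientGroup.mk A : Matrix.ProjectiveSpecialLinearGroup (Fin 2) F) ^ k = 1 := by
    intro k hk
    rw [← QuotientGroup.mk_pow]
    apply mk_eq_one_of
    rw [Matrix.SpecialLinearGroup.coe_pow]
    exact hk
  rcases key with h | h | h
  · exact Or.inl (tr 3 h)
  · exact Or.inr (Or.inl (tr 4 h))
  · exact Or.inr (Or.inr (tr 7 h))

theorem no_pq_seven (hF : Fintype.card F = 7) (p q : ℕ) (hp : p.Prime)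
    (hq : q.Prime) (hpq : p ≠ q) (g : Matrix.ProjectiveSpecialLinearGroup (Fin 2) F) :
    orderOf g ≠ p * q := by
  intro hg
  have key : ∀ r k : ℕ, r.Prime → p * q ∣ r ^ k → False := by
    intro r k hr h
    have hp' : p ∣ r ^ k := Dvd.dvd.trans (Dvd.intro _ rfl) h
    have hq' : q ∣ r ^ k := Dvd.dvd.trans (Dvd.intro_left _ rfl) h
    have hp3 := (Nat.prime_dvd_prime_iff_eq hp hr).mp (hp.dvd_of_dvd_pow hp')
    have hq3 := (Nat.prime_dvd_prime_iff_eq hq hr).mp (hq.dvd_of_dvd_pow hq')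
    exact hpq (hp3.trans hq3.symm)
  rcases psl_seven_pow hF g with h | h | h
  · have := orderOf_dvd_of_pow_eq_one h
    rw [hg] at this
    exact key 3 1 (by norm_num) (by simpa using this)
  · have := orderOf_dvd_of_pow_eq_one h
    rw [hg] at this
    exact key 2 2 (by norm_num) (by simpa using this)
  · have := orderOf_dvd_of_pow_eq_one h
    rw [hg] at this
    exact key 7 1 (by norm_num) (by simpa using this)

end Cfsg.Agent.Lib.Helper5.Spec
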