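import Mathlib
import Cfsg.Agent.Lib.Helper5.PGSeven

namespace Cfsg.Agent.Lib.Helper5.Spec

open Matrix

variable {F : Type*} [Field F] [Fintype F]

omit [Fintype F] in
/-- a non-scalar matrix whose `p`-th power is `±1` gives an element of order `p` in PSL₂ -/
theorem orderOf_mk_eq (p : ℕ) [hp : Fact p.Prime] (A : Matrix.SpecialLinearGroup (Fin 2) F)
    (hA : A.1 ^ p = 1 ∨ A.1 ^ p = -1) (hns : A.1 0 1 ≠ 0 ∨ A.1 1 0 ≠ 0) :
    orderOf (QuotientGroup.mk A : Matrix.ProjectiveSpecialLinearGroup (Fin 2) F) = p := by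
  apply orderOf_eq_prime
  · rw [← QuotientGroup.mk_pow]
    apply mk_eq_one_of
    rw [Matrix.SpecialLinearGroup.coe_pow]
    exact hA
  · intro h
    rw [QuotientGroup.eq_one_iff, Matrix.SpecialLinearGroup.mem_center_iff] at h
    obtain ⟨r, -, hr⟩ := h
    rcases hns with h' | h'
    · apply h'
      rw [← hr]
      simp
    · apply h'
      rw [← hr]
      simp

theorem primes_seven (hF : Fintype.card F = 7) (p : ℕ) (hp : p.Prime) :
    p ∣ Nat.card (Matrix.ProjectiveSpecialLinearGroup (Fin 2) F) ↔ (p = 2 ∨ p = 3 ∨ p = 7) := by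
  constructor
  · intro h
    haveI : Fact p.Prime := ⟨hp⟩
    obtain ⟨g, hg⟩ := exists_prime_orderOf_dvd_card' p h
    rcases psl_seven_pow hF g with h | h | h
    · have := orderOf_dvd_of_pow_eq_one h
      rw [hg] at this
      right; left
      exact (Nat.prime_dvd_prime_iff_eq hp (by norm_num)).mp this
    · have := orderOf_dvd_of_pow_eq_one h
      rw [hg] at this
      left
      have h4 : p ∣ 2 ^ 2 := this
      exact (Nat.prime_dvd_prime_iff_eq hp (by norm_num)).mp (hp.dvd_of_dvd_pow h4)
    · have := orderOf_dvd_of_pow_eq_one h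
      rw [hg] at this
      right; right
      exact (Nat.prime_dvd_prime_iff_eq hp (by norm_num)).mp this
  · have h7 : (7 : F) = 0 := by
      have := Nat.cast_card_eq_zero F
      rw [hF] at this
      exact_mod_cast this
    rintro (rfl | rfl | rfl)
    · haveI : Fact (Nat.Prime 2) := ⟨hp⟩
      let u : Matrix.SpecialLinearGroup (Fin 2) F := ⟨!![0, -1; 1, 0], by
        simp [Matrix.det_fin_two_of]⟩
      have hu : u.1 ^ 2 = 1 ∨ u.1 ^ 2 = -1 := by
        right
        show (!![0, -1; 1, 0] : Matrix (Fin 2) (Fin 2) F) ^ 2 = -1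
        rw [pow_two]
        ext i j
        fin_cases i <;> fin_cases j <;> simp [Matrix.mul_apply, Fin.sum_univ_two]
      have h := orderOf_mk_eq 2 u hu (Or.inr (by simp [u]))
      have hd := orderOf_dvd_natCard (QuotientGroup.mk u : Matrix.ProjectiveSpecialLinearGroup (Fin 2) F)
      rw [h] at hd
      exact hd
    · haveI : Fact (Nat.Prime 3) := ⟨hp⟩
      let u : Matrix.SpecialLinearGroup (Fin 2) F := ⟨!![0, -1; 1, -1], by
        simp [Matrix.det_fin_two_of]⟩
      have hu : u.1 ^ 3 = 1 ∨ u.1 ^ 3 = -1 := by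
        left
        show (!![0, -1; 1, -1] : Matrix (Fin 2) (Fin 2) F) ^ 3 = 1
        rw [pow_succ, pow_two]
        ext i j
        fin_cases i <;> fin_cases j <;> simp [Matrix.mul_apply, Fin.sum_univ_two]
      have h := orderOf_mk_eq 3 u hu (Or.inr (by simp [u]))
      have hd := orderOf_dvd_natCard (QuotientGroup.mk u : Matrix.ProjectiveSpecialLinearGroup (Fin 2) F)
      rw [h] at hd
      exact hd
    · haveI : Fact (Nat.Prime 7) := ⟨hp⟩
      let u : Matrix.SpecialLinearGroup (Fin 2) F := ⟨!![1, 1; 0, 1], by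
        simp [Matrix.det_fin_two_of]⟩
      have hpow : ∀ k : ℕ, (!![1, 1; 0, 1] : Matrix (Fin 2) (Fin 2) F) ^ k =
          !![1, (k : F); 0, 1] := by
        intro k
        induction k with
        | zero => ext i j; fin_cases i <;> fin_cases j <;> simp
        | succ k ih =>
          rw [pow_succ, ih]
          ext i j
          fin_cases i <;> fin_cases j <;> simp [Matrix.mul_apply, Fin.sum_univ_two]
          ring
      have hu : u.1 ^ 7 = 1 ∨ u.1 ^ 7 = -1 := by
        left
        show (!![1, 1; 0, 1] : Matrix (Fin 2) (Fin 2) F) ^ 7 = 1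
        rw [hpow]
        ext i j
        fin_cases i <;> fin_cases j <;> simp
        exact h7
      have h := orderOf_mk_eq 7 u hu (Or.inl (by simp [u]))
      have hd := orderOf_dvd_natCard (QuotientGroup.mk u : Matrix.ProjectiveSpecialLinearGroup (Fin 2) F)
      rw [h] at hd
      exact hd

end Cfsg.Agent.Lib.Helper5.Spec
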