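import Mathlib
import Cfsg.Prelude.Def_RootSubgroups
import Cfsg.Agent.Lib.Helper5.RankOne

set_option autoImplicit false
set_option linter.dupNamespace false

/-!
Quadratic modules for pairs of subgroups `C`, `D` with `d⁻¹ C d = c⁻¹ D c`.
-/

namespace Cfsg.Agent.Lib.Helper5.Quad

open Cfsg Cfsg.Agent.Lib.Helper5

variable {X : Type*} [Group X]

/-- the commutator subgroup `[N, C]` of a module -/
def U (N : Type*) [AddCommGroup N] [DistribMulAction X N] (C : Subgroup X) : AddSubgroup N :=
  AddSubgroup.closure {m | ∃ c ∈ C, ∃ n : N, m = c • n - n}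

/-- `C` acts quadratically on `N` -/
def Quad (N : Type*) [AddCommGroup N] [DistribMulAction X N] (C : Subgroup X) : Prop :=
  ∀ c ∈ C, ∀ c' ∈ C, ∀ n : N, c' • (c • n - n) = c • n - n

variable {N : Type*} [AddCommGroup N] [DistribMulAction X N]

theorem dl_mem_U {C : Subgroup X} {c : X} (hc : c ∈ C) (n : N) : c • n - n ∈ U N C :=
  AddSubgroup.subset_closure ⟨c, hc, n, rfl⟩

theorem smul_eq_of_mem_U {C : Subgroup X} (hQ : Quad N C) {c' : X} (hc' : c' ∈ C) {u : N}
    (hu : u ∈ U N C) : c' • u = u := by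
  unfold U at hu
  refine AddSubgroup.closure_induction (p := fun u _ => c' • u = u) ?_ ?_ ?_ ?_ hu
  · rintro m ⟨c, hc, n, rfl⟩
    exact hQ c hc c' hc' n
  · exact smul_zero _
  · intro x y _ _ hx hy
    rw [smul_add, hx, hy]
  · intro x _ hx
    rw [smul_neg, hx]

theorem smul_mem_U_conjBy {C : Subgroup X} (g : X) {u : N} (hu : u ∈ U N C) :
    g • u ∈ U N (conjBy C g) := by
  unfold U at hu
  refine AddSubgroup.closure_induction (p := fun u _ => g • u ∈ U N (conjBy C g)) ?_ ?_ ?_ ?_ hu
  · rintro m ⟨c, hc, n, rfl⟩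
    have h1 : g • (c • n - n) = (g * c * g⁻¹) • (g • n) - g • n := by
      rw [smul_sub, mul_smul, mul_smul, inv_smul_smul]
    rw [h1]
    refine dl_mem_U ?_ _
    rw [mem_conjBy_iff]
    simpa [mul_assoc] using hc
  · rw [smul_zero]; exact zero_mem _
  · intro x y _ _ hx hy
    rw [smul_add]; exact add_mem hx hy
  · intro x _ hx
    rw [smul_neg]; exact neg_mem hx

theorem quad_conjBy {C : Subgroup X} (hQ : Quad N C) (g : X) : Quad N (conjBy C g) := by
  intro x hx x' hx' n
  rw [mem_conjBy_iff] at hx hx'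
  have h1 : x • n - n = g • ((g⁻¹ * x * g) • (g⁻¹ • n) - g⁻¹ • n) := by
    rw [smul_sub, mul_smul, mul_smul, smul_inv_smul, smul_inv_smul]
  have h2 : ∀ m : N, x' • g • m = g • ((g⁻¹ * x' * g) • m) := by
    intro m
    rw [mul_smul, mul_smul, smul_inv_smul]
  rw [h1, h2, hQ _ hx _ hx']

theorem inv_smul_eq {C : Subgroup X} (hQ : Quad N C) {c : X} (hc : c ∈ C) (m : N) :
    c⁻¹ • m = m - (c • m - m) := by
  rw [inv_smul_eq_iff, smul_sub, hQ c hc c hc m]
  abel

/-- the key lemma: `u - αβu ∈ U_C ∩ U_D` -/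
theorem key {C D : Subgroup X} {c d : X} (hc : c ∈ C) (hd : d ∈ D)
    (hcd : conjBy C d⁻¹ = conjBy D c⁻¹) (QC : Quad N C) (QD : Quad N D) {u : N}
    (hu : u ∈ U N C) :
    u - (c • (d • u - u) - (d • u - u)) ∈ U N C ⊓ U N D := by
  have h1 : d⁻¹ • u ∈ U N (conjBy C d⁻¹) := smul_mem_U_conjBy _ hu
  rw [hcd] at h1
  have h2 : c • (d⁻¹ • u) ∈ U N (conjBy (conjBy D c⁻¹) c) := smul_mem_U_conjBy _ h1
  rw [conjBy_conjBy, mul_inv_cancel, conjBy_one] at h2
  set w := c • (d⁻¹ • u) with hw
  have h3 : c⁻¹ • w = d⁻¹ • u := by rw [hw, inv_smul_smul]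
  rw [inv_smul_eq QC hc, inv_smul_eq QD hd] at h3
  -- h3 : w - (c • w - w) = u - (d • u - u)
  have hz1 : u + (c • w - w) ∈ U N C := add_mem hu (dl_mem_U hc _)
  have hz2 : w + (d • u - u) ∈ U N D := add_mem h2 (dl_mem_U hd _)
  have hzz : u + (c • w - w) = w + (d • u - u) := by
    have := h3
    have e1 : u + (c • w - w) = u + (c • w - w) + 0 := by rw [add_zero]
    calc u + (c • w - w) = (u - (d • u - u)) + (c • w - w) + (d • u - u) := by abel
      _ = (w - (c • w - w)) + (c • w - w) + (d • u - u) := by rw [h3]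
      _ = w + (d • u - u) := by abel
  have hcz : c • (u + (c • w - w)) = u + (c • w - w) := smul_eq_of_mem_U QC hc hz1
  -- w = z - βu
  have hw2 : w = (u + (c • w - w)) - (d • u - u) := by rw [hzz]; abel
  have h4 : c • w - w = -(c • (d • u - u) - (d • u - u)) := by
    have h5 : c • w = c • (u + (c • w - w)) - c • (d • u - u) := by
      rw [← smul_sub, ← hw2]
    rw [hcz] at h5
    rw [h5]
    have h6 : (u + (c • w - w)) = w + (d • u - u) := hzz
    rw [h6]
    abel
  have h7 : u - (c • (d • u - u) - (d • u - u)) = u + (c • w - w) := by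
    rw [h4]; abel
  rw [h7]
  exact ⟨hz1, by rw [hzz]; exact hz2⟩

/-- collapse: if `αβ` kills `U_C` then `U_C = U_D` -/
theorem U_eq_of_kill {C D : Subgroup X} {c d : X} (hc : c ∈ C) (hd : d ∈ D)
    (hcd : conjBy C d⁻¹ = conjBy D c⁻¹) (QC : Quad N C) (QD : Quad N D)
    (hkill : ∀ u ∈ U N C, c • (d • u - u) - (d • u - u) = 0) : U N C = U N D := by
  have hle : U N C ≤ U N D := by
    intro u hu
    have := key hc hd hcd QC QD hu
    rw [hkill u hu, sub_zero] at this
    exact this.2
  refine le_antisymm hle ?_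
  intro w hw
  have := key hd hc hcd.symm QD QC hw
  have h1 : c • w - w ∈ U N D := hle (dl_mem_U hc w)
  rw [smul_eq_of_mem_U QD hd h1, sub_self, sub_zero] at this
  exact this.2

/-- if `U_A = U_B` then `X = ⟨A, B⟩` acts "trivially twice" -/
theorem trivial_of_U_eq {A B : Subgroup X} (htop : A ⊔ B = ⊤) (QA : Quad N A) (QB : Quad N B)
    (hU : U N A = U N B) : ∀ x y : X, ∀ n : N, y • (x • n - n) = x • n - n := by
  -- the stabilizer of U pointwise
  let S : Subgroup X :=
    { carrier := {x | ∀ u ∈ U N A, x • u = u}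
      mul_mem' := by
        intro x y hx hy u hu
        rw [mul_smul, hy u hu, hx u hu]
      one_mem' := by
        intro u _
        exact one_smul _ _
      inv_mem' := by
        intro x hx u hu
        rw [inv_smul_eq_iff, hx u hu] }
  have hAS : A ≤ S := fun a ha u hu => smul_eq_of_mem_U QA ha hu
  have hBS : B ≤ S := fun b hb u hu => smul_eq_of_mem_U QB hb (hU ▸ hu)
  have hS : S = ⊤ := by
    rw [eq_top_iff, ← htop]
    exact sup_le hAS hBS
  let T : Subgroup X :=
    { carrier := {x | ∀ n : N, x • n - n ∈ U N A}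
      mul_mem' := by
        intro x y hx hy n
        have : (x * y) • n - n = (x • (y • n) - y • n) + (y • n - n) := by
          rw [mul_smul]; abel
        rw [this]
        exact add_mem (hx _) (hy _)
      one_mem' := by
        intro n
        rw [one_smul, sub_self]
        exact zero_mem _
      inv_mem' := by
        intro x hx n
        have : x⁻¹ • n - n = -(x • (x⁻¹ • n) - x⁻¹ • n) := by
          rw [smul_inv_smul]; abel
        rw [this]
        exact neg_mem (hx _) }
  have hAT : A ≤ T := fun a ha n => dl_mem_U ha n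
  have hBT : B ≤ T := fun b hb n => hU ▸ dl_mem_U hb n
  have hT : T = ⊤ := by
    rw [eq_top_iff, ← htop]
    exact sup_le hAT hBT
  intro x y n
  have hx : x ∈ T := hT ▸ Subgroup.mem_top x
  have hy : y ∈ S := hS ▸ Subgroup.mem_top y
  exact hy _ (hx n)

end Cfsg.Agent.Lib.Helper5.Quad
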