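import Mathlib
import Cfsg.Agent.Lib.Helper5.RegNilF

set_option autoImplicit false
set_option linter.style.haveILetI false
set_option linter.unusedSectionVars false

namespace Cfsg.Agent.Lib.Helper5.RegNil

open Matrix

section main

variable {F : Type*} [Field F] [Fintype F] {m : ℕ}

theorem card_centralizer_regular {q : ℕ} (hF : Fintype.card F = q) (hq : Odd q) (hm : 1 ≤ m)
    (u : symplecticGroup (Fin m) F)
    (hnil : ((u : Matrix (Fin m ⊕ Fin m) (Fin m ⊕ Fin m) F) - 1) ^ (2 * m) = 0)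
    (hreg : ((u : Matrix (Fin m ⊕ Fin m) (Fin m ⊕ Fin m) F) - 1).rank = 2 * m - 1) :
    Nat.card ↥(Subgroup.centralizer ({u} : Set ↥(symplecticGroup (Fin m) F))) = 2 * q ^ m := by
  classical
  have h2 : (2 : F) ≠ 0 := by
    apply Ring.two_ne_zero
    intro h
    have := FiniteField.even_card_of_char_two h
    rw [hF] at this
    rw [Nat.odd_iff] at hq
    omega
  obtain ⟨U, hUmem⟩ := u
  simp only at hnil hreg
  set V : Matrix (Fin m ⊕ Fin m) (Fin m ⊕ Fin m) F := sAdj U with hV
  have hUV : U * V = 1 := (mem_symplectic_iff_sAdj U).1 hUmem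
  have hVU : V * U = 1 := mul_eq_one_comm.mp hUV
  have hcUV : Commute U V := by
    show U * V = V * U
    rw [hUV, hVU]
  set N : Matrix (Fin m ⊕ Fin m) (Fin m ⊕ Fin m) F := U - 1 with hN
  set Y : Matrix (Fin m ⊕ Fin m) (Fin m ⊕ Fin m) F := U - V with hY
  have hσY : sAdj Y = -Y := by
    rw [hY, map_sub, hV, sAdj_sAdj]
    abel
  have hYfac : Y = N * (V * (U + 1)) := by
    rw [hN, hY, ← mul_assoc, sub_mul, one_mul, hUV, sub_mul, one_mul, mul_add, mul_one, hVU]
    abel
  have hcNV : Commute N V := (hcUV.sub_left (Commute.one_left V))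
  have hcNU1 : Commute N (U + 1) :=
    ((Commute.refl U).sub_left (Commute.one_left U)).add_right
      ((Commute.one_right U).sub_left (Commute.one_left 1))
  have hcNW : Commute N (V * (U + 1)) := hcNV.mul_right hcNU1
  have hYn : Y ^ (2 * m) = 0 := by
    rw [hYfac, hcNW.mul_pow, hnil, zero_mul]
  have hdetV : IsUnit V.det := Matrix.isUnit_det_of_left_inverse hUV
  have hdetU1 : IsUnit (U + 1).det := by
    rw [← Matrix.isUnit_iff_isUnit_det]
    have hnilN : IsNilpotent N := ⟨2 * m, hnil⟩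
    have hu : IsUnit (algebraMap F (Matrix (Fin m ⊕ Fin m) (Fin m ⊕ Fin m) F) 2) :=
      (IsUnit.mk0 (2 : F) h2).map _
    have h3 := hnilN.isUnit_add_left_of_commute hu (Algebra.commute_algebraMap_right 2 N)
    have h4 : algebraMap F (Matrix (Fin m ⊕ Fin m) (Fin m ⊕ Fin m) F) 2 + N = U + 1 := by
      rw [map_ofNat, hN, ← one_add_one_eq_two]
      abel
    rw [h4] at h3
    exact h3
  have hrank : Y.rank = 2 * m - 1 := by
    rw [hYfac, Matrix.rank_mul_eq_left_of_isUnit_det _ _ (by
      rw [Matrix.det_mul]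
      exact hdetV.mul hdetU1), hreg]
  have hcard : Fintype.card (Fin m ⊕ Fin m) = 2 * m := by
    rw [Fintype.card_sum, Fintype.card_fin]
    ring
  obtain ⟨⟨w, hw, hYw⟩, hind, hrep⟩ := matrix_regular Y (n := 2 * m) (by omega) hcard hYn hrank
  have R : Reg Y (2 * m) w sAdj :=
    ⟨by omega, hYn, hw, hYw, hind, hrep, sAdj_mul, sAdj_one, sAdj_sAdj, hσY⟩
  have hcount := card_unitary_commutant R h2
  have hUY : U * Y = Y * U := by
    rw [hY, mul_sub, sub_mul, hUV, hVU]
  have e : ↥(Subgroup.centralizer ({⟨U, hUmem⟩} : Set ↥(symplecticGroup (Fin m) F))) ≃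
      {g : Matrix (Fin m ⊕ Fin m) (Fin m ⊕ Fin m) F // g * Y = Y * g ∧ g * sAdj g = 1} :=
    { toFun := fun x => ⟨x.1.1, by
        have hx := (Subgroup.mem_centralizer_iff.mp x.2) ⟨U, hUmem⟩ rfl
        have h1 : U * x.1.1 = x.1.1 * U := congrArg Subtype.val hx
        have h3 : x.1.1 * V = V * x.1.1 := by
          calc x.1.1 * V = V * (U * x.1.1) * V := by
                rw [← mul_assoc, hVU, one_mul]
            _ = V * x.1.1 := by rw [h1, mul_assoc, mul_assoc, hUV, mul_one]
        rw [hY, mul_sub, sub_mul, h1, h3], (mem_symplectic_iff_sAdj _).1 x.1.2⟩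
      invFun := fun g => ⟨⟨g.1, (mem_symplectic_iff_sAdj _).2 g.2.2⟩, by
        rw [Subgroup.mem_centralizer_iff]
        intro h hh
        rw [Set.mem_singleton_iff] at hh
        rw [hh]
        apply Subtype.ext
        exact comm_of_comm Y hrep U g.1 hUY g.2.1⟩
      left_inv := fun x => rfl
      right_inv := fun g => rfl }
  rw [Nat.card_congr e, hcount, hF]

end main

end Cfsg.Agent.Lib.Helper5.RegNil
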