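import Mathlib

namespace Cfsg.Agent.Lib.Helper5.S8

open Equiv

/-- combinatorial trichotomy for permutations of 8 points -/
theorem perm8_cases (c : Perm (Fin 8)) :
    (∃ x1 x2 x3 : Fin 8, x1 ≠ x2 ∧ x1 ≠ x3 ∧ x2 ≠ x3 ∧ c x1 = x1 ∧ c x2 = x2 ∧ c x3 = x3) ∨
    (∃ x : Fin 8, c x ≠ x ∧ c (c (c x)) = x) ∨
    (∃ x1 x2 x3 : Fin 8, x1 ≠ x2 ∧ x1 ≠ x3 ∧ x2 ≠ x3 ∧
      c x1 ≠ x1 ∧ c x1 ≠ x2 ∧ c x1 ≠ x3 ∧ c x2 ≠ x1 ∧ c x2 ≠ x2 ∧ c x2 ≠ x3 ∧
      c x3 ≠ x1 ∧ c x3 ≠ x2 ∧ c x3 ≠ x3) := by
  classical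
  set F : Finset (Fin 8) := Finset.univ.filter (fun x => c x = x) with hF
  set S : Finset (Fin 8) := Finset.univ.filter (fun x => c x ≠ x) with hS
  have hFS : F.card + S.card = 8 := by
    have := Finset.card_filter_add_card_filter_not (s := (Finset.univ : Finset (Fin 8)))
      (fun x => c x = x)
    simpa using this
  by_cases h3 : 2 < F.card
  · left
    obtain ⟨a, b, d, ha, hb, hd, hab, had, hbd⟩ := Finset.two_lt_card_iff.mp h3
    simp only [hF, Finset.mem_filter, Finset.mem_univ, true_and] at ha hb hd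
    exact ⟨a, b, d, hab, had, hbd, ha, hb, hd⟩
  have hS6 : 6 ≤ S.card := by omega
  right
  by_cases hB : ∃ x : Fin 8, c x ≠ x ∧ c (c (c x)) = x
  · left; exact hB
  right
  push Not at hB
  have memS : ∀ x, x ∈ S ↔ c x ≠ x := by
    intro x; simp [hS]
  by_cases h4 : ∃ x : Fin 8, c x ≠ x ∧ c (c x) ≠ x
  · obtain ⟨x, hx1, hx2⟩ := h4
    have hx3 : c (c (c x)) ≠ x := hB x hx1
    set bad : Finset (Fin 8) := {c.symm x, x, c x, c (c x), c (c (c x))} with hbad
    have hbc : bad.card < S.card := by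
      have : bad.card ≤ 5 := by
        rw [hbad]
        exact (Finset.card_le_five)
      omega
    obtain ⟨y, hyS, hyb⟩ := Finset.exists_mem_notMem_of_card_lt_card hbc
    rw [memS] at hyS
    simp only [hbad, Finset.mem_insert, Finset.mem_singleton, not_or] at hyb
    obtain ⟨hy0, hy1, hy2, hy3, hy4⟩ := hyb
    refine ⟨x, c (c x), y, fun h => hx2 h.symm, fun h => hy1 h.symm, fun h => hy3 h.symm,
      hx1, ?_, fun h => hy2 h.symm, hx3, ?_, fun h => hy4 h.symm, ?_, ?_, hyS⟩
    · intro h; exact hx1 (c.injective h).symm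
    · intro h; exact hx1 (c.injective (c.injective h))
    · intro h; apply hy0; rw [← h]; simp
    · intro h; exact hy2 (c.injective h)
  · push Not at h4
    have hne : S.Nonempty := by
      rw [← Finset.card_pos]; omega
    obtain ⟨x1, hx1⟩ := hne
    rw [memS] at hx1
    have hc1 : c (c x1) = x1 := h4 x1 hx1
    set bad1 : Finset (Fin 8) := {x1, c x1} with hbad1
    have hb1 : bad1.card < S.card := by
      have : bad1.card ≤ 2 := Finset.card_le_two
      omega
    obtain ⟨x2, hx2S, hx2b⟩ := Finset.exists_mem_notMem_of_card_lt_card hb1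
    rw [memS] at hx2S
    simp only [hbad1, Finset.mem_insert, Finset.mem_singleton, not_or] at hx2b
    have hc2 : c (c x2) = x2 := h4 x2 hx2S
    set bad2 : Finset (Fin 8) := {x1, c x1, x2, c x2} with hbad2
    have hb2 : bad2.card < S.card := by
      have : bad2.card ≤ 4 := Finset.card_le_four
      omega
    obtain ⟨x3, hx3S, hx3b⟩ := Finset.exists_mem_notMem_of_card_lt_card hb2
    rw [memS] at hx3S
    simp only [hbad2, Finset.mem_insert, Finset.mem_singleton, not_or] at hx3b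
    have hc3 : c (c x3) = x3 := h4 x3 hx3S
    obtain ⟨h31, h32, h33, h34⟩ := hx3b
    refine ⟨x1, x2, x3, fun h => hx2b.1 h.symm, fun h => h31 h.symm, fun h => h33 h.symm,
      hx1, fun h => hx2b.2 h.symm, fun h => h32 h.symm, ?_, hx2S, fun h => h34 h.symm, ?_, ?_, hx3S⟩
    · intro h; apply hx2b.2; rw [← h, hc2]
    · intro h; apply h32; rw [← h, hc3]
    · intro h; apply h34; rw [← h, hc3]

theorem threeCycle_points {σ : Perm (Fin 8)} (hσ : σ.IsThreeCycle) :
    ∃ t1 t2 t3 : Fin 8, t1 ≠ t2 ∧ t1 ≠ t3 ∧ t2 ≠ t3 ∧ σ t1 = t2 ∧ σ t2 = t3 ∧ σ t3 = t1 ∧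
      ∀ y, y ≠ t1 → y ≠ t2 → y ≠ t3 → σ y = y := by
  classical
  have hcard := hσ.card_support
  have hne : σ.support.Nonempty := by
    rw [← Finset.card_pos]; omega
  obtain ⟨t, ht⟩ := hne
  rw [Perm.mem_support] at ht
  have h3 : σ ^ 3 = 1 := by
    have := hσ.orderOf
    rw [← this]; exact pow_orderOf_eq_one σ
  have h3t : σ (σ (σ t)) = t := by
    have := congrArg (fun f : Perm (Fin 8) => f t) h3
    simpa [pow_succ, Perm.mul_apply] using this
  have h12 : t ≠ σ t := fun h => ht h.symm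
  have h23 : σ t ≠ σ (σ t) := fun h => h12 (σ.injective h)
  have h13 : t ≠ σ (σ t) := by
    intro h
    apply ht
    have : σ t = σ (σ (σ t)) := congrArg σ h
    rw [h3t] at this
    exact this
  refine ⟨t, σ t, σ (σ t), h12, h13, h23, rfl, rfl, h3t, ?_⟩
  intro y hy1 hy2 hy3
  by_contra hy
  have hsub : ({t, σ t, σ (σ t)} : Finset (Fin 8)) ⊆ σ.support := by
    intro z hz
    simp only [Finset.mem_insert, Finset.mem_singleton] at hz
    rw [Perm.mem_support]
    rcases hz with rfl | rfl | rfl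
    · exact ht
    · exact fun h => ht (σ.injective h)
    · exact fun h => ht (σ.injective (σ.injective h))
  have hc3 : ({t, σ t, σ (σ t)} : Finset (Fin 8)).card = 3 := by
    rw [Finset.card_eq_three]
    exact ⟨t, σ t, σ (σ t), h12, h13, h23, rfl⟩
  have heq := Finset.eq_of_subset_of_card_le hsub (by rw [hcard, hc3])
  have : y ∈ σ.support := by rw [Perm.mem_support]; exact hy
  rw [← heq] at this
  simp only [Finset.mem_insert, Finset.mem_singleton] at this
  rcases this with h | h | h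
  · exact hy1 h
  · exact hy2 h
  · exact hy3 h

theorem comm_of {g σ : Perm (Fin 8)} {t1 t2 t3 : Fin 8}
    (h1 : σ t1 = t2) (h2 : σ t2 = t3) (h3 : σ t3 = t1)
    (hout : ∀ y, y ≠ t1 → y ≠ t2 → y ≠ t3 → σ y = y)
    (hg : (g t1 = t1 ∧ g t2 = t2 ∧ g t3 = t3) ∨ (g t1 = t2 ∧ g t2 = t3 ∧ g t3 = t1)) :
    g * σ = σ * g := by
  ext y
  simp only [Perm.mul_apply]
  congr 1
  by_cases hy1 : y = t1
  · subst hy1
    rcases hg with ⟨a, b, c⟩ | ⟨a, b, c⟩
    · rw [h1, b, a, h1]
    · rw [h1, b, a, h2]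
  by_cases hy2 : y = t2
  · subst hy2
    rcases hg with ⟨a, b, c⟩ | ⟨a, b, c⟩
    · rw [h2, c, b, h2]
    · rw [h2, c, b, h3]
  by_cases hy3 : y = t3
  · subst hy3
    rcases hg with ⟨a, b, c⟩ | ⟨a, b, c⟩
    · rw [h3, a, c, h3]
    · rw [h3, a, c, h1]
  rw [hout y hy1 hy2 hy3]
  symm
  rcases hg with ⟨a, b, c⟩ | ⟨a, b, c⟩
  · apply hout
    · intro h; apply hy1; apply g.injective; rw [h, a]
    · intro h; apply hy2; apply g.injective; rw [h, b]
    · intro h; apply hy3; apply g.injective; rw [h, c]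
  · apply hout
    · intro h; apply hy3; apply g.injective; rw [h, c]
    · intro h; apply hy1; apply g.injective; rw [h, a]
    · intro h; apply hy2; apply g.injective; rw [h, b]

theorem exists_map3 {x1 x2 x3 t1 t2 t3 : Fin 8} (hx12 : x1 ≠ x2) (hx13 : x1 ≠ x3) (hx23 : x2 ≠ x3)
    (ht12 : t1 ≠ t2) (ht13 : t1 ≠ t3) (ht23 : t2 ≠ t3) :
    ∃ h : Perm (Fin 8), h x1 = t1 ∧ h x2 = t2 ∧ h x3 = t3 := by
  have hf : Function.Injective (![x1, x2, x3] : Fin 3 → Fin 8) := by
    intro i j hij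
    fin_cases i <;> fin_cases j <;> simp_all
  have hg : Function.Injective (![t1, t2, t3] : Fin 3 → Fin 8) := by
    intro i j hij
    fin_cases i <;> fin_cases j <;> simp_all
  obtain ⟨h, hh⟩ := Equiv.Perm.exists_extending_pair _ _ hf hg
  exact ⟨h, by simpa using hh 0, by simpa using hh 1, by simpa using hh 2⟩

/-- main combinatorial statement -/
theorem exists_conj_commute {σ : Perm (Fin 8)} (hσ : σ.IsThreeCycle) (c : Perm (Fin 8)) :
    ∃ g : Perm (Fin 8), IsConj c g ∧ Commute (g * σ * g⁻¹) σ := by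
  obtain ⟨t1, t2, t3, ht12, ht13, ht23, h1, h2, h3, hout⟩ := threeCycle_points hσ
  rcases perm8_cases c with ⟨x1, x2, x3, hx12, hx13, hx23, hc1, hc2, hc3⟩ | ⟨x, hx1, hx3⟩ |
    ⟨x1, x2, x3, hx12, hx13, hx23, c11, c12, c13, c21, c22, c23, c31, c32, c33⟩
  · obtain ⟨h, hh1, hh2, hh3⟩ := exists_map3 hx12 hx13 hx23 ht12 ht13 ht23
    refine ⟨h * c * h⁻¹, isConj_iff.mpr ⟨h, rfl⟩, ?_⟩
    have hi1 : h⁻¹ t1 = x1 := by rw [← hh1]; simp
    have hi2 : h⁻¹ t2 = x2 := by rw [← hh2]; simp
    have hi3 : h⁻¹ t3 = x3 := by rw [← hh3]; simp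
    have hcm : (h * c * h⁻¹) * σ = σ * (h * c * h⁻¹) := by
      apply comm_of h1 h2 h3 hout
      left
      simp only [Perm.mul_apply]
      refine ⟨by rw [hi1, hc1, hh1], by rw [hi2, hc2, hh2], by rw [hi3, hc3, hh3]⟩
    rw [hcm, mul_assoc, mul_inv_cancel, mul_one]
  · have hx12 : x ≠ c x := fun h => hx1 h.symm
    have hx23 : c x ≠ c (c x) := fun h => hx12 (c.injective h)
    have hx13 : x ≠ c (c x) := by
      intro h
      apply hx1
      have : c x = c (c (c x)) := congrArg c h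
      rw [hx3] at this
      exact this
    obtain ⟨h, hh1, hh2, hh3⟩ := exists_map3 hx12 hx13 hx23 ht12 ht13 ht23
    refine ⟨h * c * h⁻¹, isConj_iff.mpr ⟨h, rfl⟩, ?_⟩
    have hi1 : h⁻¹ t1 = x := by rw [← hh1]; simp
    have hi2 : h⁻¹ t2 = c x := by rw [← hh2]; simp
    have hi3 : h⁻¹ t3 = c (c x) := by rw [← hh3]; simp
    have hcm : (h * c * h⁻¹) * σ = σ * (h * c * h⁻¹) := by
      apply comm_of h1 h2 h3 hout
      right
      simp only [Perm.mul_apply]
      refine ⟨by rw [hi1, hh2], by rw [hi2, hh3], by rw [hi3, hx3, hh1]⟩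
    rw [hcm, mul_assoc, mul_inv_cancel, mul_one]
  · obtain ⟨h, hh1, hh2, hh3⟩ := exists_map3 hx12 hx13 hx23 ht12 ht13 ht23
    refine ⟨h * c * h⁻¹, isConj_iff.mpr ⟨h, rfl⟩, ?_⟩
    set g := h * c * h⁻¹ with hg
    have hi1 : h⁻¹ t1 = x1 := by rw [← hh1]; simp
    have hi2 : h⁻¹ t2 = x2 := by rw [← hh2]; simp
    have hi3 : h⁻¹ t3 = x3 := by rw [← hh3]; simp
    have hg1 : g t1 = h (c x1) := by simp only [hg, Perm.mul_apply, hi1]
    have hg2 : g t2 = h (c x2) := by simp only [hg, Perm.mul_apply, hi2]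
    have hg3 : g t3 = h (c x3) := by simp only [hg, Perm.mul_apply, hi3]
    -- g t_i ∉ T
    have key : ∀ y, σ y ≠ y → σ (g⁻¹ y) = g⁻¹ y := by
      intro y hy
      apply hout
      · intro e
        have : g t1 = y := by rw [← e]; simp
        rw [hg1] at this
        by_cases y1 : y = t1
        · rw [y1, ← hh1] at this; exact c11 (h.injective this)
        by_cases y2 : y = t2
        · rw [y2, ← hh2] at this; exact c12 (h.injective this)
        by_cases y3 : y = t3
        · rw [y3, ← hh3] at this; exact c13 (h.injective this)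
        exact hy (hout y y1 y2 y3)
      · intro e
        have : g t2 = y := by rw [← e]; simp
        rw [hg2] at this
        by_cases y1 : y = t1
        · rw [y1, ← hh1] at this; exact c21 (h.injective this)
        by_cases y2 : y = t2
        · rw [y2, ← hh2] at this; exact c22 (h.injective this)
        by_cases y3 : y = t3
        · rw [y3, ← hh3] at this; exact c23 (h.injective this)
        exact hy (hout y y1 y2 y3)
      · intro e
        have : g t3 = y := by rw [← e]; simp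
        rw [hg3] at this
        by_cases y1 : y = t1
        · rw [y1, ← hh1] at this; exact c31 (h.injective this)
        by_cases y2 : y = t2
        · rw [y2, ← hh2] at this; exact c32 (h.injective this)
        by_cases y3 : y = t3
        · rw [y3, ← hh3] at this; exact c33 (h.injective this)
        exact hy (hout y y1 y2 y3)
    have hdis : Perm.Disjoint (g * σ * g⁻¹) σ := by
      intro y
      by_cases hy : σ y = y
      · right; exact hy
      · left
        simp only [Perm.mul_apply]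
        rw [key y hy]; simp
    exact hdis.commute

end Cfsg.Agent.Lib.Helper5.S8
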