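import Mathlib
import Cfsg.Prelude.Def_Solvable
import Cfsg.Agent.Lib.Helper5.S8Comb

namespace Cfsg.Agent.Lib.Helper5.S8

open Equiv
open Pointwise

theorem subnormal_of_commute {G : Type*} [Group G] (σ g : G) (hc : Commute (g * σ * g⁻¹) σ) :
    ((Subgroup.zpowers σ).subgroupOf
      (Subgroup.zpowers σ ⊔ MulAut.conj g • Subgroup.zpowers σ)).IsSubnormal := by
  apply Subgroup.Normal.isSubnormal
  apply Subgroup.normal_subgroupOf_of_le_normalizer
  have hZ : Subgroup.centralizer ({σ} : Set G) ≤ Subgroup.normalizer (Subgroup.zpowers σ : Set G) := by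
    intro k hk
    rw [Subgroup.mem_centralizer_iff] at hk
    have hk' : Commute σ k := hk σ rfl
    rw [Subgroup.mem_normalizer_iff]
    intro x
    constructor
    · intro hx
      obtain ⟨j, rfl⟩ := Subgroup.mem_zpowers_iff.mp hx
      have : k * σ ^ j * k⁻¹ = σ ^ j := by
        have := (hk'.zpow_left j).eq
        rw [← this, mul_assoc, mul_inv_cancel, mul_one]
      rw [this]; exact hx
    · intro hx
      obtain ⟨j, hj⟩ := Subgroup.mem_zpowers_iff.mp hx
      have hxe : x = k⁻¹ * σ ^ j * k := by
        rw [hj]; group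
      have : k⁻¹ * σ ^ j * k = σ ^ j := by
        have := (hk'.zpow_left j).eq
        rw [mul_assoc, this, ← mul_assoc, inv_mul_cancel, one_mul]
      rw [hxe, this]
      exact Subgroup.zpow_mem_zpowers σ j
  refine le_trans ?_ hZ
  apply sup_le
  · rw [Subgroup.zpowers_le]
    rw [Subgroup.mem_centralizer_iff]
    intro h hh
    rw [Set.mem_singleton_iff] at hh
    rw [hh]
  · intro x hx
    rw [Subgroup.mem_pointwise_smul_iff_inv_smul_mem] at hx
    obtain ⟨j, hj⟩ := Subgroup.mem_zpowers_iff.mp hx
    have hxe : x = (g * σ * g⁻¹) ^ j := by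
      have : x = g * σ ^ j * g⁻¹ := by
        rw [hj]; simp [MulAut.smul_def, mul_assoc]
      rw [this]
      exact (conj_zpow (a := g) (b := σ) (i := j)).symm
    rw [Subgroup.mem_centralizer_iff]
    intro h hh
    rw [Set.mem_singleton_iff] at hh
    rw [hh, hxe]
    exact ((hc.zpow_left j).eq).symm

theorem pCore_three_perm8 : Cfsg.pCore 3 (Perm (Fin 8)) = ⊥ := by
  unfold Cfsg.pCore
  rw [eq_bot_iff]
  apply sSup_le
  rintro N ⟨hNn, hNp⟩
  have hle : N ≤ alternatingGroup (Fin 8) := by
    intro x hx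
    rw [Perm.mem_alternatingGroup]
    obtain ⟨k, hk⟩ := hNp ⟨x, hx⟩
    have hk' : x ^ (3 ^ k) = 1 := by
      have := congrArg Subtype.val hk
      simpa using this
    have hs : (Perm.sign x) ^ (3 ^ k) = 1 := by
      rw [← map_pow, hk', map_one]
    rcases Int.units_eq_one_or (Perm.sign x) with h | h
    · exact h
    · exfalso
      rw [h] at hs
      have hodd : Odd (3 ^ k) := Odd.pow (by decide)
      rw [hodd.neg_one_pow] at hs
      exact absurd hs (by decide)
  have : IsSimpleGroup (alternatingGroup (Fin 8)) :=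
    alternatingGroup.isSimpleGroup (by simp)
  have : (N.subgroupOf (alternatingGroup (Fin 8))).Normal := Subgroup.Normal.subgroupOf hNn _
  rcases (Subgroup.Normal.eq_bot_or_eq_top
      (inferInstance : (N.subgroupOf (alternatingGroup (Fin 8))).Normal)) with h | h
  · rw [Subgroup.subgroupOf_eq_bot] at h
    rw [disjoint_iff, inf_of_le_left hle] at h
    rw [h]
  · exfalso
    rw [Subgroup.subgroupOf_eq_top] at h
    set x : Perm (Fin 8) := Equiv.swap 0 1 * Equiv.swap 2 3 with hx
    have hxA : x ∈ alternatingGroup (Fin 8) := by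
      rw [Perm.mem_alternatingGroup]; decide
    have hxN : x ∈ N := h hxA
    obtain ⟨k, hk⟩ := hNp ⟨x, hxN⟩
    have hk' : x ^ (3 ^ k) = 1 := by
      have := congrArg Subtype.val hk
      simpa using this
    have hx2 : x ^ 2 = 1 := by decide
    have hx1 : x ≠ 1 := by decide
    apply hx1
    have hcop : Nat.Coprime (3 ^ k) 2 := by
      apply Nat.Coprime.pow_left; decide
    have := (pow_gcd_eq_one (a := x) (m := 3 ^ k) (n := 2)).mpr ⟨hk', hx2⟩
    rw [hcop] at this
    simpa using this

end Cfsg.Agent.Lib.Helper5.S8
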