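import Mathlib
import Cfsg.Agent.Lib.Helper5.SSGL

set_option autoImplicit false
set_option linter.style.haveILetI false
set_option linter.unusedSectionVars false

namespace Cfsg.Agent.Lib.Helper5.SSClass

open Polynomial Module

section glcount

variable {F : Type*} [Field F] [Fintype F] (p : ℕ) [Fact p.Prime] [CharP F p] (n : ℕ)

theorem card_gl_classes {q : ℕ} (hq : Fintype.card F = q) (hn : 1 ≤ n) :
    Nat.card {c : ConjClasses (GL (Fin n) F) //
      ∃ g : GL (Fin n) F, ConjClasses.mk g = c ∧ (orderOf g).Coprime p} =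
      (q - 1) * q ^ (n - 1) := by
  obtain ⟨k, rfl⟩ : ∃ k, n = k + 1 := ⟨n - 1, by omega⟩
  have e : {c : ConjClasses (GL (Fin (k + 1)) F) //
      ∃ g : GL (Fin (k + 1)) F, ConjClasses.mk g = c ∧ (orderOf g).Coprime p} ≃
      {χ : F[X] // χ.Monic ∧ χ.natDegree = k + 1 ∧ (fun x => x ≠ 0) (χ.coeff 0)} := by
    refine Equiv.ofBijective (fun c => ⟨((Classical.choose c.2 : GL (Fin (k + 1)) F) :
      Matrix (Fin (k + 1)) (Fin (k + 1)) F).charpoly, Matrix.charpoly_monic _, ?_, ?_⟩) ⟨?_, ?_⟩
    · rw [Matrix.charpoly_natDegree_eq_dim, Fintype.card_fin]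
    · exact gl_coeff_zero_ne _ _
    · rintro ⟨c, hc⟩ ⟨c', hc'⟩ h
      have h1 := Classical.choose_spec hc
      have h2 := Classical.choose_spec hc'
      have h3 : ((Classical.choose hc : GL (Fin (k + 1)) F) :
          Matrix (Fin (k + 1)) (Fin (k + 1)) F).charpoly =
          ((Classical.choose hc' : GL (Fin (k + 1)) F) :
          Matrix (Fin (k + 1)) (Fin (k + 1)) F).charpoly := congrArg Subtype.val h
      have h4 := gl_conj_of_charpoly_eq p (k + 1) _ _ h1.2 h2.2 h3
      apply Subtype.ext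
      show c = c'
      rw [← h1.1, ← h2.1, ConjClasses.mk_eq_mk_iff_isConj]
      exact h4
    · rintro ⟨χ, hm, hd, h0⟩
      obtain ⟨g, hg, hgo⟩ := exists_gl_of_monic p (k + 1) χ hm hd h0
      have hex : ∃ g' : GL (Fin (k + 1)) F, ConjClasses.mk g' = ConjClasses.mk g ∧
          (orderOf g').Coprime p := ⟨g, rfl, hgo⟩
      refine ⟨⟨ConjClasses.mk g, hex⟩, ?_⟩
      apply Subtype.ext
      show ((Classical.choose hex : GL (Fin (k + 1)) F) :
          Matrix (Fin (k + 1)) (Fin (k + 1)) F).charpoly = χ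
      rw [← hg]
      apply charpoly_eq_of_isConj
      rw [← ConjClasses.mk_eq_mk_iff_isConj]
      exact (Classical.choose_spec hex).1
  rw [Nat.card_congr e, card_monic_pred k (fun x : F => x ≠ 0), Nat.card_eq_fintype_card (α := F), hq]
  congr 1
  rw [Nat.card_congr unitsEquivNeZero.symm, Nat.card_units, Nat.card_eq_fintype_card, hq]

end glcount

end Cfsg.Agent.Lib.Helper5.SSClass
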