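import Mathlib
import Cfsg.Agent.Lib.Helper5.SSGLCount

set_option autoImplicit false
set_option linter.style.haveILetI false
set_option linter.unusedSectionVars false

namespace Cfsg.Agent.Lib.Helper5.SSClass

open Polynomial Module

section slcount

variable {F : Type*} [Field F] [Fintype F] (p : ℕ) [Fact p.Prime] [CharP F p] (n : ℕ)

theorem sl_coeff_zero (g : Matrix.SpecialLinearGroup (Fin n) F) :
    (g : Matrix (Fin n) (Fin n) F).charpoly.coeff 0 = (-1) ^ n := by
  have hd := Matrix.det_eq_sign_charpoly_coeff (g : Matrix (Fin n) (Fin n) F)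
  rw [g.2, Fintype.card_fin] at hd
  have h2 : ((-1 : F) ^ n) * (-1) ^ n = 1 := by
    rw [← mul_pow]; simp
  calc (g : Matrix (Fin n) (Fin n) F).charpoly.coeff 0
      = ((-1 : F) ^ n * (-1) ^ n) * (g : Matrix (Fin n) (Fin n) F).charpoly.coeff 0 := by
        rw [h2, one_mul]
    _ = (-1) ^ n := by rw [mul_assoc, ← hd, mul_one]

theorem sl_orderOf_toGL (g : Matrix.SpecialLinearGroup (Fin n) F) :
    orderOf (Matrix.SpecialLinearGroup.toGL g) = orderOf g :=
  orderOf_injective (Matrix.SpecialLinearGroup.toGL) Matrix.SpecialLinearGroup.toGL_injective g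

theorem card_sl_classes {q : ℕ} (hq : Fintype.card F = q) (hn : 1 ≤ n) :
    Nat.card {c : ConjClasses (Matrix.SpecialLinearGroup (Fin n) F) //
      ∃ g : Matrix.SpecialLinearGroup (Fin n) F, ConjClasses.mk g = c ∧ (orderOf g).Coprime p} =
      q ^ (n - 1) := by
  obtain ⟨k, rfl⟩ : ∃ k, n = k + 1 := ⟨n - 1, by omega⟩
  have e : {c : ConjClasses (Matrix.SpecialLinearGroup (Fin (k + 1)) F) //
      ∃ g : Matrix.SpecialLinearGroup (Fin (k + 1)) F, ConjClasses.mk g = c ∧
        (orderOf g).Coprime p} ≃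
      {χ : F[X] // χ.Monic ∧ χ.natDegree = k + 1 ∧ (fun x => x = (-1) ^ (k + 1)) (χ.coeff 0)} := by
    refine Equiv.ofBijective (fun c => ⟨((Classical.choose c.2 :
      Matrix.SpecialLinearGroup (Fin (k + 1)) F) :
      Matrix (Fin (k + 1)) (Fin (k + 1)) F).charpoly, Matrix.charpoly_monic _, ?_, ?_⟩) ⟨?_, ?_⟩
    · rw [Matrix.charpoly_natDegree_eq_dim, Fintype.card_fin]
    · exact sl_coeff_zero _ _
    · rintro ⟨c, hc⟩ ⟨c', hc'⟩ h
      have h1 := Classical.choose_spec hc
      have h2 := Classical.choose_spec hc'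
      have h3 : ((Classical.choose hc : Matrix.SpecialLinearGroup (Fin (k + 1)) F) :
          Matrix (Fin (k + 1)) (Fin (k + 1)) F).charpoly =
          ((Classical.choose hc' : Matrix.SpecialLinearGroup (Fin (k + 1)) F) :
          Matrix (Fin (k + 1)) (Fin (k + 1)) F).charpoly := congrArg Subtype.val h
      have h4 := sl_conj_of_charpoly_eq p (k + 1) _ _ h1.2 h2.2 h3
      apply Subtype.ext
      show c = c'
      rw [← h1.1, ← h2.1, ConjClasses.mk_eq_mk_iff_isConj]
      exact h4
    · rintro ⟨χ, hm, hd, h0⟩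
      have h0' : χ.coeff 0 = (-1) ^ (k + 1) := h0
      have hne : χ.coeff 0 ≠ 0 := by rw [h0']; exact pow_ne_zero _ (neg_ne_zero.2 one_ne_zero)
      obtain ⟨g, hg, hgo⟩ := exists_gl_of_monic p (k + 1) χ hm hd hne
      have hdet : (g : Matrix (Fin (k + 1)) (Fin (k + 1)) F).det = 1 := by
        rw [Matrix.det_eq_sign_charpoly_coeff, hg, h0', Fintype.card_fin, ← mul_pow]
        simp
      let g₀ : Matrix.SpecialLinearGroup (Fin (k + 1)) F := ⟨g, hdet⟩
      have hg₀ : Matrix.SpecialLinearGroup.toGL g₀ = g := Units.ext rfl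
      have hgo₀ : (orderOf g₀).Coprime p := by
        rw [← sl_orderOf_toGL, hg₀]; exact hgo
      have hex : ∃ g' : Matrix.SpecialLinearGroup (Fin (k + 1)) F,
          ConjClasses.mk g' = ConjClasses.mk g₀ ∧ (orderOf g').Coprime p := ⟨g₀, rfl, hgo₀⟩
      refine ⟨⟨ConjClasses.mk g₀, hex⟩, ?_⟩
      apply Subtype.ext
      show ((Classical.choose hex : Matrix.SpecialLinearGroup (Fin (k + 1)) F) :
          Matrix (Fin (k + 1)) (Fin (k + 1)) F).charpoly = χ
      rw [← hg]
      have hconj : IsConj (Classical.choose hex) g₀ := by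
        rw [← ConjClasses.mk_eq_mk_iff_isConj]
        exact (Classical.choose_spec hex).1
      have := charpoly_eq_of_isConj (k + 1) _ _
        (MonoidHom.map_isConj (Matrix.SpecialLinearGroup.toGL (n := Fin (k + 1)) (R := F)) hconj)
      rw [hg₀] at this
      exact this
  rw [Nat.card_congr e, card_monic_pred k (fun x : F => x = (-1) ^ (k + 1)),
    Nat.card_eq_fintype_card (α := F), hq]
  simp

end slcount

end Cfsg.Agent.Lib.Helper5.SSClass
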