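import Cfsg.Prelude.Def_KGroupFacts
import Cfsg.Agent.Lib.Helper5.InvStem

set_option autoImplicit false
open scoped commutatorElement

/-! Helpers for statements "the Schur multiplier is trivial / cyclic of order n". -/

namespace Cfsg.Agent.Lib.Helper5

universe u

/-- the identity is a stem extension with trivial kernel. -/
theorem exists_trivial_stem (Q : Type u) [Group Q] [Finite Q] :
    ∃ (Γ : Type u) (_ : Group Γ) (_ : Finite Γ) (σ : Γ →* Q), Cfsg.IsStemExtension σ ∧
      Nonempty (σ.ker ≃* Multiplicative (ZMod 1)) := by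
  have hk : (MonoidHom.id Q).ker = ⊥ := by
    ext x; simp
  refine ⟨Q, inferInstance, inferInstance, MonoidHom.id Q, ⟨Function.surjective_id, ?_, ?_⟩, ⟨?_⟩⟩
  · rw [hk]; exact bot_le
  · rw [hk]; exact bot_le
  · exact
      { toFun := fun _ => 1
        invFun := fun _ => 1
        left_inv := by
          intro x
          have hx : (x : Q) = 1 := by
            have := x.2
            rwa [MonoidHom.mem_ker, MonoidHom.id_apply] at this
          exact Subtype.ext hx.symm
        right_inv := fun x => Subsingleton.elim _ _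
        map_mul' := by intros; simp }

/-- if every finite stem extension has trivial kernel, the multiplier is trivial. -/
theorem hasCyclicSchurMultiplier_one (Q : Type u) [Group Q] [Finite Q]
    (h : ∀ (Γ : Type u) [Group Γ] [Finite Γ] (σ : Γ →* Q), Cfsg.IsStemExtension σ → σ.ker = ⊥) :
    Cfsg.HasCyclicSchurMultiplier Q 1 := by
  refine ⟨exists_trivial_stem Q, ?_⟩
  intro Γ _ _ σ hσ
  have hbot := h Γ σ hσ
  refine ⟨1, ?_⟩
  intro y
  refine ⟨1, ?_⟩
  have hy : (y : Γ) ∈ (⊥ : Subgroup Γ) := hbot ▸ y.2
  rw [Subgroup.mem_bot] at hy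
  exact Subtype.ext hy.symm

/-- a cyclic group of order `d` is isomorphic to `Multiplicative (ZMod d)`. -/
theorem nonempty_mulEquiv_zmod {K : Type*} [Group K] [IsCyclic K] {d : ℕ} (h : Nat.card K = d) :
    Nonempty (K ≃* Multiplicative (ZMod d)) := by
  subst h
  exact ⟨(zmodCyclicMulEquiv (G := K) inferInstance).symm⟩

/-- an element killed by `2` and by an odd number is trivial. -/
theorem eq_one_of_sq_of_odd_pow {Γ : Type*} [Group Γ] {z : Γ} (h2 : z ^ 2 = 1) {n : ℕ}
    (hn : Odd n) (hzn : z ^ n = 1) : z = 1 := by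
  obtain ⟨k, rfl⟩ := hn
  rw [pow_succ, pow_mul, h2, one_pow, one_mul] at hzn
  exact hzn

end Cfsg.Agent.Lib.Helper5
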