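import Mathlib
import Cfsg.Agent.Lib.Helper5.LEA
import Cfsg.Agent.Lib.Helper5.PCoreOf

set_option autoImplicit false
set_option linter.unusedSectionVars false
set_option linter.unusedVariables false

namespace Cfsg.Agent.Lib.Helper5.ES

open Subgroup

variable {G : Type*} [Group G]

/-- a system of extraspecial subgroups `Q u` attached to the conjugates `u` of an involution. -/
structure QSys (Q : G → Subgroup G) (z : G) : Prop where
  es : ∀ g : G, ESData (Q (g * z * g⁻¹)) (g * z * g⁻¹)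
  nrm : ∀ u c : G, c * u = u * c → ∀ q ∈ Q u, c * q * c⁻¹ ∈ Q u
  cen : ∀ g : G, ∀ c, (∀ q ∈ Q (g * z * g⁻¹), c * q = q * c) → c = 1 ∨ c = g * z * g⁻¹
  cnj : ∀ u h : G, ∀ q ∈ Q u, h * q * h⁻¹ ∈ Q (h * u * h⁻¹)

/-- the system of `O_2(C_G(u))`. -/
theorem QSys.of_pCore [Finite G] (Q : G → Subgroup G)
    (hQ : ∀ x : G, Q x = (Cfsg.pCore 2 ↥(Subgroup.centralizer ({x} : Set G))).map
      (Subgroup.centralizer ({x} : Set G)).subtype)
    (z : G) (hz : orderOf z = 2) (hE : Cfsg.IsExtraspecial 2 ↥(Q z))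
    (hC : Subgroup.centralizer ((Q z : Subgroup G) : Set G) ≤ Q z) : QSys Q z := by
  classical
  have h2 : Fact (Nat.Prime 2) := ⟨Nat.prime_two⟩
  have hQconj : ∀ u h : G, Q (h * u * h⁻¹) = (Q u).map (MulAut.conj h).toMonoidHom := by
    intro u h
    rw [hQ (h * u * h⁻¹), hQ u]
    have e := Cfsg.Agent.Lib.Helper5.PCoreOf.centralizer_conj u h
    rw [e]
    exact Cfsg.Agent.Lib.Helper5.PCoreOf.map_conj 2 _ h
  have hzz : z * z = 1 := by
    have := pow_orderOf_eq_one z
    rw [hz, pow_two] at this; exact this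
  have hz1 : z ≠ 1 := by
    intro hh; rw [hh, orderOf_one] at hz; norm_num at hz
  have hQzle : Q z ≤ Subgroup.centralizer ({z} : Set G) := by
    rw [hQ z]; exact Cfsg.Agent.Lib.Helper5.PCoreOf.le_self 2 _
  have hQzcomm : ∀ q ∈ Q z, q * z = z * q := fun q hq =>
    Subgroup.mem_centralizer_singleton_iff.mp (hQzle hq)
  have hzQ : z ∈ Q z := by
    apply hC
    rw [Subgroup.mem_centralizer_iff]
    intro q hq
    exact hQzcomm q hq
  have hzc : (⟨z, hzQ⟩ : ↥(Q z)) ∈ Subgroup.center ↥(Q z) := by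
    rw [Subgroup.mem_center_iff]
    rintro ⟨q, hq⟩
    apply Subtype.ext
    exact hQzcomm q hq
  have hz1' : (⟨z, hzQ⟩ : ↥(Q z)) ≠ 1 := by
    intro hh
    exact hz1 (congrArg Subtype.val hh)
  have hES0 := ESData.ofExtraspecial hE _ hzc hz1'
  have hES1 := hES0.map (Q z).subtype (Subgroup.subtype_injective _)
  have htop : (⊤ : Subgroup ↥(Q z)).map (Q z).subtype = Q z := by
    rw [← MonoidHom.range_eq_map, Subgroup.range_subtype]
  rw [htop] at hES1
  have hESz : ESData (Q z) z := hES1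
  have hcenz : ∀ c, (∀ q ∈ Q z, c * q = q * c) → c = 1 ∨ c = z := by
    intro c hc
    have hcQ : c ∈ Q z := by
      apply hC
      rw [Subgroup.mem_centralizer_iff]
      intro q hq
      exact (hc q hq).symm
    exact hESz.cen c hcQ hc
  refine ⟨?_, ?_, ?_, ?_⟩
  · intro g
    have := hESz.map (MulAut.conj g).toMonoidHom (MulAut.conj g).injective
    rw [← hQconj z g] at this
    exact this
  · intro u c hc q hq
    rw [hQ u] at hq ⊢
    exact Cfsg.Agent.Lib.Helper5.PCoreOf.conj_mem 2 _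
      (Subgroup.mem_centralizer_singleton_iff.mpr hc) hq
  · intro g c hc
    have hc' : ∀ q ∈ Q z, (g⁻¹ * c * g) * q = q * (g⁻¹ * c * g) := by
      intro q hq
      have hgq : g * q * g⁻¹ ∈ Q (g * z * g⁻¹) := by
        rw [hQconj z g]; exact ⟨q, hq, rfl⟩
      have := hc _ hgq
      calc (g⁻¹ * c * g) * q = g⁻¹ * (c * (g * q * g⁻¹)) * g := by group
        _ = g⁻¹ * ((g * q * g⁻¹) * c) * g := by rw [this]
        _ = q * (g⁻¹ * c * g) := by group
    rcases hcenz _ hc' with h1 | h1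
    · left
      calc c = g * (g⁻¹ * c * g) * g⁻¹ := by group
        _ = 1 := by rw [h1]; group
    · right
      calc c = g * (g⁻¹ * c * g) * g⁻¹ := by group
        _ = g * z * g⁻¹ := by rw [h1]
  · intro u h q hq
    rw [hQconj u h]
    exact ⟨q, hq, rfl⟩

variable {Q : G → Subgroup G} {z : G}

/-- two distinct orthogonal singular elements give an `LE` pair. -/
theorem QSys.le (S : QSys Q z) {u v : G} (hu : ∃ g : G, g * z * g⁻¹ = u)
    (hv : ∃ g : G, g * z * g⁻¹ = v) (huv : v ≠ u) (hvu : v ∈ Q u) (huv' : u ∈ Q v) :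
    LE (Q u) (Q v) u v := by
  obtain ⟨g, rfl⟩ := hu
  obtain ⟨k, rfl⟩ := hv
  refine ⟨S.es g, S.es k, hvu, huv', huv, S.nrm _, S.nrm _, S.cen g, S.cen k, ?_, ?_⟩
  · intro h hh q hq
    have := S.cnj _ h q hq
    rwa [hh] at this
  · intro h hh p hp
    have := S.cnj _ h p hp
    rwa [hh] at this

end Cfsg.Agent.Lib.Helper5.ES
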