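import Mathlib
import Cfsg.Agent.Lib.Helper5.SingA
import Cfsg.Agent.Lib.Helper5.LEH

set_option autoImplicit false
set_option linter.unusedSectionVars false
set_option linter.unusedVariables false

namespace Cfsg.Agent.Lib.Helper5.ES

open Subgroup

variable {G : Type*} [Group G] {Q : G → Subgroup G} {z : G}

/-- `Q_u ∩ Q_v ≤ Q_{uv}` for orthogonal singular `u ≠ v`. -/
theorem QSys.inf_le_mul (S : QSys Q z) {u v : G} (hu : ∃ g : G, g * z * g⁻¹ = u)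
    (hv : ∃ g : G, g * z * g⁻¹ = v) (huv : v ≠ u) (hvu : v ∈ Q u) (huv' : u ∈ Q v) :
    Q u ⊓ Q v ≤ Q (u * v) := by
  have L := S.le hu hv huv hvu huv'
  obtain ⟨r0, hr0, hr0x, hr0z⟩ := L.exists_r
  intro e he
  have he' : r0⁻¹ * e * r0 ∈ Q u := by
    rcases L.hP.comm r0⁻¹ (Subgroup.inv_mem _ hr0) e he.2 with h1 | h1
    · have : r0⁻¹ * e * r0 = (r0⁻¹ * e * r0⁻¹⁻¹ * e⁻¹) * e := by group
      rw [this, h1, one_mul]; exact he.1
    · have : r0⁻¹ * e * r0 = (r0⁻¹ * e * r0⁻¹⁻¹ * e⁻¹) * e := by group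
      rw [this, h1]; exact Subgroup.mul_mem _ hvu he.1
  have := S.cnj u r0 _ he'
  rw [hr0z] at this
  have e1 : r0 * (r0⁻¹ * e * r0) * r0⁻¹ = e := by group
  rwa [e1] at this

end Cfsg.Agent.Lib.Helper5.ES
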