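import Mathlib
import Cfsg.Agent.Lib.Helper5.ESY

set_option autoImplicit false
set_option linter.unusedSectionVars false
set_option linter.unusedVariables false

namespace Cfsg.Agent.Lib.Helper5.ES

open Subgroup

variable {G : Type*} [Group G]

/-- the subgroup `A ∪ wA` of an elementary abelian 2-group. -/
def adjoin2 {U : Type*} [Group U] (hcomm : ∀ a b : U, a * b = b * a) (hsq : ∀ a : U, a * a = 1)
    (A : Subgroup U) (w : U) : Subgroup U where
  carrier := {y | y ∈ A ∨ w * y ∈ A}
  one_mem' := Or.inl A.one_mem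
  mul_mem' := by
    rintro y1 y2 (h1 | h1) (h2 | h2)
    · exact Or.inl (A.mul_mem h1 h2)
    · right
      have : w * (y1 * y2) = y1 * (w * y2) := by
        rw [← mul_assoc, hcomm w y1, mul_assoc]
      rw [this]; exact A.mul_mem h1 h2
    · right
      rw [← mul_assoc]; exact A.mul_mem h1 h2
    · left
      have : y1 * y2 = (w * y1) * (w * y2) := by
        calc y1 * y2 = (w * w) * (y1 * y2) := by rw [hsq, one_mul]
          _ = w * (w * y1) * y2 := by rw [mul_assoc, mul_assoc, mul_assoc]
          _ = w * (y1 * w) * y2 := by rw [hcomm w y1]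
          _ = (w * y1) * (w * y2) := by rw [mul_assoc, mul_assoc, mul_assoc]
      rw [this]; exact A.mul_mem h1 h2
  inv_mem' := by
    intro y hy
    have : y⁻¹ = y := inv_eq_of_mul_eq_one_left (hsq y)
    rw [this]; exact hy

theorem mem_adjoin2 {U : Type*} [Group U] (hcomm : ∀ a b : U, a * b = b * a)
    (hsq : ∀ a : U, a * a = 1) (A : Subgroup U) (w y : U) :
    y ∈ adjoin2 hcomm hsq A w ↔ y ∈ A ∨ w * y ∈ A := Iff.rfl

/-- In the singular setting, the join `LU` of the `Q w` induces every automorphism of `U`. -/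
theorem aut_induced [Finite G] (U LU : Subgroup G) (hU2 : ∀ u ∈ U, u * u = 1)
    (hLN : LU ≤ normalizer (U : Set G)) (Qf : G → Subgroup G)
    (hES : ∀ w ∈ U, w ≠ 1 → ESData (Qf w) w) (hUQ : ∀ w ∈ U, w ≠ 1 → U ≤ Qf w)
    (hQL : ∀ w ∈ U, w ≠ 1 → Qf w ≤ LU) :
    ∀ φ : ↥U ≃* ↥U, ∃ g ∈ LU, ∀ u : ↥U, g * (u : G) * g⁻¹ = ((φ u : ↥U) : G) := by
  classical
  have hsq : ∀ a : ↥U, a * a = 1 := fun a => Subtype.ext (hU2 a a.2)
  have hinv : ∀ a : ↥U, a⁻¹ = a := fun a => inv_eq_of_mul_eq_one_left (hsq a)
  have hcomm : ∀ a b : ↥U, a * b = b * a := by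
    intro a b
    have h1 := hsq (a * b)
    calc a * b = a * ((a * b) * (a * b)) * b := by rw [h1, mul_one]
      _ = (a * a) * (b * a) * (b * b) := by group
      _ = b * a := by rw [hsq, hsq, one_mul, mul_one]
  -- the property
  let P : Subgroup ↥U → Prop := fun A =>
    ∀ φ : ↥U ≃* ↥U, ∃ g ∈ LU, ∀ a ∈ A, g * ((φ a : ↥U) : G) * g⁻¹ = (a : G)
  -- extension step
  have step : ∀ (A : Subgroup ↥U) (u : ↥U), P A → u ∉ A → P (A ⊔ zpowers u) := by
    intro A u hPA huA φ
    obtain ⟨g, hg, hgA⟩ := hPA φ
    have hgn := mem_normalizer_iff.mp (hLN hg)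
    -- fixed subgroup helper
    have hfix : ∀ k : G, (∀ a ∈ A, k * ((φ a : ↥U) : G) * k⁻¹ = (a : G)) →
        k * ((φ u : ↥U) : G) * k⁻¹ = (u : G) →
        ∀ a ∈ A ⊔ zpowers u, k * ((φ a : ↥U) : G) * k⁻¹ = (a : G) := by
      intro k hkA hku
      let F : Subgroup ↥U :=
        { carrier := {y | k * ((φ y : ↥U) : G) * k⁻¹ = (y : G)}
          one_mem' := by
            show k * ((φ 1 : ↥U) : G) * k⁻¹ = ((1 : ↥U) : G)
            rw [map_one]; simp
          mul_mem' := by
            intro a b ha hb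
            show k * ((φ (a * b) : ↥U) : G) * k⁻¹ = ((a * b : ↥U) : G)
            rw [map_mul, Subgroup.coe_mul, Subgroup.coe_mul]
            have ha' : k * ((φ a : ↥U) : G) * k⁻¹ = (a : G) := ha
            have hb' : k * ((φ b : ↥U) : G) * k⁻¹ = (b : G) := hb
            calc k * (((φ a : ↥U) : G) * ((φ b : ↥U) : G)) * k⁻¹
                = (k * ((φ a : ↥U) : G) * k⁻¹) * (k * ((φ b : ↥U) : G) * k⁻¹) := by group
              _ = (a : G) * b := by rw [ha', hb']
          inv_mem' := by
            intro a ha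
            rw [hinv a]; exact ha }
      have hle : A ⊔ zpowers u ≤ F := by
        apply sup_le
        · intro a ha; exact hkA a ha
        · rw [zpowers_le]; exact hku
      intro a ha
      exact hle ha
    -- v = g φ(u) g⁻¹
    have hvU : g * ((φ u : ↥U) : G) * g⁻¹ ∈ U := (hgn _).mp (φ u).2
    obtain ⟨v, hv⟩ : ∃ v : ↥U, (v : G) = g * ((φ u : ↥U) : G) * g⁻¹ := ⟨⟨_, hvU⟩, rfl⟩
    have hvA : v ∉ A := by
      intro hvA
      have h1 := hgA v hvA
      have h2 : ((φ v : ↥U) : G) = ((φ u : ↥U) : G) := by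
        have : g * ((φ v : ↥U) : G) * g⁻¹ = g * ((φ u : ↥U) : G) * g⁻¹ := by rw [h1, hv]
        simpa using this
      have h3 : v = u := φ.injective (Subtype.ext h2)
      exact huA (h3 ▸ hvA)
    by_cases hvu : v = u
    · refine ⟨g, hg, hfix g hgA ?_⟩
      rw [← hv, hvu]
    · -- the transvection
      obtain ⟨w, hw⟩ : ∃ w : ↥U, w = v * u := ⟨_, rfl⟩
      have hw1 : (w : G) ≠ 1 := by
        intro h
        apply hvu
        have h' : w = 1 := Subtype.ext h
        rw [hw] at h'
        calc v = v * (u * u) := by rw [hsq, mul_one]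
          _ = (v * u) * u := by group
          _ = u := by rw [h', one_mul]
      have hwv : w * v = u := by
        rw [hw, hcomm v u, mul_assoc, hsq, mul_one]
      have hESw := hES w w.2 hw1
      let B : Subgroup ↥U := adjoin2 hcomm hsq A w
      have hwB : w ∈ B := Or.inr (by rw [hsq]; exact A.one_mem)
      have hAB : A ≤ B := fun a ha => Or.inl ha
      have hvB : v ∉ B := by
        rintro (h | h)
        · exact hvA h
        · rw [hwv] at h; exact huA h
      have hB'le : B.map U.subtype ≤ Qf w := by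
        rintro _ ⟨b, _, rfl⟩
        exact hUQ w w.2 hw1 b.2
      have hwB' : (w : G) ∈ B.map U.subtype := ⟨w, hwB, rfl⟩
      have hdc := hESw.double_centralizer_subgroup (B.map U.subtype) hB'le hwB'
      have hvQ : (v : G) ∈ Qf w := hUQ w w.2 hw1 v.2
      have hex : ∃ g' ∈ Qf w ⊓ centralizer ((B.map U.subtype : Subgroup G) : Set G),
          g' * (v : G) ≠ (v : G) * g' := by
        by_contra hcon
        push Not at hcon
        apply hvB
        have : (v : G) ∈ B.map U.subtype := by
          rw [← hdc]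
          refine mem_inf.mpr ⟨hvQ, ?_⟩
          rw [mem_centralizer_iff]
          intro y hy
          exact hcon y hy
        obtain ⟨b, hb, hbv⟩ := this
        have : b = v := Subtype.ext hbv
        rw [← this]; exact hb
      obtain ⟨g', hg', hg'v⟩ := hex
      have hg'' := mem_inf.mp hg'
      have hg'A : ∀ a ∈ A, g' * (a : G) * g'⁻¹ = (a : G) := by
        intro a ha
        have hmem : (a : G) ∈ B.map U.subtype := ⟨a, hAB ha, rfl⟩
        have := mem_centralizer_iff.mp hg''.2 _ hmem
        calc g' * (a : G) * g'⁻¹ = ((a : G) * g') * g'⁻¹ := by rw [this]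
          _ = a := by group
      have hg'v' : g' * (v : G) * g'⁻¹ = (u : G) := by
        rcases hESw.comm g' hg''.1 v hvQ with h1 | h1
        · exact absurd (comm_eq_one_iff.mp h1) hg'v
        · calc g' * (v : G) * g'⁻¹ = (g' * (v : G) * g'⁻¹ * (v : G)⁻¹) * v := by group
            _ = (w : G) * v := by rw [h1]
            _ = ((w * v : ↥U) : G) := rfl
            _ = u := by rw [hwv]
      refine ⟨g' * g, LU.mul_mem (hQL w w.2 hw1 hg''.1) hg, hfix (g' * g) ?_ ?_⟩
      · intro a ha
        calc g' * g * ((φ a : ↥U) : G) * (g' * g)⁻¹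
            = g' * (g * ((φ a : ↥U) : G) * g⁻¹) * g'⁻¹ := by group
          _ = g' * (a : G) * g'⁻¹ := by rw [hgA a ha]
          _ = a := hg'A a ha
      · calc g' * g * ((φ u : ↥U) : G) * (g' * g)⁻¹
            = g' * (g * ((φ u : ↥U) : G) * g⁻¹) * g'⁻¹ := by group
          _ = g' * (v : G) * g'⁻¹ := by rw [hv]
          _ = u := hg'v'
  -- induction on the codimension
  have hfinU : Finite ↥U := inferInstance
  have ind : ∀ n : ℕ, ∀ A : Subgroup ↥U, P A → Nat.card ↥U ≤ Nat.card ↥A + n → P ⊤ := by
    intro n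
    induction n with
    | zero =>
      intro A hPA hcard
      have : A = ⊤ := by
        apply Subgroup.eq_top_of_card_eq
        exact le_antisymm (Subgroup.card_le_card_group A) (by simpa using hcard)
      rw [← this]; exact hPA
    | succ n ih =>
      intro A hPA hcard
      by_cases hA : A = ⊤
      · rw [← hA]; exact hPA
      · have : ∃ u : ↥U, u ∉ A := by
          by_contra hcon
          push Not at hcon
          exact hA (eq_top_iff.mpr (fun u _ => hcon u))
        obtain ⟨u, hu⟩ := this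
        have hP' := step A u hPA hu
        have hlt : A < A ⊔ zpowers u := by
          apply lt_of_le_of_ne le_sup_left
          intro h
          apply hu
          rw [h]
          exact (le_sup_right : zpowers u ≤ A ⊔ zpowers u) (mem_zpowers u)
        have hcardlt : Nat.card ↥A < Nat.card ↥(A ⊔ zpowers u) := by
          have h1 : Nat.card ↥A ≤ Nat.card ↥(A ⊔ zpowers u) := Subgroup.card_le_of_le hlt.le
          rcases Nat.lt_or_ge (Nat.card ↥A) (Nat.card ↥(A ⊔ zpowers u)) with h | h
          · exact h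
          · exfalso
            exact hlt.ne (Subgroup.eq_of_le_of_card_ge hlt.le h)
        apply ih (A ⊔ zpowers u) hP'
        omega
  have hPbot : P ⊥ := by
    intro φ
    refine ⟨1, LU.one_mem, ?_⟩
    intro a ha
    rw [mem_bot] at ha
    rw [ha, map_one]; simp
  have hPtop := ind (Nat.card ↥U) ⊥ hPbot (by omega)
  intro φ
  obtain ⟨g, hg, hgall⟩ := hPtop φ
  refine ⟨g⁻¹, LU.inv_mem hg, ?_⟩
  intro u
  have := hgall u (mem_top u)
  rw [← this]; group

end Cfsg.Agent.Lib.Helper5.ES
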