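import Mathlib
import Cfsg.Agent.Lib.Helper5.SpecFibre

namespace Cfsg.Agent.Lib.Helper5.Spec

open Matrix

theorem exists_large (N : ℕ) : ∃ (H : Type) (_ : Group H) (_ : Fintype H), N < Fintype.card H ∧
    Set.range (orderOf : H → ℕ) = {1, 2, 3, 4, 5} := by
  classical
  let F := GaloisField 2 2
  letI : Fintype F := Fintype.ofFinite F
  have hF : Fintype.card F = 4 := by
    have := GaloisField.card 2 2 (by norm_num)
    rw [Nat.card_eq_fintype_card] at this
    rw [this]; norm_num
  set k : ℕ := N + 1 with hk
  let H := fibreGroup k F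
  letI : Fintype H := Fintype.ofFinite H
  refine ⟨H, inferInstance, inferInstance, ?_, ?_⟩
  · -- cardinality
    have hd : ∀ x : F, (1 : F) * 1 - 0 * 0 = 1 := fun _ => by ring
    let φ : (Fin k → F) → H := fun x =>
      ⟨fun i => affSL 1 0 0 1 (x i) 0 (hd (x i)),
        ⟨fun i => affSL_isAff _ _ _ _ _ _ _, fun i j => by simp [lin, affSL, affMat]⟩⟩
    have hφ : Function.Injective φ := by
      intro x y hxy
      funext i
      have h1 := congrArg (fun h : H => ((h : Fin k → Matrix.SpecialLinearGroup (Fin 3) F) i :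
        Matrix (Fin 3) (Fin 3) F) 0 2) hxy
      simpa [φ, affSL, affMat] using h1
    have hcard := Fintype.card_le_of_injective φ hφ
    rw [Fintype.card_fun, hF, Fintype.card_fin] at hcard
    have : N < 4 ^ k := by
      calc N < N + 1 := Nat.lt_succ_self N
        _ = k := rfl
        _ < 4 ^ k := Nat.lt_pow_self (by norm_num)
    omega
  · apply Set.Subset.antisymm
    · rintro _ ⟨x, rfl⟩
      rw [← Subgroup.orderOf_coe]
      apply orderOf_mem_of_pow
      exact fibre_pow hF _ x.2
    · intro n hn
      obtain ⟨M, hM, hord⟩ := exists_orders hF n hn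
      refine ⟨⟨fun _ => M, ⟨fun _ => hM, fun _ _ => rfl⟩⟩, ?_⟩
      rw [← Subgroup.orderOf_coe, ← hord]
      -- order of a constant tuple
      let c : Matrix.SpecialLinearGroup (Fin 3) F →* (Fin k → Matrix.SpecialLinearGroup (Fin 3) F) :=
        { toFun := fun M _ => M, map_one' := rfl, map_mul' := fun _ _ => rfl }
      have hc : Function.Injective c := by
        intro A B hAB
        exact congrFun hAB ⟨0, Nat.succ_pos N⟩
      exact orderOf_injective c hc M

end Cfsg.Agent.Lib.Helper5.Spec
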