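import Mathlib

set_option autoImplicit false
open scoped commutatorElement

/-! Small tools for working with central / stem extensions by hand. -/

namespace Cfsg.Agent.Lib.Helper5

variable {Γ : Type*} [Group Γ]

/-- a subgroup of the centre is normal. -/
theorem normal_of_le_center (H : Subgroup Γ) (h : H ≤ Subgroup.center Γ) : H.Normal :=
  ⟨fun n hn g => by
    have := Subgroup.mem_center_iff.1 (h hn) g
    rw [this, mul_inv_cancel_right]
    exact hn⟩

/-- if `Γ` is generated by a set whose elements commute pairwise modulo the normal subgroup `N`,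
then `N` contains the commutator subgroup. -/
theorem commutator_le_of_closure (N : Subgroup Γ) [N.Normal] (S : Set Γ)
    (hS : Subgroup.closure S = ⊤) (h : ∀ a ∈ S, ∀ b ∈ S, ⁅a, b⁆ ∈ N) : commutator Γ ≤ N := by
  rw [← Subgroup.Normal.quotient_commutative_iff_commutator_le]
  let π := QuotientGroup.mk' N
  have hk : ∀ u ∈ π '' S, ∀ v ∈ π '' S, u * v = v * u := by
    rintro _ ⟨u, hu, rfl⟩ _ ⟨v, hv, rfl⟩
    have := h u hu v hv
    rw [← QuotientGroup.eq_one_iff, ← QuotientGroup.mk'_apply, map_commutatorElement,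
      commutatorElement_eq_one_iff_mul_comm] at this
    exact this
  have hcl : Subgroup.closure (π '' S) = ⊤ := by
    rw [← MonoidHom.map_closure, hS, ← MonoidHom.range_eq_map, MonoidHom.range_eq_top]
    exact QuotientGroup.mk'_surjective N
  have hcomm := Subgroup.isMulCommutative_closure hk
  refine ⟨⟨fun u v => ?_⟩⟩
  have hu : u ∈ Subgroup.closure (π '' S) := by rw [hcl]; trivial
  have hv : v ∈ Subgroup.closure (π '' S) := by rw [hcl]; trivial
  exact setLike_mul_comm hu hv

/-- generators of the image together with the kernel generate. -/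
theorem closure_union_ker_eq_top {G : Type*} [Group G] (σ : Γ →* G) (S : Set Γ)
    (hS : Subgroup.closure (σ '' S) = ⊤) : Subgroup.closure (S ∪ (σ.ker : Set Γ)) = ⊤ := by
  set H := Subgroup.closure (S ∪ (σ.ker : Set Γ)) with hH
  have hker : σ.ker ≤ H := by
    intro k hk
    exact Subgroup.subset_closure (Or.inr hk)
  have hmap : H.map σ = ⊤ := by
    rw [eq_top_iff, ← hS, Subgroup.closure_le]
    rintro _ ⟨s, hs, rfl⟩
    exact ⟨s, Subgroup.subset_closure (Or.inl hs), rfl⟩
  rw [eq_top_iff]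
  intro g _
  have : σ g ∈ H.map σ := by rw [hmap]; trivial
  obtain ⟨h, hh, hhg⟩ := this
  have hk : h⁻¹ * g ∈ σ.ker := by
    rw [MonoidHom.mem_ker, map_mul, map_inv, hhg, inv_mul_cancel]
  have : g = h * (h⁻¹ * g) := by group
  rw [this]
  exact H.mul_mem hh (hker hk)

/-- if `⁅x, y⁆` is central then `x y^j x⁻¹ = ⁅x,y⁆^j y^j`. -/
theorem conj_pow_of_central {x y : Γ} (hc : ⁅x, y⁆ ∈ Subgroup.center Γ) (j : ℕ) :
    x * y ^ j * x⁻¹ = ⁅x, y⁆ ^ j * y ^ j := by
  have h1 : x * y * x⁻¹ = ⁅x, y⁆ * y := by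
    rw [commutatorElement_def]; group
  have h2 : x * y ^ j * x⁻¹ = (x * y * x⁻¹) ^ j := (conj_pow (a := x) (b := y) (i := j)).symm
  have hcomm : Commute ⁅x, y⁆ y := (Subgroup.mem_center_iff.1 hc y).symm
  rw [h2, h1, hcomm.mul_pow]

/-- if `⁅x, y⁆` is central and `y ^ n` is central then `⁅x, y⁆ ^ n = 1`. -/
theorem commutator_pow_eq_one {x y : Γ} (hc : ⁅x, y⁆ ∈ Subgroup.center Γ) {n : ℕ}
    (hy : y ^ n ∈ Subgroup.center Γ) : ⁅x, y⁆ ^ n = 1 := by
  have h1 := conj_pow_of_central hc n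
  have h2 : x * y ^ n * x⁻¹ = y ^ n := by
    rw [Subgroup.mem_center_iff.1 hy x, mul_inv_cancel_right]
  rw [h2] at h1
  exact (mul_eq_right.1 h1.symm)

/-- a cyclic group of exponent dividing `n` is a quotient of `ZMod n`. -/
theorem exists_surjective_of_isCyclic {K : Type*} [Group K] [IsCyclic K] (n : ℕ) [NeZero n]
    (h : ∀ k : K, k ^ n = 1) :
    ∃ π : Multiplicative (ZMod n) →* K, Function.Surjective π := by
  obtain ⟨k₀, hk₀⟩ := IsCyclic.exists_generator (α := K)
  have hk₀n : k₀ ^ n = 1 := h k₀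
  let π : Multiplicative (ZMod n) →* K :=
    { toFun := fun a => k₀ ^ (Multiplicative.toAdd a).val
      map_one' := by simp
      map_mul' := by
        intro a b
        rw [toAdd_mul, ZMod.val_add, ← pow_eq_pow_mod _ hk₀n, pow_add] }
  refine ⟨π, ?_⟩
  intro k
  obtain ⟨i, rfl⟩ := Subgroup.mem_zpowers_iff.1 (hk₀ k)
  refine ⟨Multiplicative.ofAdd (i : ZMod n), ?_⟩
  show k₀ ^ ((i : ZMod n)).val = k₀ ^ i
  rw [← zpow_natCast, ZMod.val_intCast]
  have : k₀ ^ i = k₀ ^ (i % (n : ℤ)) := by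
    conv_lhs => rw [← Int.emod_add_mul_ediv i n, zpow_add, zpow_mul, zpow_natCast, hk₀n, one_zpow,
      mul_one]
  rw [this]

end Cfsg.Agent.Lib.Helper5
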