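import Mathlib

set_option autoImplicit false
set_option linter.unusedSectionVars false
set_option linter.unusedVariables false

namespace Cfsg.Agent.Lib.Helper5.TIFamily

open Subgroup

variable {G : Type*} [Group G]

/-- the conjugate subgroup `s X s⁻¹`. -/
def cj (s : G) (X : Subgroup G) : Subgroup G := X.map (MulAut.conj s).toMonoidHom

theorem mem_cj {s y : G} {X : Subgroup G} : y ∈ cj s X ↔ s⁻¹ * y * s ∈ X := by
  unfold cj
  rw [mem_map]
  constructor
  · rintro ⟨x, hx, rfl⟩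
    simpa [mul_assoc] using hx
  · intro h
    exact ⟨s⁻¹ * y * s, h, by simp [mul_assoc]⟩

theorem conj_mem_cj {s x : G} {X : Subgroup G} (hx : x ∈ X) : s * x * s⁻¹ ∈ cj s X := by
  rw [mem_cj]; simpa [mul_assoc] using hx

theorem card_cj [Finite G] (s : G) (X : Subgroup G) : Nat.card (cj s X) = Nat.card X := by
  unfold cj
  exact Subgroup.card_map_of_injective (MulAut.conj s).injective

theorem cj_le {s : G} {X M : Subgroup G} (hX : X ≤ M) (hs : s ∈ M) : cj s X ≤ M := by
  intro y hy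
  rw [mem_cj] at hy
  have := M.mul_mem (M.mul_mem hs (hX hy)) (M.inv_mem hs)
  simpa [mul_assoc] using this

theorem cj_mono {s : G} {X Y : Subgroup G} (h : X ≤ Y) : cj s X ≤ cj s Y := by
  intro y hy
  rw [mem_cj] at hy ⊢
  exact h hy

/-- `cj s X = X` iff `s` normalizes `X` (finite case: one inclusion suffices). -/
theorem cj_eq_of_le [Finite G] {s : G} {X : Subgroup G} (h : cj s X ≤ X) : cj s X = X :=
  Subgroup.eq_of_le_of_card_ge h (by rw [card_cj])

/-- A proper subgroup of a finite `p`-subgroup lies in a proper subgroup normalized by it. -/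
theorem exists_normal_proper [Finite G] {p : ℕ} [Fact p.Prime] {S₀ X : Subgroup G}
    (hS : IsPGroup p S₀) (hX : X ≤ S₀) (hne : X ≠ S₀) :
    ∃ M : Subgroup G, X ≤ M ∧ M ≤ S₀ ∧ M ≠ S₀ ∧ ∀ s ∈ S₀, cj s M ≤ M := by
  have hX' : X.subgroupOf S₀ ≠ ⊤ := by
    intro h
    rw [subgroupOf_eq_top] at h
    exact hne (le_antisymm hX h)
  obtain ⟨M', hM', hXM'⟩ := (eq_top_or_exists_le_coatom (X.subgroupOf S₀)).resolve_left hX'
  have hnil : Group.IsNilpotent S₀ := hS.isNilpotent
  have hnorm : M'.Normal := (normalizerCondition_of_isNilpotent).normal_of_coatom _ hM'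
  refine ⟨M'.map S₀.subtype, ?_, map_subtype_le _, ?_, ?_⟩
  · intro x hx
    rw [mem_map]
    exact ⟨⟨x, hX hx⟩, hXM' (by rw [mem_subgroupOf]; exact hx), rfl⟩
  · intro h
    apply hM'.1
    rw [eq_top_iff]
    intro y _
    have : (y : G) ∈ M'.map S₀.subtype := by rw [h]; exact y.2
    rw [mem_map] at this
    obtain ⟨y', hy', hyy'⟩ := this
    have : y' = y := Subtype.ext hyy'
    rwa [this] at hy'
  · intro s hs y hy
    rw [mem_cj, mem_map] at hy
    obtain ⟨y', hy', hyy'⟩ := hy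
    rw [mem_map]
    refine ⟨⟨s, hs⟩ * y' * ⟨s, hs⟩⁻¹, hnorm.conj_mem y' hy' ⟨s, hs⟩, ?_⟩
    simp only [Subgroup.coe_subtype, Subgroup.coe_mul, Subgroup.coe_inv] at hyy' ⊢
    rw [hyy']
    group

end Cfsg.Agent.Lib.Helper5.TIFamily
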