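import Mathlib
import Cfsg.Agent.Lib.Helper5.TIFamilyA

set_option autoImplicit false
set_option linter.unusedSectionVars false
set_option linter.unusedVariables false

namespace Cfsg.Agent.Lib.Helper5.TIFamily

open Subgroup

variable {G : Type*} [Group G]

/-- elementwise commuting subgroups -/
def Comm (R T : Subgroup G) : Prop := ∀ r ∈ R, ∀ t ∈ T, r * t = t * r

theorem Comm.symm {R T : Subgroup G} (h : Comm R T) : Comm T R := fun t ht r hr => (h r hr t ht).symm

theorem cj_eq_iff [Finite G] {s : G} {X : Subgroup G} : cj s X = X ↔ s ∈ normalizer (X : Set G) := by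
  constructor
  · intro h
    rw [mem_normalizer_iff]
    intro y
    constructor
    · intro hy
      rw [← h]; exact conj_mem_cj hy
    · intro hy
      rw [← h, mem_cj] at hy
      have e : s⁻¹ * (s * y * s⁻¹) * s = y := by group
      rwa [e] at hy
  · intro h
    apply cj_eq_of_le
    intro y hy
    rw [mem_cj] at hy
    have := (mem_normalizer_iff.mp h (s⁻¹ * y * s)).mp hy
    have e : s * (s⁻¹ * y * s) * s⁻¹ = y := by group
    rwa [e] at this

/-- The data for a pair of members of the family. -/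
structure Pair (R T : Subgroup G) : Prop where
  tiR : ∀ t ∈ T, t ∉ normalizer (R : Set G) → R ⊓ cj t R = ⊥ ∧ Comm R (cj t R)
  tiT : ∀ r ∈ R, r ∉ normalizer (T : Set G) → T ⊓ cj r T = ⊥ ∧ Comm T (cj r T)
  inf : R ⊓ T = ⊥
  card : Nat.card R = Nat.card T
  pR : IsPGroup 2 R
  pT : IsPGroup 2 T

variable {R T : Subgroup G}

theorem Pair.symm (h : Pair R T) : Pair T R :=
  ⟨h.tiT, h.tiR, by rw [inf_comm]; exact h.inf, h.card.symm, h.pT, h.pR⟩

/-- `u = r⁻¹ (t r t⁻¹)` lies in `T ⊓ N(R)`. -/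
theorem Pair.mem_inf_normalizer (h : Pair R T) {t r : G} (ht : t ∈ T) (htn : t ∉ normalizer (R : Set G))
    (hr : r ∈ R) (hrn : r ∈ normalizer (T : Set G)) :
    r⁻¹ * (t * r * t⁻¹) ∈ T ⊓ normalizer (R : Set G) := by
  rw [Subgroup.mem_inf]
  constructor
  · have h1 : r⁻¹ * t * r⁻¹⁻¹ ∈ T := (mem_normalizer_iff.mp (inv_mem hrn) t).mp ht
    have e : r⁻¹ * (t * r * t⁻¹) = (r⁻¹ * t * r⁻¹⁻¹) * t⁻¹ := by group
    rw [e]
    exact T.mul_mem h1 (T.inv_mem ht)
  · have hc := (h.tiR t ht htn).2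
    -- u normalizes R
    have hu : ∀ y ∈ R, (r⁻¹ * (t * r * t⁻¹)) * y * (r⁻¹ * (t * r * t⁻¹))⁻¹ = r⁻¹ * y * r := by
      intro y hy
      have h1 := hc y hy (t * r * t⁻¹) (conj_mem_cj hr)
      calc (r⁻¹ * (t * r * t⁻¹)) * y * (r⁻¹ * (t * r * t⁻¹))⁻¹
          = r⁻¹ * ((t * r * t⁻¹) * y) * (t * r * t⁻¹)⁻¹ * r := by group
        _ = r⁻¹ * (y * (t * r * t⁻¹)) * (t * r * t⁻¹)⁻¹ * r := by rw [h1]
        _ = r⁻¹ * y * r := by group
    rw [mem_normalizer_iff]
    intro y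
    constructor
    · intro hy
      rw [hu y hy]
      exact R.mul_mem (R.mul_mem (R.inv_mem hr) hy) hr
    · intro hy
      -- y = u⁻¹ (u y u⁻¹) u, and u⁻¹ also conjugates R into R
      set u := r⁻¹ * (t * r * t⁻¹) with hudef
      have hu' : ∀ y ∈ R, u⁻¹ * y * u = (t * r * t⁻¹)⁻¹ * (r * y * r⁻¹) * (t * r * t⁻¹) := by
        intro y _
        rw [hudef]; group
      have hu'' : ∀ y ∈ R, u⁻¹ * y * u = r * y * r⁻¹ := by
        intro y hy'
        rw [hu' y hy']
        have hy2 : r * y * r⁻¹ ∈ R := R.mul_mem (R.mul_mem hr hy') (R.inv_mem hr)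
        have h1 := hc _ hy2 (t * r * t⁻¹) (conj_mem_cj hr)
        calc (t * r * t⁻¹)⁻¹ * (r * y * r⁻¹) * (t * r * t⁻¹)
            = (t * r * t⁻¹)⁻¹ * ((r * y * r⁻¹) * (t * r * t⁻¹)) := by group
          _ = (t * r * t⁻¹)⁻¹ * ((t * r * t⁻¹) * (r * y * r⁻¹)) := by rw [h1]
          _ = r * y * r⁻¹ := by group
      have := hu'' _ hy
      have e : u⁻¹ * (u * y * u⁻¹) * u = y := by group
      rw [e] at this
      rw [this]
      exact R.mul_mem (R.mul_mem hr hy) (R.inv_mem hr)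

/-- an element of `T` commuting with an element of `R` not normalizing `T` is trivial. -/
theorem Pair.eq_one_of_commute (h : Pair R T) {u r' : G} (hu : u ∈ T) (hr' : r' ∈ R)
    (hrn : r' ∉ normalizer (T : Set G)) (hc : r' * u = u * r') : u = 1 := by
  have h1 := (h.tiT r' hr' hrn).1
  have h2 : u ∈ T ⊓ cj r' T := by
    rw [Subgroup.mem_inf]
    refine ⟨hu, ?_⟩
    rw [mem_cj]
    have : r'⁻¹ * u * r' = u := by
      calc r'⁻¹ * u * r' = r'⁻¹ * (u * r') := by group
        _ = r'⁻¹ * (r' * u) := by rw [hc]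
        _ = u := by group
    rw [this]; exact hu
  rw [h1, mem_bot] at h2
  exact h2

end Cfsg.Agent.Lib.Helper5.TIFamily
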