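import Mathlib
import Cfsg.Agent.Lib.Helper5.TIFamilyB

set_option autoImplicit false
set_option linter.unusedSectionVars false
set_option linter.unusedVariables false

namespace Cfsg.Agent.Lib.Helper5.TIFamily

open Subgroup

variable {G : Type*} [Group G] [Finite G] {R T : Subgroup G}

/-- case (ii): `R` normalizes `T` but `T` does not normalize `R`: impossible by counting. -/
theorem Pair.false_of_le (h : Pair R T) (hRT : R ≤ normalizer (T : Set G)) {t : G} (ht : t ∈ T)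
    (htn : t ∉ normalizer (R : Set G)) : False := by
  have hinj : Function.Injective (fun r : R => (⟨(r : G)⁻¹ * (t * r * t⁻¹),
      h.mem_inf_normalizer ht htn r.2 (hRT r.2)⟩ : (T ⊓ normalizer (R : Set G) : Subgroup G))) := by
    intro a b hab
    have h1 : (a : G)⁻¹ * (t * a * t⁻¹) = (b : G)⁻¹ * (t * b * t⁻¹) := congrArg Subtype.val hab
    -- b a⁻¹ = t (b a⁻¹) t⁻¹ ∈ R ∩ cj t R
    have h2 : (b : G) * (a : G)⁻¹ = t * ((b : G) * (a : G)⁻¹) * t⁻¹ := by
      have : (b : G) * ((a : G)⁻¹ * (t * a * t⁻¹)) * (t * a * t⁻¹)⁻¹ =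
          (b : G) * ((b : G)⁻¹ * (t * b * t⁻¹)) * (t * a * t⁻¹)⁻¹ := by rw [h1]
      calc (b : G) * (a : G)⁻¹ = (b : G) * ((a : G)⁻¹ * (t * a * t⁻¹)) * (t * a * t⁻¹)⁻¹ := by group
        _ = (b : G) * ((b : G)⁻¹ * (t * b * t⁻¹)) * (t * a * t⁻¹)⁻¹ := this
        _ = t * ((b : G) * (a : G)⁻¹) * t⁻¹ := by group
    have h3 : (b : G) * (a : G)⁻¹ ∈ R ⊓ cj t R := by
      rw [Subgroup.mem_inf]
      refine ⟨R.mul_mem b.2 (R.inv_mem a.2), ?_⟩
      rw [h2]
      exact conj_mem_cj (R.mul_mem b.2 (R.inv_mem a.2))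
    rw [(h.tiR t ht htn).1, mem_bot] at h3
    apply Subtype.ext
    have : (b : G) = a := by
      calc (b : G) = (b : G) * (a : G)⁻¹ * a := by group
        _ = a := by rw [h3, one_mul]
    exact this.symm
  have hle := Nat.card_le_card_of_injective _ hinj
  have hlt : T ⊓ normalizer (R : Set G) ≠ T := by
    intro heq
    apply htn
    have : t ∈ T ⊓ normalizer (R : Set G) := by rw [heq]; exact ht
    exact (Subgroup.mem_inf.mp this).2
  apply hlt
  apply Subgroup.eq_of_le_of_card_ge inf_le_left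
  rw [← h.card]
  exact hle

/-- key step for case (iv-a). -/
theorem Pair.eq_one_of_commute' (h : Pair R T) {t r' r₁ : G} (ht : t ∈ T)
    (htn : t ∉ normalizer (R : Set G)) (hr' : r' ∈ R) (hrn : r' ∉ normalizer (T : Set G))
    (hr₁ : r₁ ∈ R) (hr₁n : r₁ ∈ normalizer (T : Set G)) (hc : r' * r₁ = r₁ * r') : r₁ = 1 := by
  have hu := h.mem_inf_normalizer ht htn hr₁ hr₁n
  have hcomm := (h.tiR t ht htn).2
  have hc2 : r' * (t * r₁ * t⁻¹) = (t * r₁ * t⁻¹) * r' := hcomm r' hr' _ (conj_mem_cj hr₁)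
  have hc3 : r' * r₁⁻¹ = r₁⁻¹ * r' := by
    calc r' * r₁⁻¹ = r₁⁻¹ * (r₁ * r') * r₁⁻¹ := by group
      _ = r₁⁻¹ * (r' * r₁) * r₁⁻¹ := by rw [hc]
      _ = r₁⁻¹ * r' := by group
  have hc4 : r' * (r₁⁻¹ * (t * r₁ * t⁻¹)) = (r₁⁻¹ * (t * r₁ * t⁻¹)) * r' := by
    calc r' * (r₁⁻¹ * (t * r₁ * t⁻¹)) = (r' * r₁⁻¹) * (t * r₁ * t⁻¹) := by group
      _ = (r₁⁻¹ * r') * (t * r₁ * t⁻¹) := by rw [hc3]
      _ = r₁⁻¹ * (r' * (t * r₁ * t⁻¹)) := by group
      _ = r₁⁻¹ * ((t * r₁ * t⁻¹) * r') := by rw [hc2]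
      _ = (r₁⁻¹ * (t * r₁ * t⁻¹)) * r' := by group
  have h1 := h.eq_one_of_commute (Subgroup.mem_inf.mp hu).1 hr' hrn hc4
  have h2 : r₁ = t * r₁ * t⁻¹ := by
    calc r₁ = r₁ * 1 := by rw [mul_one]
      _ = r₁ * (r₁⁻¹ * (t * r₁ * t⁻¹)) := by rw [h1]
      _ = t * r₁ * t⁻¹ := by group
  have h3 : r₁ ∈ R ⊓ cj t R := by
    rw [Subgroup.mem_inf]
    refine ⟨hr₁, ?_⟩
    rw [h2]; exact conj_mem_cj hr₁
  rw [(h.tiR t ht htn).1, mem_bot] at h3
  exact h3

/-- case (iv-a): impossible. -/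
theorem Pair.false_of_ne_bot (h : Pair R T) {t r' : G} (ht : t ∈ T)
    (htn : t ∉ normalizer (R : Set G)) (hr' : r' ∈ R) (hrn : r' ∉ normalizer (T : Set G))
    (hne : R ⊓ normalizer (T : Set G) ≠ ⊥) : False := by
  -- a nontrivial central element of R
  have hRne : R ≠ ⊥ := by
    rintro rfl
    apply hne
    simp
  have hnt : Nontrivial R := (Subgroup.nontrivial_iff_ne_bot R).mpr hRne
  have hcen := h.pR.center_nontrivial
  obtain ⟨⟨z, hzc⟩, hz⟩ := exists_ne (1 : center R)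
  have hz1 : (z : G) ≠ 1 := by
    intro hh; apply hz; exact Subtype.ext (Subtype.ext hh)
  have hzcomm : ∀ y ∈ R, (z : G) * y = y * (z : G) := by
    intro y hy
    have := (mem_center_iff.mp hzc) ⟨y, hy⟩
    have h2 := congrArg Subtype.val this
    simpa using h2.symm
  by_cases hzn : (z : G) ∈ normalizer (T : Set G)
  · exact hz1 (h.eq_one_of_commute' ht htn hr' hrn z.2 hzn (hzcomm r' hr').symm)
  · obtain ⟨r₁, hr₁, hr₁ne⟩ := (Subgroup.bot_or_exists_ne_one (R ⊓ normalizer (T : Set G))).resolve_left hne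
    have hr₁' := Subgroup.mem_inf.mp hr₁
    have : r₁ = 1 := h.eq_one_of_commute' ht htn z.2 hzn hr₁'.1 hr₁'.2 (hzcomm _ hr₁'.1)
    exact hr₁ne this

/-- case (iv-b): squares. -/
theorem Pair.false_of_sq (h : Pair R T) (hR0 : R ⊓ normalizer (T : Set G) = ⊥)
    (hT0 : T ⊓ normalizer (R : Set G) = ⊥) {x : G} (hx : x ∈ R) (hxx : x * x ≠ 1)
    (hTne : T ≠ ⊥) : False := by
  -- an involution in T
  have h2 : 2 ∣ Nat.card T := by
    obtain ⟨n, hn⟩ := IsPGroup.iff_card.mp h.pT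
    have hn0 : n ≠ 0 := by
      rintro rfl
      rw [pow_zero] at hn
      exact hTne ((Subgroup.card_eq_one).mp hn)
    rw [hn]; exact dvd_pow_self 2 hn0
  obtain ⟨t', ht'⟩ := exists_prime_orderOf_dvd_card' 2 h2
  set t : G := (t' : G) with htdef
  have ht : t ∈ T := t'.2
  have hto : orderOf t = 2 := by rw [htdef, Subgroup.orderOf_coe]; exact ht'
  have htt : t * t = 1 := by
    have := pow_orderOf_eq_one t
    rwa [hto, pow_two] at this
  have ht1 : t ≠ 1 := by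
    intro hh; rw [hh, orderOf_one] at hto; norm_num at hto
  have htn : t ∉ normalizer (R : Set G) := by
    intro hh
    have : t ∈ T ⊓ normalizer (R : Set G) := Subgroup.mem_inf.mpr ⟨ht, hh⟩
    rw [hT0, mem_bot] at this
    exact ht1 this
  have hx1 : x ≠ 1 := by
    rintro rfl; apply hxx; simp
  have hxn : x ∉ normalizer (T : Set G) := by
    intro hh
    have : x ∈ R ⊓ normalizer (T : Set G) := Subgroup.mem_inf.mpr ⟨hx, hh⟩
    rw [hR0, mem_bot] at this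
    exact hx1 this
  have hxxn : x * x ∉ normalizer (T : Set G) := by
    intro hh
    have : x * x ∈ R ⊓ normalizer (T : Set G) := Subgroup.mem_inf.mpr ⟨R.mul_mem hx hx, hh⟩
    rw [hR0, mem_bot] at this
    exact hxx this
  -- a = t x t⁻¹ commutes with x ; b = x t x⁻¹ commutes with t
  have ha : x * (t * x * t⁻¹) = (t * x * t⁻¹) * x := (h.tiR t ht htn).2 x hx _ (conj_mem_cj hx)
  have hb : t * (x * t * x⁻¹) = (x * t * x⁻¹) * t := (h.tiT x hx hxn).2 t ht _ (conj_mem_cj ht)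
  have hti : t⁻¹ = t := inv_eq_of_mul_eq_one_left htt
  -- (x t x⁻¹ t⁻¹)^2 computed two ways
  have e1 : (x * t * x⁻¹ * t⁻¹) * (x * t * x⁻¹ * t⁻¹) = 1 := by
    calc (x * t * x⁻¹ * t⁻¹) * (x * t * x⁻¹ * t⁻¹)
        = (x * t * x⁻¹) * (t⁻¹ * (x * t * x⁻¹)) * t⁻¹ := by group
      _ = (x * t * x⁻¹) * (t * (x * t * x⁻¹)) * t := by rw [hti]
      _ = (x * t * x⁻¹) * ((x * t * x⁻¹) * t) * t := by rw [hb]
      _ = x * (t * t) * x⁻¹ * (t * t) := by group
      _ = 1 := by rw [htt]; group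
  have e2 : (x * t * x⁻¹ * t⁻¹) * (x * t * x⁻¹ * t⁻¹) = (x * x) * t * (x * x)⁻¹ * t⁻¹ := by
    have ha' : (t * x * t⁻¹)⁻¹ * x = x * (t * x * t⁻¹)⁻¹ := by
      calc (t * x * t⁻¹)⁻¹ * x = (t * x * t⁻¹)⁻¹ * (x * (t * x * t⁻¹)) * (t * x * t⁻¹)⁻¹ := by group
        _ = (t * x * t⁻¹)⁻¹ * ((t * x * t⁻¹) * x) * (t * x * t⁻¹)⁻¹ := by rw [ha]
        _ = x * (t * x * t⁻¹)⁻¹ := by group
    calc (x * t * x⁻¹ * t⁻¹) * (x * t * x⁻¹ * t⁻¹)
        = x * ((t * x * t⁻¹)⁻¹ * x) * (t * x * t⁻¹)⁻¹ := by group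
      _ = x * (x * (t * x * t⁻¹)⁻¹) * (t * x * t⁻¹)⁻¹ := by rw [ha']
      _ = (x * x) * t * (x * x)⁻¹ * t⁻¹ := by group
  have hcomm : (x * x) * t = t * (x * x) := by
    have : (x * x) * t * (x * x)⁻¹ * t⁻¹ = 1 := by rw [← e2, e1]
    calc (x * x) * t = ((x * x) * t * (x * x)⁻¹ * t⁻¹) * t * (x * x) := by group
      _ = t * (x * x) := by rw [this, one_mul]
  exact ht1 (h.eq_one_of_commute ht (R.mul_mem hx hx) hxxn hcomm)

/-- the core: a pair satisfying the hypotheses commutes. -/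
theorem Pair.comm (h : Pair R T) (hsqR : ∃ x ∈ R, x * x ≠ 1) (hsqT : ∃ x ∈ T, x * x ≠ 1) :
    Comm R T := by
  by_cases hT0 : T ≤ normalizer (R : Set G)
  · by_cases hR0 : R ≤ normalizer (T : Set G)
    · intro r hr t ht
      have h1 : r * t * r⁻¹ * t⁻¹ ∈ R ⊓ T := by
        rw [Subgroup.mem_inf]
        constructor
        · have := (mem_normalizer_iff.mp (hT0 ht) r⁻¹).mp (R.inv_mem hr)
          have e : r * t * r⁻¹ * t⁻¹ = r * (t * r⁻¹ * t⁻¹) := by group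
          rw [e]; exact R.mul_mem hr this
        · have := (mem_normalizer_iff.mp (hR0 hr) t).mp ht
          exact T.mul_mem this (T.inv_mem ht)
      rw [h.inf, mem_bot] at h1
      calc r * t = (r * t * r⁻¹ * t⁻¹) * t * r := by group
        _ = t * r := by rw [h1, one_mul]
    · exfalso
      obtain ⟨r, hr, hrn⟩ := SetLike.not_le_iff_exists.mp hR0
      exact h.symm.false_of_le hT0 hr hrn
  · obtain ⟨t, ht, htn⟩ := SetLike.not_le_iff_exists.mp hT0
    exfalso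
    by_cases hR0 : R ≤ normalizer (T : Set G)
    · exact h.false_of_le hR0 ht htn
    · obtain ⟨r, hr, hrn⟩ := SetLike.not_le_iff_exists.mp hR0
      by_cases hRb : R ⊓ normalizer (T : Set G) = ⊥
      · by_cases hTb : T ⊓ normalizer (R : Set G) = ⊥
        · obtain ⟨x, hx, hxx⟩ := hsqR
          have hTne : T ≠ ⊥ := by
            rintro rfl
            rw [mem_bot] at ht
            apply htn; rw [ht]; exact one_mem _
          exact h.false_of_sq hRb hTb hx hxx hTne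
        · exact h.symm.false_of_ne_bot hr hrn ht htn hTb
      · exact h.false_of_ne_bot ht htn hr hrn hRb

end Cfsg.Agent.Lib.Helper5.TIFamily
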