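import Mathlib
import Cfsg.Agent.Lib.Helper5.TIFamilyC

set_option autoImplicit false
set_option linter.unusedSectionVars false
set_option linter.unusedVariables false

namespace Cfsg.Agent.Lib.Helper5.TIFamily

open Subgroup

variable {G : Type*} [Group G] [Finite G]

/-- hypotheses on the family (ambient version). -/
structure Hyp (S₀ : Subgroup G) (Δ : Set (Subgroup G)) : Prop where
  le : ∀ R ∈ Δ, R ≤ S₀
  inv : ∀ s ∈ S₀, ∀ R ∈ Δ, cj s R ∈ Δ
  sq : ∀ R ∈ Δ, ∃ x ∈ R, x * x ≠ 1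
  card : ∀ R ∈ Δ, ∀ T ∈ Δ, Nat.card R = Nat.card T
  ti : ∀ R ∈ Δ, ∀ T ∈ Δ, R = T ∨ R ⊓ T = ⊥

theorem main : ∀ n : ℕ, ∀ S₀ : Subgroup G, Nat.card S₀ = n → IsPGroup 2 S₀ →
    ∀ Δ : Set (Subgroup G), Hyp S₀ Δ → ∀ R ∈ Δ, ∀ T ∈ Δ, R ≠ T → Comm R T := by
  intro n
  induction n using Nat.strong_induction_on with
  | _ n IH =>
    intro S₀ hn hS Δ h R hR T hT hne
    have claimA : ∀ X ∈ Δ, X ≠ S₀ → ∀ s ∈ S₀, cj s X = X ∨ Comm X (cj s X) := by
      intro X hX hXne s hs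
      obtain ⟨M, hXM, hMS, hMne, hMn⟩ := exists_normal_proper hS (h.le X hX) hXne
      by_cases heq : cj s X = X
      · left; exact heq
      · right
        have hcardM : Nat.card M < n := by
          rw [← hn]
          by_contra hcon
          push Not at hcon
          exact hMne (Subgroup.eq_of_le_of_card_ge hMS hcon)
        refine IH (Nat.card M) hcardM M rfl (hS.to_le hMS) {Y | Y ∈ Δ ∧ Y ≤ M} ?_ X ⟨hX, hXM⟩
          (cj s X) ⟨h.inv s hs X hX, ?_⟩ (Ne.symm heq)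
        · exact ⟨fun Y hY => hY.2,
            fun s' hs' Y hY => ⟨h.inv s' (hMS hs') Y hY.1, cj_le hY.2 hs'⟩,
            fun Y hY => h.sq Y hY.1, fun Y hY Z hZ => h.card Y hY.1 Z hZ.1,
            fun Y hY Z hZ => h.ti Y hY.1 Z hZ.1⟩
        · exact (cj_mono hXM).trans (hMn s hs)
    have hproper : ∀ X ∈ Δ, ∀ Y ∈ Δ, X ≠ Y → X ≠ S₀ := by
      intro X hX Y hY hXY hXS
      rcases h.ti X hX Y hY with h1 | h1
      · exact hXY h1
      · have : Y ≤ X := hXS ▸ h.le Y hY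
        rw [inf_eq_right.mpr this] at h1
        obtain ⟨x, hx, hxx⟩ := h.sq Y hY
        rw [h1, mem_bot] at hx
        apply hxx; rw [hx]; simp
    have half : ∀ X ∈ Δ, ∀ Y ∈ Δ, X ≠ Y → ∀ t ∈ Y, t ∉ normalizer (X : Set G) →
        X ⊓ cj t X = ⊥ ∧ Comm X (cj t X) := by
      intro X hX Y hY hXY t ht htn
      have hts : t ∈ S₀ := h.le Y hY ht
      have hne' : cj t X ≠ X := fun hh => htn (cj_eq_iff.mp hh)
      refine ⟨?_, ?_⟩
      · rcases h.ti X hX (cj t X) (h.inv t hts X hX) with h1 | h1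
        · exact absurd h1.symm hne'
        · exact h1
      · exact (claimA X hX (hproper X hX Y hY hXY) t hts).resolve_left hne'
    have hpair : Pair R T :=
      ⟨half R hR T hT hne, half T hT R hR (Ne.symm hne), (h.ti R hR T hT).resolve_left hne,
        h.card R hR T hT, hS.to_le (h.le R hR), hS.to_le (h.le T hT)⟩
    exact hpair.comm (h.sq R hR) (h.sq T hT)

end Cfsg.Agent.Lib.Helper5.TIFamily
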