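import Mathlib
import Cfsg.Agent.Lib.Helper5.TIFamilyD

set_option autoImplicit false
set_option linter.unusedSectionVars false
set_option linter.unusedVariables false

namespace Cfsg.Agent.Lib.Helper5.TIFamily

open Subgroup

variable {G : Type*} [Group G]

theorem cj_mul (s t : G) (X : Subgroup G) : cj (s * t) X = cj s (cj t X) := by
  ext y
  rw [mem_cj, mem_cj, mem_cj]
  have e : (s * t)⁻¹ * y * (s * t) = t⁻¹ * (s⁻¹ * y * s) * t := by group
  rw [e]

theorem cj_one (X : Subgroup G) : cj 1 X = X := by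
  ext y
  rw [mem_cj]; simp

theorem cj_inf (s : G) (X Y : Subgroup G) : cj s (X ⊓ Y) = cj s X ⊓ cj s Y := by
  ext y
  simp only [mem_cj, Subgroup.mem_inf]

theorem cj_bot (s : G) : cj s (⊥ : Subgroup G) = ⊥ := by
  ext y
  rw [mem_cj, mem_bot, mem_bot]
  constructor
  · intro h
    calc y = s * (s⁻¹ * y * s) * s⁻¹ := by group
      _ = 1 := by rw [h]; group
  · rintro rfl; group

/-- TI-property for conjugates. -/
theorem ti_cj {A : Subgroup G} (hti : ∀ h : G, cj h A = A ∨ cj h A ⊓ A = ⊥) (i j : G) :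
    cj i A = cj j A ∨ cj i A ⊓ cj j A = ⊥ := by
  rcases hti (j⁻¹ * i) with h | h
  · left
    have := congrArg (cj j) h
    rwa [← cj_mul, mul_inv_cancel_left] at this
  · right
    have := congrArg (cj j) h
    rwa [cj_inf, ← cj_mul, mul_inv_cancel_left, cj_bot] at this

/-- Conjugates of a TI `2`-subgroup with a non-involution inside a `2`-group commute. -/
theorem comm_of_ti [Finite G] (S₀ : Subgroup G) (hS : IsPGroup 2 S₀) (A : Subgroup G)
    (hti : ∀ h : G, cj h A = A ∨ cj h A ⊓ A = ⊥) (hsq : ∃ x ∈ A, x * x ≠ 1)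
    (I : Set G) (hI : ∀ s ∈ S₀, ∀ i ∈ I, s * i ∈ I) (hle : ∀ i ∈ I, cj i A ≤ S₀) :
    ∀ i ∈ I, ∀ j ∈ I, cj i A ≠ cj j A → Comm (cj i A) (cj j A) := by
  intro i hi j hj hne
  have hyp : Hyp S₀ {Y | ∃ k ∈ I, Y = cj k A} := by
    refine ⟨?_, ?_, ?_, ?_, ?_⟩
    · rintro R ⟨k, hk, rfl⟩; exact hle k hk
    · rintro s hs R ⟨k, hk, rfl⟩
      exact ⟨s * k, hI s hs k hk, (cj_mul s k A).symm⟩
    · rintro R ⟨k, hk, rfl⟩
      obtain ⟨x, hx, hxx⟩ := hsq
      refine ⟨k * x * k⁻¹, conj_mem_cj hx, ?_⟩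
      intro h
      apply hxx
      have : x * x = k⁻¹ * (k * x * k⁻¹ * (k * x * k⁻¹)) * k := by group
      rw [this, h]; group
    · rintro R ⟨k, hk, rfl⟩ T ⟨l, hl, rfl⟩
      rw [card_cj, card_cj]
    · rintro R ⟨k, hk, rfl⟩ T ⟨l, hl, rfl⟩
      exact ti_cj hti k l
  exact main (Nat.card S₀) S₀ rfl hS _ hyp (cj i A) ⟨i, hi, rfl⟩ (cj j A) ⟨j, hj, rfl⟩ hne

end Cfsg.Agent.Lib.Helper5.TIFamily
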