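import Mathlib
import Cfsg.Agent.Lib.Helper5.TISquaresA

set_option autoImplicit false
set_option linter.unusedSectionVars false
set_option linter.unusedVariables false

namespace Cfsg.Agent.Lib.Helper5.TISquares

open Subgroup

variable {X : Type*} [Group X] [Finite X]

/-- An element acting trivially on `Q / Φ(Q)` for a self-centralizing normal `p`-subgroup `Q`
lies in `O_p(X)`. -/
theorem mem_pCore_of_trivial {p : ℕ} [Fact p.Prime] (Q : Subgroup X) [Q.Normal]
    (hQ : IsPGroup p Q) (hC : centralizer (Q : Set X) ≤ Q) {y : X}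
    (hy : ∀ q : Q, MulAut.conjNormal y q * q⁻¹ ∈ frattini Q) : y ∈ Cfsg.pCore p X := by
  have hn := trivOnFrattini_normal Q
  set K : Subgroup X := (trivOnFrattini Q).comap (MulAut.conjNormal : X →* MulAut Q) with hK
  have hKn : K.Normal := by rw [hK]; exact Subgroup.Normal.comap hn _
  have hKp : IsPGroup p K := by
    intro k
    have hk : MulAut.conjNormal (k : X) ∈ trivOnFrattini Q := k.2
    obtain ⟨j, hj⟩ := (trivOnFrattini_isPGroup hQ) ⟨_, hk⟩
    have hj' : (MulAut.conjNormal ((k : X) ^ (p ^ j)) : MulAut Q) = 1 := by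
      rw [map_pow]
      exact congrArg Subtype.val hj
    have hcen : (k : X) ^ (p ^ j) ∈ centralizer (Q : Set X) := by
      rw [mem_centralizer_iff]
      intro q hq
      have := congrArg (fun α : MulAut Q => ((α ⟨q, hq⟩ : Q) : X)) hj'
      simp only [MulAut.conjNormal_apply, MulAut.one_apply] at this
      calc q * (k : X) ^ (p ^ j) = ((k : X) ^ (p ^ j) * q * ((k : X) ^ (p ^ j))⁻¹) * (k : X) ^ (p ^ j) := by
            rw [this]
        _ = (k : X) ^ (p ^ j) * q := by group
    obtain ⟨i, hi⟩ := hQ ⟨_, hC hcen⟩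
    refine ⟨j + i, ?_⟩
    apply Subtype.ext
    have := congrArg Subtype.val hi
    simp only [Subgroup.coe_pow, Subgroup.coe_one] at this ⊢
    rw [pow_add, pow_mul]
    exact this
  have hyK : y ∈ K := by
    rw [hK, mem_comap]
    exact hy
  exact Cfsg.Agent.Lib.Helper20.le_pCore' hKn hKp hyK

end Cfsg.Agent.Lib.Helper5.TISquares
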