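import Mathlib
import Cfsg.Agent.Lib.Helper5.TISquaresB
import Cfsg.Agent.Lib.Helper5.TIFamilyE
import Cfsg.Agent.Lib.Helper2.PGroupFrattini

set_option autoImplicit false
set_option linter.unusedSectionVars false
set_option linter.unusedVariables false

namespace Cfsg.Agent.Lib.Helper5.TISquares

open Subgroup Cfsg.Agent.Lib.Helper5.TIFamily

variable {X : Type*} [Group X] [Finite X]

/-- squares of elements of an abelian TI 2-subgroup lie in `O_2(X)` when `C_X(O_2(X)) ≤ O_2(X)`. -/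
theorem sq_mem_pCore (hC : centralizer (Cfsg.pCore 2 X : Set X) ≤ Cfsg.pCore 2 X)
    (A : Subgroup X) (hA2 : IsPGroup 2 A) (hAa : ∀ a ∈ A, ∀ b ∈ A, a * b = b * a)
    (hti : ∀ h : X, cj h A = A ∨ cj h A ⊓ A = ⊥) {a : X} (ha : a ∈ A) :
    a ^ 2 ∈ Cfsg.pCore 2 X := by
  by_cases ha2 : a * a = 1
  · rw [pow_two, ha2]; exact one_mem _
  set Q := Cfsg.pCore 2 X with hQdef
  have hQn : Q.Normal := Cfsg.Agent.Lib.Helper16.pCore_normal 2 X
  have hQp : IsPGroup 2 Q := Cfsg.Agent.Lib.Helper20.pCore_isPGroup' 2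
  -- S₀ = Q ⊔ A
  have hS : IsPGroup 2 (Q ⊔ A : Subgroup X) := hQp.to_sup_of_normal_left hA2
  have hcomm := comm_of_ti (Q ⊔ A) hS A hti ⟨a, ha, ha2⟩ ((Q ⊔ A : Subgroup X) : Set X)
    (fun s hs i hi => (Q ⊔ A).mul_mem hs hi) (fun i hi => cj_le le_sup_right hi)
  -- a commutes with q a q⁻¹
  have hkey : ∀ q ∈ Q, a * (q * a * q⁻¹) = (q * a * q⁻¹) * a := by
    intro q hq
    by_cases heq : cj q A = cj 1 A
    · rw [cj_one] at heq
      have : q * a * q⁻¹ ∈ A := by rw [← heq]; exact conj_mem_cj ha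
      exact hAa a ha _ this
    · have := hcomm q (le_sup_left (a := Q) (b := A) hq) 1 (one_mem _) heq
      rw [cj_one] at this
      exact (this _ (conj_mem_cj ha) a ha).symm
  apply mem_pCore_of_trivial Q hQp hC
  intro q
  -- κ = a q a⁻¹ q⁻¹
  have hκ : a * (q : X) * a⁻¹ * (q : X)⁻¹ ∈ Q :=
    Q.mul_mem (hQn.conj_mem _ q.2 a) (Q.inv_mem q.2)
  have hac : a * (a * (q : X) * a⁻¹ * (q : X)⁻¹) = (a * (q : X) * a⁻¹ * (q : X)⁻¹) * a := by
    have h1 := hkey q q.2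
    have h2 : a * ((q : X) * a * (q : X)⁻¹)⁻¹ = ((q : X) * a * (q : X)⁻¹)⁻¹ * a := by
      calc a * ((q : X) * a * (q : X)⁻¹)⁻¹
          = ((q : X) * a * (q : X)⁻¹)⁻¹ * (((q : X) * a * (q : X)⁻¹) * a) * ((q : X) * a * (q : X)⁻¹)⁻¹ := by group
        _ = ((q : X) * a * (q : X)⁻¹)⁻¹ * (a * ((q : X) * a * (q : X)⁻¹)) * ((q : X) * a * (q : X)⁻¹)⁻¹ := by rw [h1]
        _ = ((q : X) * a * (q : X)⁻¹)⁻¹ * a := by group
    calc a * (a * (q : X) * a⁻¹ * (q : X)⁻¹) = a * (a * ((q : X) * a * (q : X)⁻¹)⁻¹) := by group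
      _ = a * (((q : X) * a * (q : X)⁻¹)⁻¹ * a) := by rw [h2]
      _ = (a * ((q : X) * a * (q : X)⁻¹)⁻¹) * a := by group
      _ = (a * (q : X) * a⁻¹ * (q : X)⁻¹) * a := by group
  have hsq : (MulAut.conjNormal (a ^ 2) q * q⁻¹ : Q) = (⟨_, hκ⟩ : Q) ^ 2 := by
    apply Subtype.ext
    simp only [Subgroup.coe_mul, MulAut.conjNormal_apply, Subgroup.coe_inv, Subgroup.coe_pow]
    rw [pow_two, pow_two]
    calc a * a * (q : X) * (a * a)⁻¹ * (q : X)⁻¹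
        = a * (a * (q : X) * a⁻¹ * (q : X)⁻¹) * a⁻¹ * (a * (q : X) * a⁻¹ * (q : X)⁻¹) := by group
      _ = (a * (q : X) * a⁻¹ * (q : X)⁻¹) * a * a⁻¹ * (a * (q : X) * a⁻¹ * (q : X)⁻¹) := by rw [hac]
      _ = (a * (q : X) * a⁻¹ * (q : X)⁻¹) * (a * (q : X) * a⁻¹ * (q : X)⁻¹) := by group
  rw [hsq]
  exact Cfsg.Agent.Lib.Helper2.pow_mem_frattini_of_isPGroup hQp _

end Cfsg.Agent.Lib.Helper5.TISquares
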