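import Mathlib

set_option autoImplicit false
set_option linter.style.haveILetI false
set_option linter.unusedSectionVars false

namespace Cfsg.Agent.Lib.Helper5.TorusCount

open Finset

variable {G : Type*} [CommGroup G] {n : ℕ}

theorem zpow_finset_sum {ι : Type*} [DecidableEq ι] (a : G) (s : Finset ι) (f : ι → ℤ) :
    a ^ (∑ i ∈ s, f i) = ∏ i ∈ s, a ^ f i := by
  induction s using Finset.induction_on with
  | empty => simp
  | insert x s hx ih => rw [Finset.sum_insert hx, Finset.prod_insert hx, zpow_add, ih]

/-- the integer matrix `M` acting on `G^n` (written multiplicatively): `(c^M)_j = ∏_i c_i ^ M_ij` -/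
def act (M : Matrix (Fin n) (Fin n) ℤ) : (Fin n → G) →* (Fin n → G) where
  toFun c := fun j => ∏ i, c i ^ M i j
  map_one' := by
    funext j
    simp
  map_mul' a b := by
    funext j
    simp only [Pi.mul_apply, mul_zpow, Finset.prod_mul_distrib]

theorem act_apply (M : Matrix (Fin n) (Fin n) ℤ) (c : Fin n → G) (j : Fin n) :
    act M c j = ∏ i, c i ^ M i j := rfl

theorem act_mul (M N : Matrix (Fin n) (Fin n) ℤ) (c : Fin n → G) :
    act (M * N) c = act N (act M c) := by
  funext k
  rw [act_apply, act_apply]
  have h1 : ∀ i, c i ^ (M * N) i k = ∏ j, c i ^ (M i j * N j k) := by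
    intro i
    rw [Matrix.mul_apply]
    exact zpow_finset_sum _ _ _
  have h2 : ∀ j, (act M c j) ^ N j k = ∏ i, c i ^ (M i j * N j k) := by
    intro j
    rw [act_apply, ← Finset.prod_zpow]
    apply Finset.prod_congr rfl
    intro i _
    rw [zpow_mul]
  simp_rw [h1, h2]
  exact Finset.prod_comm

theorem act_one (c : Fin n → G) : act (1 : Matrix (Fin n) (Fin n) ℤ) c = c := by
  funext j
  rw [act_apply]
  rw [Finset.prod_eq_single j]
  · simp
  · intro i _ hij
    rw [Matrix.one_apply_ne hij, zpow_zero]
  · intro h
    exact absurd (Finset.mem_univ j) h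

theorem act_injective_of_mul_eq_one (M M' : Matrix (Fin n) (Fin n) ℤ) (h : M * M' = 1) :
    Function.Injective (act (G := G) M) := by
  intro a b hab
  have := congrArg (act M') hab
  rwa [← act_mul, ← act_mul, h, act_one, act_one] at this

theorem act_surjective_of_mul_eq_one (M M' : Matrix (Fin n) (Fin n) ℤ) (h : M' * M = 1) :
    Function.Surjective (act (G := G) M) := by
  intro b
  refine ⟨act M' b, ?_⟩
  rw [← act_mul, h, act_one]

theorem act_diagonal (s : Fin n → ℤ) (c : Fin n → G) (j : Fin n) :
    act (Matrix.diagonal s) c j = c j ^ s j := by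
  rw [act_apply, Finset.prod_eq_single j]
  · rw [Matrix.diagonal_apply_eq]
  · intro i _ hij
    rw [Matrix.diagonal_apply_ne _ hij, zpow_zero]
  · intro h
    exact absurd (Finset.mem_univ j) h

/-- counting the kernel through a Smith decomposition `A = P' * diagonal s * Q'` -/
theorem card_ker_act [Finite G] (A P P' Q Q' : Matrix (Fin n) (Fin n) ℤ) (s : Fin n → ℕ)
    (hA : A = P' * Matrix.diagonal (fun j => (s j : ℤ)) * Q')
    (hP1 : P * P' = 1) (hP2 : P' * P = 1) (hQ : Q' * Q = 1) :
    Nat.card (act (G := G) A).ker = ∏ j, Nat.card (powMonoidHom (s j) : G →* G).ker := by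
  classical
  -- the kernel of `act A` corresponds to the kernel of the diagonal action under `act P'`
  have hker : ∀ c : Fin n → G, c ∈ (act (G := G) A).ker ↔
      ∀ j, act P' c j ∈ (powMonoidHom (s j) : G →* G).ker := by
    intro c
    rw [MonoidHom.mem_ker, hA, act_mul, act_mul]
    constructor
    · intro h j
      have h1 : act (Matrix.diagonal (fun j => (s j : ℤ))) (act P' c) = 1 := by
        apply act_injective_of_mul_eq_one Q' Q hQ
        rw [h, map_one]
      have h2 := congrFun h1 j
      rw [act_diagonal] at h2
      rw [MonoidHom.mem_ker, powMonoidHom_apply]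
      simpa using h2
    · intro h
      have h1 : act (Matrix.diagonal (fun j => (s j : ℤ))) (act P' c) = 1 := by
        funext j
        rw [act_diagonal]
        have := h j
        rw [MonoidHom.mem_ker, powMonoidHom_apply] at this
        simpa using this
      rw [h1, map_one]
  -- an explicit equivalence
  have e : ↥(act (G := G) A).ker ≃ (∀ j, ↥(powMonoidHom (s j) : G →* G).ker) :=
    { toFun := fun c j => ⟨act P' c.1 j, (hker c.1).mp c.2 j⟩
      invFun := fun d => ⟨act P (fun j => (d j : G)), by
        rw [hker]
        intro j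
        rw [← act_mul, hP1, act_one]
        exact (d j).2⟩
      left_inv := by
        intro c
        apply Subtype.ext
        show act P (fun j => act P' c.1 j) = c.1
        have : (fun j => act P' c.1 j) = act P' c.1 := rfl
        rw [this, ← act_mul, hP2, act_one]
      right_inv := by
        intro d
        funext j
        apply Subtype.ext
        show act P' (act P (fun j => (d j : G))) j = d j
        rw [← act_mul, hP1, act_one] }
  rw [Nat.card_congr e, Nat.card_pi]

end Cfsg.Agent.Lib.Helper5.TorusCount
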