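import Mathlib
import Cfsg.Agent.Lib.Helper5.TorusCountA
import Cfsg.Agent.Lib.Helper5.ChevSymS
import Cfsg.Agent.Lib.Helper5.ChevBN
import Cfsg.Agent.Lib.Helper5.ChevSymM

set_option autoImplicit false
set_option linter.style.haveILetI false
set_option linter.unusedSectionVars false

namespace Cfsg.Agent.Lib.Helper5.TorusCount

open Cfsg.Lie Cfsg.Agent.Lib.Helper5.ChevSym

/-- Bool check: the positive root `k` is fundamental or `p_i + s` with `s` a smaller positive root -/
def posDecompB (D : ChevalleyDatum) (k : ℕ) : Bool :=
  (List.range D.rank).any fun i =>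
    decide (k = D.simple i) ||
    (match D.chainRoot (D.neg (D.simple i)) k 1 with
     | some s => decide (s < k) && decide (D.IsPosRoot s) &&
         decide (D.chainRoot (D.simple i) s 1 = some k)
     | none => false)

def PosDecomp (D : ChevalleyDatum) : Prop :=
  ∀ k, k < D.nroots → D.IsPosRoot k → posDecompB D k = true

instance (D : ChevalleyDatum) : Decidable (PosDecomp D) := by
  unfold PosDecomp
  infer_instance

theorem posDecomp_G2 : PosDecomp chevG2 := by decide +kernel
theorem posDecomp_B2 : PosDecomp chevB2 := by decide +kernel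
theorem posDecomp_D4 : PosDecomp chevD4 := by decide +kernel
theorem posDecomp_F4 : PosDecomp chevF4 := by decide +kernel
theorem posDecomp_E6 : PosDecomp chevE6 := by decide +kernel
theorem posDecomp_E7 : PosDecomp chevE7 := by decide +kernel
theorem posDecomp_E8 : PosDecomp chevE8 := by decide +kernel

theorem posDecomp_of_mem (D : ChevalleyDatum)
    (hD : D ∈ [chevG2, chevB2, chevD4, chevF4, chevE6, chevE7, chevE8]) : PosDecomp D := by
  simp only [List.mem_cons, List.not_mem_nil, or_false] at hD
  rcases hD with rfl | rfl | rfl | rfl | rfl | rfl | rfl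
  · exact posDecomp_G2
  · exact posDecomp_B2
  · exact posDecomp_D4
  · exact posDecomp_F4
  · exact posDecomp_E6
  · exact posDecomp_E7
  · exact posDecomp_E8

variable {F : Type*} [Field F]

/-- a root character which is trivial on the fundamental roots is trivial -/
theorem rootCharacter_eq_one (D : ChevalleyDatum)
    (hD : D ∈ [chevG2, chevB2, chevD4, chevF4, chevE6, chevE7, chevE8]) (χ : ℕ → Fˣ)
    (hχ : D.IsRootCharacter χ) (h1 : ∀ i, i < D.rank → χ (D.simple i) = 1) :
    ∀ r, r < D.nroots → χ r = 1 := by
  have hN := nSimpleAll_of_mem D hD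
  have hpos : ∀ k, k < D.nroots → D.IsPosRoot k → χ k = 1 := by
    intro k
    induction k using Nat.strong_induction_on with
    | _ k ih =>
      intro hk hkp
      have := posDecomp_of_mem D hD k hk hkp
      unfold posDecompB at this
      rw [List.any_eq_true] at this
      obtain ⟨i, hi, h⟩ := this
      have hi' : i < D.rank := List.mem_range.mp hi
      rw [Bool.or_eq_true] at h
      rcases h with h | h
      · have : k = D.simple i := by simpa using h
        rw [this]
        exact h1 i hi'
      · split at h
        · rename_i s hs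
          rw [Bool.and_eq_true, Bool.and_eq_true] at h
          obtain ⟨⟨hsk, hsp⟩, hch⟩ := h
          have hsk' : s < k := by simpa using hsk
          have hsp' : D.IsPosRoot s := by simpa using hsp
          have hch' : D.chainRoot (D.simple i) s 1 = some k := by simpa using hch
          rw [hχ.2 (D.simple i) s k (hN i hi').1 hsp'.1 hch', h1 i hi', ih s hsk' hsp'.1 hsp', one_mul]
        · exact absurd h (by simp)
  intro r hr
  rcases Cfsg.Agent.S1041.pos_or_neg D hD r hr with hp | hn
  · exact hpos r hr hp
  · obtain ⟨hp', hnn⟩ := ChevBN.negPos_of_mem D hD r hr hn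
    have := hχ.1 (D.neg r) hp'.1
    rw [hnn, hpos _ hp'.1 hp', inv_one] at this
    exact this

/-- extension by `1` of a family indexed by the fundamental roots -/
def cfun (D : ChevalleyDatum) (c : Fin D.rank → Fˣ) : ℕ → Fˣ :=
  fun i => if h : i < D.rank then c ⟨i, h⟩ else 1

theorem chiC_cfun (D : ChevalleyDatum) (c : Fin D.rank → Fˣ) (s : ℕ) :
    chiC D (cfun D c) s = ∏ i : Fin D.rank, c i ^ D.cartan i s := by
  unfold chiC
  rw [← List.prod_toFinset _ (List.nodup_range), List.toFinset_range,
    ← Fin.prod_univ_eq_prod_range (fun i => cfun D c i ^ D.cartan i s)]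
  apply Finset.prod_congr rfl
  intro i _
  unfold cfun
  rw [dif_pos i.2]

theorem cfun_mul (D : ChevalleyDatum) (a b : Fin D.rank → Fˣ) :
    cfun D (a * b) = fun i => cfun D a i * cfun D b i := by
  funext i
  unfold cfun
  by_cases h : i < D.rank
  · simp [h]
  · simp [h]

/-- the surjection `(Fˣ)^rank → H` -/
noncomputable def torusHom (D : ChevalleyDatum) (F : Type*) [Field F] :
    (Fin D.rank → Fˣ) →* GL D.Idx F where
  toFun c := ⟨D.charDiag F (chiC D (cfun D c)), D.charDiag F (fun s => (chiC D (cfun D c) s)⁻¹),
    by
      have := charDiag_mul_inv (F := F) D (chiC D (cfun D c))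
      exact mul_eq_one_comm.mp this,
    charDiag_mul_inv D _⟩
  map_one' := by
    apply Units.ext
    show D.charDiag F (chiC D (cfun D 1)) = 1
    have : cfun D (1 : Fin D.rank → Fˣ) = fun _ => 1 := by
      funext i
      unfold cfun
      by_cases h : i < D.rank <;> simp [h]
    rw [this]
    have h2 : chiC (F := F) D (fun _ => 1) = fun _ => 1 := by
      funext s
      exact chiC_one D s
    rw [h2, charDiag_one]
  map_mul' a b := by
    apply Units.ext
    show D.charDiag F (chiC D (cfun D (a * b))) =
      D.charDiag F (chiC D (cfun D a)) * D.charDiag F (chiC D (cfun D b))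
    rw [charDiag_mul, cfun_mul]
    congr 1
    funext s
    exact chiC_mul D _ _ s

theorem torusHom_val (D : ChevalleyDatum) (c : Fin D.rank → Fˣ) :
    ((torusHom D F c : GL D.Idx F) : Matrix D.Idx D.Idx F) = D.charDiag F (chiC D (cfun D c)) := rfl

theorem chiC_congr (D : ChevalleyDatum) (c c' : ℕ → Fˣ) (h : ∀ i, i < D.rank → c i = c' i) (s : ℕ) :
    chiC D c s = chiC D c' s := by
  unfold chiC
  congr 1
  apply List.map_congr_left
  intro i hi
  rw [h i (List.mem_range.mp hi)]

theorem torusHom_range (D : ChevalleyDatum)
    (hD : D ∈ [chevG2, chevB2, chevD4, chevF4, chevE6, chevE7, chevE8]) :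
    (torusHom D F).range = D.diagonalSubgroup F := by
  apply le_antisymm
  · rintro g ⟨c, rfl⟩
    -- the image is a product of h_{p_i}(c_i)
    have hw := wordMat_simple_h D hD (cfun D c) (List.range D.rank)
      (fun i hi => List.mem_range.mp hi)
    have hmem : ChevBN.wordGL D hD ((List.range D.rank).flatMap fun i =>
        D.hWord (D.simple i) ((cfun D c i : Fˣ) : F)) ∈ D.diagonalSubgroup F := by
      have : ∀ L : List ℕ, (∀ i ∈ L, i < D.rank) →
          ChevBN.wordGL D hD (L.flatMap fun i => D.hWord (D.simple i) ((cfun D c i : Fˣ) : F)) ∈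
            D.diagonalSubgroup F := by
        intro L
        induction L with
        | nil =>
          intro _
          have : ChevBN.wordGL D hD ([] : List (ℕ × F)) = 1 := by
            unfold ChevBN.wordGL; simp
          simp only [List.flatMap_nil]
          rw [this]
          exact one_mem _
        | cons a L ih =>
          intro hL
          have ha : a < D.rank := hL a List.mem_cons_self
          have hsplit : ChevBN.wordGL D hD ((a :: L).flatMap fun i =>
              D.hWord (D.simple i) ((cfun D c i : Fˣ) : F)) =
              ChevBN.wordGL D hD (D.hWord (D.simple a) ((cfun D c a : Fˣ) : F)) *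
              ChevBN.wordGL D hD (L.flatMap fun i =>
                D.hWord (D.simple i) ((cfun D c i : Fˣ) : F)) := by
            unfold ChevBN.wordGL
            rw [List.flatMap_cons, List.map_append, List.prod_append]
          rw [hsplit]
          refine mul_mem ?_ (ih (fun i hi => hL i (List.mem_cons_of_mem _ hi)))
          apply Subgroup.subset_closure
          refine ⟨D.simple a, ((cfun D c a : Fˣ) : F), (nSimpleAll_of_mem D hD a ha).1,
            Units.ne_zero _, ?_⟩
          rw [ChevBN.wordGL_val]
          rfl
      exact this _ (fun i hi => List.mem_range.mp hi)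
    have : torusHom D F c = ChevBN.wordGL D hD ((List.range D.rank).flatMap fun i =>
        D.hWord (D.simple i) ((cfun D c i : Fˣ) : F)) := by
      apply Units.ext
      rw [torusHom_val, ChevBN.wordGL_val, hw]
      rfl
    rw [this]
    exact hmem
  · intro g hg
    obtain ⟨c, hc⟩ := mem_diagonalSubgroup D hD g hg
    refine ⟨fun i => c i.val, ?_⟩
    apply Units.ext
    rw [torusHom_val, hc]
    congr 1
    funext s
    apply chiC_congr
    intro i hi
    unfold cfun
    rw [dif_pos hi]

/-- the Cartan matrix of the datum -/
def cartanMat (D : ChevalleyDatum) : Matrix (Fin D.rank) (Fin D.rank) ℤ :=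
  Matrix.of fun i j => D.cartan i (D.simple j)

theorem torusHom_ker (D : ChevalleyDatum)
    (hD : D ∈ [chevG2, chevB2, chevD4, chevF4, chevE6, chevE7, chevE8]) :
    (torusHom D F).ker = (act (G := Fˣ) (cartanMat D)).ker := by
  ext c
  rw [MonoidHom.mem_ker, MonoidHom.mem_ker]
  have hχ := chiC_isRootCharacter (F := F) D hD (cfun D c)
  constructor
  · intro h
    funext j
    rw [act_apply]
    show ∏ i, c i ^ D.cartan i (D.simple j) = 1
    rw [← chiC_cfun]
    have h1 := congrArg (fun g : GL D.Idx F => (g : Matrix D.Idx D.Idx F)) h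
    simp only [torusHom_val, Units.val_one] at h1
    have hsj : D.simple j < D.nroots := (nSimpleAll_of_mem D hD j j.2).1
    have h2 := congrFun (congrFun h1 (Sum.inr ⟨D.simple j, hsj⟩)) (Sum.inr ⟨D.simple j, hsj⟩)
    unfold ChevalleyDatum.charDiag at h2
    rw [Matrix.diagonal_apply_eq, Matrix.one_apply_eq] at h2
    simp only [Sum.elim_inr] at h2
    exact Units.ext h2
  · intro h
    have h1 : ∀ i, i < D.rank → chiC D (cfun D c) (D.simple i) = 1 := by
      intro i hi
      have := congrFun h ⟨i, hi⟩
      rw [act_apply] at this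
      rw [chiC_cfun]
      exact this
    have hall := rootCharacter_eq_one D hD _ hχ h1
    apply Units.ext
    rw [torusHom_val]
    unfold ChevalleyDatum.charDiag
    rw [Units.val_one, ← Matrix.diagonal_one]
    congr 1
    funext j
    rcases j with j | s
    · rfl
    · simp only [Sum.elim_inr]
      rw [hall s.val s.2]
      rfl

/-- `|ker| · |H| = (q - 1)^rank` -/
theorem card_diagonal_mul [Fintype F] (D : ChevalleyDatum)
    (hD : D ∈ [chevG2, chevB2, chevD4, chevF4, chevE6, chevE7, chevE8])
    (P P' Q Q' : Matrix (Fin D.rank) (Fin D.rank) ℤ) (s : Fin D.rank → ℕ)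
    (hA : cartanMat D = P' * Matrix.diagonal (fun j => (s j : ℤ)) * Q')
    (hP1 : P * P' = 1) (hP2 : P' * P = 1) (hQ : Q' * Q = 1) :
    (∏ j, Nat.gcd (Fintype.card F - 1) (s j)) * Nat.card (D.diagonalSubgroup F) =
      (Fintype.card F - 1) ^ D.rank := by
  classical
  have hcardU : Nat.card Fˣ = Fintype.card F - 1 := by
    rw [Nat.card_eq_fintype_card, Fintype.card_units]
  have h1 : Nat.card (torusHom D F).ker = ∏ j, Nat.gcd (Fintype.card F - 1) (s j) := by
    rw [torusHom_ker D hD, card_ker_act (G := Fˣ) (cartanMat D) P P' Q Q' s hA hP1 hP2 hQ]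
    apply Finset.prod_congr rfl
    intro j _
    rw [IsCyclic.card_powMonoidHom_ker, hcardU]
  have h2 : Nat.card (torusHom D F).range = Nat.card (D.diagonalSubgroup F) := by
    rw [torusHom_range D hD]
  have h3 : Nat.card (Fin D.rank → Fˣ) = (Fintype.card F - 1) ^ D.rank := by
    rw [Nat.card_pi]
    simp only [hcardU, Finset.prod_const, Finset.card_univ, Fintype.card_fin]
  rw [← h1, ← h2, ← h3]
  have := Subgroup.card_mul_index (torusHom D F).ker
  rw [Subgroup.index_ker] at this
  exact this

end Cfsg.Agent.Lib.Helper5.TorusCount
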