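import Mathlib
import Cfsg.Agent.Lib.Helper5.TorusCountB

set_option autoImplicit false
set_option linter.style.haveILetI false
set_option linter.unusedSectionVars false

namespace Cfsg.Agent.Lib.Helper5.TorusCount

open Cfsg.Lie

def smP_G2 : Matrix (Fin chevG2.rank) (Fin chevG2.rank) ℤ := !![0, -1; 1, 2]
def smPi_G2 : Matrix (Fin chevG2.rank) (Fin chevG2.rank) ℤ := !![2, 1; -1, 0]
def smQ_G2 : Matrix (Fin chevG2.rank) (Fin chevG2.rank) ℤ := !![1, 2; 0, 1]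
def smQi_G2 : Matrix (Fin chevG2.rank) (Fin chevG2.rank) ℤ := !![1, -2; 0, 1]
def smS_G2 : Fin chevG2.rank → ℕ := ![1, 1]

theorem smA_G2 : cartanMat chevG2 = smPi_G2 * Matrix.diagonal (fun j => (smS_G2 j : ℤ)) * smQi_G2 := by decide +kernel
theorem smP1_G2 : smP_G2 * smPi_G2 = 1 := by decide +kernel
theorem smP2_G2 : smPi_G2 * smP_G2 = 1 := by decide +kernel
theorem smQ1_G2 : smQi_G2 * smQ_G2 = 1 := by decide +kernel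

def smP_B2 : Matrix (Fin chevB2.rank) (Fin chevB2.rank) ℤ := !![0, -1; 1, 2]
def smPi_B2 : Matrix (Fin chevB2.rank) (Fin chevB2.rank) ℤ := !![2, 1; -1, 0]
def smQ_B2 : Matrix (Fin chevB2.rank) (Fin chevB2.rank) ℤ := !![1, 2; 0, 1]
def smQi_B2 : Matrix (Fin chevB2.rank) (Fin chevB2.rank) ℤ := !![1, -2; 0, 1]
def smS_B2 : Fin chevB2.rank → ℕ := ![1, 2]

theorem smA_B2 : cartanMat chevB2 = smPi_B2 * Matrix.diagonal (fun j => (smS_B2 j : ℤ)) * smQi_B2 := by decide +kernel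
theorem smP1_B2 : smP_B2 * smPi_B2 = 1 := by decide +kernel
theorem smP2_B2 : smPi_B2 * smP_B2 = 1 := by decide +kernel
theorem smQ1_B2 : smQi_B2 * smQ_B2 = 1 := by decide +kernel

def smP_D4 : Matrix (Fin chevD4.rank) (Fin chevD4.rank) ℤ := !![-1, 0, 0, 0; -2, -1, 0, 0; -3, -2, -1, 0; 2, 2, 1, 1]
def smPi_D4 : Matrix (Fin chevD4.rank) (Fin chevD4.rank) ℤ := !![-1, 0, 0, 0; 2, -1, 0, 0; -1, 2, -1, 0; -1, 0, 1, 1]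
def smQ_D4 : Matrix (Fin chevD4.rank) (Fin chevD4.rank) ℤ := !![0, 0, 0, 1; 1, 0, 0, 2; 0, 1, -1, 1; 0, 0, 1, 2]
def smQi_D4 : Matrix (Fin chevD4.rank) (Fin chevD4.rank) ℤ := !![-2, 1, 0, 0; -3, 0, 1, 1; -2, 0, 0, 1; 1, 0, 0, 0]
def smS_D4 : Fin chevD4.rank → ℕ := ![1, 1, 2, 2]

theorem smA_D4 : cartanMat chevD4 = smPi_D4 * Matrix.diagonal (fun j => (smS_D4 j : ℤ)) * smQi_D4 := by decide +kernel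
theorem smP1_D4 : smP_D4 * smPi_D4 = 1 := by decide +kernel
theorem smP2_D4 : smPi_D4 * smP_D4 = 1 := by decide +kernel
theorem smQ1_D4 : smQi_D4 * smQ_D4 = 1 := by decide +kernel

def smP_F4 : Matrix (Fin chevF4.rank) (Fin chevF4.rank) ℤ := !![-1, 0, 0, 0; 1, 0, -1, 0; -2, -1, 0, 0; -2, -2, -2, -1]
def smPi_F4 : Matrix (Fin chevF4.rank) (Fin chevF4.rank) ℤ := !![-1, 0, 0, 0; 2, 0, -1, 0; -1, -1, 0, 0; 0, 2, 2, -1]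
def smQ_F4 : Matrix (Fin chevF4.rank) (Fin chevF4.rank) ℤ := !![0, 0, 1, -2; 1, 0, 2, -4; 0, 0, 2, -3; 0, 1, 2, -2]
def smQi_F4 : Matrix (Fin chevF4.rank) (Fin chevF4.rank) ℤ := !![-2, 1, 0, 0; 2, 0, -2, 1; -3, 0, 2, 0; -2, 0, 1, 0]
def smS_F4 : Fin chevF4.rank → ℕ := ![1, 1, 1, 1]

theorem smA_F4 : cartanMat chevF4 = smPi_F4 * Matrix.diagonal (fun j => (smS_F4 j : ℤ)) * smQi_F4 := by decide +kernel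
theorem smP1_F4 : smP_F4 * smPi_F4 = 1 := by decide +kernel
theorem smP2_F4 : smPi_F4 * smP_F4 = 1 := by decide +kernel
theorem smQ1_F4 : smQi_F4 * smQ_F4 = 1 := by decide +kernel

def smP_E6 : Matrix (Fin chevE6.rank) (Fin chevE6.rank) ℤ := !![-1, 0, 0, 0, 0, 0; 0, -1, 0, 0, 0, 0; 1, -2, 0, -1, 0, 0; 2, -3, 0, -2, -1, 0; -2, 1, -1, 0, 0, 0; -5, 0, -4, -3, -2, -1]
def smPi_E6 : Matrix (Fin chevE6.rank) (Fin chevE6.rank) ℤ := !![-1, 0, 0, 0, 0, 0; 0, -1, 0, 0, 0, 0; 2, -1, 0, 0, -1, 0; -1, 2, -1, 0, 0, 0; 0, -1, 2, -1, 0, 0; 0, 0, -1, 2, 4, -1]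
def smQ_E6 : Matrix (Fin chevE6.rank) (Fin chevE6.rank) ℤ := !![0, 0, 0, 0, 1, -2; 0, 0, 0, 0, 2, -3; 1, 0, 0, 0, 2, -4; 0, 1, 0, 0, 4, -6; 0, 0, 1, 0, 4, -5; 0, 0, 0, 1, 4, -4]
def smQi_E6 : Matrix (Fin chevE6.rank) (Fin chevE6.rank) ℤ := !![-2, 0, 1, 0, 0, 0; 0, -2, 0, 1, 0, 0; 2, -3, 0, 0, 1, 0; 4, -4, 0, 0, 0, 1; -3, 2, 0, 0, 0, 0; -2, 1, 0, 0, 0, 0]
def smS_E6 : Fin chevE6.rank → ℕ := ![1, 1, 1, 1, 1, 3]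

theorem smA_E6 : cartanMat chevE6 = smPi_E6 * Matrix.diagonal (fun j => (smS_E6 j : ℤ)) * smQi_E6 := by decide +kernel
theorem smP1_E6 : smP_E6 * smPi_E6 = 1 := by decide +kernel
theorem smP2_E6 : smPi_E6 * smP_E6 = 1 := by decide +kernel
theorem smQ1_E6 : smQi_E6 * smQ_E6 = 1 := by decide +kernel

def smP_E7 : Matrix (Fin chevE7.rank) (Fin chevE7.rank) ℤ := !![-1, 0, 0, 0, 0, 0, 0; 0, -1, 0, 0, 0, 0, 0; 1, -2, 0, -1, 0, 0, 0; 2, -3, 0, -2, -1, 0, 0; 3, -4, 0, -3, -2, -1, 0; -2, 1, -1, 0, 0, 0, 0; -4, -1, -4, -4, -3, -2, -1]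
def smPi_E7 : Matrix (Fin chevE7.rank) (Fin chevE7.rank) ℤ := !![-1, 0, 0, 0, 0, 0, 0; 0, -1, 0, 0, 0, 0, 0; 2, -1, 0, 0, 0, -1, 0; -1, 2, -1, 0, 0, 0, 0; 0, -1, 2, -1, 0, 0, 0; 0, 0, -1, 2, -1, 0, 0; 0, 0, 0, -1, 2, 4, -1]
def smQ_E7 : Matrix (Fin chevE7.rank) (Fin chevE7.rank) ℤ := !![0, 0, 0, 0, 0, 1, -2; 0, 0, 0, 0, 0, 2, -3; 1, 0, 0, 0, 0, 2, -4; 0, 1, 0, 0, 0, 4, -6; 0, 0, 1, 0, 0, 4, -5; 0, 0, 0, 1, 0, 4, -4; 0, 0, 0, 0, 1, 4, -3]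
def smQi_E7 : Matrix (Fin chevE7.rank) (Fin chevE7.rank) ℤ := !![-2, 0, 1, 0, 0, 0, 0; 0, -2, 0, 1, 0, 0, 0; 2, -3, 0, 0, 1, 0, 0; 4, -4, 0, 0, 0, 1, 0; 6, -5, 0, 0, 0, 0, 1; -3, 2, 0, 0, 0, 0, 0; -2, 1, 0, 0, 0, 0, 0]
def smS_E7 : Fin chevE7.rank → ℕ := ![1, 1, 1, 1, 1, 1, 2]

theorem smA_E7 : cartanMat chevE7 = smPi_E7 * Matrix.diagonal (fun j => (smS_E7 j : ℤ)) * smQi_E7 := by decide +kernel
theorem smP1_E7 : smP_E7 * smPi_E7 = 1 := by decide +kernel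
theorem smP2_E7 : smPi_E7 * smP_E7 = 1 := by decide +kernel
theorem smQ1_E7 : smQi_E7 * smQ_E7 = 1 := by decide +kernel

def smP_E8 : Matrix (Fin chevE8.rank) (Fin chevE8.rank) ℤ := !![-1, 0, 0, 0, 0, 0, 0, 0; 0, -1, 0, 0, 0, 0, 0, 0; 1, -2, 0, -1, 0, 0, 0, 0; 2, -3, 0, -2, -1, 0, 0, 0; 3, -4, 0, -3, -2, -1, 0, 0; 4, -5, 0, -4, -3, -2, -1, 0; -2, 1, -1, 0, 0, 0, 0, 0; -3, -2, -4, -5, -4, -3, -2, -1]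
def smPi_E8 : Matrix (Fin chevE8.rank) (Fin chevE8.rank) ℤ := !![-1, 0, 0, 0, 0, 0, 0, 0; 0, -1, 0, 0, 0, 0, 0, 0; 2, -1, 0, 0, 0, 0, -1, 0; -1, 2, -1, 0, 0, 0, 0, 0; 0, -1, 2, -1, 0, 0, 0, 0; 0, 0, -1, 2, -1, 0, 0, 0; 0, 0, 0, -1, 2, -1, 0, 0; 0, 0, 0, 0, -1, 2, 4, -1]
def smQ_E8 : Matrix (Fin chevE8.rank) (Fin chevE8.rank) ℤ := !![0, 0, 0, 0, 0, 0, 1, -2; 0, 0, 0, 0, 0, 0, 2, -3; 1, 0, 0, 0, 0, 0, 2, -4; 0, 1, 0, 0, 0, 0, 4, -6; 0, 0, 1, 0, 0, 0, 4, -5; 0, 0, 0, 1, 0, 0, 4, -4; 0, 0, 0, 0, 1, 0, 4, -3; 0, 0, 0, 0, 0, 1, 4, -2]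
def smQi_E8 : Matrix (Fin chevE8.rank) (Fin chevE8.rank) ℤ := !![-2, 0, 1, 0, 0, 0, 0, 0; 0, -2, 0, 1, 0, 0, 0, 0; 2, -3, 0, 0, 1, 0, 0, 0; 4, -4, 0, 0, 0, 1, 0, 0; 6, -5, 0, 0, 0, 0, 1, 0; 8, -6, 0, 0, 0, 0, 0, 1; -3, 2, 0, 0, 0, 0, 0, 0; -2, 1, 0, 0, 0, 0, 0, 0]
def smS_E8 : Fin chevE8.rank → ℕ := ![1, 1, 1, 1, 1, 1, 1, 1]

theorem smA_E8 : cartanMat chevE8 = smPi_E8 * Matrix.diagonal (fun j => (smS_E8 j : ℤ)) * smQi_E8 := by decide +kernel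
theorem smP1_E8 : smP_E8 * smPi_E8 = 1 := by decide +kernel
theorem smP2_E8 : smPi_E8 * smP_E8 = 1 := by decide +kernel
theorem smQ1_E8 : smQi_E8 * smQ_E8 = 1 := by decide +kernel

end Cfsg.Agent.Lib.Helper5.TorusCount
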