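import Mathlib
import Cfsg.Agent.Lib.Helper5.TorusCountC

set_option autoImplicit false
set_option linter.style.haveILetI false
set_option linter.unusedSectionVars false

namespace Cfsg.Agent.Lib.Helper5.TorusCount

open Cfsg.Lie

variable {F : Type*} [Field F] [Fintype F]

theorem cardH_G2 :
    1 * Nat.card (chevG2.diagonalSubgroup F) = (Fintype.card F - 1) ^ chevG2.rank := by
  have h := card_diagonal_mul (F := F) chevG2 (by simp) smP_G2 smPi_G2 smQ_G2 smQi_G2 smS_G2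
    smA_G2 smP1_G2 smP2_G2 smQ1_G2
  have h' : (∏ j : Fin 2, Nat.gcd (Fintype.card F - 1) ((![1, 1] : Fin 2 → ℕ) j)) *
      Nat.card (chevG2.diagonalSubgroup F) = (Fintype.card F - 1) ^ chevG2.rank := h
  have hs : (∏ j : Fin 2, Nat.gcd (Fintype.card F - 1) ((![1, 1] : Fin 2 → ℕ) j)) = 1 := by
    simp [Fin.prod_univ_succ, Nat.gcd_comm, pow_two]
  rw [hs] at h'
  exact h'

theorem cardH_B2 :
    Nat.gcd 2 (Fintype.card F - 1) * Nat.card (chevB2.diagonalSubgroup F) = (Fintype.card F - 1) ^ chevB2.rank := by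
  have h := card_diagonal_mul (F := F) chevB2 (by simp) smP_B2 smPi_B2 smQ_B2 smQi_B2 smS_B2
    smA_B2 smP1_B2 smP2_B2 smQ1_B2
  have h' : (∏ j : Fin 2, Nat.gcd (Fintype.card F - 1) ((![1, 2] : Fin 2 → ℕ) j)) *
      Nat.card (chevB2.diagonalSubgroup F) = (Fintype.card F - 1) ^ chevB2.rank := h
  have hs : (∏ j : Fin 2, Nat.gcd (Fintype.card F - 1) ((![1, 2] : Fin 2 → ℕ) j)) = Nat.gcd 2 (Fintype.card F - 1) := by
    simp [Fin.prod_univ_succ, Nat.gcd_comm, pow_two]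
  rw [hs] at h'
  exact h'

theorem cardH_D4 :
    Nat.gcd 2 (Fintype.card F - 1) ^ 2 * Nat.card (chevD4.diagonalSubgroup F) = (Fintype.card F - 1) ^ chevD4.rank := by
  have h := card_diagonal_mul (F := F) chevD4 (by simp) smP_D4 smPi_D4 smQ_D4 smQi_D4 smS_D4
    smA_D4 smP1_D4 smP2_D4 smQ1_D4
  have h' : (∏ j : Fin 4, Nat.gcd (Fintype.card F - 1) ((![1, 1, 2, 2] : Fin 4 → ℕ) j)) *
      Nat.card (chevD4.diagonalSubgroup F) = (Fintype.card F - 1) ^ chevD4.rank := h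
  have hs : (∏ j : Fin 4, Nat.gcd (Fintype.card F - 1) ((![1, 1, 2, 2] : Fin 4 → ℕ) j)) = Nat.gcd 2 (Fintype.card F - 1) ^ 2 := by
    simp [Fin.prod_univ_succ, Nat.gcd_comm, pow_two]
  rw [hs] at h'
  exact h'

theorem cardH_F4 :
    1 * Nat.card (chevF4.diagonalSubgroup F) = (Fintype.card F - 1) ^ chevF4.rank := by
  have h := card_diagonal_mul (F := F) chevF4 (by simp) smP_F4 smPi_F4 smQ_F4 smQi_F4 smS_F4
    smA_F4 smP1_F4 smP2_F4 smQ1_F4
  have h' : (∏ j : Fin 4, Nat.gcd (Fintype.card F - 1) ((![1, 1, 1, 1] : Fin 4 → ℕ) j)) *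
      Nat.card (chevF4.diagonalSubgroup F) = (Fintype.card F - 1) ^ chevF4.rank := h
  have hs : (∏ j : Fin 4, Nat.gcd (Fintype.card F - 1) ((![1, 1, 1, 1] : Fin 4 → ℕ) j)) = 1 := by
    simp [Fin.prod_univ_succ, Nat.gcd_comm, pow_two]
  rw [hs] at h'
  exact h'

theorem cardH_E6 :
    Nat.gcd 3 (Fintype.card F - 1) * Nat.card (chevE6.diagonalSubgroup F) = (Fintype.card F - 1) ^ chevE6.rank := by
  have h := card_diagonal_mul (F := F) chevE6 (by simp) smP_E6 smPi_E6 smQ_E6 smQi_E6 smS_E6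
    smA_E6 smP1_E6 smP2_E6 smQ1_E6
  have h' : (∏ j : Fin 6, Nat.gcd (Fintype.card F - 1) ((![1, 1, 1, 1, 1, 3] : Fin 6 → ℕ) j)) *
      Nat.card (chevE6.diagonalSubgroup F) = (Fintype.card F - 1) ^ chevE6.rank := h
  have hs : (∏ j : Fin 6, Nat.gcd (Fintype.card F - 1) ((![1, 1, 1, 1, 1, 3] : Fin 6 → ℕ) j)) = Nat.gcd 3 (Fintype.card F - 1) := by
    simp [Fin.prod_univ_succ, Nat.gcd_comm, pow_two]
  rw [hs] at h'
  exact h'

theorem cardH_E7 :
    Nat.gcd 2 (Fintype.card F - 1) * Nat.card (chevE7.diagonalSubgroup F) = (Fintype.card F - 1) ^ chevE7.rank := by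
  have h := card_diagonal_mul (F := F) chevE7 (by simp) smP_E7 smPi_E7 smQ_E7 smQi_E7 smS_E7
    smA_E7 smP1_E7 smP2_E7 smQ1_E7
  have h' : (∏ j : Fin 7, Nat.gcd (Fintype.card F - 1) ((![1, 1, 1, 1, 1, 1, 2] : Fin 7 → ℕ) j)) *
      Nat.card (chevE7.diagonalSubgroup F) = (Fintype.card F - 1) ^ chevE7.rank := h
  have hs : (∏ j : Fin 7, Nat.gcd (Fintype.card F - 1) ((![1, 1, 1, 1, 1, 1, 2] : Fin 7 → ℕ) j)) = Nat.gcd 2 (Fintype.card F - 1) := by
    simp [Fin.prod_univ_succ, Nat.gcd_comm, pow_two]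
  rw [hs] at h'
  exact h'

theorem cardH_E8 :
    1 * Nat.card (chevE8.diagonalSubgroup F) = (Fintype.card F - 1) ^ chevE8.rank := by
  have h := card_diagonal_mul (F := F) chevE8 (by simp) smP_E8 smPi_E8 smQ_E8 smQi_E8 smS_E8
    smA_E8 smP1_E8 smP2_E8 smQ1_E8
  have h' : (∏ j : Fin 8, Nat.gcd (Fintype.card F - 1) ((![1, 1, 1, 1, 1, 1, 1, 1] : Fin 8 → ℕ) j)) *
      Nat.card (chevE8.diagonalSubgroup F) = (Fintype.card F - 1) ^ chevE8.rank := h
  have hs : (∏ j : Fin 8, Nat.gcd (Fintype.card F - 1) ((![1, 1, 1, 1, 1, 1, 1, 1] : Fin 8 → ℕ) j)) = 1 := by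
    simp [Fin.prod_univ_succ, Nat.gcd_comm, pow_two]
  rw [hs] at h'
  exact h'

end Cfsg.Agent.Lib.Helper5.TorusCount
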