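import Mathlib
import Cfsg.Agent.Lib.Helper5.SSClassA

set_option autoImplicit false
set_option linter.style.haveILetI false
set_option linter.unusedSectionVars false

namespace Cfsg.Agent.Lib.Helper5.TransConj

open Polynomial Module Cfsg.Agent.Lib.Helper5.SSClass

/-- an `F[X]`-module has an invariant left-nondegenerate bilinear form -/
def HasInvForm (F : Type*) [Field F] (M : Type*) [AddCommGroup M] [Module F[X] M] [Module F M]
    [IsScalarTower F F[X] M] : Prop :=
  ∃ B : M →ₗ[F] M →ₗ[F] F, (∀ a b, B ((X : F[X]) • a) b = B a ((X : F[X]) • b)) ∧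
    ∀ a, (∀ b, B a b = 0) → a = 0

section transport

variable {F : Type*} [Field F] {M N : Type*} [AddCommGroup M] [Module F[X] M] [Module F M]
  [IsScalarTower F F[X] M] [AddCommGroup N] [Module F[X] N] [Module F N]
  [IsScalarTower F F[X] N]

theorem HasInvForm.of_equiv (e : M ≃ₗ[F[X]] N) (h : HasInvForm F N) : HasInvForm F M := by
  obtain ⟨B, hB, hnd⟩ := h
  let eF : M →ₗ[F] N := (e.restrictScalars F : M ≃ₗ[F] N)
  refine ⟨B.compl₁₂ eF eF, ?_, ?_⟩
  · intro a b
    show B (e (X • a)) (e b) = B (e a) (e (X • b))
    rw [LinearEquiv.map_smul e, LinearEquiv.map_smul e, hB]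
  · intro a ha
    apply e.injective
    rw [map_zero]
    apply hnd
    intro b
    have := ha (e.symm b)
    simpa [eF] using this

end transport

section pi

variable {F : Type*} [Field F] {ι : Type*} [Fintype ι] [DecidableEq ι] (M : ι → Type*)
  [∀ i, AddCommGroup (M i)] [∀ i, Module F[X] (M i)] [∀ i, Module F (M i)]
  [∀ i, IsScalarTower F F[X] (M i)]

theorem HasInvForm.pi (h : ∀ i, HasInvForm F (M i)) : HasInvForm F (∀ i, M i) := by
  choose B hB hnd using h
  refine ⟨∑ i, (B i).compl₁₂ (LinearMap.proj i) (LinearMap.proj i), ?_, ?_⟩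
  · intro a b
    simp only [LinearMap.sum_apply, LinearMap.compl₁₂_apply, LinearMap.proj_apply, Pi.smul_apply]
    apply Finset.sum_congr rfl
    intro i _
    exact hB i _ _
  · intro a ha
    funext i
    apply hnd i
    intro b
    have := ha (Pi.single i b)
    simp only [LinearMap.sum_apply, LinearMap.compl₁₂_apply, LinearMap.proj_apply] at this
    rw [Finset.sum_eq_single i] at this
    · simpa using this
    · intro j _ hj
      rw [Pi.single_eq_of_ne hj, map_zero]
    · intro h; exact absurd (Finset.mem_univ i) h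

end pi

end Cfsg.Agent.Lib.Helper5.TransConj
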