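import Mathlib
import Cfsg.Agent.Lib.Helper5.TransConjA

set_option autoImplicit false
set_option linter.style.haveILetI false
set_option linter.unusedSectionVars false

namespace Cfsg.Agent.Lib.Helper5.TransConj

open Polynomial Module Cfsg.Agent.Lib.Helper5.SSClass

section cyclic

variable {F : Type*} [Field F]

/-- the top-coefficient functional on polynomials modulo a monic polynomial -/
noncomputable def topCoeff₀ (f : F[X]) : F[X] →ₗ[F] F :=
  (lcoeff F (f.natDegree - 1)) ∘ₗ (modByMonicHom f)

theorem topCoeff₀_apply (f g : F[X]) : topCoeff₀ f g = (g %ₘ f).coeff (f.natDegree - 1) := rfl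

theorem topCoeff₀_mem {f : F[X]} (hf : f.Monic) (g : F[X]) (hg : g ∈ Ideal.span {f}) :
    topCoeff₀ f g = 0 := by
  rw [topCoeff₀_apply, (modByMonic_eq_zero_iff_dvd hf).2 (Ideal.mem_span_singleton.1 hg), coeff_zero]

/-- the induced functional on the quotient -/
noncomputable def topCoeff {f : F[X]} (hf : f.Monic) : (F[X] ⧸ Ideal.span {f}) →ₗ[F] F :=
  (((Ideal.span {f}).restrictScalars F).liftQ (topCoeff₀ f) (fun g hg => by
    rw [LinearMap.mem_ker]; exact topCoeff₀_mem hf g hg)) ∘ₗ
    (Submodule.Quotient.restrictScalarsEquiv F (Ideal.span {f})).symm.toLinearMap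

theorem topCoeff_mk {f : F[X]} (hf : f.Monic) (g : F[X]) :
    topCoeff hf (Ideal.Quotient.mk (Ideal.span {f}) g) = (g %ₘ f).coeff (f.natDegree - 1) := rfl

theorem hasInvForm_quot_monic {f : F[X]} (hf : f.Monic) :
    HasInvForm F (F[X] ⧸ Ideal.span {f}) := by
  refine ⟨(LinearMap.mul F (F[X] ⧸ Ideal.span {f})).compr₂ (topCoeff hf), ?_, ?_⟩
  · intro a b
    simp only [LinearMap.compr₂_apply, LinearMap.mul_apply']
    rw [smul_mul_assoc, mul_smul_comm]
  · intro a ha
    by_contra hne
    obtain ⟨g, rfl⟩ := Ideal.Quotient.mk_surjective a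
    set r := g %ₘ f with hr
    have hmk : Ideal.Quotient.mk (Ideal.span {f}) g = Ideal.Quotient.mk (Ideal.span {f}) r := by
      rw [Ideal.Quotient.eq, Ideal.mem_span_singleton]
      refine ⟨g /ₘ f, ?_⟩
      have := modByMonic_add_div g f
      rw [hr]
      nth_rewrite 1 [← this]
      ring
    have hr0 : r ≠ 0 := by
      intro h
      rw [h, map_zero] at hmk
      exact hne hmk
    have hdeg : r.degree < f.degree := degree_modByMonic_lt g hf
    have hnat : r.natDegree < f.natDegree := natDegree_lt_natDegree hr0 hdeg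
    have h := ha (Ideal.Quotient.mk (Ideal.span {f}) (X ^ (f.natDegree - 1 - r.natDegree)))
    simp only [LinearMap.compr₂_apply, LinearMap.mul_apply'] at h
    rw [hmk, ← map_mul, topCoeff_mk] at h
    have hlt : (r * X ^ (f.natDegree - 1 - r.natDegree)).degree < f.degree := by
      rw [degree_mul, degree_X_pow, degree_eq_natDegree hr0, degree_eq_natDegree hf.ne_zero]
      norm_cast
      omega
    rw [(modByMonic_eq_self_iff hf).2 hlt] at h
    obtain ⟨e, he⟩ : ∃ e, f.natDegree - 1 = r.natDegree + e := ⟨f.natDegree - 1 - r.natDegree, by omega⟩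
    have he' : f.natDegree - 1 - r.natDegree = e := by omega
    rw [he', he, coeff_mul_X_pow] at h
    exact hr0 (leadingCoeff_eq_zero.1 h)

end cyclic

end Cfsg.Agent.Lib.Helper5.TransConj

namespace Cfsg.Agent.Lib.Helper5.TransConj

open Polynomial Module Cfsg.Agent.Lib.Helper5.SSClass

theorem hasInvForm_quot {F : Type*} [Field F] {f : F[X]} (hf : f ≠ 0) :
    HasInvForm F (F[X] ⧸ Submodule.span F[X] {f}) := by
  have h : Submodule.span F[X] {f} = Ideal.span {f * C f.leadingCoeff⁻¹} := by
    show Ideal.span {f} = Ideal.span {f * C f.leadingCoeff⁻¹}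
    rw [Ideal.span_singleton_eq_span_singleton]
    refine ⟨⟨C f.leadingCoeff⁻¹, C f.leadingCoeff, ?_, ?_⟩, rfl⟩
    · rw [← C_mul, inv_mul_cancel₀ (leadingCoeff_ne_zero.2 hf), C_1]
    · rw [← C_mul, mul_inv_cancel₀ (leadingCoeff_ne_zero.2 hf), C_1]
  rw [h]
  exact hasInvForm_quot_monic (monic_mul_leadingCoeff_inv hf)

universe u v

theorem hasInvForm_of_finite {F : Type u} [Field F] (M : Type v) [AddCommGroup M] [Module F[X] M]
    [Module F M] [IsScalarTower F F[X] M] [Module.Finite F M] : HasInvForm F M := by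
  classical
  haveI : Module.Finite F[X] M := Module.Finite.of_restrictScalars_finite F F[X] M
  have htors : Module.IsTorsion F[X] M := by
    intro x
    exact ⟨⟨cp F M, mem_nonZeroDivisors_of_ne_zero (cp_ne_zero F M)⟩, cp_smul F M x⟩
  obtain ⟨ι, _, p, hp, e, ⟨E⟩⟩ := Module.equiv_directSum_of_isTorsion htors
  let E' := E.trans (DirectSum.linearEquivFunOnFintype F[X] ι
    (fun i => F[X] ⧸ Submodule.span F[X] {p i ^ e i}))
  apply HasInvForm.of_equiv E'
  apply HasInvForm.pi
  intro i
  exact hasInvForm_quot (pow_ne_zero _ (hp i).ne_zero)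

end Cfsg.Agent.Lib.Helper5.TransConj
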