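import Mathlib
import Cfsg.Agent.Lib.Helper5.TransConjB

set_option autoImplicit false
set_option linter.style.haveILetI false
set_option linter.unusedSectionVars false

namespace Cfsg.Agent.Lib.Helper5.TransConj

open Polynomial Module Cfsg.Agent.Lib.Helper5.SSClass

/-- every square matrix over a field is similar to its transpose -/
theorem exists_conj_transpose {F : Type*} [Field F] {ι : Type*} [Fintype ι] [DecidableEq ι]
    (A : Matrix ι ι F) : ∃ S : Matrix ι ι F, S.det ≠ 0 ∧ S * A = A.transpose * S := by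
  let f : Module.End F (ι → F) := Matrix.toLin' A
  obtain ⟨B, hB, hnd⟩ := hasInvForm_of_finite (F := F) (AEval' f)
  let o : (ι → F) →ₗ[F] AEval' f := (AEval'.of f : (ι → F) ≃ₗ[F] AEval' f)
  let B₀ : (ι → F) →ₗ[F] (ι → F) →ₗ[F] F := B.compl₁₂ o o
  have hinv : B₀.comp f = B₀.compl₂ f := by
    apply LinearMap.ext
    intro x
    apply LinearMap.ext
    intro y
    show B (AEval'.of f (f x)) (AEval'.of f y) = B (AEval'.of f x) (AEval'.of f (f y))
    rw [← AEval'.X_smul_of, ← AEval'.X_smul_of, hB]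
  have h1 := congrArg (LinearMap.toMatrix₂' F) hinv
  rw [LinearMap.toMatrix₂'_comp, LinearMap.toMatrix₂'_compl₂, LinearMap.toMatrix'_toLin'] at h1
  refine ⟨LinearMap.toMatrix₂' F B₀, ?_, h1.symm⟩
  intro hdet
  obtain ⟨v, hv, hvS⟩ := Matrix.exists_vecMul_eq_zero_iff.2 hdet
  have h2 : ∀ y, B₀ v y = 0 := by
    intro y
    have h3 : B₀ = Matrix.toLinearMap₂' F (LinearMap.toMatrix₂' F B₀) :=
      (Matrix.toLinearMap₂'_toMatrix' (R := F) B₀).symm
    rw [h3, Matrix.toLinearMap₂'_apply', Matrix.dotProduct_mulVec, hvS, zero_dotProduct]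
  have h4 : AEval'.of f v = 0 := by
    apply hnd
    intro b
    have := h2 ((AEval'.of f).symm b)
    simpa [B₀, o] using this
  apply hv
  simpa using h4

end Cfsg.Agent.Lib.Helper5.TransConj
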