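import Mathlib
import Cfsg.Prelude.Def_JordanBlocks

set_option autoImplicit false
set_option linter.style.haveILetI false
set_option linter.unusedSectionVars false

namespace Cfsg.Agent.Lib.Helper5.UniCent

variable {F : Type*} [Field F] {t : ℕ} (d : Fin t → ℕ)

/-- the nilpotent part of the unipotent Jordan matrix -/
def Nm : Matrix ((k : Fin t) × Fin (d k)) ((k : Fin t) × Fin (d k)) F :=
  Matrix.of fun a b => if a.1 = b.1 ∧ a.2.val = b.2.val + 1 then 1 else 0

theorem jordan_eq : Cfsg.jordanTypeMatrix d F = 1 + Nm d := by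
  ext ⟨l, i⟩ ⟨k, j⟩
  rw [Matrix.add_apply]
  unfold Cfsg.jordanTypeMatrix Nm
  rw [Matrix.blockDiagonal'_apply, Matrix.of_apply, Matrix.one_apply]
  by_cases hlk : l = k
  · subst hlk
    rw [dif_pos rfl]
    simp only [cast_eq, true_and]
    unfold Cfsg.jordanBlock
    rw [Matrix.of_apply]
    by_cases hij : (i : ℕ) = j
    · have : i = j := Fin.ext hij
      subst this
      rw [if_pos rfl, if_pos rfl, if_neg (by omega), add_zero]
    · rw [if_neg hij]
      have : (⟨l, i⟩ : (k : Fin t) × Fin (d k)) ≠ ⟨l, j⟩ := by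
        intro h
        rw [Sigma.mk.inj_iff] at h
        exact hij (by rw [eq_of_heq h.2])
      rw [if_neg this, zero_add]
  · rw [dif_neg hlk]
    have : (⟨l, i⟩ : (k : Fin t) × Fin (d k)) ≠ ⟨k, j⟩ := by
      intro h
      rw [Sigma.mk.inj_iff] at h
      exact hlk h.1
    rw [if_neg this, if_neg (by simp [hlk]), add_zero]

theorem comm_iff (g : Matrix ((k : Fin t) × Fin (d k)) ((k : Fin t) × Fin (d k)) F) :
    g * Cfsg.jordanTypeMatrix d F = Cfsg.jordanTypeMatrix d F * g ↔ g * Nm d = Nm d * g := by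
  rw [jordan_eq, mul_add, add_mul, mul_one, one_mul]
  exact add_right_inj g

theorem sum_mul_N (φ : ((k : Fin t) × Fin (d k)) → F) (k : Fin t) (j : Fin (d k)) :
    ∑ c, φ c * (Nm d : Matrix _ _ F) c ⟨k, j⟩ =
      if h : j.val + 1 < d k then φ ⟨k, ⟨j.val + 1, h⟩⟩ else 0 := by
  by_cases h : j.val + 1 < d k
  · rw [dif_pos h, Finset.sum_eq_single (⟨k, ⟨j.val + 1, h⟩⟩ : (k : Fin t) × Fin (d k))]
    · unfold Nm
      rw [Matrix.of_apply, if_pos ⟨rfl, rfl⟩, mul_one]
    · rintro ⟨c1, c2⟩ _ hc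
      unfold Nm
      rw [Matrix.of_apply, if_neg, mul_zero]
      rintro ⟨h1, h2⟩
      apply hc
      simp only at h1 h2
      subst h1
      have : c2 = ⟨j.val + 1, h⟩ := Fin.ext h2
      rw [this]
    · intro h'
      exact absurd (Finset.mem_univ _) h'
  · rw [dif_neg h]
    apply Finset.sum_eq_zero
    rintro ⟨c1, c2⟩ _
    unfold Nm
    rw [Matrix.of_apply, if_neg, mul_zero]
    rintro ⟨h1, h2⟩
    simp only at h1 h2
    subst h1
    have := c2.2
    omega

theorem sum_N_mul (φ : ((k : Fin t) × Fin (d k)) → F) (l : Fin t) (i : Fin (d l)) :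
    ∑ c, (Nm d : Matrix _ _ F) ⟨l, i⟩ c * φ c =
      if h : 0 < i.val then φ ⟨l, ⟨i.val - 1, by have := i.2; omega⟩⟩ else 0 := by
  by_cases h : 0 < i.val
  · rw [dif_pos h, Finset.sum_eq_single
      (⟨l, ⟨i.val - 1, by have := i.2; omega⟩⟩ : (k : Fin t) × Fin (d k))]
    · unfold Nm
      rw [Matrix.of_apply, if_pos ⟨rfl, by simp only; omega⟩, one_mul]
    · rintro ⟨c1, c2⟩ _ hc
      unfold Nm
      rw [Matrix.of_apply, if_neg, zero_mul]
      rintro ⟨h1, h2⟩
      apply hc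
      simp only at h1 h2
      subst h1
      have : c2 = ⟨i.val - 1, by have := i.2; omega⟩ := Fin.ext (by simp only; omega)
      rw [this]
    · intro h'
      exact absurd (Finset.mem_univ _) h'
  · rw [dif_neg h]
    apply Finset.sum_eq_zero
    rintro ⟨c1, c2⟩ _
    unfold Nm
    rw [Matrix.of_apply, if_neg, zero_mul]
    rintro ⟨h1, h2⟩
    simp only at h1 h2
    omega

/-- zero-extended entries -/
def ext0 (g : Matrix ((k : Fin t) × Fin (d k)) ((k : Fin t) × Fin (d k)) F)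
    (l : Fin t) (i : ℕ) (k : Fin t) (j : ℕ) : F :=
  if h : i < d l ∧ j < d k then g ⟨l, ⟨i, h.1⟩⟩ ⟨k, ⟨j, h.2⟩⟩ else 0

theorem ext0_apply (g : Matrix ((k : Fin t) × Fin (d k)) ((k : Fin t) × Fin (d k)) F)
    (a b : (k : Fin t) × Fin (d k)) : ext0 d g a.1 a.2.val b.1 b.2.val = g a b := by
  unfold ext0
  rw [dif_pos ⟨a.2.2, b.2.2⟩]

theorem ext0_zero (g : Matrix ((k : Fin t) × Fin (d k)) ((k : Fin t) × Fin (d k)) F)
    (l : Fin t) (i : ℕ) (k : Fin t) (j : ℕ) (h : ¬ (i < d l ∧ j < d k)) :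
    ext0 d g l i k j = 0 := by
  unfold ext0
  rw [dif_neg h]

/-- the commutation relation, on zero-extended entries -/
theorem ext0_comm (g : Matrix ((k : Fin t) × Fin (d k)) ((k : Fin t) × Fin (d k)) F)
    (hg : g * Nm d = Nm d * g) (l : Fin t) (i : ℕ) (k : Fin t) (j : ℕ) (hi : i < d l)
    (hj : j < d k) :
    ext0 d g l i k (j + 1) = if i = 0 then 0 else ext0 d g l (i - 1) k j := by
  have h := congrFun (congrFun hg ⟨l, ⟨i, hi⟩⟩) ⟨k, ⟨j, hj⟩⟩
  rw [Matrix.mul_apply, Matrix.mul_apply, sum_mul_N, sum_N_mul] at h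
  simp only at h
  by_cases h1 : j + 1 < d k
  · rw [dif_pos h1] at h
    unfold ext0
    rw [dif_pos ⟨hi, h1⟩, h]
    by_cases h2 : 0 < i
    · rw [dif_pos h2, if_neg (by omega), dif_pos ⟨by omega, hj⟩]
    · rw [dif_neg h2, if_pos (by omega)]
  · rw [dif_neg h1] at h
    rw [ext0_zero d g l i k (j + 1) (by omega)]
    by_cases h2 : 0 < i
    · rw [dif_pos h2] at h
      rw [if_neg (by omega)]
      unfold ext0
      rw [dif_pos ⟨by omega, hj⟩, ← h]
    · rw [if_pos (by omega)]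

end Cfsg.Agent.Lib.Helper5.UniCent
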