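import Mathlib
import Cfsg.Agent.Lib.Helper5.UniCentA

set_option autoImplicit false
set_option linter.style.haveILetI false
set_option linter.unusedSectionVars false

namespace Cfsg.Agent.Lib.Helper5.UniCent

variable {F : Type*} [Field F] {t : ℕ} (d : Fin t → ℕ)

section struct

variable (g : Matrix ((k : Fin t) × Fin (d k)) ((k : Fin t) × Fin (d k)) F)
  (hg : g * Nm d = Nm d * g)

include hg

theorem ext0_diag (l k : Fin t) (i j : ℕ) (hi : i + 1 < d l) (hj : j < d k) :
    ext0 d g l (i + 1) k (j + 1) = ext0 d g l i k j := by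
  rw [ext0_comm d g hg l (i + 1) k j hi hj, if_neg (by omega)]
  rfl

theorem ext0_row0 (l k : Fin t) (j : ℕ) (hl : 0 < d l) (hj : j < d k) :
    ext0 d g l 0 k (j + 1) = 0 := by
  rw [ext0_comm d g hg l 0 k j hl hj, if_pos rfl]

theorem ext0_A (l k : Fin t) (u s : ℕ) (h1 : s + u < d l) (h2 : u ≤ d k) :
    ext0 d g l (s + u) k u = ext0 d g l s k 0 := by
  induction u with
  | zero => rfl
  | succ u ih =>
    rw [← add_assoc, ext0_diag d g hg l k (s + u) u (by omega) (by omega)]
    exact ih (by omega) (by omega)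

theorem ext0_B (l k : Fin t) (u s : ℕ) (h1 : u < d l) (h2 : s + u ≤ d k) :
    ext0 d g l u k (s + u) = ext0 d g l 0 k s := by
  induction u with
  | zero => rfl
  | succ u ih =>
    rw [← add_assoc, ext0_diag d g hg l k u (s + u) (by omega) (by omega)]
    exact ih (by omega) (by omega)

theorem ext0_C (l k : Fin t) (s : ℕ) (h : s + d k < d l) : ext0 d g l s k 0 = 0 := by
  rw [← ext0_A d g hg l k (d k) s h le_rfl]
  exact ext0_zero d g l _ k _ (by omega)

theorem ext0_D (l k : Fin t) (i j : ℕ) (hi : i < d l) (hj : j < d k) (hij : i < j) :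
    ext0 d g l i k j = 0 := by
  have h1 := ext0_B d g hg l k i (j - i) hi (by omega)
  rw [show j - i + i = j by omega] at h1
  rw [h1]
  have h2 := ext0_row0 d g hg l k (j - i - 1) (by omega) (by omega)
  rw [show j - i - 1 + 1 = j - i by omega] at h2
  exact h2

theorem ext0_E (l k : Fin t) (i j : ℕ) (hi : i < d l) (hj : j < d k) (hij : j ≤ i) :
    ext0 d g l i k j = ext0 d g l (i - j) k 0 := by
  have h1 := ext0_A d g hg l k j (i - j) (by omega) (by omega)
  rw [show i - j + j = i by omega] at h1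
  exact h1

end struct

/-- the matrix with prescribed Toeplitz profile -/
def toMat (f : Fin t → Fin t → ℕ → F) :
    Matrix ((k : Fin t) × Fin (d k)) ((k : Fin t) × Fin (d k)) F :=
  Matrix.of fun a b => if b.2.val ≤ a.2.val then f a.1 b.1 (a.2.val - b.2.val) else 0

theorem toMat_congr (f f' : Fin t → Fin t → ℕ → F)
    (h : ∀ l k s, s < d l → f l k s = f' l k s) : toMat d f = toMat d f' := by
  ext a b
  unfold toMat
  rw [Matrix.of_apply, Matrix.of_apply]
  by_cases h1 : b.2.val ≤ a.2.val
  · rw [if_pos h1, if_pos h1]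
    exact h _ _ _ (by have := a.2.2; omega)
  · rw [if_neg h1, if_neg h1]

theorem toMat_comm (f : Fin t → Fin t → ℕ → F)
    (hf : ∀ l k s, s + d k < d l → f l k s = 0) : toMat d f * Nm d = Nm d * toMat d f := by
  ext ⟨l, i⟩ ⟨k, j⟩
  rw [Matrix.mul_apply, Matrix.mul_apply, sum_mul_N, sum_N_mul]
  unfold toMat
  simp only [Matrix.of_apply]
  have hi := i.2
  have hj := j.2
  by_cases h1 : j.val + 1 < d k
  · rw [dif_pos h1]
    by_cases h2 : 0 < i.val
    · rw [dif_pos h2]
      by_cases h3 : j.val + 1 ≤ i.val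
      · rw [if_pos h3, if_pos (by omega)]
        congr 1
        omega
      · rw [if_neg h3, if_neg (by omega)]
    · rw [dif_neg h2, if_neg (by omega)]
  · rw [dif_neg h1]
    by_cases h2 : 0 < i.val
    · rw [dif_pos h2]
      by_cases h3 : j.val ≤ i.val - 1
      · rw [if_pos h3]
        symm
        apply hf
        omega
      · rw [if_neg h3]
    · rw [dif_neg h2]

/-- the profile of a matrix: column zero of each block -/
def prof (g : Matrix ((k : Fin t) × Fin (d k)) ((k : Fin t) × Fin (d k)) F) :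
    Fin t → Fin t → ℕ → F := fun l k s => ext0 d g l s k 0

theorem eq_toMat_prof (g : Matrix ((k : Fin t) × Fin (d k)) ((k : Fin t) × Fin (d k)) F)
    (hg : g * Nm d = Nm d * g) : g = toMat d (prof d g) := by
  ext a b
  unfold toMat prof
  rw [Matrix.of_apply, ← ext0_apply d g a b]
  by_cases h1 : b.2.val ≤ a.2.val
  · rw [if_pos h1]
    exact ext0_E d g hg a.1 b.1 a.2.val b.2.val a.2.2 b.2.2 h1
  · rw [if_neg h1]
    exact ext0_D d g hg a.1 b.1 a.2.val b.2.val a.2.2 b.2.2 (by omega)

theorem prof_zero (g : Matrix ((k : Fin t) × Fin (d k)) ((k : Fin t) × Fin (d k)) F)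
    (hg : g * Nm d = Nm d * g) (l k : Fin t) (s : ℕ) (h : s + d k < d l) :
    prof d g l k s = 0 := ext0_C d g hg l k s h

theorem prof_toMat (f : Fin t → Fin t → ℕ → F) (l k : Fin t) (s : ℕ) (hs : s < d l)
    (hk : 0 < d k) : prof d (toMat d f) l k s = f l k s := by
  unfold prof ext0
  rw [dif_pos ⟨hs, hk⟩]
  unfold toMat
  rw [Matrix.of_apply]
  simp only [Nat.zero_le, if_true, Nat.sub_zero]

end Cfsg.Agent.Lib.Helper5.UniCent
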