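import Mathlib
import Cfsg.Agent.Lib.Helper5.UniCentB

set_option autoImplicit false
set_option linter.style.haveILetI false
set_option linter.unusedSectionVars false

namespace Cfsg.Agent.Lib.Helper5.UniCent

variable {F : Type*} [Field F] {t : ℕ} (d : Fin t → ℕ) (hd : ∀ k, 1 ≤ d k)

/-- the top-left corners of the blocks -/
def Rm (g : Matrix ((k : Fin t) × Fin (d k)) ((k : Fin t) × Fin (d k)) F) :
    Matrix (Fin t) (Fin t) F :=
  Matrix.of fun l k => g ⟨l, ⟨0, hd l⟩⟩ ⟨k, ⟨0, hd k⟩⟩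

theorem vecMul_N (v : ((k : Fin t) × Fin (d k)) → F) (k : Fin t) (j : Fin (d k)) :
    (Matrix.vecMul v (Nm d)) ⟨k, j⟩ =
      if h : j.val + 1 < d k then v ⟨k, ⟨j.val + 1, h⟩⟩ else 0 :=
  sum_mul_N d v k j

theorem vecMul_supp0 (g : Matrix ((k : Fin t) × Fin (d k)) ((k : Fin t) × Fin (d k)) F)
    (w : ((k : Fin t) × Fin (d k)) → F) (hw : ∀ a, a.2.val ≠ 0 → w a = 0)
    (b : (k : Fin t) × Fin (d k)) :
    (Matrix.vecMul w g) b = ∑ l, w ⟨l, ⟨0, hd l⟩⟩ * g ⟨l, ⟨0, hd l⟩⟩ b := by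
  show ∑ a, w a * g a b = _
  rw [Fintype.sum_sigma]
  apply Finset.sum_congr rfl
  intro l _
  rw [Finset.sum_eq_single (⟨0, hd l⟩ : Fin (d l))]
  · intro i _ hi
    rw [hw ⟨l, i⟩ (fun h => hi (Fin.ext h)), zero_mul]
  · intro h
    exact absurd (Finset.mem_univ _) h

theorem kernel_descend (g : Matrix ((k : Fin t) × Fin (d k)) ((k : Fin t) × Fin (d k)) F)
    (hg : g * Nm d = Nm d * g) (n : ℕ) :
    ∀ v : ((k : Fin t) × Fin (d k)) → F, v ≠ 0 → (∀ a, n ≤ a.2.val → v a = 0) →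
      Matrix.vecMul v g = 0 →
      ∃ w : ((k : Fin t) × Fin (d k)) → F, w ≠ 0 ∧ Matrix.vecMul w g = 0 ∧
        Matrix.vecMul w (Nm d) = 0 := by
  induction n with
  | zero =>
    intro v hv hz _
    exfalso
    apply hv
    funext a
    exact hz a (Nat.zero_le _)
  | succ n ih =>
    intro v hv hz hvg
    by_cases hN : Matrix.vecMul v (Nm d) = 0
    · exact ⟨v, hv, hvg, hN⟩
    · apply ih _ hN
      · rintro ⟨k, j⟩ hj
        rw [vecMul_N]
        by_cases h : j.val + 1 < d k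
        · rw [dif_pos h]
          apply hz
          simp only at hj ⊢
          omega
        · rw [dif_neg h]
      · rw [Matrix.vecMul_vecMul, ← hg, ← Matrix.vecMul_vecMul, hvg, Matrix.zero_vecMul]

include hd in
theorem det_eq_zero_of_Rm (g : Matrix ((k : Fin t) × Fin (d k)) ((k : Fin t) × Fin (d k)) F)
    (hg : g * Nm d = Nm d * g) (h : (Rm d hd g).det = 0) : g.det = 0 := by
  classical
  obtain ⟨wb, hwb, hwbR⟩ := Matrix.exists_vecMul_eq_zero_iff.mpr h
  rw [← Matrix.exists_vecMul_eq_zero_iff]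
  refine ⟨fun a => if a.2.val = 0 then wb a.1 else 0, ?_, ?_⟩
  · intro h0
    apply hwb
    funext l
    have := congrFun h0 ⟨l, ⟨0, hd l⟩⟩
    simpa using this
  · funext b
    rw [vecMul_supp0 d hd g _ (fun a ha => if_neg ha) b]
    simp only [if_true, Pi.zero_apply]
    by_cases hb : b.2.val = 0
    · have hb' : b = ⟨b.1, ⟨0, hd b.1⟩⟩ := by
        rcases b with ⟨b1, b2⟩
        simp only at hb
        have : b2 = ⟨0, hd b1⟩ := Fin.ext hb
        rw [this]
      have := congrFun hwbR b.1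
      rw [hb']
      exact this
    · apply Finset.sum_eq_zero
      intro l _
      rw [← ext0_apply d g ⟨l, ⟨0, hd l⟩⟩ b, ext0_D d g hg l b.1 0 b.2.val (hd l) b.2.2 (by omega),
        mul_zero]

include hd in
theorem Rm_det_eq_zero (g : Matrix ((k : Fin t) × Fin (d k)) ((k : Fin t) × Fin (d k)) F)
    (hg : g * Nm d = Nm d * g) (h : g.det = 0) : (Rm d hd g).det = 0 := by
  classical
  obtain ⟨v, hv, hvg⟩ := Matrix.exists_vecMul_eq_zero_iff.mpr h
  obtain ⟨w, hw, hwg, hwN⟩ := kernel_descend d g hg (Finset.univ.sup d) v hv (by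
    intro a ha
    have h1 : d a.1 ≤ Finset.univ.sup d := Finset.le_sup (f := d) (Finset.mem_univ a.1)
    have := a.2.2
    omega) hvg
  have hw0 : ∀ a : (k : Fin t) × Fin (d k), a.2.val ≠ 0 → w a = 0 := by
    rintro ⟨k, j⟩ hj
    simp only at hj
    have hj2 := j.2
    have h1 := congrFun hwN ⟨k, ⟨j.val - 1, by omega⟩⟩
    rw [vecMul_N] at h1
    simp only at h1
    rw [dif_pos (by omega)] at h1
    have : (⟨j.val - 1 + 1, by omega⟩ : Fin (d k)) = j := Fin.ext (by simp only; omega)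
    rw [this] at h1
    exact h1
  rw [← Matrix.exists_vecMul_eq_zero_iff]
  refine ⟨fun l => w ⟨l, ⟨0, hd l⟩⟩, ?_, ?_⟩
  · intro h0
    apply hw
    funext a
    by_cases ha : a.2.val = 0
    · have ha' : a = ⟨a.1, ⟨0, hd a.1⟩⟩ := by
        rcases a with ⟨a1, a2⟩
        simp only at ha
        have : a2 = ⟨0, hd a1⟩ := Fin.ext ha
        rw [this]
      rw [ha']
      exact congrFun h0 a.1
    · exact hw0 a ha
  · funext k
    have := congrFun hwg ⟨k, ⟨0, hd k⟩⟩
    rw [vecMul_supp0 d hd g w hw0] at this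
    exact this

include hd in
theorem det_ne_zero_iff (g : Matrix ((k : Fin t) × Fin (d k)) ((k : Fin t) × Fin (d k)) F)
    (hg : g * Nm d = Nm d * g) : g.det ≠ 0 ↔ (Rm d hd g).det ≠ 0 :=
  not_congr ⟨Rm_det_eq_zero d hd g hg, det_eq_zero_of_Rm d hd g hg⟩

end Cfsg.Agent.Lib.Helper5.UniCent
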