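import Mathlib
import Cfsg.Agent.Lib.Helper5.UniCentC

set_option autoImplicit false
set_option linter.style.haveILetI false
set_option linter.unusedSectionVars false

namespace Cfsg.Agent.Lib.Helper5.UniCent

variable {F : Type*} [Field F] {t : ℕ} (d : Fin t → ℕ) (hd : ∀ k, 1 ≤ d k)

/-- block labels -/
def bl : Fin t → Fin (Finset.univ.sup d + 1) := fun k =>
  ⟨d k, Nat.lt_succ_of_le (Finset.le_sup (f := d) (Finset.mem_univ k))⟩

theorem bl_lt_iff (k l : Fin t) : bl d k < bl d l ↔ d k < d l := by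
  unfold bl
  rw [Fin.lt_def]

/-- the free parameters outside the corners -/
abbrev P1 : Type :=
  (p : Fin t × Fin t) × ↥((Finset.range (d p.1)).filter (fun s => 0 < s ∧ d p.1 ≤ s + d p.2))

/-- profile from corner matrix and free parameters -/
def fOf (M : Matrix (Fin t) (Fin t) F) (c : P1 d → F) : Fin t → Fin t → ℕ → F := fun l k s =>
  if s = 0 then M l k
  else if h : s ∈ (Finset.range (d l)).filter (fun s => 0 < s ∧ d l ≤ s + d k) then
    c ⟨(l, k), ⟨s, h⟩⟩
  else 0

theorem fOf_zero (M : Matrix (Fin t) (Fin t) F) (hM : M.BlockTriangular (bl d)) (c : P1 d → F)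
    (l k : Fin t) (s : ℕ) (h : s + d k < d l) : fOf d M c l k s = 0 := by
  unfold fOf
  by_cases hs : s = 0
  · rw [if_pos hs]
    apply hM
    rw [bl_lt_iff]
    omega
  · rw [if_neg hs, dif_neg]
    rw [Finset.mem_filter]
    omega

theorem Rm_eq_prof (g : Matrix ((k : Fin t) × Fin (d k)) ((k : Fin t) × Fin (d k)) F)
    (l k : Fin t) : Rm d hd g l k = prof d g l k 0 := by
  unfold Rm prof ext0
  rw [Matrix.of_apply, dif_pos ⟨hd l, hd k⟩]

theorem Rm_bt (g : Matrix ((k : Fin t) × Fin (d k)) ((k : Fin t) × Fin (d k)) F)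
    (hg : g * Nm d = Nm d * g) : (Rm d hd g).BlockTriangular (bl d) := by
  intro l k hlk
  rw [bl_lt_iff] at hlk
  rw [Rm_eq_prof]
  exact prof_zero d g hg l k 0 (by omega)

/-- the centraliser algebra in coordinates -/
noncomputable def cEquiv :
    {g : Matrix ((k : Fin t) × Fin (d k)) ((k : Fin t) × Fin (d k)) F // g * Nm d = Nm d * g} ≃
      {M : Matrix (Fin t) (Fin t) F // M.BlockTriangular (bl d)} × (P1 d → F) where
  toFun g := (⟨Rm d hd g.1, Rm_bt d hd g.1 g.2⟩, fun x => prof d g.1 x.1.1 x.1.2 x.2.1)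
  invFun y := ⟨toMat d (fOf d y.1.1 y.2), toMat_comm d _ (fOf_zero d y.1.1 y.1.2 y.2)⟩
  left_inv g := by
    apply Subtype.ext
    simp only
    conv_rhs => rw [eq_toMat_prof d g.1 g.2]
    apply toMat_congr
    intro l k s hs
    unfold fOf
    by_cases h0 : s = 0
    · rw [if_pos h0, h0]
      exact Rm_eq_prof d hd g.1 l k
    · rw [if_neg h0]
      by_cases h1 : s ∈ (Finset.range (d l)).filter (fun s => 0 < s ∧ d l ≤ s + d k)
      · rw [dif_pos h1]
      · rw [dif_neg h1]
        symm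
        apply prof_zero d g.1 g.2
        rw [Finset.mem_filter, Finset.mem_range] at h1
        omega
  right_inv y := by
    rcases y with ⟨⟨M, hM⟩, c⟩
    refine Prod.ext ?_ ?_
    · apply Subtype.ext
      ext l k
      simp only
      rw [Rm_eq_prof, prof_toMat d _ l k 0 (hd l) (hd k)]
      unfold fOf
      rw [if_pos rfl]
    · funext x
      rcases x with ⟨⟨l, k⟩, ⟨s, hs⟩⟩
      simp only
      have hs' := hs
      rw [Finset.mem_filter, Finset.mem_range] at hs'
      rw [prof_toMat d _ l k s hs'.1 (hd k)]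
      unfold fOf
      rw [if_neg (by omega), dif_pos hs]

theorem cEquiv_fst (g : {g : Matrix ((k : Fin t) × Fin (d k)) ((k : Fin t) × Fin (d k)) F //
    g * Nm d = Nm d * g}) : ((cEquiv d hd g).1 : Matrix (Fin t) (Fin t) F) = Rm d hd g.1 := rfl

end Cfsg.Agent.Lib.Helper5.UniCent
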