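import Mathlib
import Cfsg.Agent.Lib.Helper5.UniCentD
import Cfsg.Agent.Lib.Helper5.ParA
import Cfsg.Agent.Lib.Helper5.ParB

set_option autoImplicit false
set_option linter.style.haveILetI false
set_option linter.unusedSectionVars false

namespace Cfsg.Agent.Lib.Helper5.UniCent

variable {F : Type*} [Field F] {t : ℕ} (d : Fin t → ℕ) (hd : ∀ k, 1 ≤ d k)

/-- centraliser in `GL` as matrices with nonzero determinant -/
noncomputable def glEquiv :
    {g : GL ((k : Fin t) × Fin (d k)) F //
      (g : Matrix ((k : Fin t) × Fin (d k)) ((k : Fin t) × Fin (d k)) F) *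
        Cfsg.jordanTypeMatrix d F = Cfsg.jordanTypeMatrix d F *
          (g : Matrix ((k : Fin t) × Fin (d k)) ((k : Fin t) × Fin (d k)) F)} ≃
    {g : Matrix ((k : Fin t) × Fin (d k)) ((k : Fin t) × Fin (d k)) F //
      g * Nm d = Nm d * g ∧ g.det ≠ 0} where
  toFun g := ⟨g.1.1, (comm_iff d g.1.1).mp g.2,
    Matrix.det_ne_zero_of_right_inverse g.1.mul_inv⟩
  invFun x := ⟨Matrix.GeneralLinearGroup.mkOfDetNeZero x.1 x.2.2, (comm_iff d x.1).mpr x.2.1⟩
  left_inv g := by
    apply Subtype.ext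
    apply Units.ext
    rfl
  right_inv x := rfl

include hd in
theorem card_cent [Fintype F] :
    Nat.card {g : GL ((k : Fin t) × Fin (d k)) F //
      (g : Matrix ((k : Fin t) × Fin (d k)) ((k : Fin t) × Fin (d k)) F) *
        Cfsg.jordanTypeMatrix d F = Cfsg.jordanTypeMatrix d F *
          (g : Matrix ((k : Fin t) × Fin (d k)) ((k : Fin t) × Fin (d k)) F)} =
      (∏ a, Nat.card {D : Matrix {i // bl d i = a} {i // bl d i = a} F // D.det ≠ 0}) *
        (Fintype.card F) ^ (Nat.card {p : Fin t × Fin t // bl d p.1 < bl d p.2}) *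
        (Fintype.card F) ^ (Fintype.card (P1 d)) := by
  classical
  have e2 := (Equiv.subtypeSubtypeEquivSubtypeInter
    (fun g : Matrix ((k : Fin t) × Fin (d k)) ((k : Fin t) × Fin (d k)) F => g * Nm d = Nm d * g)
    (fun g => g.det ≠ 0)).symm
  have e3 : {x : {g : Matrix ((k : Fin t) × Fin (d k)) ((k : Fin t) × Fin (d k)) F //
      g * Nm d = Nm d * g} // x.1.det ≠ 0} ≃
      {y : {M : Matrix (Fin t) (Fin t) F // M.BlockTriangular (bl d)} × (P1 d → F) //
        y.1.1.det ≠ 0} :=
    (cEquiv d hd).subtypeEquiv (fun x => det_ne_zero_iff d hd x.1 x.2)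
  have e4 : {y : {M : Matrix (Fin t) (Fin t) F // M.BlockTriangular (bl d)} × (P1 d → F) //
        y.1.1.det ≠ 0} ≃
      {M : {M : Matrix (Fin t) (Fin t) F // M.BlockTriangular (bl d)} // M.1.det ≠ 0} ×
        (P1 d → F) :=
    Equiv.prodSubtypeFstEquivSubtypeProd (p := fun M :
      {M : Matrix (Fin t) (Fin t) F // M.BlockTriangular (bl d)} => M.1.det ≠ 0)
  have e5 := Equiv.subtypeSubtypeEquivSubtypeInter
    (fun M : Matrix (Fin t) (Fin t) F => M.BlockTriangular (bl d)) (fun M => M.det ≠ 0)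
  rw [Nat.card_congr (glEquiv d), Nat.card_congr e2, Nat.card_congr e3, Nat.card_congr e4,
    Nat.card_prod, Nat.card_congr e5, Par.card_bt, Nat.card_fun, Nat.card_eq_fintype_card (α := F),
    Nat.card_eq_fintype_card (α := P1 d)]

end Cfsg.Agent.Lib.Helper5.UniCent
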