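import Mathlib
import Cfsg.Agent.Lib.Helper5.UniCentE

set_option autoImplicit false
set_option linter.style.haveILetI false
set_option linter.unusedSectionVars false

namespace Cfsg.Agent.Lib.Helper5.UniCent

variable {t : ℕ} (d : Fin t → ℕ)

/-- multiplicity of the block size `i` -/
def mult (i : ℕ) : ℕ := (Finset.univ.filter (fun k : Fin t => d k = i)).card

theorem sum_fiber (φ : ℕ → ℕ) :
    ∑ l, φ (d l) = ∑ i ∈ Finset.range (Finset.univ.sup d + 1), mult d i * φ i := by
  rw [← Finset.sum_fiberwise_of_maps_to (s := Finset.univ)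
    (t := Finset.range (Finset.univ.sup d + 1)) (g := d) (f := fun l => φ (d l))]
  · apply Finset.sum_congr rfl
    intro i _
    rw [Finset.sum_congr rfl (g := fun _ => φ i)]
    · rw [Finset.sum_const, smul_eq_mul]
      rfl
    · intro l hl
      rw [Finset.mem_filter] at hl
      rw [hl.2]
  · intro l _
    rw [Finset.mem_range]
    exact Nat.lt_succ_of_le (Finset.le_sup (f := d) (Finset.mem_univ l))

theorem sum_fiber2 (φ : ℕ → ℕ → ℕ) :
    ∑ l, ∑ k, φ (d l) (d k) =
      ∑ i ∈ Finset.range (Finset.univ.sup d + 1), ∑ j ∈ Finset.range (Finset.univ.sup d + 1),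
        mult d i * mult d j * φ i j := by
  rw [sum_fiber d (fun x => ∑ k, φ x (d k))]
  apply Finset.sum_congr rfl
  intro i _
  rw [sum_fiber d (fun y => φ i y), Finset.mul_sum]
  apply Finset.sum_congr rfl
  intro j _
  ring

theorem card_lt_pairs :
    Nat.card {p : Fin t × Fin t // bl d p.1 < bl d p.2} =
      ∑ l, ∑ k, if d l < d k then 1 else 0 := by
  classical
  rw [Nat.card_eq_fintype_card, Fintype.card_subtype, Finset.card_filter, Fintype.sum_prod_type]
  apply Finset.sum_congr rfl
  intro l _
  apply Finset.sum_congr rfl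
  intro k _
  simp only [bl_lt_iff]

theorem card_fiber_P1 (n m : ℕ) :
    ((Finset.range n).filter (fun s => 0 < s ∧ n ≤ s + m)).card =
      if n ≤ m then n - 1 else m := by
  have : (Finset.range n).filter (fun s => 0 < s ∧ n ≤ s + m) =
      Finset.Ico (max 1 (n - m)) n := by
    ext s
    rw [Finset.mem_filter, Finset.mem_range, Finset.mem_Ico]
    omega
  rw [this, Nat.card_Ico]
  split_ifs <;> omega

theorem card_P1 :
    Fintype.card (P1 d) = ∑ l, ∑ k, if d l ≤ d k then d l - 1 else d k := by
  unfold P1
  rw [Fintype.card_sigma, Fintype.sum_prod_type]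
  apply Finset.sum_congr rfl
  intro l _
  apply Finset.sum_congr rfl
  intro k _
  rw [Fintype.card_coe, card_fiber_P1]

theorem exponent_eq (hd : ∀ k, 1 ≤ d k) :
    Nat.card {p : Fin t × Fin t // bl d p.1 < bl d p.2} + Fintype.card (P1 d) =
      2 * (∑ i ∈ Finset.range (Finset.univ.sup d + 1),
        ∑ j ∈ Finset.range (Finset.univ.sup d + 1),
          if i < j then i * mult d i * mult d j else 0) +
      ∑ i ∈ Finset.range (Finset.univ.sup d + 1), (i - 1) * mult d i ^ 2 := by
  rw [card_lt_pairs, card_P1, ← Finset.sum_add_distrib]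
  have h1 : ∀ l : Fin t, (∑ k, if d l < d k then 1 else 0) +
      (∑ k, if d l ≤ d k then d l - 1 else d k) =
      ∑ k, (fun x y => (if x < y then x else 0) + (if y < x then y else 0) +
        (if x = y then x - 1 else 0)) (d l) (d k) := by
    intro l
    rw [← Finset.sum_add_distrib]
    apply Finset.sum_congr rfl
    intro k _
    have := hd l
    simp only
    split_ifs <;> omega
  rw [Finset.sum_congr rfl (fun l _ => h1 l),
    sum_fiber2 d (fun x y => (if x < y then x else 0) + (if y < x then y else 0) +
        (if x = y then x - 1 else 0))]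
  simp only [mul_add, Finset.sum_add_distrib]
  have e1 : ∑ i ∈ Finset.range (Finset.univ.sup d + 1),
      ∑ j ∈ Finset.range (Finset.univ.sup d + 1),
        mult d i * mult d j * (if i < j then i else 0) =
      ∑ i ∈ Finset.range (Finset.univ.sup d + 1),
        ∑ j ∈ Finset.range (Finset.univ.sup d + 1),
          if i < j then i * mult d i * mult d j else 0 := by
    apply Finset.sum_congr rfl
    intro i _
    apply Finset.sum_congr rfl
    intro j _
    split_ifs
    · ring
    · ring
  have e2 : ∑ i ∈ Finset.range (Finset.univ.sup d + 1),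
      ∑ j ∈ Finset.range (Finset.univ.sup d + 1),
        mult d i * mult d j * (if j < i then j else 0) =
      ∑ i ∈ Finset.range (Finset.univ.sup d + 1),
        ∑ j ∈ Finset.range (Finset.univ.sup d + 1),
          if i < j then i * mult d i * mult d j else 0 := by
    rw [Finset.sum_comm]
    apply Finset.sum_congr rfl
    intro i _
    apply Finset.sum_congr rfl
    intro j _
    split_ifs
    · ring
    · ring
  have e3 : ∑ i ∈ Finset.range (Finset.univ.sup d + 1),
      ∑ j ∈ Finset.range (Finset.univ.sup d + 1),
        mult d i * mult d j * (if i = j then i - 1 else 0) =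
      ∑ i ∈ Finset.range (Finset.univ.sup d + 1), (i - 1) * mult d i ^ 2 := by
    apply Finset.sum_congr rfl
    intro i hi
    rw [Finset.sum_eq_single i]
    · rw [if_pos rfl]
      ring
    · intro j _ hj
      rw [if_neg (Ne.symm hj), mul_zero]
    · intro h
      exact absurd hi h
  rw [e1, e2, e3]
  ring

theorem prod_eq {F : Type*} [Field F] [Fintype F] :
    (∏ a, Nat.card {D : Matrix {i // bl d i = a} {i // bl d i = a} F // D.det ≠ 0}) =
      ∏ i ∈ Finset.range (Finset.univ.sup d + 1), ∏ j : Fin (mult d i),
        ((Fintype.card F) ^ (mult d i) - (Fintype.card F) ^ (j : ℕ)) := by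
  classical
  rw [← Fin.prod_univ_eq_prod_range
    (fun i => ∏ j : Fin (mult d i), ((Fintype.card F) ^ (mult d i) - (Fintype.card F) ^ (j : ℕ)))]
  apply Finset.prod_congr rfl
  intro a _
  rw [Par.card_det_ne_zero]
  have : Fintype.card {i // bl d i = a} = mult d a.val := by
    rw [Fintype.card_subtype]
    unfold mult
    congr 1
    ext k
    rw [Finset.mem_filter, Finset.mem_filter]
    unfold bl
    rw [Fin.ext_iff]
  rw [this]
  rfl

end Cfsg.Agent.Lib.Helper5.UniCent
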